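import Groth.Prelude.Def_BlowUp2
import Mathlib.AlgebraicGeometry.Morphisms.Flat
import Mathlib.RingTheory.Flat.TorsionFree
import Mathlib.Tactic

universe u

open CategoryTheory AlgebraicGeometry CategoryTheory.Limits

namespace Groth.Agent.Lib.Helper82

open Scheme

theorem ideal_comap_top_of_isAffine {X Y : Scheme.{u}} [IsAffine X] [IsAffine Y] (f : X ⟶ Y)
    (I : Y.IdealSheafData) :
    (I.comap f).ideal ⟨⊤, isAffineOpen_top X⟩ =
      (I.ideal ⟨⊤, isAffineOpen_top Y⟩).map f.appTop.hom := by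
  apply le_antisymm
  · have h1 : I.comap f ≤ IdealSheafData.ofIdealTop
        ((I.ideal ⟨⊤, isAffineOpen_top Y⟩).map f.appTop.hom) := by
      rw [← IdealSheafData.le_map_iff_comap_le]
      apply IdealSheafData.le_of_isAffine
      rw [IdealSheafData.ideal_map _ f ⟨⊤, isAffineOpen_top Y⟩ (isAffineOpen_top X)]
      have h3 : (IdealSheafData.ofIdealTop (X := X)
          ((I.ideal ⟨⊤, isAffineOpen_top Y⟩).map f.appTop.hom)).ideal ⟨⊤, isAffineOpen_top X⟩ =
          (I.ideal ⟨⊤, isAffineOpen_top Y⟩).map f.appTop.hom := by simp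
      show I.ideal ⟨⊤, isAffineOpen_top Y⟩ ≤ Ideal.comap f.appTop.hom
        ((IdealSheafData.ofIdealTop (X := X)
          ((I.ideal ⟨⊤, isAffineOpen_top Y⟩).map f.appTop.hom)).ideal ⟨⊤, isAffineOpen_top X⟩)
      rw [h3]
      exact Ideal.le_comap_map
    have h2 := h1 ⟨⊤, isAffineOpen_top X⟩
    have h3 : (IdealSheafData.ofIdealTop (X := X)
          ((I.ideal ⟨⊤, isAffineOpen_top Y⟩).map f.appTop.hom)).ideal ⟨⊤, isAffineOpen_top X⟩ =
          (I.ideal ⟨⊤, isAffineOpen_top Y⟩).map f.appTop.hom := by simp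
    rw [h3] at h2
    exact h2
  · rw [Ideal.map_le_iff_le_comap]
    have h1 : I ≤ (I.comap f).map f := IdealSheafData.le_map_comap _ _
    have h2 := h1 ⟨⊤, isAffineOpen_top Y⟩
    rw [IdealSheafData.ideal_map _ f ⟨⊤, isAffineOpen_top Y⟩ (isAffineOpen_top X)] at h2
    exact h2

def IsPrincipalNZD {R : Type*} [CommRing R] (I : Ideal R) : Prop :=
  ∃ f : R, f ∈ nonZeroDivisors R ∧ I = Ideal.span {f}

theorem IsPrincipalNZD.map_of_flat {R S : Type*} [CommRing R] [CommRing S] (φ : R →+* S)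
    (hφ : φ.Flat) {I : Ideal R} (h : IsPrincipalNZD I) : IsPrincipalNZD (I.map φ) := by
  obtain ⟨f, hf, rfl⟩ := h
  refine ⟨φ f, ?_, ?_⟩
  · algebraize [φ]
    have h1 : IsSMulRegular S f := Module.Flat.isSMulRegular_of_nonZeroDivisors hf
    rw [mem_nonZeroDivisors_iff_right]
    intro s hs
    apply h1
    simp only [smul_zero]
    rw [Algebra.smul_def, mul_comm]
    exact hs
  · rw [Ideal.map_span, Set.image_singleton]

theorem IsPrincipalNZD.map_equiv {R S : Type*} [CommRing R] [CommRing S] (e : R ≃+* S)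
    {I : Ideal R} (h : IsPrincipalNZD I) : IsPrincipalNZD (I.map (e : R →+* S)) := by
  apply h.map_of_flat
  exact RingHom.Flat.of_bijective e.bijective

theorem IsPrincipalNZD.comap_iso_inv {R S : CommRingCat.{u}} (e : R ≅ S)
    {I : Ideal R} (h : IsPrincipalNZD I) : IsPrincipalNZD (I.comap e.inv.hom) := by
  have : I.comap e.inv.hom = I.map e.hom.hom := by
    have := Ideal.comap_symm (I := I) e.commRingCatIsoToRingEquiv
    exact this
  rw [this]
  exact h.map_equiv e.commRingCatIsoToRingEquiv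

theorem IsPrincipalNZD.of_comap_iso_inv {R S : CommRingCat.{u}} (e : R ≅ S)
    {I : Ideal R} (h : IsPrincipalNZD (I.comap e.inv.hom)) : IsPrincipalNZD I := by
  have h2 := h.comap_iso_inv e.symm
  have : (I.comap e.inv.hom).comap e.symm.inv.hom = I := by
    rw [Ideal.comap_comap]
    have : (e.inv.hom).comp (e.symm.inv.hom) = RingHom.id _ := by
      ext x
      simp
    rw [this, Ideal.comap_id]
  rwa [this] at h2


theorem isPrincipalNZD_ideal_congr {X : Scheme.{u}} (I : X.IdealSheafData) :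
    ∀ (U V : X.affineOpens), U.1 = V.1 →
      (IsPrincipalNZD (I.ideal U) ↔ IsPrincipalNZD (I.ideal V)) := by
  rintro ⟨U, hU⟩ ⟨V, hV⟩ (h : U = V)
  subst h
  exact Iff.rfl

theorem isPrincipalNZD_iff_comap_ι {X : Scheme.{u}} (I : X.IdealSheafData) (U : X.Opens)
    (hU : IsAffineOpen U) [IsAffine U] :
    IsPrincipalNZD (I.ideal ⟨U, hU⟩) ↔
      IsPrincipalNZD ((I.comap U.ι).ideal ⟨⊤, isAffineOpen_top U⟩) := by
  rw [IdealSheafData.ideal_comap_of_isOpenImmersion]
  have h1 := isPrincipalNZD_ideal_congr I ⟨U, hU⟩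
    ⟨U.ι ''ᵁ ⊤, (isAffineOpen_top (U : Scheme)).image_of_isOpenImmersion U.ι⟩
    (U.ι_image_top).symm
  rw [h1]
  constructor
  · intro h
    exact h.comap_iso_inv _
  · intro h
    exact h.of_comap_iso_inv _

theorem isEffCartierIdeal_comap_of_flat {X Y : Scheme.{u}} (f : X ⟶ Y) [Flat f]
    (I : Y.IdealSheafData) (hI : BlowUp.IsEffCartierIdeal I) :
    BlowUp.IsEffCartierIdeal (I.comap f) := by
  intro x
  obtain ⟨W, hxW, hW⟩ := hI (f x)
  have hxfW : x ∈ f ⁻¹ᵁ W.1 := hxW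
  obtain ⟨U, hU, hxU, hUW⟩ := exists_isAffineOpen_mem_and_subset (U := f ⁻¹ᵁ W.1) hxfW
  replace hUW : U ≤ f ⁻¹ᵁ W.1 := hUW
  refine ⟨⟨U, hU⟩, hxU, ?_⟩
  change IsPrincipalNZD ((I.comap f).ideal ⟨U, hU⟩)
  replace hW : IsPrincipalNZD (I.ideal W) := hW
  have : IsAffine U := hU
  obtain ⟨W, hWaff⟩ := W
  have : IsAffine W := hWaff
  replace hW := (isPrincipalNZD_iff_comap_ι I W hWaff).1 hW
  refine (isPrincipalNZD_iff_comap_ι (I.comap f) U hU).2 ?_
  have e : (I.comap f).comap U.ι = (I.comap W.ι).comap (f.resLE W U hUW) := by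
    rw [← IdealSheafData.comap_comp, ← IdealSheafData.comap_comp, Scheme.Hom.resLE_comp_ι]
  change IsPrincipalNZD (((I.comap f).comap U.ι).ideal ⟨⊤, isAffineOpen_top U⟩)
  rw [e, ideal_comap_top_of_isAffine]
  exact hW.map_of_flat _ (Scheme.Hom.flat_appTop _)

theorem isEffCartierIdeal_top (X : Scheme.{u}) :
    BlowUp.IsEffCartierIdeal (⊤ : X.IdealSheafData) := by
  intro x
  obtain ⟨U, hU, hxU, -⟩ := exists_isAffineOpen_mem_and_subset (U := ⊤) (x := x) (by simp)
  refine ⟨⟨U, hU⟩, hxU, 1, one_mem _, ?_⟩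
  rw [Ideal.span_singleton_one]
  rfl

theorem comap_ι_support_compl {X : Scheme.{u}} (I : X.IdealSheafData) :
    I.comap (Scheme.Opens.ι (X := X) I.support.compl) = ⊤ := by
  rw [← IdealSheafData.support_eq_bot_iff, IdealSheafData.support_comap]
  ext x
  simp only [TopologicalSpace.Closeds.coe_preimage, Set.mem_preimage, SetLike.mem_coe,
    TopologicalSpace.Closeds.coe_bot, Set.mem_empty_iff_false, iff_false]
  exact x.2

theorem isIso_morphismRestrict_of_isBlowUp {X X' : Scheme.{u}} (I : X.IdealSheafData) (b : X' ⟶ X)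
    (hb : BlowUp.IsBlowUp b I) : IsIso (b ∣_ I.support.compl) := by
  set U : X.Opens := I.support.compl with hU
  have h1 : BlowUp.IsEffCartierIdeal (I.comap U.ι) := by
    rw [hU, comap_ι_support_compl]
    exact isEffCartierIdeal_top _
  obtain ⟨h, hh, -⟩ := hb.2 U U.ι h1
  have hrange : Set.range h ⊆ Set.range (b ⁻¹ᵁ U).ι := by
    rintro _ ⟨u, rfl⟩
    rw [Scheme.Opens.range_ι]
    show b (h u) ∈ U
    have : b (h u) = U.ι u := by
      rw [← hh]
      rfl
    rw [this]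
    exact u.2
  let s : (U : Scheme) ⟶ (b ⁻¹ᵁ U : Scheme) := IsOpenImmersion.lift (b ⁻¹ᵁ U).ι h hrange
  have hs : s ≫ (b ⁻¹ᵁ U).ι = h := IsOpenImmersion.lift_fac _ _ _
  have h2 : BlowUp.IsEffCartierIdeal (I.comap ((b ⁻¹ᵁ U).ι ≫ b)) := by
    rw [IdealSheafData.comap_comp]
    exact isEffCartierIdeal_comap_of_flat _ _ hb.1
  obtain ⟨k, -, hk⟩ := hb.2 _ _ h2
  refine ⟨s, ?_, ?_⟩
  · rw [← cancel_mono (b ⁻¹ᵁ U).ι, Category.assoc, hs, Category.id_comp]
    have e1 := hk ((b ∣_ U) ≫ h) (by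
      show ((b ∣_ U) ≫ h) ≫ b = (b ⁻¹ᵁ U).ι ≫ b
      rw [Category.assoc, hh, morphismRestrict_ι])
    have e2 := hk (b ⁻¹ᵁ U).ι rfl
    rw [e1, e2]
  · rw [← cancel_mono U.ι, Category.assoc, morphismRestrict_ι, ← Category.assoc, hs, hh,
      Category.id_comp]

theorem isBlowUp_fst_of_flat {X₁ X₂ X₂' : Scheme.{u}} (g : X₁ ⟶ X₂) [Flat g]
    (I : X₂.IdealSheafData) (b : X₂' ⟶ X₂) (hb : BlowUp.IsBlowUp b I) :
    BlowUp.IsBlowUp (pullback.fst g b) (I.comap g) := by
  refine ⟨?_, ?_⟩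
  · rw [← IdealSheafData.comap_comp, pullback.condition, IdealSheafData.comap_comp]
    exact isEffCartierIdeal_comap_of_flat _ _ hb.1
  · intro Y h hY
    rw [← IdealSheafData.comap_comp] at hY
    obtain ⟨t, ht, htu⟩ := hb.2 Y (h ≫ g) hY
    refine ⟨pullback.lift h t ht.symm, pullback.lift_fst _ _ _, ?_⟩
    intro k hk
    apply pullback.hom_ext
    · rw [pullback.lift_fst]; exact hk
    · rw [pullback.lift_snd]
      apply htu
      show (k ≫ pullback.snd g b) ≫ b = h ≫ g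
      rw [Category.assoc, ← pullback.condition, ← Category.assoc, hk]

theorem ideal_eq_map_topIso {X : Scheme.{u}} (K : X.IdealSheafData) (U : X.Opens)
    (hU : IsAffineOpen U) [IsAffine U] :
    K.ideal ⟨U, hU⟩ =
      ((K.comap U.ι).ideal ⟨⊤, isAffineOpen_top (U : Scheme)⟩).map U.topIso.hom.hom := by
  rw [IdealSheafData.ideal_comap_of_isOpenImmersion]
  have h1 : (U.ι.appIso ⊤).inv.hom = RingHom.id _ := by
    rw [Scheme.Opens.ι_appIso]
    rfl
  rw [h1]
  erw [Ideal.comap_id]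
  exact (K.map_ideal' (U := ⟨U, hU⟩)
    (V := ⟨U.ι ''ᵁ ⊤, (isAffineOpen_top (U : Scheme)).image_of_isOpenImmersion U.ι⟩)
    (eqToHom (U.ι_image_top).symm).op).symm

theorem ideal_comap_top_eq_map_topIso_inv {X : Scheme.{u}} (K : X.IdealSheafData) (U : X.Opens)
    (hU : IsAffineOpen U) [IsAffine U] :
    (K.comap U.ι).ideal ⟨⊤, isAffineOpen_top (U : Scheme)⟩ =
      (K.ideal ⟨U, hU⟩).map U.topIso.inv.hom := by
  rw [ideal_eq_map_topIso K U hU, Ideal.map_map, ← CommRingCat.hom_comp, Iso.hom_inv_id]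
  simp

theorem ideal_comap_of_le {X Y : Scheme.{u}} (f : X ⟶ Y) (I : Y.IdealSheafData)
    (U : X.Opens) (hU : IsAffineOpen U) (W : Y.Opens) (hW : IsAffineOpen W) (e : U ≤ f ⁻¹ᵁ W) :
    (I.comap f).ideal ⟨U, hU⟩ = (I.ideal ⟨W, hW⟩).map (f.appLE W U e).hom := by
  have : IsAffine U := hU
  have : IsAffine W := hW
  have e1 : (I.comap f).comap U.ι = (I.comap W.ι).comap (f.resLE W U e) := by
    rw [← IdealSheafData.comap_comp, ← IdealSheafData.comap_comp, Scheme.Hom.resLE_comp_ι]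
  rw [ideal_eq_map_topIso (I.comap f) U hU, e1, ideal_comap_top_of_isAffine,
    ideal_comap_top_eq_map_topIso_inv I W hW, Ideal.map_map, Ideal.map_map,
    ← CommRingCat.hom_comp, ← CommRingCat.hom_comp]
  congr 2
  rw [Scheme.Hom.appTop, Scheme.Hom.resLE_app_top]
  simp only [Category.assoc, Iso.inv_hom_id, Category.comp_id, Iso.inv_hom_id_assoc]

end Groth.Agent.Lib.Helper82
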