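import Groth.Agent.Lib.Helper82.EffCartier
import Mathlib.AlgebraicGeometry.Morphisms.SchemeTheoreticallyDominant
import Mathlib.AlgebraicGeometry.Morphisms.Affine

universe u

open CategoryTheory AlgebraicGeometry CategoryTheory.Limits

namespace Groth.Agent.Lib.Helper82

open Scheme

theorem compl_support_inf_eq_basicOpen {S : Scheme.{u}} (D : S.IdealSheafData)
    (W : S.affineOpens) (f : Γ(S, W.1)) (hf : D.ideal W = Ideal.span {f}) :
    (D.support.compl : S.Opens) ⊓ W.1 = S.basicOpen f := by
  ext x
  constructor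
  · rintro ⟨hx1, hx2⟩
    have h1 : x ∉ D.support := hx1
    rw [IdealSheafData.mem_support_iff_of_mem hx2, hf, Scheme.zeroLocus_span] at h1
    by_contra h2
    apply h1
    simpa using h2
  · intro hx
    have hxW : x ∈ W.1 := S.basicOpen_le f hx
    refine ⟨?_, hxW⟩
    show x ∉ D.support
    rw [IdealSheafData.mem_support_iff_of_mem hxW, hf, Scheme.zeroLocus_span]
    simpa using hx

theorem isAffineHom_ι_compl_support {S : Scheme.{u}} (D : S.IdealSheafData)
    (hD : BlowUp.IsEffCartierIdeal D) :
    IsAffineHom (Scheme.Opens.ι (X := S) D.support.compl) := by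
  apply isAffineHom_of_forall_exists_isAffineOpen
  intro x
  obtain ⟨W, hxW, f, hf, hfI⟩ := hD x
  refine ⟨W.1, hxW, W.2, ?_⟩
  rw [← Scheme.Hom.isAffineOpen_iff_of_isOpenImmersion
    (Scheme.Opens.ι (X := S) D.support.compl),
    Scheme.Hom.image_preimage_eq_opensRange_inf, Scheme.Opens.opensRange_ι,
    compl_support_inf_eq_basicOpen D W f hfI]
  exact W.2.basicOpen f

theorem isSchemeTheoreticallyDominant_ι_compl_support {S : Scheme.{u}} (D : S.IdealSheafData)
    (hD : BlowUp.IsEffCartierIdeal D) :
    IsSchemeTheoreticallyDominant (Scheme.Opens.ι (X := S) D.support.compl) := by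
  have haff := isAffineHom_ι_compl_support D hD
  constructor
  choose W hxW f hf hfI using hD
  refine IdealSheafData.ext_of_iSup_eq_top W ?_ ?_
  · exact top_le_iff.mp (fun x _ ↦ TopologicalSpace.Opens.mem_iSup.mpr ⟨x, hxW x⟩)
  · intro x
    rw [Scheme.Hom.ker_apply, IdealSheafData.ideal_bot]
    simp only [Pi.bot_apply]
    rw [← le_bot_iff]
    intro a ha
    rw [RingHom.mem_ker] at ha
    have hle : S.basicOpen (f x) ≤
        (Scheme.Opens.ι (X := S) D.support.compl) ''ᵁ
          ((Scheme.Opens.ι (X := S) D.support.compl) ⁻¹ᵁ (W x).1) := by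
      rw [Scheme.Hom.image_preimage_eq_opensRange_inf, Scheme.Opens.opensRange_ι,
        compl_support_inf_eq_basicOpen D (W x) (f x) (hfI x)]
    have hle2 : (Scheme.Opens.ι (X := S) D.support.compl) ''ᵁ
          ((Scheme.Opens.ι (X := S) D.support.compl) ⁻¹ᵁ (W x).1) ≤ (W x).1 :=
      Scheme.Hom.image_preimage_le _ _
    have ha' : (S.presheaf.map (homOfLE hle2).op).hom a = 0 := ha
    have h2 : (S.presheaf.map (homOfLE (S.basicOpen_le (f x))).op).hom a = 0 := by
      have h3 : (S.presheaf.map (homOfLE hle).op).hom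
          ((S.presheaf.map (homOfLE hle2).op).hom a) = 0 := by
        rw [ha', map_zero]
      rw [← RingHom.comp_apply, ← CommRingCat.hom_comp, ← Functor.map_comp] at h3
      exact h3
    have hloc := (W x).2.isLocalization_basicOpen (f x)
    have hinj : Function.Injective (algebraMap Γ(S, (W x).1) Γ(S, S.basicOpen (f x))) :=
      IsLocalization.injective _ (Submonoid.powers_le.mpr (hf x))
    rw [Ideal.mem_bot]
    apply hinj
    rw [map_zero]
    exact h2

end Groth.Agent.Lib.Helper82
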