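import Groth.Agent.Lib.Helper82.EffCartier
import Mathlib.RingTheory.Ideal.MinimalPrime.Localization

universe u

open CategoryTheory AlgebraicGeometry CategoryTheory.Limits

namespace Groth.Agent.Lib.Helper82

open Scheme

theorem not_mem_support_of_isEffCartierIdeal_of_maximal {X : Scheme.{u}} (I : X.IdealSheafData)
    (hI : BlowUp.IsEffCartierIdeal I) (x : X) (hx : ∀ y : X, y ⤳ x → y = x) :
    x ∉ I.support := by
  intro hxs
  obtain ⟨W, hxW, f, hf, hfI⟩ := hI x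
  have hW : IsAffineOpen W.1 := W.2
  rw [IdealSheafData.mem_support_iff_of_mem hxW, hfI, Scheme.zeroLocus_span] at hxs
  have hxf : x ∉ X.basicOpen f := by
    simpa using hxs
  set p := hW.primeIdealOf ⟨x, hxW⟩ with hp
  have hpx : hW.fromSpec p = x := hW.fromSpec_primeIdealOf ⟨x, hxW⟩
  have hfp : f ∈ p.asIdeal := by
    by_contra hfp
    apply hxf
    have : p ∈ hW.fromSpec ⁻¹ᵁ X.basicOpen f := by
      rw [hW.fromSpec_preimage_basicOpen]
      exact hfp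
    have h2 : hW.fromSpec p ∈ X.basicOpen f := this
    rwa [hpx] at h2
  have hmin : p.asIdeal ∈ minimalPrimes Γ(X, W.1) := by
    refine ⟨⟨p.isPrime, bot_le⟩, ?_⟩
    rintro q ⟨hq, -⟩ hqp
    have hspec : (⟨q, hq⟩ : PrimeSpectrum Γ(X, W.1)) ⤳ p := by
      rw [← PrimeSpectrum.le_iff_specializes]
      exact hqp
    have h3 : hW.fromSpec (⟨q, hq⟩ : PrimeSpectrum Γ(X, W.1)) ⤳ hW.fromSpec p :=
      hspec.map hW.fromSpec.continuous
    rw [hpx] at h3
    have h4 := hx _ h3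
    rw [← hpx] at h4
    have hinj : Function.Injective hW.fromSpec := hW.fromSpec.isOpenEmbedding.injective
    have h5 := hinj h4
    rw [← h5]
  exact notMem_nonZeroDivisors_of_mem_mem_minimalPrimes hfp hmin hf

theorem exists_section_off_center {X X' : Scheme.{u}} (I : X.IdealSheafData) (b : X' ⟶ X)
    (hb : BlowUp.IsBlowUp b I) (U : X.Opens) (hU : U = I.support.compl) :
    ∃ t : (U : Scheme) ⟶ X', t ≫ b = U.ι ∧ ∀ (x' : X') (h : b x' ∈ U), t ⟨b x', h⟩ = x' := by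
  subst hU
  have hiso : IsIso (b ∣_ (I.support.compl : X.Opens)) :=
    isIso_morphismRestrict_of_isBlowUp I b hb
  generalize (I.support.compl : X.Opens) = U at hiso
  refine ⟨inv (b ∣_ U) ≫ (b ⁻¹ᵁ U).ι, ?_, ?_⟩
  · rw [Category.assoc, ← morphismRestrict_ι, IsIso.inv_hom_id_assoc]
  · intro x' h
    have hx'V : x' ∈ b ⁻¹ᵁ U := h
    have h1 : (b ∣_ U) ⟨x', hx'V⟩ = ⟨b x', h⟩ := by
      apply Subtype.ext
      have := congrArg (fun φ : ((b ⁻¹ᵁ U : X'.Opens) : Scheme) ⟶ X => φ ⟨x', hx'V⟩)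
        (morphismRestrict_ι b U)
      exact this
    have e : (b ∣_ U) ≫ (inv (b ∣_ U) ≫ (b ⁻¹ᵁ U).ι) = (b ⁻¹ᵁ U).ι :=
      IsIso.hom_inv_id_assoc _ _
    have h2 := congrArg (fun φ : ((b ⁻¹ᵁ U : X'.Opens) : Scheme) ⟶ X' => φ ⟨x', hx'V⟩) e
    rw [← h1]
    exact h2

theorem bijOn_maximalPoints_of_isBlowUp {X X' : Scheme.{u}} (I : X.IdealSheafData) (b : X' ⟶ X)
    (hb : BlowUp.IsBlowUp b I) :
    Set.BijOn (fun x' => b x') {x' : X' | ∀ y : X', y ⤳ x' → y = x'}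
      {x : X | (∀ y : X, y ⤳ x → y = x) ∧ x ∉ I.support} := by
  obtain ⟨U, hU⟩ : ∃ U : X.Opens, U = I.support.compl := ⟨_, rfl⟩
  obtain ⟨t, ht, ht2⟩ := exists_section_off_center I b hb U hU
  have hbt : ∀ u : U, b (t u) = u.1 := by
    intro u
    have := congrArg (fun φ : (U : Scheme) ⟶ X => φ u) ht
    exact this
  have hmemU : ∀ x : X, x ∈ U ↔ x ∉ I.support := by
    intro x
    rw [hU]
    exact Iff.rfl
  have hmax : ∀ x' : X', (∀ y : X', y ⤳ x' → y = x') → b x' ∈ U := by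
    intro x' hx'
    rw [hmemU]
    have h1 := not_mem_support_of_isEffCartierIdeal_of_maximal (I.comap b) hb.1 x' hx'
    rw [IdealSheafData.support_comap] at h1
    exact h1
  refine ⟨?_, ?_, ?_⟩
  · intro x' hx'
    have hxU := hmax x' hx'
    refine ⟨?_, (hmemU _).1 hxU⟩
    intro y hy
    have hyU : y ∈ U := hy.mem_open U.isOpen hxU
    have h1 : (⟨y, hyU⟩ : U) ⤳ ⟨b x', hxU⟩ := by
      rw [subtype_specializes_iff]
      exact hy
    have h2 : t ⟨y, hyU⟩ ⤳ t ⟨b x', hxU⟩ := h1.map t.continuous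
    rw [ht2 x' hxU] at h2
    have h3 := hx' _ h2
    have h4 := hbt ⟨y, hyU⟩
    rw [h3] at h4
    exact h4.symm
  · intro x₁ hx₁ x₂ hx₂ h12
    have h1 := hmax x₁ hx₁
    have h2 := hmax x₂ hx₂
    rw [← ht2 x₁ h1, ← ht2 x₂ h2]
    congr 1
    exact Subtype.ext h12
  · rintro x ⟨hx, hxs⟩
    have hxU : x ∈ U := (hmemU x).2 hxs
    refine ⟨t ⟨x, hxU⟩, ?_, hbt ⟨x, hxU⟩⟩
    intro y' hy'
    have h1 : b y' ⤳ b (t ⟨x, hxU⟩) := hy'.map b.continuous
    rw [hbt] at h1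
    have h2 := hx _ h1
    have h3 : b y' ∈ U := by rw [h2]; exact hxU
    rw [← ht2 y' h3]
    congr 1
    exact Subtype.ext h2

end Groth.Agent.Lib.Helper82
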