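import Groth.Agent.Lib.Helper82.EffCartierCompl
import Groth.Agent.Lib.Helper82.BlowUpPoints
import Groth.Prelude.Def_MeroSh

universe u

open CategoryTheory AlgebraicGeometry CategoryTheory.Limits Opposite

namespace Groth.Agent.Lib.Helper82

open Scheme

theorem mem_nonZeroDivisors_of_bijective {R S : Type*} [CommRing R] [CommRing S] (φ : R →+* S)
    (hφ : Function.Bijective φ) {x : R} (hx : x ∈ nonZeroDivisors R) :
    φ x ∈ nonZeroDivisors S := by
  rw [mem_nonZeroDivisors_iff_right] at hx ⊢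
  intro s hs
  obtain ⟨r, rfl⟩ := hφ.2 s
  rw [← map_mul] at hs
  have := hφ.1 (hs.trans (map_zero φ).symm)
  rw [hx r this, map_zero]

theorem mem_nonZeroDivisors_of_flat {R S : Type*} [CommRing R] [CommRing S] (φ : R →+* S)
    (hφ : φ.Flat) {x : R} (hx : x ∈ nonZeroDivisors R) : φ x ∈ nonZeroDivisors S := by
  algebraize [φ]
  have h1 : IsSMulRegular S x := Module.Flat.isSMulRegular_of_nonZeroDivisors hx
  rw [mem_nonZeroDivisors_iff_right]
  intro s hs
  apply h1
  simp only [smul_zero]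
  rw [Algebra.smul_def, mul_comm]
  exact hs

def StablyNZD {X : Scheme.{u}} {V : X.Opens} (a : Γ(X, V)) : Prop :=
  ∀ (V'' : X.Opens) (h : V'' ≤ V), IsAffineOpen V'' →
    (X.presheaf.map (homOfLE h).op).hom a ∈ nonZeroDivisors Γ(X, V'')

theorem stablyNZD_of_mem_nonZeroDivisors {X : Scheme.{u}} {V : X.Opens} (hV : IsAffineOpen V)
    (a : Γ(X, V)) (ha : a ∈ nonZeroDivisors Γ(X, V)) : StablyNZD a := by
  intro V'' h hV''
  have hflat : ((𝟙 X : X ⟶ X).appLE V V'' h).hom.Flat :=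
    Scheme.Hom.flat_appLE (𝟙 X) hV hV'' h
  have h2 : ((𝟙 X : X ⟶ X).appLE V V'' h) = X.presheaf.map (homOfLE h).op := by
    simp only [Scheme.Hom.appLE, Scheme.Hom.id_app]
    exact Category.id_comp _
  rw [h2] at hflat
  exact mem_nonZeroDivisors_of_flat _ hflat ha

theorem StablyNZD.res {X : Scheme.{u}} {V V₁ : X.Opens} {a : Γ(X, V)} (ha : StablyNZD a)
    (h : V₁ ≤ V) : StablyNZD ((X.presheaf.map (homOfLE h).op).hom a) := by
  intro V'' h' hV''
  have := ha V'' (h'.trans h) hV''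
  rw [← RingHom.comp_apply, ← CommRingCat.hom_comp, ← Functor.map_comp]
  exact this

theorem appLE_mem_nonZeroDivisors_of_openImmersion_section {T X' X : Scheme.{u}}
    (t : T ⟶ X') [IsOpenImmersion t] (b : X' ⟶ X) [IsOpenImmersion (t ≫ b)]
    {V : X.Opens} (a : Γ(X, V)) (ha : StablyNZD a)
    (N : X'.Opens) (hN : IsAffineOpen N) (hNV : N ≤ b ⁻¹ᵁ V) (hNt : N ≤ t.opensRange) :
    (b.appLE V N hNV).hom a ∈ nonZeroDivisors Γ(X', N) := by
  set M : T.Opens := t ⁻¹ᵁ N with hM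
  have htM : t ''ᵁ M = N := by
    rw [hM, Scheme.Hom.image_preimage_eq_opensRange_inf]
    exact inf_eq_right.mpr hNt
  have hMaff : IsAffineOpen M := by
    rw [← t.isAffineOpen_iff_of_isOpenImmersion, htM]
    exact hN
  have hV''aff : IsAffineOpen ((t ≫ b) ''ᵁ M) := by
    rw [(t ≫ b).isAffineOpen_iff_of_isOpenImmersion]
    exact hMaff
  have hMle : M ≤ (t ≫ b) ⁻¹ᵁ V := by
    intro x hx
    exact hNV hx
  have hV''V : (t ≫ b) ''ᵁ M ≤ V := by
    exact ((t ≫ b).image_mono hMle).trans ((t ≫ b).image_preimage_le V)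
  have hiso : IsIso (t.app N) := t.isIso_app N hNt
  have key : b.appLE V N hNV ≫ t.app N =
      X.presheaf.map (homOfLE hV''V).op ≫ ((t ≫ b).appIso M).hom := by
    rw [Scheme.Hom.appIso_hom', Scheme.Hom.map_appLE, t.app_eq_appLE, Scheme.Hom.appLE_comp_appLE]
  have hbij : Function.Bijective (t.app N).hom :=
    ConcreteCategory.bijective_of_isIso (t.app N)
  have h1 : (t.app N).hom ((b.appLE V N hNV).hom a) ∈ nonZeroDivisors Γ(T, M) := by
    have h2 := congrArg (fun φ => φ.hom a) key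
    simp only [CommRingCat.hom_comp, RingHom.comp_apply] at h2
    rw [h2]
    apply mem_nonZeroDivisors_of_bijective
    · exact ConcreteCategory.bijective_of_isIso ((t ≫ b).appIso M).hom
    · exact ha _ hV''V hV''aff
  exact mem_nonZeroDivisors_of_injective (f := (t.app N).hom) hbij.1 h1

theorem exists_openImmersion_section_off_center {X X' : Scheme.{u}} (I : X.IdealSheafData)
    (b : X' ⟶ X) (hb : BlowUp.IsBlowUp b I) (U : X.Opens) (hU : U = I.support.compl) :
    ∃ (t : (U : Scheme) ⟶ X') (_ : IsOpenImmersion t), t ≫ b = U.ι ∧ t.opensRange = b ⁻¹ᵁ U := by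
  subst hU
  have hiso : IsIso (b ∣_ (I.support.compl : X.Opens)) :=
    isIso_morphismRestrict_of_isBlowUp I b hb
  generalize (I.support.compl : X.Opens) = U at hiso
  refine ⟨inv (b ∣_ U) ≫ (b ⁻¹ᵁ U).ι, inferInstance, ?_, ?_⟩
  · rw [Category.assoc, ← morphismRestrict_ι, IsIso.inv_hom_id_assoc]
  · rw [Scheme.Hom.opensRange_comp_of_isIso, Scheme.Opens.opensRange_ι]

theorem flat_presheaf_map {X : Scheme.{u}} {V V'' : X.Opens} (hV : IsAffineOpen V)
    (hV'' : IsAffineOpen V'') (h : V'' ≤ V) : (X.presheaf.map (homOfLE h).op).hom.Flat := by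
  have hflat : ((𝟙 X : X ⟶ X).appLE V V'' h).hom.Flat :=
    Scheme.Hom.flat_appLE (𝟙 X) hV hV'' h
  have h2 : ((𝟙 X : X ⟶ X).appLE V V'' h) = X.presheaf.map (homOfLE h).op := by
    simp only [Scheme.Hom.appLE, Scheme.Hom.id_app]
    exact Category.id_comp _
  rwa [h2] at hflat

theorem isPrincipalNZD_of_le {X : Scheme.{u}} (I : X.IdealSheafData) {W N : X.affineOpens}
    (h : N ≤ W) (hW : IsPrincipalNZD (I.ideal W)) : IsPrincipalNZD (I.ideal N) := by
  rw [← I.map_ideal h]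
  exact hW.map_of_flat _ (flat_presheaf_map W.2 N.2 h)

theorem exists_affine_isPrincipalNZD_le {X : Scheme.{u}} (I : X.IdealSheafData)
    (hI : BlowUp.IsEffCartierIdeal I) (V : X.Opens) (x : X) (hx : x ∈ V) :
    ∃ N : X.affineOpens, x ∈ N.1 ∧ N.1 ≤ V ∧ IsPrincipalNZD (I.ideal N) := by
  obtain ⟨W, hxW, hW⟩ := hI x
  obtain ⟨N, hN, hxN, hNle⟩ := exists_isAffineOpen_mem_and_subset (U := W.1 ⊓ V) (x := x) ⟨hxW, hx⟩
  replace hNle : N ≤ W.1 ⊓ V := hNle
  exact ⟨⟨N, hN⟩, hxN, hNle.trans inf_le_right,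
    isPrincipalNZD_of_le I (W := W) (N := ⟨N, hN⟩) (hNle.trans inf_le_left) hW⟩

theorem appLE_mem_nonZeroDivisors_of_isBlowUp {X X' : Scheme.{u}} (I : X.IdealSheafData)
    (b : X' ⟶ X) (hb : BlowUp.IsBlowUp b I) {V : X.Opens} (a : Γ(X, V)) (ha : StablyNZD a)
    (V' : X'.Opens) (hV'V : V' ≤ b ⁻¹ᵁ V) :
    (b.appLE V V' hV'V).hom a ∈ nonZeroDivisors Γ(X', V') := by
  obtain ⟨U, hU⟩ : ∃ U : X.Opens, U = I.support.compl := ⟨_, rfl⟩
  obtain ⟨t, ht, htb, htr⟩ := exists_openImmersion_section_off_center I b hb U hU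
  have : IsOpenImmersion (t ≫ b) := by rw [htb]; infer_instance
  rw [mem_nonZeroDivisors_iff_right]
  intro c hc
  refine X'.IsSheaf.section_ext (U := op V') (s := c) (t := 0) ?_
  intro x' hx'
  obtain ⟨N, hxN, hNV', g, hg, hgI⟩ :=
    exists_affine_isPrincipalNZD_le (I.comap b) hb.1 V' x' hx'
  refine ⟨N.1, hNV', hxN, ?_⟩
  rw [map_zero]
  have hNg : X'.basicOpen g ≤ N.1 := X'.basicOpen_le g
  have hNgaff : IsAffineOpen (X'.basicOpen g) := N.2.basicOpen g
  have hNgt : X'.basicOpen g ≤ t.opensRange := by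
    rw [htr, hU, ← compl_support_inf_eq_basicOpen (I.comap b) N g hgI]
    intro y hy
    have h1 : y ∉ (I.comap b).support := hy.1
    rw [IdealSheafData.support_comap] at h1
    exact h1
  have hNgV : X'.basicOpen g ≤ b ⁻¹ᵁ V := hNg.trans (hNV'.trans hV'V)
  have h1 := appLE_mem_nonZeroDivisors_of_openImmersion_section t b a ha
    (X'.basicOpen g) hNgaff hNgV hNgt
  have h2 : (X'.presheaf.map (homOfLE (hNg.trans hNV')).op).hom c = 0 := by
    rw [mem_nonZeroDivisors_iff_right] at h1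
    apply h1
    have h3 := congrArg (X'.presheaf.map (homOfLE (hNg.trans hNV')).op).hom hc
    rw [map_mul, map_zero] at h3
    rw [← h3]
    congr 1
    rw [← RingHom.comp_apply, ← CommRingCat.hom_comp, Scheme.Hom.appLE_map]
  have hloc := N.2.isLocalization_basicOpen g
  have hinj : Function.Injective (algebraMap Γ(X', N.1) Γ(X', X'.basicOpen g)) :=
    IsLocalization.injective _ (Submonoid.powers_le.mpr hg)
  apply hinj
  rw [map_zero]
  have h4 : (X'.presheaf.map (homOfLE hNg).op).hom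
      ((X'.presheaf.map (homOfLE hNV').op).hom c) = 0 := by
    rw [← RingHom.comp_apply, ← CommRingCat.hom_comp, ← Functor.map_comp]
    exact h2
  exact h4

theorem isEffCartierIdeal_comap_of_isBlowUp {X X' : Scheme.{u}} (I : X.IdealSheafData)
    (b : X' ⟶ X) (hb : BlowUp.IsBlowUp b I) (D : X.IdealSheafData)
    (hD : BlowUp.IsEffCartierIdeal D) : BlowUp.IsEffCartierIdeal (D.comap b) := by
  intro x'
  obtain ⟨W, hxW, a, ha, haD⟩ := hD (b x')
  obtain ⟨V', hV', hxV', hV'W⟩ :=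
    exists_isAffineOpen_mem_and_subset (U := b ⁻¹ᵁ W.1) (x := x') hxW
  replace hV'W : V' ≤ b ⁻¹ᵁ W.1 := hV'W
  refine ⟨⟨V', hV'⟩, hxV', (b.appLE W.1 V' hV'W).hom a, ?_, ?_⟩
  · exact appLE_mem_nonZeroDivisors_of_isBlowUp I b hb a
      (stablyNZD_of_mem_nonZeroDivisors W.2 a ha) V' hV'W
  · rw [ideal_comap_of_le b D V' hV' W.1 W.2 hV'W, haD, Ideal.map_span, Set.image_singleton]

theorem stablyNZD_of_mem_regSub {X : Scheme.{u}} {U : X.Opens} (s : Γ(X, U))
    (hs : s ∈ Mero.regSub X U) : StablyNZD s := by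
  intro V'' h _
  rw [mem_nonZeroDivisors_iff_right]
  intro c hc
  refine TopCat.Presheaf.section_ext X.sheaf V'' c 0 ?_
  intro x hx
  rw [map_zero]
  have h1 := hs ⟨x, h hx⟩
  have h2 := congrArg (X.presheaf.germ V'' x hx).hom hc
  rw [map_mul, map_zero] at h2
  have h3 : (X.presheaf.germ V'' x hx).hom ((X.presheaf.map (homOfLE h).op).hom s) =
      (X.presheaf.germ U x (h hx)).hom s := by
    exact TopCat.Presheaf.germ_res_apply X.presheaf (homOfLE h) x hx s
  rw [h3] at h2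
  exact (mem_nonZeroDivisors_iff_right.mp h1) _ h2

theorem germ_mem_nonZeroDivisors {X : Scheme.{u}} {V : X.Opens} (hV : IsAffineOpen V)
    (a : Γ(X, V)) (ha : a ∈ nonZeroDivisors Γ(X, V)) (x : X) (hx : x ∈ V) :
    (X.presheaf.germ V x hx).hom a ∈ nonZeroDivisors (X.presheaf.stalk x) := by
  let _ : Algebra Γ(X, V) (X.presheaf.stalk x) :=
    TopCat.Presheaf.algebra_section_stalk X.presheaf (⟨x, hx⟩ : V)
  have hloc : IsLocalization.AtPrime (X.presheaf.stalk x) (hV.primeIdealOf ⟨x, hx⟩).asIdeal :=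
    hV.isLocalization_stalk ⟨x, hx⟩
  have hflat : Module.Flat Γ(X, V) (X.presheaf.stalk x) :=
    IsLocalization.flat _ (hV.primeIdealOf ⟨x, hx⟩).asIdeal.primeCompl
  have h1 : IsSMulRegular (X.presheaf.stalk x) a :=
    Module.Flat.isSMulRegular_of_nonZeroDivisors ha
  rw [mem_nonZeroDivisors_iff_right]
  intro s hs
  apply h1
  simp only [smul_zero]
  rw [Algebra.smul_def, mul_comm]
  exact hs

theorem app_mem_regSub_of_isBlowUp {X X' : Scheme.{u}} (I : X.IdealSheafData)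
    (b : X' ⟶ X) (hb : BlowUp.IsBlowUp b I) (U : X.Opens) (s : Γ(X, U))
    (hs : s ∈ Mero.regSub X U) : (b.app U).hom s ∈ Mero.regSub X' (b ⁻¹ᵁ U) := by
  intro x'
  obtain ⟨V', hV', hxV', hV'U⟩ :=
    exists_isAffineOpen_mem_and_subset (U := b ⁻¹ᵁ U) (x := x'.1) x'.2
  replace hV'U : V' ≤ b ⁻¹ᵁ U := hV'U
  have h1 := appLE_mem_nonZeroDivisors_of_isBlowUp I b hb s (stablyNZD_of_mem_regSub s hs) V' hV'U
  have h2 := germ_mem_nonZeroDivisors hV' _ h1 x'.1 hxV'
  have h3 : (X'.presheaf.germ V' x'.1 hxV').hom ((b.appLE U V' hV'U).hom s) =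
      (X'.presheaf.germ (b ⁻¹ᵁ U) x'.1 x'.2).hom ((b.app U).hom s) := by
    rw [Scheme.Hom.appLE, CommRingCat.hom_comp, RingHom.comp_apply]
    exact TopCat.Presheaf.germ_res_apply X'.presheaf (homOfLE hV'U) x'.1 hxV' _
  rw [h3] at h2
  exact h2

end Groth.Agent.Lib.Helper82
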