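import Groth.Agent.Lib.Helper82.BlowUpPullback
import Groth.Agent.S8852

universe u

open CategoryTheory AlgebraicGeometry CategoryTheory.Limits Opposite

namespace Groth.Agent.Lib.Helper82

open Scheme

theorem comap_mul {X Y : Scheme.{u}} (f : X ⟶ Y) (I J : Y.IdealSheafData) :
    (I * J).comap f = I.comap f * J.comap f := by
  have key : ∀ x : X, ∃ (U : X.affineOpens) (W : Y.affineOpens), x ∈ U.1 ∧ U.1 ≤ f ⁻¹ᵁ W.1 := by
    intro x
    obtain ⟨W, hW, hxW, -⟩ := exists_isAffineOpen_mem_and_subset (U := ⊤) (x := f x) (by simp)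
    obtain ⟨U, hU, hxU, hUW⟩ := exists_isAffineOpen_mem_and_subset (U := f ⁻¹ᵁ W) (x := x) hxW
    exact ⟨⟨U, hU⟩, ⟨W, hW⟩, hxU, hUW⟩
  choose U W hxU hUW using key
  refine IdealSheafData.ext_of_iSup_eq_top U ?_ ?_
  · exact top_le_iff.mp (fun x _ ↦ TopologicalSpace.Opens.mem_iSup.mpr ⟨x, hxU x⟩)
  · intro x
    rw [IdealSheafData.ideal_mul]
    simp only [Pi.mul_apply]
    rw [ideal_comap_of_le f (I * J) (U x).1 (U x).2 (W x).1 (W x).2 (hUW x),
      ideal_comap_of_le f I (U x).1 (U x).2 (W x).1 (W x).2 (hUW x),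
      ideal_comap_of_le f J (U x).1 (U x).2 (W x).1 (W x).2 (hUW x),
      IdealSheafData.ideal_mul]
    simp only [Pi.mul_apply]
    rw [Ideal.map_mul]

theorem isEffCartierIdeal_mul {X : Scheme.{u}} (I J : X.IdealSheafData)
    (hI : BlowUp.IsEffCartierIdeal I) (hJ : BlowUp.IsEffCartierIdeal J) :
    BlowUp.IsEffCartierIdeal (I * J) := by
  intro x
  obtain ⟨W, hxW, hW⟩ := hI x
  obtain ⟨N, hxN, hNW, g, hg, hgJ⟩ := exists_affine_isPrincipalNZD_le J hJ W.1 x hxW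
  obtain ⟨f, hf, hfI⟩ := isPrincipalNZD_of_le I (W := W) (N := N) hNW hW
  refine ⟨N, hxN, f * g, mul_mem hf hg, ?_⟩
  rw [IdealSheafData.ideal_mul]
  simp only [Pi.mul_apply]
  rw [hfI, hgJ, Ideal.span_singleton_mul_span_singleton]

theorem isBlowUp_comp_mul {X X' X'' : Scheme.{u}} (I J : X.IdealSheafData) (b : X' ⟶ X)
    (hb : BlowUp.IsBlowUp b I) (b' : X'' ⟶ X') (hb' : BlowUp.IsBlowUp b' (J.comap b)) :
    BlowUp.IsBlowUp (b' ≫ b) (I * J) := by
  refine ⟨?_, ?_⟩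
  · rw [comap_mul, IdealSheafData.comap_comp, IdealSheafData.comap_comp]
    exact isEffCartierIdeal_mul _ _
      (isEffCartierIdeal_comap_of_isBlowUp (J.comap b) b' hb' (I.comap b) hb.1) hb'.1
  · intro Y g hg
    rw [comap_mul] at hg
    obtain ⟨hgI, hgJ⟩ := Groth.Agent.S8852.result _ _ hg
    obtain ⟨h, hh, hhu⟩ := hb.2 Y g hgI
    have hJh : BlowUp.IsEffCartierIdeal ((J.comap b).comap h) := by
      rw [← IdealSheafData.comap_comp, hh]
      exact hgJ
    obtain ⟨k, hk, hku⟩ := hb'.2 Y h hJh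
    refine ⟨k, ?_, ?_⟩
    · show k ≫ b' ≫ b = g
      rw [← Category.assoc, hk, hh]
    · intro k₂ hk₂
      apply hku
      apply hhu
      show (k₂ ≫ b') ≫ b = g
      rw [Category.assoc]
      exact hk₂

theorem isBlowUp_mul_effCartier {S S' : Scheme.{u}} (I D : S.IdealSheafData)
    (hD : BlowUp.IsEffCartierIdeal D) (b : S' ⟶ S) (hb : BlowUp.IsBlowUp b I) :
    BlowUp.IsBlowUp b (I * D) := by
  refine ⟨?_, ?_⟩
  · rw [comap_mul]
    exact isEffCartierIdeal_mul _ _ hb.1 (isEffCartierIdeal_comap_of_isBlowUp I b hb D hD)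
  · intro Y g hg
    rw [comap_mul] at hg
    exact hb.2 Y g (Groth.Agent.S8852.result _ _ hg).1

end Groth.Agent.Lib.Helper82
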