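import Groth.Prelude.Def_PBC

set_option autoImplicit false
open CategoryTheory CategoryTheory.Limits TensorProduct
universe u

namespace Groth.Agent.Lib.Helper82

noncomputable instance preservesColimits_tensorProd (A A' : Type u) [CommRing A] [CommRing A']
    [Algebra A A'] :
    PreservesColimitsOfSize.{u, u} (CommRingCat.tensorProd (CommRingCat.of A) (CommRingCat.of A')) := by
  have h1 : PreservesColimitsOfSize.{u, u}
      (Under.pushout (CommRingCat.ofHom (algebraMap A A'))) :=
    (Under.mapPushoutAdj (CommRingCat.ofHom (algebraMap A A'))).leftAdjoint_preservesColimits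
  exact preservesColimits_of_natIso
    (CommRingCat.tensorProdIsoPushout (CommRingCat.of A) (CommRingCat.of A')).symm

theorem mkUnder_tensor_iso (A B A' : Type u) [CommRing A] [CommRing B] [CommRing A']
    [Algebra A A'] (i1 i2 : Algebra A B) (h : i1 = i2) :
    Nonempty ((letI := i1; CommRingCat.mkUnder (CommRingCat.of A') (A' ⊗[A] B)) ≅
      (letI := i2; Under.mk (CommRingCat.ofHom (algebraMap A' (A' ⊗[A] B))))) := by
  subst h
  exact ⟨Iso.refl _⟩

theorem isIndEtale_baseChange (A B A' : Type u) [CommRing A] [CommRing B] [CommRing A']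
    [Algebra A B] [Algebra A A'] (h : EtPBC.IsIndEtale A B) :
    EtPBC.IsIndEtale A' (A' ⊗[A] B) := by
  obtain ⟨J, _, _, D, c, hc, het, ⟨e⟩⟩ := h
  let T := CommRingCat.tensorProd (CommRingCat.of A) (CommRingCat.of A')
  refine ⟨J, inferInstance, inferInstance, D ⋙ T, T.mapCocone c, isColimitOfPreserves T hc, ?_, ?_⟩
  · intro j
    let _ : Algebra A (D.obj j).right := (D.obj j).hom.hom.toAlgebra
    have h1 : Algebra.Etale A (D.obj j).right := het j
    have h2 : Algebra.Etale A' (A' ⊗[A] (D.obj j).right) := inferInstance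
    have h3 : ((D ⋙ T).obj j).hom.hom.toAlgebra =
        (Algebra.TensorProduct.leftAlgebra : Algebra A' (A' ⊗[A] (D.obj j).right)) :=
      Algebra.algebra_ext _ _ fun _ => rfl
    show @Algebra.Etale A' (A' ⊗[A] (D.obj j).right) _ _ ((D ⋙ T).obj j).hom.hom.toAlgebra
    rw [h3]
    exact h2
  · obtain ⟨i⟩ := mkUnder_tensor_iso A B A' (algebraMap A B).toAlgebra _ toAlgebra_algebraMap
    exact ⟨T.mapIso e ≪≫ i⟩

end Groth.Agent.Lib.Helper82
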