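import Mathlib
import Groth.Agent.Lib.Helper27.WeaklyEtaleField

open TensorProduct IsLocalRing

namespace Groth.Agent.Lib.Helper82.Olivier

universe u

theorem isField_of_weaklyEtale_of_idem {K R : Type*} [Field K] [CommRing R] [Nontrivial R]
    [Algebra K R] [Algebra.WeaklyEtale K R]
    (h : ∀ e : R, IsIdempotentElem e → e = 0 ∨ e = 1) : IsField R := by
  refine ⟨exists_pair_ne R, mul_comm, ?_⟩
  intro a ha
  obtain ⟨d, hd⟩ := Groth.Agent.Lib.Helper27.WeaklyEtaleField.exists_eq_sq_mul (K := K) a
  have hidem : IsIdempotentElem (a * d) := by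
    show a * d * (a * d) = a * d
    calc a * d * (a * d) = (a * a * d) * d := by ring
      _ = a * d := by rw [← hd]
  rcases h _ hidem with h0 | h1
  · exfalso
    apply ha
    rw [hd, mul_assoc, h0, mul_zero]
  · exact ⟨d, h1⟩

theorem residue_surjective_of_weaklyEtale {A B : Type u} [CommRing A] [CommRing B]
    [IsLocalRing A] [IsLocalRing B] [IsSepClosed (ResidueField A)] [Algebra A B]
    [IsLocalHom (algebraMap A B)] [Algebra.WeaklyEtale A B] :
    Function.Surjective (algebraMap A (ResidueField B)) := by
  haveI : Algebra.IsSeparable (ResidueField A) (ResidueField A ⊗[A] B) :=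
    Groth.Agent.Lib.Helper27.WeaklyEtaleField.algebra_isSeparable_of_weaklyEtale _ _
  let f : ResidueField A ⊗[A] B →ₐ[ResidueField A] ResidueField B :=
    Algebra.TensorProduct.lift (Algebra.ofId _ _) (IsScalarTower.toAlgHom A B (ResidueField B))
      (fun _ _ => Commute.all _ _)
  have hf : Function.Surjective f := by
    intro x
    obtain ⟨b, rfl⟩ := IsLocalRing.residue_surjective x
    exact ⟨1 ⊗ₜ b, by simp [f]⟩
  haveI : Algebra.IsSeparable (ResidueField A) (ResidueField B) :=
    Groth.Agent.Lib.Helper27.WeaklyEtaleField.isSeparable_of_surjective f hf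
  have h1 := IsSepClosed.algebraMap_surjective (ResidueField A) (ResidueField B)
  rw [IsScalarTower.algebraMap_eq A (ResidueField A) (ResidueField B)]
  exact h1.comp IsLocalRing.residue_surjective

lemma isLocalHom_of_surjective_of_ker_le_jacobson {R S : Type*} [CommRing R] [CommRing S]
    (f : R →+* S) (hf : Function.Surjective f) (h : RingHom.ker f ≤ Ideal.jacobson ⊥) :
    IsLocalHom f := by
  constructor
  intro a ha
  obtain ⟨b', hb'⟩ := ha.exists_right_inv
  obtain ⟨b, rfl⟩ := hf b'
  have hmem : a * b - 1 ∈ RingHom.ker f := by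
    rw [RingHom.mem_ker, map_sub, map_mul, hb', map_one, sub_self]
  have h1 := h hmem
  have h2 : IsUnit (a * b) := by
    have := Ideal.mem_jacobson_bot.mp h1 1
    simpa using this
  exact isUnit_of_mul_isUnit_left h2

end Groth.Agent.Lib.Helper82.Olivier
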