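import Groth.Prelude.Def_PBC

set_option autoImplicit false
open CategoryTheory CategoryTheory.Limits TensorProduct
universe u v w

namespace Groth.Agent.Lib.Helper82

theorem ringHom_flat_of_approx {R S : Type*} [CommRing R] [CommRing S] (φ : R →+* S)
    {ι : Type*} (Rj : ι → Type*) (Sj : ι → Type*) [∀ j, CommRing (Rj j)] [∀ j, CommRing (Sj j)]
    (φj : ∀ j, Rj j →+* Sj j) (hφj : ∀ j, (φj j).Flat)
    (ρ : ∀ j, Rj j →+* R) (σ : ∀ j, Sj j →+* S)
    (comm : ∀ j (r : Rj j), φ (ρ j r) = σ j (φj j r))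
    (H : ∀ {l : ℕ} (f : Fin l → R) (x : Fin l → S), ∑ i, φ (f i) * x i = 0 →
      ∃ (j : ι) (f' : Fin l → Rj j) (x' : Fin l → Sj j), (∀ i, ρ j (f' i) = f i) ∧
        (∀ i, σ j (x' i) = x i) ∧ ∑ i, φj j (f' i) * x' i = 0) : φ.Flat := by
  let _ := φ.toAlgebra
  show Module.Flat R S
  apply Module.Flat.of_forall_isTrivialRelation
  intro l f x hfx
  have hfx' : ∑ i, φ (f i) * x i = 0 := by
    rw [← hfx]
    exact Finset.sum_congr rfl fun i _ => (Algebra.smul_def _ _).symm
  obtain ⟨j, f', x', hf', hx', hrel⟩ := H f x hfx'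
  have hj : (φj j).Flat := hφj j
  let _ := (φj j).toAlgebra
  have hj' : Module.Flat (Rj j) (Sj j) := hj
  have hrel' : ∑ i, f' i • x' i = 0 := by
    rw [← hrel]
    exact Finset.sum_congr rfl fun i _ => (Algebra.smul_def _ _)
  obtain ⟨k, a, y, hxy, hfa⟩ := Module.Flat.iff_forall_isTrivialRelation.mp hj' hrel'
  refine ⟨k, fun i m => ρ j (a i m), fun m => σ j (y m), ?_, ?_⟩
  · intro i
    rw [← hx', hxy i, map_sum]
    refine Finset.sum_congr rfl fun m _ => ?_
    rw [Algebra.smul_def, Algebra.smul_def, map_mul]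
    congr 1
    exact (comm j _).symm
  · intro m
    have := congrArg (ρ j) (hfa m)
    rw [map_sum, map_zero] at this
    rw [← this]
    refine Finset.sum_congr rfl fun i _ => ?_
    rw [map_mul, hf']

theorem exists_lift_family {J : Type u} [Category.{v} J] [IsFiltered J] {S : J → Type*} {T : Type*}
    (tS : ∀ {i j : J}, (i ⟶ j) → S i → S j) (ψ : ∀ j, S j → T)
    (hψ : ∀ {i j : J} (f : i ⟶ j) (x : S i), ψ j (tS f x) = ψ i x)
    (hsurj : ∀ y : T, ∃ (j : J) (x : S j), ψ j x = y) {l : ℕ} (y : Fin l → T) :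
    ∃ j₀ : J, ∀ (j : J) (_ : j₀ ⟶ j), ∃ x : Fin l → S j, ∀ i, ψ j (x i) = y i := by
  classical
  choose jj xx hxx using fun i => hsurj (y i)
  obtain ⟨j₀, hj₀⟩ := IsFiltered.sup_objs_exists (Finset.univ.image jj)
  have hm : ∀ i, Nonempty (jj i ⟶ j₀) := fun i =>
    hj₀ (Finset.mem_image_of_mem jj (Finset.mem_univ i))
  refine ⟨j₀, fun j g => ⟨fun i => tS ((hm i).some ≫ g) (xx i), fun i => ?_⟩⟩
  rw [hψ, hxx]

structure IndEtData (A B : Type u) [CommRing A] [CommRing B] [Algebra A B] where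
  J : Type u
  [cat : SmallCategory J]
  [filt : IsFiltered J]
  R : J → Type u
  [ring : ∀ j, CommRing (R j)]
  [alg : ∀ j, Algebra A (R j)]
  etale : ∀ j, Algebra.Etale A (R j)
  t : ∀ {i j : J}, (i ⟶ j) → R i →ₐ[A] R j
  φ : ∀ j, R j →ₐ[A] B
  φ_t : ∀ {i j : J} (f : i ⟶ j) (x : R i), φ j (t f x) = φ i x
  surj : ∀ b : B, ∃ (j : J) (x : R j), φ j x = b
  eq : ∀ (j : J) (x y : R j), φ j x = φ j y → ∃ (k : J) (f : j ⟶ k), t f x = t f y

attribute [instance] IndEtData.cat IndEtData.filt IndEtData.ring IndEtData.alg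

namespace IndEtData

variable {A B : Type u} [CommRing A] [CommRing B] [Algebra A B] (d : IndEtData A B)

theorem φ_comp_t {i j : d.J} (f : i ⟶ j) : (d.φ j).comp (d.t f) = d.φ i :=
  AlgHom.ext (d.φ_t f)

theorem tensor_φ_t {i j : d.J} (f : i ⟶ j) (z : d.R i ⊗[A] d.R i) :
    Algebra.TensorProduct.map (d.φ j) (d.φ j) (Algebra.TensorProduct.map (d.t f) (d.t f) z) =
      Algebra.TensorProduct.map (d.φ i) (d.φ i) z := by
  rw [← AlgHom.comp_apply, ← Algebra.TensorProduct.map_comp, φ_comp_t]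

theorem tensor_surj (z : B ⊗[A] B) :
    ∃ (j : d.J) (z' : d.R j ⊗[A] d.R j), Algebra.TensorProduct.map (d.φ j) (d.φ j) z' = z := by
  induction z using TensorProduct.induction_on with
  | zero => exact ⟨Classical.choice IsFiltered.nonempty, 0, map_zero _⟩
  | tmul a b =>
    obtain ⟨j₁, a', rfl⟩ := d.surj a
    obtain ⟨j₂, b', rfl⟩ := d.surj b
    refine ⟨IsFiltered.max j₁ j₂, d.t (IsFiltered.leftToMax j₁ j₂) a' ⊗ₜ
      d.t (IsFiltered.rightToMax j₁ j₂) b', ?_⟩
    rw [Algebra.TensorProduct.map_tmul, d.φ_t, d.φ_t]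
  | add z₁ z₂ h₁ h₂ =>
    obtain ⟨j₁, z₁', rfl⟩ := h₁
    obtain ⟨j₂, z₂', rfl⟩ := h₂
    refine ⟨IsFiltered.max j₁ j₂,
      Algebra.TensorProduct.map (d.t (IsFiltered.leftToMax j₁ j₂)) (d.t (IsFiltered.leftToMax j₁ j₂)) z₁' +
      Algebra.TensorProduct.map (d.t (IsFiltered.rightToMax j₁ j₂)) (d.t (IsFiltered.rightToMax j₁ j₂)) z₂', ?_⟩
    rw [map_add, d.tensor_φ_t, d.tensor_φ_t]

theorem lmul'_map {S T : Type*} [CommRing S] [CommRing T] [Algebra A S] [Algebra A T]
    (g : S →ₐ[A] T) (z : S ⊗[A] S) :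
    Algebra.TensorProduct.lmul' A (Algebra.TensorProduct.map g g z) =
      g (Algebra.TensorProduct.lmul' A z) := by
  induction z using TensorProduct.induction_on with
  | zero => simp
  | tmul a b => simp
  | add z₁ z₂ h₁ h₂ => simp only [map_add, h₁, h₂]

include d in
theorem flat : Module.Flat A B := by
  rw [← RingHom.flat_algebraMap_iff]
  refine ringHom_flat_of_approx (algebraMap A B) (fun _ : d.J => A) d.R
    (fun j => algebraMap A (d.R j)) (fun j => ?_) (fun _ => RingHom.id A)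
    (fun j => (d.φ j).toRingHom) (fun j r => ?_) ?_
  · rw [RingHom.flat_algebraMap_iff]
    have := d.etale j
    infer_instance
  · exact ((d.φ j).commutes r).symm
  · intro l f x hfx
    obtain ⟨j₀, hj₀⟩ := exists_lift_family (S := d.R) (fun g => d.t g) (fun j => d.φ j)
      (fun g x => d.φ_t g x) d.surj x
    obtain ⟨x', hx'⟩ := hj₀ j₀ (𝟙 _)
    obtain ⟨k, g, hg⟩ := d.eq j₀ (∑ i, algebraMap A (d.R j₀) (f i) * x' i) 0 (by
      rw [map_sum, map_zero, ← hfx]
      refine Finset.sum_congr rfl fun i _ => ?_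
      rw [map_mul, hx', AlgHom.commutes])
    refine ⟨k, f, fun i => d.t g (x' i), fun i => rfl, fun i => ?_, ?_⟩
    · show d.φ k (d.t g (x' i)) = x i
      rw [d.φ_t, hx']
    · rw [map_sum, map_zero] at hg
      rw [← hg]
      refine Finset.sum_congr rfl fun i _ => ?_
      rw [map_mul, AlgHom.commutes]

include d in
theorem flat_lmul' : (Algebra.TensorProduct.lmul' A (S := B)).Flat := by
  refine ringHom_flat_of_approx _ (fun j : d.J => d.R j ⊗[A] d.R j) d.R
    (fun j => (Algebra.TensorProduct.lmul' A (S := d.R j)).toRingHom) (fun j => ?_)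
    (fun j => (Algebra.TensorProduct.map (d.φ j) (d.φ j)).toRingHom)
    (fun j => (d.φ j).toRingHom) (fun j r => ?_) ?_
  · have := d.etale j
    exact Algebra.WeaklyEtale.flat_lmul' A (d.R j)
  · exact lmul'_map (d.φ j) r
  · intro l f x hfx
    obtain ⟨j₁, hj₁⟩ := exists_lift_family (S := d.R) (fun g => d.t g) (fun j => d.φ j)
      (fun g x => d.φ_t g x) d.surj x
    obtain ⟨j₂, hj₂⟩ := exists_lift_family (S := fun j => d.R j ⊗[A] d.R j)
      (fun g => Algebra.TensorProduct.map (d.t g) (d.t g))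
      (fun j => Algebra.TensorProduct.map (d.φ j) (d.φ j))
      (fun g z => d.tensor_φ_t g z) d.tensor_surj f
    obtain ⟨x', hx'⟩ := hj₁ _ (IsFiltered.leftToMax j₁ j₂)
    obtain ⟨f', hf'⟩ := hj₂ _ (IsFiltered.rightToMax j₁ j₂)
    obtain ⟨k, g, hg⟩ := d.eq _ (∑ i, Algebra.TensorProduct.lmul' A (f' i) * x' i) 0 (by
      rw [map_sum, map_zero, ← hfx]
      refine Finset.sum_congr rfl fun i _ => ?_
      rw [map_mul, hx', ← lmul'_map, hf']
      rfl)
    refine ⟨k, fun i => Algebra.TensorProduct.map (d.t g) (d.t g) (f' i), fun i => d.t g (x' i),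
      fun i => ?_, fun i => ?_, ?_⟩
    · show Algebra.TensorProduct.map (d.φ k) (d.φ k) _ = f i
      rw [d.tensor_φ_t, hf']
    · show d.φ k (d.t g (x' i)) = x i
      rw [d.φ_t, hx']
    · rw [map_sum, map_zero] at hg
      rw [← hg]
      refine Finset.sum_congr rfl fun i _ => ?_
      rw [map_mul, ← lmul'_map]
      rfl

include d in
theorem weaklyEtale : Algebra.WeaklyEtale A B where
  flat := d.flat
  flat_lmul' := d.flat_lmul'

end IndEtData

theorem nonempty_indEtData {A B : Type u} [CommRing A] [CommRing B] [Algebra A B]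
    (h : EtPBC.IsIndEtale A B) : Nonempty (IndEtData A B) := by
  obtain ⟨J, _, _, D, c, hc, het, ⟨e⟩⟩ := h
  have := IsFiltered.isConnected J
  let F : Under (CommRingCat.of A) ⥤ Type u := Under.forget (CommRingCat.of A) ⋙ forget CommRingCat
  have hF : IsColimit (F.mapCocone c) := isColimitOfPreserves F hc
  let φ' : ∀ j, D.obj j ⟶ Under.mk (CommRingCat.ofHom (algebraMap A B)) := fun j => c.ι.app j ≫ e.hom
  refine ⟨{
    J := J
    R := fun j => (D.obj j).right
    alg := fun j => (D.obj j).hom.hom.toAlgebra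
    etale := het
    t := fun {i j} f => CommRingCat.toAlgHom (D.map f)
    φ := fun j => 
      letI := (D.obj j).hom.hom.toAlgebra
      { (φ' j).right.hom with
        commutes' := fun a => by
          have h1 : ((D.obj j).hom ≫ (φ' j).right) = CommRingCat.ofHom (algebraMap A B) :=
            Under.w (φ' j)
          exact congrArg (fun g => g.hom a) h1 }
    φ_t := ?_
    surj := ?_
    eq := ?_ }⟩
  · intro i j f x
    have h1 : D.map f ≫ φ' j = φ' i := by
      simp only [φ', ← Category.assoc, c.w]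
    exact congrArg (fun g => g.right.hom x) h1
  · intro b
    obtain ⟨j, x, hx⟩ := Types.jointly_surjective_of_isColimit hF (e.inv.right.hom b)
    refine ⟨j, x, ?_⟩
    have h2 : (c.ι.app j).right.hom x = e.inv.right.hom b := hx
    show e.hom.right.hom ((c.ι.app j).right.hom x) = b
    rw [h2]
    have h3 : e.inv ≫ e.hom = 𝟙 _ := e.inv_hom_id
    exact congrArg (fun g => g.right.hom b) h3
  · intro j x y hxy
    have h4 : (c.ι.app j).right.hom x = (c.ι.app j).right.hom y := by
      have h5 : e.hom.right.hom ((c.ι.app j).right.hom x) = e.hom.right.hom ((c.ι.app j).right.hom y) :=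
        hxy
      have h3 : e.hom ≫ e.inv = 𝟙 _ := e.hom_inv_id
      have h6 := congrArg e.inv.right.hom h5
      have h7 : ∀ z, e.inv.right.hom (e.hom.right.hom z) = z := fun z =>
        congrArg (fun g => g.right.hom z) h3
      rwa [h7, h7] at h6
    obtain ⟨k, f, hf⟩ := (Types.FilteredColimit.isColimit_eq_iff' hF x y).1 h4
    exact ⟨k, f, hf⟩


theorem weaklyEtale_of_isIndEtale {A B : Type u} [CommRing A] [CommRing B] [Algebra A B]
    (h : EtPBC.IsIndEtale A B) : Algebra.WeaklyEtale A B :=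
  (nonempty_indEtData h).some.weaklyEtale

end Groth.Agent.Lib.Helper82
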