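import Groth.Agent.Lib.Helper82.IndSys
import Groth.Agent.Lib.Helper87.IndEtaleConv

set_option autoImplicit false
open CategoryTheory CategoryTheory.Limits TensorProduct
universe u

/-!
# Ind-systems from direct limits of algebras over a directed order, and ind-étaleness of the
colimit of an ind-system of ind-étale algebras.
-/

namespace Groth.Agent.Lib.Helper82

namespace IndSys

section DirectLimit

variable {A : Type u} [CommRing A] {ι : Type u} [Preorder ι] [IsDirectedOrder ι] [Nonempty ι]
  (G : ι → Type u) [∀ i, CommRing (G i)] [∀ i, Algebra A (G i)]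
  (f : ∀ i j, i ≤ j → G i →ₐ[A] G j) [DirectedSystem G (fun i j h => f i j h)]

/-- the ind-system of a direct limit. -/
noncomputable def ofDirectLimit : IndSys A (DirectLimit G f) where
  J := ι
  R := G
  t := fun {i j} h => f i j (leOfHom h)
  t_comp := fun {i j k} g h x => (DirectedSystem.map_map' (f := fun i j h => f i j h)
    (leOfHom g) (leOfHom h) x).symm
  φ := fun i => DirectLimit.Algebra.of G f i
  φ_t := fun {i j} h x => DirectLimit.Algebra.of_f (leOfHom h) x
  surj := fun b => by
    obtain ⟨i, x, rfl⟩ := DirectLimit.exists_eq_mk (f := fun i j h => f i j h) b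
    exact ⟨i, x, rfl⟩
  eq := fun j x y h => by
    obtain ⟨k, hjk, hjk', e⟩ := Quotient.exact h
    exact ⟨k, homOfLE hjk, e⟩

end DirectLimit

variable {A B : Type u} [CommRing A] [CommRing B] [Algebra A B] (d : IndSys A B)

open Groth.Agent.Lib.Helper87.IndEt in
/-- the colimit of an ind-system of ind-étale algebras is ind-étale. -/
theorem isIndEtale (h : ∀ j, EtPBC.IsIndEtale A (d.R j)) : EtPBC.IsIndEtale A B := by
  have hP : ∀ j, HasPres A (d.R j) := h
  show HasPres A B
  rw [hasPres_iff]
  constructor
  · intro b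
    obtain ⟨j, x, rfl⟩ := d.surj b
    obtain ⟨E, _, _, _, g, y, hy⟩ := (hP j).coveredByEtale x
    exact ⟨E, inferInstance, inferInstance, inferInstance, (d.φ j).comp g, y,
      congrArg (d.φ j) hy⟩
  · intro E _ _ _ g a ha
    obtain ⟨j, g', hg'⟩ := d.exists_factor g
    have h0 : d.φ j (g' a) = d.φ j 0 := by
      rw [map_zero, ← ha, ← hg', AlgHom.comp_apply]
    obtain ⟨k, t, ht⟩ := d.eq j _ _ h0
    rw [map_zero] at ht
    obtain ⟨E', _, _, _, g₁, f', hfg, hga⟩ := (hP k).killsRelations E ((d.t t).comp g') a ht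
    refine ⟨E', inferInstance, inferInstance, inferInstance, g₁, (d.φ k).comp f', ?_, hga⟩
    rw [AlgHom.comp_assoc, hfg, ← hg']
    ext x
    simp only [AlgHom.comp_apply]
    exact d.φ_t t (g' x)

end IndSys

end Groth.Agent.Lib.Helper82
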