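import Groth.Agent.Lib.Helper82.TProd
import Groth.Agent.Lib.Helper82.IndSysDL
import Groth.Agent.Lib.Helper82.IndEtale

set_option autoImplicit false
open CategoryTheory CategoryTheory.Limits TensorProduct
universe u

/-!
# The ring `T(A)`: the tensor product of all presented faithfully flat étale `A`-algebras.
-/

namespace Groth.Agent.Lib.Helper82

open Groth.Agent.Lib.Helper87.IndEt in
/-- an étale algebra is ind-étale. -/
theorem isIndEtale_of_etale (A B : Type u) [CommRing A] [CommRing B] [Algebra A B]
    [Algebra.Etale A B] : EtPBC.IsIndEtale A B := by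
  show HasPres A B
  rw [hasPres_iff]
  constructor
  · intro b
    exact ⟨B, inferInstance, inferInstance, inferInstance, AlgHom.id A B, b, rfl⟩
  · intro E _ _ _ g a ha
    exact ⟨B, inferInstance, inferInstance, inferInstance, g, AlgHom.id A B, AlgHom.id_comp g, ha⟩

theorem exists_algHom_algClosure_field (k F : Type u) [Field k] [CommRing F] [Algebra k F]
    [Nontrivial F] [Algebra.Etale k F] : Nonempty (F →ₐ[k] AlgebraicClosure k) := by
  have : Module.Finite k F := Algebra.FormallyUnramified.finite_of_free k F
  obtain ⟨M, hM⟩ := Ideal.exists_maximal F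
  have : Algebra.IsAlgebraic k (F ⧸ M) := Algebra.IsAlgebraic.of_finite k (F ⧸ M)
  let g : (F ⧸ M) →ₐ[k] AlgebraicClosure k := IsAlgClosed.lift
  exact ⟨g.comp (Ideal.Quotient.mkₐ k M)⟩

theorem exists_algHom_algClosure {A : Type u} [CommRing A] (B : Type u) [CommRing B] [Algebra A B]
    [Algebra.Etale A B] [Module.FaithfullyFlat A B] (p : PrimeSpectrum A) :
    Nonempty (B →ₐ[A] AlgebraicClosure p.asIdeal.ResidueField) := by
  obtain ⟨g⟩ := exists_algHom_algClosure_field p.asIdeal.ResidueField
    (p.asIdeal.ResidueField ⊗[A] B)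
  exact ⟨(g.restrictScalars A).comp (Algebra.TensorProduct.includeRight)⟩

namespace TConstr

variable (A : Type u) [CommRing A]

/-- the index type: presented faithfully flat étale algebras. -/
def Idx : Type u := Σ n : ℕ, {I : Ideal (MvPolynomial (Fin n) A) //
    Algebra.Etale A (MvPolynomial (Fin n) A ⧸ I) ∧
      Module.FaithfullyFlat A (MvPolynomial (Fin n) A ⧸ I)}

/-- number of variables. -/
def nn (j : Idx A) : ℕ := j.1

/-- ideal of relations. -/
def II (j : Idx A) : Ideal (MvPolynomial (Fin (nn A j)) A) := j.2.1

instance (j : Idx A) : Algebra.Etale A (TProd.Fac (nn A) (II A) j) := j.2.2.1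

instance (j : Idx A) : Module.FaithfullyFlat A (TProd.Fac (nn A) (II A) j) := j.2.2.2

/-- the finite stages. -/
abbrev Stage (S : Finset (Idx A)) : Type u := TProd.TP (nn A) (II A) S

/-- the transition maps. -/
noncomputable def trans (S T : Finset (Idx A)) (h : S ≤ T) : Stage A S →ₐ[A] Stage A T :=
  TProd.map h

instance : DirectedSystem (Stage A) (fun S T h => trans A S T h) where
  map_self := fun S x => TProd.map_self S x
  map_map := fun _ _ _ h h' x => TProd.map_map h h' x

/-- the ring `T(A)`. -/
abbrev T : Type u := DirectLimit (Stage A) (trans A)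

theorem isIndEtale_T : EtPBC.IsIndEtale A (T A) :=
  (IndSys.ofDirectLimit (Stage A) (trans A)).isIndEtale
    (fun S : Finset (Idx A) => isIndEtale_of_etale A (Stage A S))

variable {A}

/-- the map from a factor. -/
noncomputable def fromFac (j : Idx A) : TProd.Fac (nn A) (II A) j →ₐ[A] T A :=
  (DirectLimit.Algebra.of (Stage A) (trans A) {j}).comp
    (TProd.inc (S := {j}) ⟨j, Finset.mem_singleton_self j⟩)

theorem exists_algHom (B : Type u) [CommRing B] [Algebra A B] [Algebra.Etale A B]
    [Module.FaithfullyFlat A B] : Nonempty (B →ₐ[A] T A) := by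
  obtain ⟨n, f, hf⟩ := Algebra.FiniteType.iff_quotient_mvPolynomial''.mp
    (inferInstance : Algebra.FiniteType A B)
  let e : (MvPolynomial (Fin n) A ⧸ RingHom.ker f) ≃ₐ[A] B :=
    Ideal.quotientKerAlgEquivOfSurjective hf
  let j : Idx A := ⟨n, RingHom.ker f, Algebra.Etale.of_equiv e.symm,
    Module.FaithfullyFlat.of_linearEquiv A B e.toLinearEquiv⟩
  exact ⟨(fromFac j).comp e.symm.toAlgHom⟩

/-- the universal property: a family of maps out of the factors gives a map out of `T(A)`. -/
noncomputable def lift {R : Type*} [CommRing R] [Algebra A R]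
    (g : ∀ j : Idx A, TProd.Fac (nn A) (II A) j →ₐ[A] R) : T A →ₐ[A] R :=
  DirectLimit.Algebra.lift (Stage A) (trans A) R (fun S => TProd.lift fun i => g i)
    (fun S T h x => by
      have : (TProd.lift (S := T) fun i => g i).comp (trans A S T h) =
          TProd.lift (S := S) fun i => g i := by
        apply TProd.hom_ext
        intro i
        ext x
        simp only [AlgHom.comp_apply, trans, TProd.map_inc, TProd.lift_inc]
      exact DFunLike.congr_fun this x)

variable (A)

theorem faithfullyFlat_T : Module.FaithfullyFlat A (T A) := by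
  have : Module.Flat A (T A) := (weaklyEtale_of_isIndEtale (isIndEtale_T A)).flat
  refine Module.FaithfullyFlat.of_comap_surjective fun p => ?_
  let φ : T A →ₐ[A] AlgebraicClosure p.asIdeal.ResidueField := lift fun j : Idx A =>
    (exists_algHom_algClosure (TProd.Fac (nn A) (II A) j) p).some
  refine ⟨⟨RingHom.ker φ.toRingHom, RingHom.ker_isPrime _⟩, ?_⟩
  ext a
  show φ (algebraMap A (T A) a) = 0 ↔ a ∈ p.asIdeal
  rw [φ.commutes, IsScalarTower.algebraMap_apply A p.asIdeal.ResidueField
    (AlgebraicClosure p.asIdeal.ResidueField), map_eq_zero,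
    Ideal.algebraMap_residueField_eq_zero]

end TConstr

end Groth.Agent.Lib.Helper82
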