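import Mathlib.RingTheory.Localization.AtPrime.Basic
import Mathlib.RingTheory.Localization.Away.Basic
import Mathlib.RingTheory.Localization.Ideal
import Mathlib.RingTheory.Noetherian.Basic
import Mathlib.Tactic

namespace Groth.Agent.Lib.Helper82

open scoped nonZeroDivisors

theorem exists_notMem_forall_mul_mem {A : Type*} [CommRing A] (p : Ideal A) [p.IsPrime]
    (I : Ideal A) (hI : I.FG) (P : Ideal A)
    (h : ∀ i ∈ I, ∃ c ∉ p, c * i ∈ P) : ∃ c ∉ p, ∀ i ∈ I, c * i ∈ P := by
  obtain ⟨F, rfl⟩ := hI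
  classical
  choose! c hc hcP using h
  refine ⟨∏ i ∈ F, c i, ?_, ?_⟩
  · intro hmem
    rw [Ideal.IsPrime.prod_mem_iff] at hmem
    obtain ⟨i, hiF, hi⟩ := hmem
    exact hc i (Ideal.subset_span hiF) hi
  · intro i hi
    induction hi using Submodule.span_induction with
    | mem x hx =>
      rw [← Finset.prod_erase_mul F c hx, mul_assoc]
      exact P.mul_mem_left _ (hcP x (Ideal.subset_span hx))
    | zero => simp
    | add x y _ _ hx hy =>
      rw [mul_add]
      exact P.add_mem hx hy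
    | smul r x _ hx =>
      rw [smul_eq_mul, mul_left_comm]
      exact P.mul_mem_left _ hx

theorem exists_away_principal {A : Type*} [CommRing A] [IsNoetherianRing A] (I : Ideal A)
    (p : Ideal A) [p.IsPrime] (S : Type*) [CommRing S] [Algebra A S] [IsLocalization.AtPrime S p]
    (g : S) (hg : g ∈ S⁰) (hI : I.map (algebraMap A S) = Ideal.span {g}) :
    ∃ c ∉ p, ∃ a ∈ I, ∀ (T : Type*) [CommRing T] [Algebra A T] [IsLocalization.Away c T],
      algebraMap A T a ∈ T⁰ ∧ I.map (algebraMap A T) = Ideal.span {algebraMap A T a} := by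
  have hgmem : g ∈ I.map (algebraMap A S) := by
    rw [hI]; exact Ideal.subset_span rfl
  rw [IsLocalization.mem_map_algebraMap_iff p.primeCompl S] at hgmem
  obtain ⟨⟨⟨a, haI⟩, ⟨s, hs⟩⟩, hgs⟩ := hgmem
  simp only at hgs
  have hsunit : IsUnit (algebraMap A S s) := IsLocalization.map_units S ⟨s, hs⟩
  have hanzd : algebraMap A S a ∈ S⁰ := by
    rw [← hgs]
    exact mul_mem hg hsunit.mem_nonZeroDivisors
  have hspan : Ideal.span {algebraMap A S a} = Ideal.span {g} := by
    rw [← hgs]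
    exact Ideal.span_singleton_mul_right_unit hsunit g
  -- conductor
  have h1 : ∀ i ∈ I, ∃ c ∉ p, c * i ∈ Ideal.span {a} := by
    intro i hi
    have hmem : algebraMap A S i ∈ Ideal.span {algebraMap A S a} := by
      rw [hspan, ← hI]
      exact Ideal.mem_map_of_mem _ hi
    rw [Ideal.mem_span_singleton'] at hmem
    obtain ⟨z, hz⟩ := hmem
    obtain ⟨r, ⟨s', hs'⟩, rfl⟩ := IsLocalization.exists_mk'_eq p.primeCompl z
    have h2 : algebraMap A S (r * a) = algebraMap A S (s' * i) := by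
      have hspec : IsLocalization.mk' S r ⟨s', hs'⟩ * algebraMap A S s' = algebraMap A S r :=
        IsLocalization.mk'_spec S r ⟨s', hs'⟩
      rw [map_mul, map_mul, ← hz, ← hspec]
      ring
    rw [IsLocalization.eq_iff_exists p.primeCompl S] at h2
    obtain ⟨⟨u, hu⟩, hu2⟩ := h2
    refine ⟨u * s', ?_, ?_⟩
    · exact (p.primeCompl.mul_mem hu hs' : u * s' ∈ p.primeCompl)
    · rw [mul_assoc, ← hu2, Ideal.mem_span_singleton']
      exact ⟨u * r, by ring⟩
  obtain ⟨c₁, hc₁, hc₁I⟩ := exists_notMem_forall_mul_mem p I (IsNoetherian.noetherian I) _ h1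
  have h2 : ∀ r ∈ (Submodule.span A {a}).annihilator, ∃ v ∉ p, v * r ∈ (⊥ : Ideal A) := by
    intro r hr
    rw [Submodule.mem_annihilator_span_singleton, smul_eq_mul] at hr
    have h3 : algebraMap A S r * algebraMap A S a = 0 := by
      rw [← map_mul, hr, map_zero]
    have h4 : algebraMap A S r = 0 := (mem_nonZeroDivisors_iff_right.mp hanzd) _ h3
    rw [IsLocalization.map_eq_zero_iff p.primeCompl S] at h4
    obtain ⟨⟨v, hv⟩, hvr⟩ := h4
    exact ⟨v, hv, by simpa using hvr⟩
  obtain ⟨c₂, hc₂, hc₂L⟩ := exists_notMem_forall_mul_mem p _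
    (IsNoetherian.noetherian (Submodule.span A {a}).annihilator) _ h2
  refine ⟨c₁ * c₂, ?_, a, haI, ?_⟩
  · exact (p.primeCompl.mul_mem hc₁ hc₂ : c₁ * c₂ ∈ p.primeCompl)
  intro T _ _ _
  have hcunit : IsUnit (algebraMap A T (c₁ * c₂)) := IsLocalization.Away.algebraMap_isUnit _
  have hc₁unit : IsUnit (algebraMap A T c₁) := by
    rw [map_mul] at hcunit
    exact isUnit_of_mul_isUnit_left hcunit
  refine ⟨?_, ?_⟩
  · rw [mem_nonZeroDivisors_iff_right]
    intro z hz
    obtain ⟨y, ⟨s, hs⟩, rfl⟩ := IsLocalization.exists_mk'_eq (Submonoid.powers (c₁ * c₂)) z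
    have hz2 : IsLocalization.mk' T (y * a) (⟨s, hs⟩ : Submonoid.powers (c₁ * c₂)) = 0 := by
      rw [← hz, IsLocalization.mk'_eq_mul_mk'_one (y * a), IsLocalization.mk'_eq_mul_mk'_one y,
        map_mul]
      ring
    rw [IsLocalization.mk'_eq_zero_iff] at hz2 ⊢
    obtain ⟨⟨m, hm⟩, hmy⟩ := hz2
    simp only at hmy
    have hL : m * y ∈ (Submodule.span A {a}).annihilator := by
      rw [Submodule.mem_annihilator_span_singleton, smul_eq_mul, mul_assoc]
      exact hmy
    have h5 := hc₂L _ hL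
    rw [Ideal.mem_bot] at h5
    refine ⟨⟨c₁ * c₂ * m, (Submonoid.powers (c₁ * c₂)).mul_mem
      (Submonoid.mem_powers _) hm⟩, ?_⟩
    simp only
    have h8 : c₁ * c₂ * m * y = c₁ * (c₂ * (m * y)) := by ring
    rw [h8, h5, mul_zero]
  · apply le_antisymm
    · rw [Ideal.map_le_iff_le_comap]
      intro i hi
      rw [Ideal.mem_comap]
      have h6 := hc₁I i hi
      rw [Ideal.mem_span_singleton'] at h6
      obtain ⟨d, hd⟩ := h6
      have h7 : algebraMap A T c₁ * algebraMap A T i = algebraMap A T d * algebraMap A T a := by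
        rw [← map_mul, ← map_mul, hd]
      rw [Ideal.mem_span_singleton']
      refine ⟨hc₁unit.unit⁻¹ * algebraMap A T d, ?_⟩
      rw [mul_assoc, ← h7, ← mul_assoc, IsUnit.val_inv_mul, one_mul]
    · rw [Ideal.span_le, Set.singleton_subset_iff]
      exact Ideal.mem_map_of_mem _ haI

end Groth.Agent.Lib.Helper82
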