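import Groth.Agent.Lib.Helper82.EffCartierDim
import Groth.Agent.Lib.Helper82.AwayPrincipal

universe u

open CategoryTheory AlgebraicGeometry CategoryTheory.Limits Opposite

namespace Groth.Agent.Lib.Helper82

open Scheme

theorem ideal_eq_top_of_le_compl_support {X : Scheme.{u}} (D : X.IdealSheafData)
    (N : X.affineOpens) (hN : ∀ y ∈ N.1, y ∉ D.support) : D.ideal N = ⊤ := by
  obtain ⟨N, hNaff⟩ := N
  have : IsAffine N := hNaff
  have h1 : D.comap N.ι = ⊤ := by
    rw [← IdealSheafData.support_eq_bot_iff, IdealSheafData.support_comap]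
    ext y
    simp only [TopologicalSpace.Closeds.coe_preimage, Set.mem_preimage, SetLike.mem_coe,
      TopologicalSpace.Closeds.coe_bot, Set.mem_empty_iff_false, iff_false]
    exact hN y.1 y.2
  rw [ideal_eq_map_topIso D N hNaff, h1, IdealSheafData.ideal_top]
  simp only [Pi.top_apply]
  exact Ideal.map_top _

theorem isEffCartierIdeal_of_stalk_principal (X : Scheme.{u}) [IsLocallyNoetherian X]
    (D : X.IdealSheafData)
    (h : ∀ x ∈ D.support, ∀ (U : X.affineOpens) (hx : x ∈ (U : X.Opens)),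
      ∃ g : X.presheaf.stalk x, g ∈ nonZeroDivisors (X.presheaf.stalk x) ∧
        (D.ideal U).map (X.presheaf.germ U x hx).hom = Ideal.span {g}) :
    BlowUp.IsEffCartierIdeal D := by
  intro x
  by_cases hx : x ∈ D.support
  · obtain ⟨U, hU, hxU, -⟩ := exists_isAffineOpen_mem_and_subset (U := ⊤) (x := x) (by simp)
    obtain ⟨g, hg, hgD⟩ := h x hx ⟨U, hU⟩ hxU
    have hnoeth : IsNoetherianRing Γ(X, U) := IsLocallyNoetherian.component_noetherian ⟨U, hU⟩
    let _ : Algebra Γ(X, U) (X.presheaf.stalk x) :=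
      TopCat.Presheaf.algebra_section_stalk X.presheaf (⟨x, hxU⟩ : U)
    have hloc : IsLocalization.AtPrime (X.presheaf.stalk x) (hU.primeIdealOf ⟨x, hxU⟩).asIdeal :=
      hU.isLocalization_stalk ⟨x, hxU⟩
    obtain ⟨c, hc, a, haI, hT⟩ := exists_away_principal (D.ideal ⟨U, hU⟩)
      (hU.primeIdealOf ⟨x, hxU⟩).asIdeal (X.presheaf.stalk x) g hg hgD
    have hxc : x ∈ X.basicOpen c := by
      by_contra hcon
      exact hc ((mem_primeIdealOf_iff_not_mem_basicOpen hU x hxU c).2 hcon)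
    have hloc2 := hU.isLocalization_basicOpen c
    obtain ⟨hnzd, hspan⟩ := hT Γ(X, X.basicOpen c)
    refine ⟨X.affineBasicOpen c, hxc, _, hnzd, ?_⟩
    rw [← D.map_ideal_basicOpen ⟨U, hU⟩ c]
    exact hspan
  · have hopen : IsOpen ((D.support : Set X)ᶜ) := D.support.isClosed.isOpen_compl
    obtain ⟨N, hN, hxN, hNs⟩ := exists_isAffineOpen_mem_and_subset
      (U := ⟨(D.support : Set X)ᶜ, hopen⟩) (x := x) hx
    refine ⟨⟨N, hN⟩, hxN, 1, one_mem _, ?_⟩
    rw [Ideal.span_singleton_one]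
    exact ideal_eq_top_of_le_compl_support D ⟨N, hN⟩ (fun y hy => hNs hy)

end Groth.Agent.Lib.Helper82
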