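import Groth.Agent.Lib.Helper82.EffCartierStalk
import Mathlib.RingTheory.Ideal.UFD
import Mathlib.AlgebraicGeometry.IdealSheaf.Subscheme
import Mathlib.AlgebraicGeometry.FunctionField

universe u

open CategoryTheory AlgebraicGeometry CategoryTheory.Limits Opposite

namespace Groth.Agent.Lib.Helper82

open Scheme

theorem primeIdealOf_le_of_specializes {X : Scheme.{u}} {U : X.Opens} (hU : IsAffineOpen U)
    (x y : X) (hx : x ∈ U) (hy : y ∈ U) (h : x ⤳ y) :
    (hU.primeIdealOf ⟨x, hx⟩).asIdeal ≤ (hU.primeIdealOf ⟨y, hy⟩).asIdeal := by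
  have h1 : (⟨x, hx⟩ : U) ⤳ ⟨y, hy⟩ := by
    rw [subtype_specializes_iff]
    exact h
  have h2 : hU.primeIdealOf ⟨x, hx⟩ ⤳ hU.primeIdealOf ⟨y, hy⟩ :=
    h1.map hU.isoSpec.hom.continuous
  rw [← PrimeSpectrum.le_iff_specializes] at h2
  exact h2

theorem mem_support_iff_ideal_le_primeIdealOf {X : Scheme.{u}} (I : X.IdealSheafData)
    (U : X.affineOpens) (x : X) (hx : x ∈ U.1) :
    x ∈ I.support ↔ I.ideal U ≤ (U.2.primeIdealOf ⟨x, hx⟩).asIdeal := by
  rw [IdealSheafData.mem_support_iff_of_mem hx, Scheme.mem_zeroLocus_iff]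
  constructor
  · intro h f hf
    exact (mem_primeIdealOf_iff_not_mem_basicOpen U.2 x hx f).2 (h f hf)
  · intro h f hf
    exact (mem_primeIdealOf_iff_not_mem_basicOpen U.2 x hx f).1 (h hf)

theorem ideal_isPrime_of_isIntegral_subscheme {X : Scheme.{u}} (I : X.IdealSheafData)
    [IsIntegral I.subscheme] (U : X.affineOpens) (x : X) (hxU : x ∈ U.1) (hx : x ∈ I.support) :
    (I.ideal U).IsPrime := by
  have hr : x ∈ Set.range I.subschemeι := by
    rw [I.range_subschemeι]; exact hx
  obtain ⟨z, hz⟩ := hr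
  have hne : Nonempty (I.subschemeι ⁻¹ᵁ U.1 : I.subscheme.Opens) :=
    ⟨⟨z, show I.subschemeι z ∈ U.1 by rw [hz]; exact hxU⟩⟩
  have hdom : IsDomain Γ(I.subscheme, I.subschemeι ⁻¹ᵁ U.1) := inferInstance
  have hdom2 : IsDomain (Γ(X, U.1) ⧸ I.ideal U) :=
    MulEquiv.isDomain _ (I.subschemeObjIso U).commRingCatIsoToRingEquiv.symm.toMulEquiv
  exact (Ideal.Quotient.isDomain_iff_prime _).1 hdom2

theorem isEffCartierIdeal_of_integral_codim_one_ufd (X : Scheme.{u}) [IsLocallyNoetherian X]
    (I : X.IdealSheafData) [IsIntegral I.subscheme]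
    (hcodim : ringKrullDim (X.presheaf.stalk (I.subschemeι (genericPoint I.subscheme))) = 1)
    (hufd : ∀ x : X, x ∈ I.support →
      IsDomain (X.presheaf.stalk x) ∧ UniqueFactorizationMonoid (X.presheaf.stalk x)) :
    BlowUp.IsEffCartierIdeal I := by
  apply isEffCartierIdeal_of_stalk_principal
  intro x hx U hxU
  have hU : IsAffineOpen U.1 := U.2
  set η := I.subschemeι (genericPoint I.subscheme) with hη
  have hgen : ∀ y ∈ I.support, η ⤳ y := by
    intro y hy
    have hr : y ∈ Set.range I.subschemeι := by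
      rw [I.range_subschemeι]; exact hy
    obtain ⟨z, rfl⟩ := hr
    exact (genericPoint_specializes z).map I.subschemeι.continuous
  have hηsupp : η ∈ I.support := by
    have : η ∈ Set.range I.subschemeι := ⟨_, rfl⟩
    rwa [I.range_subschemeι] at this
  have hηU : η ∈ U.1 := (hgen x hx).mem_open U.1.isOpen hxU
  have hIprime : (I.ideal U).IsPrime := ideal_isPrime_of_isIntegral_subscheme I U x hxU hx
  -- the prime of η is I.ideal U
  have hq : (hU.primeIdealOf ⟨η, hηU⟩).asIdeal = I.ideal U := by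
    apply le_antisymm
    · let yI : PrimeSpectrum Γ(X, U.1) := ⟨I.ideal U, hIprime⟩
      have hyU : hU.fromSpec yI ∈ U.1 := by
        have : hU.fromSpec yI ∈ hU.fromSpec.opensRange := ⟨yI, rfl⟩
        rwa [hU.opensRange_fromSpec] at this
      have hyeq : hU.primeIdealOf ⟨hU.fromSpec yI, hyU⟩ = yI := by
        have hinj : Function.Injective hU.fromSpec := hU.fromSpec.isOpenEmbedding.injective
        apply hinj
        exact hU.fromSpec_primeIdealOf ⟨hU.fromSpec yI, hyU⟩
      have hysupp : hU.fromSpec yI ∈ I.support := by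
        rw [mem_support_iff_ideal_le_primeIdealOf I U _ hyU, hyeq]
      have h1 := primeIdealOf_le_of_specializes hU η _ hηU hyU (hgen _ hysupp)
      rw [hyeq] at h1
      exact h1
    · exact (mem_support_iff_ideal_le_primeIdealOf I U η hηU).1 hηsupp
  have hheight : (I.ideal U).height = 1 := by
    let _ : Algebra Γ(X, U.1) (X.presheaf.stalk η) :=
      TopCat.Presheaf.algebra_section_stalk X.presheaf (⟨η, hηU⟩ : U.1)
    have hloc : IsLocalization.AtPrime (X.presheaf.stalk η)
        (hU.primeIdealOf ⟨η, hηU⟩).asIdeal := hU.isLocalization_stalk ⟨η, hηU⟩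
    have h2 := IsLocalization.AtPrime.ringKrullDim_eq_height
      (hU.primeIdealOf ⟨η, hηU⟩).asIdeal (X.presheaf.stalk η)
    rw [hcodim, hq] at h2
    have h3 : ((1 : ℕ∞) : WithBot ℕ∞) = ((I.ideal U).height : WithBot ℕ∞) := h2
    exact (WithBot.coe_injective h3).symm
  -- localize at x
  let _ : Algebra Γ(X, U.1) (X.presheaf.stalk x) :=
    TopCat.Presheaf.algebra_section_stalk X.presheaf (⟨x, hxU⟩ : U.1)
  have hloc : IsLocalization.AtPrime (X.presheaf.stalk x)
      (hU.primeIdealOf ⟨x, hxU⟩).asIdeal := hU.isLocalization_stalk ⟨x, hxU⟩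
  obtain ⟨hdom, hUFD⟩ := hufd x hx
  have hIp : I.ideal U ≤ (hU.primeIdealOf ⟨x, hxU⟩).asIdeal :=
    (mem_support_iff_ideal_le_primeIdealOf I U x hxU).1 hx
  have hdisj : Disjoint ((hU.primeIdealOf ⟨x, hxU⟩).asIdeal.primeCompl : Set Γ(X, U.1))
      (I.ideal U : Set Γ(X, U.1)) := by
    rw [Set.disjoint_left]
    intro a ha haI
    exact ha (hIp haI)
  have hPprime : ((I.ideal U).map (algebraMap Γ(X, U.1) (X.presheaf.stalk x))).IsPrime :=
    IsLocalization.isPrime_of_isPrime_disjoint _ _ _ hIprime hdisj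
  have hPheight : ((I.ideal U).map (algebraMap Γ(X, U.1) (X.presheaf.stalk x))).height = 1 := by
    rw [IsLocalization.height_map_of_disjoint _ _ hdisj, hheight]
  have hprin := UniqueFactorizationMonoid.isPrincipal_of_height_eq_one hPheight
  obtain ⟨g, hg⟩ := hprin
  refine ⟨g, ?_, hg⟩
  apply mem_nonZeroDivisors_of_ne_zero
  rintro rfl
  have hne := Ideal.ne_bot_of_height_eq_one hPheight
  apply hne
  rw [hg]
  simp

end Groth.Agent.Lib.Helper82
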