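import Mathlib

/-!
# Comparing sheaves of modules with their underlying abelian sheaves
-/

set_option autoImplicit false
set_option linter.style.haveILetI false
open CategoryTheory CategoryTheory.Limits Opposite

namespace Groth.Agent.Lib.Helper82.ModCmp

universe u

variable {C : Type (u + 1)} [Category.{u} C] (J : GrothendieckTopology C)
  (Λ : Type (u + 1)) [CommRing Λ]

/-- the forgetful functor -/
noncomputable abbrev GG : ModuleCat.{u + 1} Λ ⥤ AddCommGrpCat.{u + 1} := forget₂ _ _

instance presSh : J.PreservesSheafification (GG Λ) :=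
  GrothendieckTopology.instPreservesSheafification J (GG Λ)

/-- the underlying abelian sheaf -/
noncomputable abbrev UU : Sheaf J (ModuleCat.{u + 1} Λ) ⥤ Sheaf J AddCommGrpCat.{u + 1} :=
  sheafCompose J (GG Λ)

instance : PreservesFiniteLimits (UU J Λ) := by
  have h : PreservesFiniteLimits (UU J Λ ⋙ sheafToPresheaf J AddCommGrpCat.{u + 1}) := by
    have : PreservesFiniteLimits (sheafToPresheaf J (ModuleCat.{u + 1} Λ) ⋙
        (Functor.whiskeringRight _ _ _).obj (GG Λ)) := comp_preservesFiniteLimits _ _
    exact this
  exact preservesFiniteLimits_of_reflects_of_preserves (UU J Λ)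
    (sheafToPresheaf J AddCommGrpCat.{u + 1})

instance : (UU J Λ).PreservesZeroMorphisms :=
  Functor.preservesZeroMorphisms_of_preserves_terminal_object

instance : (UU J Λ).Additive := Functor.additive_of_preserves_binary_products _

variable {J Λ}

theorem epi_map_iff {F G : Sheaf J (ModuleCat.{u + 1} Λ)} (φ : F ⟶ G) :
    Epi ((UU J Λ).map φ) ↔ Epi φ := by
  rw [← Sheaf.isLocallySurjective_iff_epi', ← Sheaf.isLocallySurjective_iff_epi']
  unfold Sheaf.IsLocallySurjective
  rw [Presheaf.isLocallySurjective_iff_whisker_forget,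
    Presheaf.isLocallySurjective_iff_whisker_forget J φ.hom]
  rfl

theorem shortExact_map {T : ShortComplex (Sheaf J (ModuleCat.{u + 1} Λ))} (hT : T.ShortExact) :
    (T.map (UU J Λ)).ShortExact := by
  have := hT.mono_f
  have := hT.epi_g
  have h1 : (T.map (UU J Λ)).Exact :=
    hT.exact.map_of_mono_of_preservesKernel (UU J Λ) inferInstance inferInstance
  have h2 : Mono (T.map (UU J Λ)).f := inferInstanceAs (Mono ((UU J Λ).map T.f))
  have h3 : Epi (T.map (UU J Λ)).g := (epi_map_iff T.g).2 inferInstance
  exact ShortComplex.ShortExact.mk' h1 h2 h3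

end Groth.Agent.Lib.Helper82.ModCmp
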