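import Groth.Agent.Lib.Helper82.PEFinal
import Groth.Agent.Lib.Helper82.ModCmp
import Groth.Agent.Lib.Helper19.LanFlat
import Groth.Prelude.Def_EtModW
import Groth.Agent.Lib.Helper68.LerayAcyclic

/-!
# `ε⁻¹` on sheaves of modules, compared with abelian sheaves
-/

set_option autoImplicit false
set_option linter.style.haveILetI false
open CategoryTheory CategoryTheory.Limits AlgebraicGeometry Opposite
universe u
open ProEtS

namespace Groth.Agent.Lib.Helper82.EpsMod

open ModCmp

variable (X : Scheme.{u}) [EpsCont X] (Λ : Type (u + 1)) [CommRing Λ]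

/-- pushforward on module sheaves -/
noncomputable abbrev pushM : EtModW.ModP Λ X ⥤ EtModW.Mod Λ X :=
  (eps X).sheafPushforwardContinuous (ModuleCat.{u + 1} Λ) X.smallEtaleTopology
    (Scheme.ProEt.topology X)

/-- the adjunction on module sheaves -/
noncomputable abbrev adjM : EtModW.epsPullMod Λ X ⊣ pushM X Λ :=
  (eps X).sheafAdjunctionContinuous (ModuleCat.{u + 1} Λ) X.smallEtaleTopology
    (Scheme.ProEt.topology X)

/-- the constructed pullback -/
noncomputable abbrev pullM₂ : EtModW.Mod Λ X ⥤ EtModW.ModP Λ X :=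
  Functor.sheafPullbackConstruction.sheafPullback (eps X) (ModuleCat.{u + 1} Λ)
    X.smallEtaleTopology (Scheme.ProEt.topology X)

/-- the constructed adjunction -/
noncomputable abbrev adjM₂ : pullM₂ X Λ ⊣ pushM X Λ :=
  Functor.sheafPullbackConstruction.sheafAdjunctionContinuous (eps X) (ModuleCat.{u + 1} Λ)
    X.smallEtaleTopology (Scheme.ProEt.topology X)

variable {X Λ} in
theorem unit_hom (F : EtModW.Mod Λ X) :
    ((adjM₂ X Λ).unit.app F).hom = (eps X).op.lanUnit.app F.obj ≫
      Functor.whiskerLeft (eps X).op (toSheafify (Scheme.ProEt.topology X)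
        ((eps X).op.lan.obj F.obj)) := by
  have h := Adjunction.map_restrictFullyFaithful_unit_app
    (L := pullM₂ X Λ) (R := pushM X Λ)
    (((eps X).op.lanAdjunction (ModuleCat.{u + 1} Λ)).comp
      (sheafificationAdjunction (Scheme.ProEt.topology X) (ModuleCat.{u + 1} Λ)))
    (fullyFaithfulSheafToPresheaf X.smallEtaleTopology (ModuleCat.{u + 1} Λ))
    (Functor.FullyFaithful.id _) (Iso.refl _) (Iso.refl _) F
  refine h.trans ?_
  simp
  rfl


variable {X Λ} (M : EtModW.Mod Λ X)

/-- the module valued Kan extension -/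
noncomputable abbrev Pm : X.ProEtᵒᵖ ⥤ ModuleCat.{u + 1} Λ := (eps X).op.lan.obj M.obj

/-- the group valued Kan extension -/
noncomputable abbrev Qm : X.ProEtᵒᵖ ⥤ AddCommGrpCat.{u + 1} :=
  (eps X).op.lan.obj (M.obj ⋙ GG Λ)

/-- Kan extension commutes with forgetting the module structure -/
noncomputable def ι₁ : Pm M ⋙ GG Λ ≅ Qm M :=
  (GG Λ).leftKanExtensionCompIsoOfPreserves M.obj (eps X).op

/-- sheafification commutes with forgetting the module structure -/
noncomputable def ι₂ : sheafify (Scheme.ProEt.topology X) (Pm M ⋙ GG Λ) ≅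
    sheafify (Scheme.ProEt.topology X) (Pm M) ⋙ GG Λ :=
  sheafifyComposeIso (Scheme.ProEt.topology X) (GG Λ) (Pm M)

/-- the comparison on the level of presheaves -/
noncomputable def γp : sheafify (Scheme.ProEt.topology X) (Qm M) ≅
    sheafify (Scheme.ProEt.topology X) (Pm M) ⋙ GG Λ :=
  (presheafToSheaf (Scheme.ProEt.topology X) AddCommGrpCat.{u + 1} ⋙
    sheafToPresheaf _ _).mapIso (ι₁ M).symm ≪≫ ι₂ M

omit [EpsCont X] in
theorem fac (V : X.Etaleᵒᵖ) :
    ((eps X).op.lanUnit.app (M.obj ⋙ GG Λ)).app V ≫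
      (toSheafify (Scheme.ProEt.topology X) (Qm M)).app ((eps X).op.obj V) ≫
        (γp M).hom.app ((eps X).op.obj V) =
    (GG Λ).map (((eps X).op.lanUnit.app M.obj).app V ≫
      (toSheafify (Scheme.ProEt.topology X) (Pm M)).app ((eps X).op.obj V)) := by
  have h1 : toSheafify (Scheme.ProEt.topology X) (Qm M) ≫ (γp M).hom =
      (ι₁ M).inv ≫ Functor.whiskerRight (toSheafify (Scheme.ProEt.topology X) (Pm M)) (GG Λ) := by
    unfold γp
    have := toSheafify_naturality (Scheme.ProEt.topology X) (ι₁ M).inv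
    rw [Iso.trans_hom, ← Category.assoc]
    have e1 : toSheafify (Scheme.ProEt.topology X) (Qm M) ≫
        ((presheafToSheaf (Scheme.ProEt.topology X) AddCommGrpCat.{u + 1} ⋙
          sheafToPresheaf _ _).mapIso (ι₁ M).symm).hom =
        (ι₁ M).inv ≫ toSheafify (Scheme.ProEt.topology X) (Pm M ⋙ GG Λ) := this.symm
    rw [e1, Category.assoc]
    congr 1
    exact sheafComposeIso_hom_fac (Scheme.ProEt.topology X) (GG Λ) (Pm M)
  have h2 := (GG Λ).leftKanExtensionCompIsoOfPreserves_inv_fac_app M.obj (eps X).op V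
  have h1' := congrArg (fun t => t.app ((eps X).op.obj V)) h1
  simp only [NatTrans.comp_app] at h1'
  rw [h1', ← Category.assoc]
  erw [h2]
  rw [Functor.map_comp]
  rfl


/-- the comparison of the two pullbacks -/
noncomputable def γ :
    (Functor.sheafPullbackConstruction.sheafPullback (eps X) AddCommGrpCat.{u + 1}
      X.smallEtaleTopology (Scheme.ProEt.topology X)).obj ((UU X.smallEtaleTopology Λ).obj M) ≅
    (UU (Scheme.ProEt.topology X) Λ).obj ((pullM₂ X Λ).obj M) :=
  (fullyFaithfulSheafToPresheaf (Scheme.ProEt.topology X) AddCommGrpCat.{u + 1}).preimageIso (γp M)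

theorem unit_compat :
    (UU X.smallEtaleTopology Λ).map ((adjM₂ X Λ).unit.app M) =
      (EpsUnit.adj₂ X).unit.app ((UU X.smallEtaleTopology Λ).obj M) ≫
        (epsPush X).map (γ M).hom := by
  apply Sheaf.hom_ext
  apply NatTrans.ext
  funext V
  have h1 := congrArg (fun t => t.app V) (unit_hom M)
  have h2 := congrArg (fun t => t.app V) (EpsUnit.unit_hom X ((UU X.smallEtaleTopology Λ).obj M))
  simp only [NatTrans.comp_app] at h1 h2
  have h3 := fac M V
  change (GG Λ).map (((adjM₂ X Λ).unit.app M).hom.app V) =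
    ((EpsUnit.adj₂ X).unit.app ((UU X.smallEtaleTopology Λ).obj M)).hom.app V ≫
      (γp M).hom.app ((eps X).op.obj V)
  refine (congrArg (fun t => (GG Λ).map t) h1).trans ?_
  refine Eq.trans ?_ (congrArg (fun t => t ≫ (γp M).hom.app ((eps X).op.obj V)) h2.symm)
  refine h3.symm.trans ?_
  exact (Category.assoc _ _ _).symm


theorem isIso_unit₂_ab (N : EtCoh.Ab X) : IsIso ((EpsUnit.adj₂ X).unit.app N) := by
  apply EpsUnit.isIso_unit₂
  intro U hU
  haveI := hU
  obtain ⟨d⟩ := EpsGeo.nonempty_pres U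
  exact EpsMain.bijective_α N d

theorem isIso_unit₂ : IsIso ((adjM₂ X Λ).unit.app M) := by
  have h : IsIso ((UU X.smallEtaleTopology Λ).map ((adjM₂ X Λ).unit.app M)) := by
    rw [unit_compat]
    have h1 := isIso_unit₂_ab ((UU X.smallEtaleTopology Λ).obj M)
    have h2 : IsIso ((epsPush X).map (γ M).hom) := inferInstance
    exact @IsIso.comp_isIso _ _ _ _ _ _ _ h1 h2
  exact isIso_of_reflects_iso _ (UU X.smallEtaleTopology Λ)

theorem isIso_unit : IsIso ((adjM X Λ).unit.app M) := by
  haveI := isIso_unit₂ M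
  have h1 := Adjunction.unit_leftAdjointUniq_hom_app (adjM X Λ) (adjM₂ X Λ) M
  have h2 : (adjM X Λ).unit.app M = (adjM₂ X Λ).unit.app M ≫
      inv ((pushM X Λ).map (((adjM X Λ).leftAdjointUniq (adjM₂ X Λ)).hom.app M)) := by
    rw [← h1, Category.assoc, IsIso.hom_inv_id, Category.comp_id]
  rw [h2]
  infer_instance

variable (X Λ)

instance : IsIso (adjM X Λ).unit := by
  haveI := fun M : EtModW.Mod Λ X => isIso_unit M
  exact NatIso.isIso_of_isIso_app _

instance preservesFiniteLimits_epsPullMod : PreservesFiniteLimits (EtModW.epsPullMod Λ X) := by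
  haveI : PreservesFiniteLimits ((eps X).op.lan :
      (X.Etaleᵒᵖ ⥤ ModuleCat.{u + 1} Λ) ⥤ (X.ProEtᵒᵖ ⥤ ModuleCat.{u + 1} Λ)) :=
    Groth.Agent.Lib.Helper19.LanFlat.lan_preservesFiniteLimits_of_flat (ModuleCat.{u + 1} Λ) (eps X)
      (fun K J _ _ => by
        haveI : IsFiltered (CostructuredArrow (eps X).op K) :=
          IsFiltered.of_equivalence (structuredArrowOpEquivalence (eps X) (Opposite.unop K))
        haveI : PreservesFilteredColimitsOfSize.{u, u + 1} (forget (ModuleCat.{u + 1} Λ)) :=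
          preservesFilteredColimitsOfSize_shrink.{u + 1, u + 1, u, u + 1} _
        exact filtered_colim_preservesFiniteLimits)
  exact Functor.sheafPullbackConstruction.preservesFiniteLimits (eps X) (ModuleCat.{u + 1} Λ)
    X.smallEtaleTopology (Scheme.ProEt.topology X)

instance : PreservesFiniteColimits (EtModW.epsPullMod Λ X) :=
  have : PreservesColimitsOfSize.{0, 0} (EtModW.epsPullMod Λ X) :=
    (adjM X Λ).leftAdjoint_preservesColimits
  PreservesColimitsOfSize.preservesFiniteColimits _

instance : (pushM X Λ).Additive := by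
  have : PreservesLimitsOfSize.{0, 0} (pushM X Λ) := (adjM X Λ).rightAdjoint_preservesLimits
  have : PreservesFiniteLimits (pushM X Λ) := PreservesLimitsOfSize.preservesFiniteLimits _
  have : (pushM X Λ).PreservesZeroMorphisms :=
    Functor.preservesZeroMorphisms_of_preserves_terminal_object
  exact Functor.additive_of_preserves_binary_products _

instance : (EtModW.epsPullMod Λ X).Additive := (adjM X Λ).left_adjoint_additive


variable {X Λ}

/-- the underlying abelian sheaf of a pullback is a pullback -/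
noncomputable def underlyingIso (A : EtModW.Mod Λ X) :
    (UU (Scheme.ProEt.topology X) Λ).obj ((EtModW.epsPullMod Λ X).obj A) ≅
      (epsPull X).obj ((UU X.smallEtaleTopology Λ).obj A) :=
  (UU (Scheme.ProEt.topology X) Λ).mapIso (((adjM X Λ).leftAdjointUniq (adjM₂ X Λ)).app A) ≪≫
    (γ A).symm ≪≫
      ((epsAdj X).leftAdjointUniq (EpsUnit.adj₂ X)).symm.app ((UU X.smallEtaleTopology Λ).obj A)

theorem epi_pushM_map {T : ShortComplex (EtModW.ModP Λ X)} (hT : T.ShortExact)
    (A : EtModW.Mod Λ X) (e : (EtModW.epsPullMod Λ X).obj A ≅ T.X₁) :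
    Epi ((pushM X Λ).map T.g) := by
  have hUT := ModCmp.shortExact_map hT
  have hz : IsZero ((RepsPush X 1).obj (T.map (UU (Scheme.ProEt.topology X) Λ)).X₁) := by
    refine IsZero.of_iso (PEFinal.isZero_RepsPush_epsPull X ((UU X.smallEtaleTopology Λ).obj A) 0)
      ((RepsPush X 1).mapIso ?_)
    exact (UU (Scheme.ProEt.topology X) Λ).mapIso e.symm ≪≫ underlyingIso A
  have : PreservesLimitsOfSize.{0, 0} (epsPush X) := (epsAdj X).rightAdjoint_preservesLimits
  have : PreservesFiniteLimits (epsPush X) := PreservesLimitsOfSize.preservesFiniteLimits _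
  have h := Groth.Agent.Lib.Helper68.LerayAcyclic.epi_map_g (epsPush X) hUT hz
  have h' : Epi ((UU X.smallEtaleTopology Λ).map ((pushM X Λ).map T.g)) := h
  exact (ModCmp.epi_map_iff _).1 h'

end Groth.Agent.Lib.Helper82.EpsMod
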