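import Groth.Agent.Lib.Helper82.WLocalTop

set_option autoImplicit false
open Topology Set
universe u

namespace Groth.Agent.Lib.Helper82.Pi0Homeo

variable {X Y : Type*} [TopologicalSpace X] [TopologicalSpace Y]

theorem exists_isClopen_of_connectedComponent_ne [CompactSpace X] [QuasiSeparatedSpace X]
    [PrespectralSpace X] {x x' : X} (h : x' ∉ connectedComponent x) :
    ∃ Z : Set X, IsClopen Z ∧ x ∈ Z ∧ x' ∉ Z := by
  rw [connectedComponent_eq_sInter_isClopen x] at h
  simp only [Set.mem_sInter, Set.mem_ofPred_eq, not_forall] at h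
  obtain ⟨U, ⟨hU, haU⟩, hbU⟩ := h
  exact ⟨U, hU, haU, hbU⟩

theorem isHomeomorph_connectedComponentsMap [CompactSpace X] [QuasiSeparatedSpace X]
    [PrespectralSpace X] [CompactSpace Y] [QuasiSeparatedSpace Y] [PrespectralSpace Y]
    {g : X → Y} (hg : Continuous g)
    (hinj : ∀ W W' : Set Y, IsClopen W → IsClopen W' → g ⁻¹' W = g ⁻¹' W' → W = W')
    (hsurj : ∀ Z : Set X, IsClopen Z → ∃ W : Set Y, IsClopen W ∧ g ⁻¹' W = Z) :
    IsHomeomorph hg.connectedComponentsMap := by
  haveI : T2Space (ConnectedComponents X) := t2Space_connectedComponents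
  haveI : T2Space (ConnectedComponents Y) := t2Space_connectedComponents
  rw [isHomeomorph_iff_continuous_bijective]
  refine ⟨hg.connectedComponentsMap_continuous, ?_, ?_⟩
  · intro c c' hcc
    obtain ⟨x, rfl⟩ := ConnectedComponents.surjective_coe c
    obtain ⟨x', rfl⟩ := ConnectedComponents.surjective_coe c'
    by_contra hne
    rw [ConnectedComponents.coe_eq_coe'] at hne
    have hne' : x' ∉ connectedComponent x := fun h => hne (connectedComponent_eq h ▸ mem_connectedComponent)
    obtain ⟨Z, hZ, hxZ, hx'Z⟩ := exists_isClopen_of_connectedComponent_ne hne'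
    obtain ⟨W, hW, rfl⟩ := hsurj Z hZ
    have h1 : (g x : ConnectedComponents Y) = g x' := hcc
    rw [ConnectedComponents.coe_eq_coe'] at h1
    have h2 : connectedComponent (g x) ⊆ W := hW.connectedComponent_subset hxZ
    rw [← connectedComponent_eq h1] at h2
    exact hx'Z (h2 mem_connectedComponent)
  · intro d
    obtain ⟨y, rfl⟩ := ConnectedComponents.surjective_coe d
    by_contra hno
    push_neg at hno
    have hempty : g ⁻¹' (connectedComponent y) = ∅ := by
      ext x
      simp only [mem_preimage, mem_empty_iff_false, iff_false]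
      intro hx
      apply hno (x : ConnectedComponents X)
      change ((g x : Y) : ConnectedComponents Y) = y
      rw [ConnectedComponents.coe_eq_coe']
      exact hx
    rw [connectedComponent_eq_sInter_isClopen y, sInter_eq_iInter, preimage_iInter] at hempty
    have hcl : ∀ i : {Z : Set Y | IsClopen Z ∧ y ∈ Z}, IsClosed (g ⁻¹' (i : Set Y)) :=
      fun i => i.2.1.isClosed.preimage hg
    obtain ⟨u, hu⟩ := isCompact_univ.elim_finite_subfamily_closed _ hcl
      (by rw [univ_inter]; exact hempty)
    rw [univ_inter] at hu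
    have hW0 : IsClopen (⋂ i ∈ u, (i : Set Y)) :=
      isClopen_biInter_finset fun i _ => i.2.1
    have hy0 : y ∈ ⋂ i ∈ u, (i : Set Y) := by
      simp only [mem_iInter]
      exact fun i _ => i.2.2
    have h3 : g ⁻¹' (⋂ i ∈ u, (i : Set Y)) = g ⁻¹' (∅ : Set Y) := by
      rw [preimage_empty, ← hu]
      simp only [preimage_iInter]
    have h4 := hinj _ _ hW0 isClopen_empty h3
    rw [h4] at hy0
    exact hy0

end Groth.Agent.Lib.Helper82.Pi0Homeo
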