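import Mathlib
import Groth.Prelude.Def_FEt
import Groth.Agent.Lib.Helper82.Pi0Homeo

set_option autoImplicit false
open CategoryTheory CategoryTheory.Limits AlgebraicGeometry Opposite
universe u

namespace Groth.Agent.Lib.Helper82.Pi0FEt

variable {X Y : Scheme.{u}}

theorem isFinite_ι_of_isClosed (W : Y.Opens) (hW : IsClosed (W : Set Y)) : IsFinite W.ι := by
  haveI : IsClosedImmersion W.ι :=
    IsClosedImmersion.of_isPreimmersion W.ι (by rw [Scheme.Opens.range_ι]; exact hW)
  infer_instance

/-- a clopen subset as a finite etale cover -/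
noncomputable def ofClopen (W : Y.Opens) (hW : IsClosed (W : Set Y)) : FEt.Cat Y :=
  MorphismProperty.Over.mk ⊤ W.ι ⟨isFinite_ι_of_isClosed W hW, inferInstance⟩

theorem range_hom_ofClopen (W : Y.Opens) (hW : IsClosed (W : Set Y)) :
    Set.range (ofClopen W hW).hom.base = (W : Set Y) :=
  Scheme.Opens.range_ι W

/-- isomorphic covers have the same image -/
theorem range_hom_eq_of_iso {T T' : FEt.Cat Y} (e : T ≅ T') :
    Set.range T.hom.base = Set.range T'.hom.base := by
  apply Set.Subset.antisymm
  · rintro _ ⟨t, rfl⟩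
    refine ⟨e.hom.left.base t, ?_⟩
    have := MorphismProperty.Over.w e.hom
    rw [← this]
    rfl
  · rintro _ ⟨t, rfl⟩
    refine ⟨e.inv.left.base t, ?_⟩
    have := MorphismProperty.Over.w e.inv
    rw [← this]
    rfl

theorem range_restrict (f : X ⟶ Y) (T : FEt.Cat Y) :
    Set.range ((FEt.restrict f).obj T).hom.base = f.base ⁻¹' (Set.range T.hom.base) := by
  change Set.range (pullback.snd T.hom f).base = _
  exact Scheme.Pullback.range_snd T.hom f

theorem isClopen_range_hom (T : FEt.Cat Y) : IsClopen (Set.range T.hom.base) := by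
  haveI : IsFinite T.hom := T.prop.1
  haveI : Etale T.hom := T.prop.2
  constructor
  · exact T.hom.isClosedMap.isClosed_range
  · exact T.hom.isOpenMap.isOpen_range

end Groth.Agent.Lib.Helper82.Pi0FEt
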