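import Mathlib
import Groth.Agent.S1968
import Groth.Agent.S1969
import Groth.Agent.Lib.Helper69.WEtFlat

open Polynomial TensorProduct

namespace Groth.Agent.Lib.Helper82.IntClosedWE

universe u

theorem dvd_of_scaleRoots_eval_eq_zero {L : Type*} [CommRing L] [IsDomain L] [IsIntegrallyClosed L]
    (P : L[X]) (hP : P.Monic) (y d : L) (h : (P.scaleRoots d).eval y = 0) : d ∣ y := by
  by_cases hd : d = 0
  · subst hd
    rw [Polynomial.scaleRoots_zero, hP.leadingCoeff, one_smul, eval_pow, eval_X] at h
    have : y = 0 := eq_zero_of_pow_eq_zero h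
    simp [this]
  · let F := FractionRing L
    have hd' : algebraMap L F d ≠ 0 := by
      simpa using hd
    have hint : IsIntegral L (algebraMap L F y / algebraMap L F d) := by
      refine ⟨P, hP, ?_⟩
      have h1 := Polynomial.scaleRoots_eval₂_mul (p := P) (algebraMap L F)
        (algebraMap L F y / algebraMap L F d) d
      rw [mul_div_cancel₀ _ hd', Polynomial.eval₂_at_apply, h, map_zero] at h1
      exact (mul_eq_zero.mp h1.symm).resolve_left (pow_ne_zero _ hd')
    obtain ⟨c, hc⟩ := IsIntegrallyClosed.isIntegral_iff.mp hint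
    refine ⟨c, ?_⟩
    apply IsFractionRing.injective L F
    rw [map_mul, hc, mul_div_cancel₀ _ hd']

theorem mem_span_of_scaleRoots_eval_eq_zero {R : Type u} [CommRing R]
    (hR : ∀ (p : Ideal R) [p.IsPrime], ∃ _ : IsDomain (Localization.AtPrime p),
      ValuationRing (Localization.AtPrime p))
    (P : R[X]) (hP : P.Monic) (y d : R) (h : (P.scaleRoots d).eval y = 0) :
    y ∈ Ideal.span {d} := by
  refine Ideal.mem_of_localization_maximal fun q hq => ?_
  obtain ⟨hdom, hval⟩ := hR q
  have := dvd_of_scaleRoots_eval_eq_zero (P.map (algebraMap R (Localization.AtPrime q)))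
    (hP.map _) (algebraMap R _ y) (algebraMap R _ d) ?_
  · rw [Ideal.map_span, Set.image_singleton, Ideal.mem_span_singleton]; exact this
  · rw [← Polynomial.map_scaleRoots _ _ _ (by rw [hP.leadingCoeff, map_one]; exact one_ne_zero),
      eval_map, Polynomial.eval₂_at_apply, h, map_zero]

end Groth.Agent.Lib.Helper82.IntClosedWE

namespace Groth.Agent.Lib.Helper82.IntClosedWE

universe u

section family
variable (A : Type u) [CommRing A] [IsDomain A] [IsIntegrallyClosed A] (K : Type u) [Field K]
  [Algebra A K] [IsFractionRing A K]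

abbrev VJ := {V : ValuationSubring K // (algebraMap A K).range ≤ V.toSubring}

abbrev VProd := ∀ V : VJ A K, V.1

noncomputable def toVProd : A →+* VProd A K :=
  RingHom.pi fun V => (algebraMap A K).codRestrict V.1.toSubring (fun a => V.2 ⟨a, rfl⟩)

lemma toVProd_apply (a : A) (V : VJ A K) : ((toVProd A K a) V : K) = algebraMap A K a := rfl

include A in
lemma mem_range_of_forall_mem (x : K) (h : ∀ V : VJ A K, x ∈ V.1) : x ∈ (algebraMap A K).range := by
  by_contra hx
  haveI : IsIntegrallyClosedIn (algebraMap A K).range K := by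
    rw [Subring.isIntegrallyClosedIn_iff]
    intro x hx
    obtain ⟨p, hp, hpx⟩ := hx
    obtain ⟨q, hq, -, hqm⟩ := Polynomial.lifts_and_natDegree_eq_and_monic
      (f := (algebraMap A K).rangeRestrict) (p := p)
      ((Polynomial.mem_lifts p).mpr (Polynomial.map_surjective _
        (algebraMap A K).rangeRestrict_surjective p)) hp
    have hint : IsIntegral A x := by
      refine ⟨q, hqm, ?_⟩
      rw [← hq, Polynomial.eval₂_map] at hpx
      exact hpx
    obtain ⟨a, ha⟩ := (isIntegrallyClosed_iff K).mp ‹_› hint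
    exact ⟨a, ha⟩
  obtain ⟨V, hV, hxV⟩ := Subring.exists_le_valuationSubring_of_isIntegrallyClosedIn hx
  exact hxV (h ⟨V, hV⟩)

lemma dvd_of_toVProd_dvd (a d : A) (hd : d ≠ 0) (h : toVProd A K d ∣ toVProd A K a) : d ∣ a := by
  obtain ⟨c, hc⟩ := h
  have hd' : algebraMap A K d ≠ 0 := by simpa using hd
  have hx : algebraMap A K a / algebraMap A K d ∈ (algebraMap A K).range := by
    apply mem_range_of_forall_mem A K
    intro V
    have := congrArg (fun f => ((f V : V.1) : K)) hc
    simp only [Pi.mul_apply] at this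
    rw [show ((toVProd A K a V : V.1) : K) = algebraMap A K a from rfl] at this
    rw [this]
    push_cast
    rw [show ((toVProd A K d V : V.1) : K) = algebraMap A K d from rfl, mul_div_cancel_left₀ _ hd']
    exact (c V).2
  obtain ⟨a0, ha0⟩ := hx
  refine ⟨a0, ?_⟩
  apply IsFractionRing.injective A K
  rw [map_mul, ha0, mul_div_cancel₀ _ hd']

end family

end Groth.Agent.Lib.Helper82.IntClosedWE

namespace Groth.Agent.Lib.Helper82.IntClosedWE

universe u

section main
variable (A : Type u) [CommRing A] [IsDomain A] [IsIntegrallyClosed A] (K : Type u) [Field K]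
  [Algebra A K] [IsFractionRing A K] (B : Type u) [CommRing B] [Algebra A B]
  [Algebra.WeaklyEtale A B]

/-- all local rings of `VProd ⊗ B` are valuation domains -/
theorem local_valuation :
    letI : Algebra A (VProd A K) := (toVProd A K).toAlgebra
    ∀ (p : Ideal (VProd A K ⊗[A] B)) [p.IsPrime], ∃ _ : IsDomain (Localization.AtPrime p),
      ValuationRing (Localization.AtPrime p) := by
  letI : Algebra A (VProd A K) := (toVProd A K).toAlgebra
  have hflatA' : ∀ I : Ideal (VProd A K), Module.Flat (VProd A K) I :=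
    (Groth.Agent.S1968.result (fun V : VJ A K => V.1) (fun _ => K)).1
  have hsub := ((Groth.Agent.S1969.result (VProd A K)).out 0 2).mp hflatA'
  have hB' : ∀ I : Ideal (VProd A K ⊗[A] B), Module.Flat (VProd A K ⊗[A] B) I := by
    intro I
    have h1 : Module.Flat (VProd A K) (I.restrictScalars (VProd A K)) :=
      hsub (VProd A K ⊗[A] B) inferInstance _
    haveI h2 : Module.Flat (VProd A K) I :=
      Module.Flat.of_linearEquiv
        ((Submodule.restrictScalarsEquiv (VProd A K) _ _ I).restrictScalars (VProd A K)).symm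
    exact Groth.Agent.Lib.Helper69.WEtFlat.flat_of_weaklyEtale (A := VProd A K)
      (B := VProd A K ⊗[A] B) I
  exact ((Groth.Agent.S1969.result (VProd A K ⊗[A] B)).out 0 3).mp hB'


/-- descent of divisibility by `d` along `B → VProd ⊗ B` -/
theorem dvd_of_includeRight_dvd (d : A) (hd : d ≠ 0) (y : B) :
    letI : Algebra A (VProd A K) := (toVProd A K).toAlgebra
    ((1 : VProd A K) ⊗ₜ[A] y ∈ Ideal.span {(1 : VProd A K) ⊗ₜ[A] (algebraMap A B d)}) →
      algebraMap A B d ∣ y := by
  letI : Algebra A (VProd A K) := (toVProd A K).toAlgebra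
  intro h
  obtain ⟨w, hw⟩ := Ideal.mem_span_singleton'.mp h
  let I : Ideal (VProd A K) := Ideal.span {toVProd A K d}
  let π : VProd A K →ₗ[A] (VProd A K ⧸ I) := (Ideal.Quotient.mkₐ A I).toLinearMap
  let φ : A →ₗ[A] (VProd A K ⧸ I) := π ∘ₗ (Algebra.linearMap A (VProd A K))
  let md : A →ₗ[A] A := LinearMap.lsmul A A d
  have hex : Function.Exact md φ := by
    intro x
    constructor
    · intro hx
      have hx' : toVProd A K x ∈ I := Ideal.Quotient.eq_zero_iff_mem.mp hx
      obtain ⟨c, hc⟩ := dvd_of_toVProd_dvd A K x d hd (Ideal.mem_span_singleton.mp hx')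
      exact ⟨c, by simp [md, hc]⟩
    · rintro ⟨c, rfl⟩
      refine Ideal.Quotient.eq_zero_iff_mem.mpr ?_
      show toVProd A K (d • c) ∈ I
      rw [smul_eq_mul, map_mul]
      exact Ideal.mul_mem_right _ _ (Ideal.subset_span rfl)
  have hex' := Module.Flat.rTensor_exact B hex
  have hkill : ∀ t : (VProd A K ⧸ I) ⊗[A] B, d • t = 0 := by
    intro t
    induction t using TensorProduct.induction_on with
    | zero => simp
    | tmul m b =>
      obtain ⟨a', rfl⟩ := Ideal.Quotient.mk_surjective m
      rw [TensorProduct.smul_tmul']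
      have : d • (Ideal.Quotient.mk I a') = 0 := by
        have e1 : d • (Ideal.Quotient.mk I a') = Ideal.Quotient.mk I (d • a') :=
          (map_smul (Ideal.Quotient.mkₐ A I) d a').symm
        rw [e1, Ideal.Quotient.eq_zero_iff_mem, Algebra.smul_def]
        exact Ideal.mul_mem_right _ _ (Ideal.subset_span rfl)
      rw [this, TensorProduct.zero_tmul]
    | add x y hx hy => rw [smul_add, hx, hy, add_zero]
  have h0 : (φ.rTensor B) ((1 : A) ⊗ₜ[A] y) = 0 := by
    have h1 : (φ.rTensor B) ((1 : A) ⊗ₜ[A] y) = (π.rTensor B) ((1 : VProd A K) ⊗ₜ[A] y) := by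
      simp [φ]
    rw [h1, ← hw]
    have h2 : w * ((1 : VProd A K) ⊗ₜ[A] (algebraMap A B d)) = d • w := by
      rw [Algebra.algebraMap_eq_smul_one, ← TensorProduct.smul_tmul, ← TensorProduct.smul_tmul',
        ← Algebra.TensorProduct.one_def, mul_smul_comm, mul_one]
    rw [h2, map_smul, hkill]
  obtain ⟨t, ht⟩ := (hex' _).mp h0
  refine ⟨TensorProduct.lid A B t, ?_⟩
  have h3 : md.rTensor B = d • LinearMap.id := by
    ext b
    simp [md, TensorProduct.smul_tmul']
  rw [h3] at ht
  have := congrArg (TensorProduct.lid A B) ht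
  simp only [LinearMap.smul_apply, LinearMap.id_coe, id_eq, map_smul, TensorProduct.lid_tmul,
    one_smul] at this
  rw [← this, Algebra.smul_def]


theorem isIntegrallyClosedIn_tensor : IsIntegrallyClosedIn B (B ⊗[A] K) := by
  letI : Algebra A (VProd A K) := (toVProd A K).toAlgebra
  have hinj : Function.Injective (algebraMap B (B ⊗[A] K)) :=
    Algebra.TensorProduct.includeLeft_injective (S := B) (IsFractionRing.injective A K)
  rw [isIntegrallyClosedIn_iff]
  refine ⟨hinj, ?_⟩
  intro z hz
  obtain ⟨p, hp, hpz⟩ := hz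
  haveI : IsLocalization (Algebra.algebraMapSubmonoid B (nonZeroDivisors A)) (B ⊗[A] K) :=
    IsLocalization.tensor K (nonZeroDivisors A)
  obtain ⟨⟨y, ⟨s, hs⟩⟩, hys⟩ :=
    IsLocalization.surj (Algebra.algebraMapSubmonoid B (nonZeroDivisors A)) z
  obtain ⟨d, hd, rfl⟩ := hs
  have hd0 : d ≠ 0 := nonZeroDivisors.ne_zero hd
  simp only at hys
  -- relation in B
  have hrel : (p.scaleRoots (algebraMap A B d)).eval y = 0 := by
    apply hinj
    rw [map_zero, ← Polynomial.eval₂_at_apply, ← hys, mul_comm]
    exact Polynomial.scaleRoots_eval₂_eq_zero _ hpz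
  -- push to B'
  let g : B →+* VProd A K ⊗[A] B := Algebra.TensorProduct.includeRight.toRingHom
  have hmem : g y ∈ Ideal.span {g (algebraMap A B d)} := by
    by_cases htriv : Nontrivial (VProd A K ⊗[A] B)
    · refine mem_span_of_scaleRoots_eval_eq_zero (local_valuation A K B) (p.map g) (hp.map g) _ _ ?_
      rw [← Polynomial.map_scaleRoots _ _ _ (by rw [hp.leadingCoeff, map_one]; exact one_ne_zero),
        Polynomial.eval_map, Polynomial.eval₂_at_apply, hrel, map_zero]
    · rw [not_nontrivial_iff_subsingleton] at htriv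
      rw [Subsingleton.elim (g y) 0]
      exact zero_mem _
  obtain ⟨y0, hy0⟩ := dvd_of_includeRight_dvd A K B d hd0 y hmem
  refine ⟨y0, ?_⟩
  have hunit : IsUnit (algebraMap B (B ⊗[A] K) (algebraMap A B d)) :=
    IsLocalization.map_units (B ⊗[A] K)
      (⟨algebraMap A B d, ⟨d, hd, rfl⟩⟩ : Algebra.algebraMapSubmonoid B (nonZeroDivisors A))
  apply hunit.mul_left_injective
  simp only
  rw [hys, hy0, map_mul, mul_comm]

end main

end Groth.Agent.Lib.Helper82.IntClosedWE
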