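import Mathlib

set_option autoImplicit false

namespace Groth.Agent.Lib.Helper82.AdicAlg

variable {Λ : Type*} [CommRing Λ] {M : Type*} [AddCommGroup M] [Module Λ M]

/-- elements of `(span a) • N` are combinations `Σ a_k • w_k` with `w_k ∈ N` -/
theorem exists_sum_of_mem_span_smul {r : ℕ} (a : Fin r → Λ) (N : Submodule Λ M) (y : M)
    (hy : y ∈ (Ideal.span (Set.range a)) • N) :
    ∃ w : Fin r → M, (∀ k, w k ∈ N) ∧ y = ∑ k, a k • w k := by
  refine Submodule.smul_induction_on hy ?_ ?_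
  · intro c hc n hn
    obtain ⟨f, hf⟩ := (Submodule.mem_span_range_iff_exists_fun Λ).1 hc
    refine ⟨fun k => f k • n, fun k => N.smul_mem _ hn, ?_⟩
    rw [← hf, Finset.sum_smul]
    refine Finset.sum_congr rfl (fun k _ => ?_)
    rw [smul_smul, smul_eq_mul, mul_comm]
  · rintro x y ⟨w, hw, rfl⟩ ⟨w', hw', rfl⟩
    refine ⟨w + w', fun k => N.add_mem (hw k) (hw' k), ?_⟩
    simp [smul_add, Finset.sum_add_distrib]

theorem le_smul_top_of_complete (I : Ideal Λ) (K : ℕ → Submodule Λ M) (n : ℕ)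
    (hanti : Antitone K)
    (h1 : ∀ m, I ^ (m + 1) • (⊤ : Submodule Λ M) ≤ K m)
    (h2 : ∀ m, K m ≤ I ^ (m + 1) • (⊤ : Submodule Λ M) ⊔ K (m + 1))
    (h3 : ∀ x, (∀ m, x ∈ K m) → x = 0)
    (h4 : ∀ x : ℕ → M, (∀ t, x (t + 1) - x t ∈ K t) → ∃ y, ∀ t, y - x t ∈ K t)
    (hI : (I ^ (n + 1)).FG) :
    K n ≤ I ^ (n + 1) • (⊤ : Submodule Λ M) := by
  classical
  obtain ⟨r, a, ha⟩ := (Submodule.fg_iff_exists_fin_generating_family).1 hI
  have ha' : Ideal.span (Set.range a) = I ^ (n + 1) := ha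
  intro x hx
  let P : ℕ → (Fin r → M) → Prop := fun t z => x - ∑ k, a k • z k ∈ K (n + t)
  have step : ∀ t z, P t z →
      ∃ z' : Fin r → M, (∀ k, z' k - z k ∈ I ^ t • (⊤ : Submodule Λ M)) ∧ P (t + 1) z' := by
    intro t z hz
    obtain ⟨y, hy, x'', hx'', hsum⟩ := Submodule.mem_sup.1 (h2 (n + t) hz)
    have hpow : I ^ (n + t + 1) = Ideal.span (Set.range a) * I ^ t := by
      rw [ha', ← pow_add]
      congr 1
      omega
    rw [hpow, Submodule.mul_smul] at hy
    obtain ⟨w, hw, rfl⟩ := exists_sum_of_mem_span_smul a _ y hy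
    refine ⟨z + w, fun k => by simpa using hw k, ?_⟩
    show x - ∑ k, a k • (z + w) k ∈ K (n + (t + 1))
    have : x - ∑ k, a k • (z + w) k = x'' := by
      have e1 : ∑ k, a k • (z + w) k = ∑ k, a k • z k + ∑ k, a k • w k := by
        simp [smul_add, Finset.sum_add_distrib]
      rw [e1, ← sub_sub, ← hsum]
      abel
    rw [this]
    exact hx''
  let seq : (t : ℕ) → {z : Fin r → M // P t z} := fun t =>
    Nat.rec (motive := fun t => {z : Fin r → M // P t z})
      ⟨0, by simpa [P] using hx⟩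
      (fun t z => ⟨(step t z.1 z.2).choose, (step t z.1 z.2).choose_spec.2⟩) t
  have hseq : ∀ t k, (seq (t + 1)).1 k - (seq t).1 k ∈ I ^ t • (⊤ : Submodule Λ M) :=
    fun t k => (step t (seq t).1 (seq t).2).choose_spec.1 k
  have hex : ∀ k, ∃ y, ∀ t, y - (seq (t + 1)).1 k ∈ K t := by
    intro k
    apply h4
    intro t
    exact h1 t (hseq (t + 1) k)
  choose y hy using hex
  have hfin : x = ∑ k, a k • y k := by
    rw [← sub_eq_zero]
    apply h3
    intro t
    have e : x - ∑ k, a k • y k = (x - ∑ k, a k • (seq (t + 1)).1 k) -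
        ∑ k, a k • (y k - (seq (t + 1)).1 k) := by
      simp only [smul_sub, Finset.sum_sub_distrib]
      abel
    rw [e]
    refine (K t).sub_mem ?_ ?_
    · exact hanti (by omega : t ≤ n + (t + 1)) (seq (t + 1)).2
    · exact (K t).sum_mem (fun k _ => (K t).smul_mem _ (hy k t))
  rw [hfin]
  refine Submodule.sum_mem _ (fun k _ => Submodule.smul_mem_smul ?_ trivial)
  rw [← ha']
  exact Ideal.subset_span ⟨k, rfl⟩

end Groth.Agent.Lib.Helper82.AdicAlg
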