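import Groth.Agent.Lib.Helper82.AdicFF

set_option autoImplicit false
set_option linter.style.haveILetI false
open CategoryTheory CategoryTheory.Limits AlgebraicGeometry Opposite
universe u
open ProEtS

namespace Groth.Agent.Lib.Helper82.AdicChar

open EpsMod AdicLim AdicFF

section General

variable {A : Type*} [CommRing A] {C D : Type*} [Category C] [Category D] [Preadditive C]
  [Preadditive D] [Linear A C] [Linear A D]

theorem killedBy_of_iso (J : Ideal A) {Q Q' : C} (e : Q ≅ Q') (h : ARSys.KilledBy J Q) :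
    ARSys.KilledBy J Q' := by
  intro a ha
  have : a • 𝟙 Q' = e.inv ≫ (a • 𝟙 Q) ≫ e.hom := by
    rw [Linear.smul_comp, Linear.comp_smul, Category.id_comp, e.inv_hom_id]
  rw [this, h a ha, zero_comp, comp_zero]

theorem isQuot_iso_comp (J : Ideal A) {X' X Q : C} (e : X' ≅ X) {p : X ⟶ Q}
    (hp : ARSys.IsQuot J p) : ARSys.IsQuot J (e.hom ≫ p) := by
  refine ⟨hp.1, ?_⟩
  intro Y φ hφ
  have hk : ARSys.HomKilledBy J (e.inv ≫ φ) := by
    intro a ha
    rw [← Linear.comp_smul, hφ a ha, comp_zero]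
  obtain ⟨ψ, hψ, huniq⟩ := hp.2 Y (e.inv ≫ φ) hk
  refine ⟨ψ, ?_, ?_⟩
  · show (e.hom ≫ p) ≫ ψ = φ
    rw [Category.assoc, hψ, e.hom_inv_id_assoc]
  · intro ψ' hψ'
    apply huniq
    show p ≫ ψ' = e.inv ≫ φ
    rw [← hψ', Category.assoc, e.inv_hom_id_assoc]

theorem isQuot_comp_iso (J : Ideal A) {X Q Q' : C} (e : Q ≅ Q') {p : X ⟶ Q}
    (hp : ARSys.IsQuot J p) : ARSys.IsQuot J (p ≫ e.hom) := by
  refine ⟨killedBy_of_iso J e hp.1, ?_⟩
  intro Y φ hφ
  obtain ⟨ψ, hψ, huniq⟩ := hp.2 Y φ hφ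
  refine ⟨e.inv ≫ ψ, ?_, ?_⟩
  · show (p ≫ e.hom) ≫ e.inv ≫ ψ = φ
    rw [Category.assoc, e.hom_inv_id_assoc, hψ]
  · intro ψ' hψ'
    have := huniq (e.hom ≫ ψ') (by
      show p ≫ e.hom ≫ ψ' = φ
      rw [← hψ', Category.assoc])
    rw [← this, e.inv_hom_id_assoc]

theorem isQuot_of_epi_comp (J : Ideal A) {X Q Q' : C} (p : X ⟶ Q) [Epi p] (t : Q ⟶ Q')
    (h : ARSys.IsQuot J (p ≫ t)) : ARSys.IsQuot J t := by
  refine ⟨h.1, ?_⟩
  intro Y φ hφ
  have hk : ARSys.HomKilledBy J (p ≫ φ) := by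
    intro a ha
    rw [← Linear.comp_smul, hφ a ha, comp_zero]
  obtain ⟨ψ, hψ, huniq⟩ := h.2 Y (p ≫ φ) hk
  refine ⟨ψ, ?_, ?_⟩
  · show t ≫ ψ = φ
    rw [← cancel_epi p, ← Category.assoc, hψ]
  · intro ψ' hψ'
    apply huniq
    show (p ≫ t) ≫ ψ' = p ≫ φ
    rw [Category.assoc, hψ']

theorem killedBy_of_map {L : C ⥤ D} [L.Faithful]
    (hL : ∀ (a : A) {X Y : C} (f : X ⟶ Y), L.map (a • f) = a • L.map f)
    (J : Ideal A) {X : C} (h : ARSys.KilledBy J (L.obj X)) : ARSys.KilledBy J X := by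
  intro a ha
  apply L.map_injective
  rw [hL, L.map_id, h a ha]
  exact (map_zero_of_linear hL _ _).symm

theorem isQuot_of_map {L : C ⥤ D} [L.Faithful] [L.Full]
    (hL : ∀ (a : A) {X Y : C} (f : X ⟶ Y), L.map (a • f) = a • L.map f)
    (J : Ideal A) {X Q : C} {p : X ⟶ Q} (h : ARSys.IsQuot J (L.map p)) : ARSys.IsQuot J p := by
  refine ⟨killedBy_of_map hL J h.1, ?_⟩
  intro Y φ hφ
  obtain ⟨ψ, hψ, huniq⟩ := h.2 _ _ (homKilledBy_map hL J hφ)
  refine ⟨L.preimage ψ, ?_, ?_⟩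
  · apply L.map_injective
    show L.map (p ≫ L.preimage ψ) = L.map φ
    rw [L.map_comp, L.map_preimage, hψ]
  · intro ψ' hψ'
    apply L.map_injective
    rw [L.map_preimage]
    apply huniq
    show L.map p ≫ L.map ψ' = L.map φ
    rw [← L.map_comp, hψ']

end General

section Main

variable {Λ : Type (u + 1)} [CommRing Λ] (I : Ideal Λ) (hI : I.FG) (X : Scheme.{u}) [EpsCont X]
  (F : EtModW.ModP Λ X)

include hI in
theorem backward (G : ARSys.PS (EtModW.Mod Λ X)) (hG : ARSys.IsAdic I G)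
    (hc : ∀ n : ℕ, EtModW.IsConstructible Λ (G.obj (op n)))
    (e : limit (G ⋙ EtModW.epsPullMod Λ X) ≅ F) :
    ∃ (Q : ℕᵒᵖ ⥤ EtModW.ModP Λ X) (p : (Functor.const ℕᵒᵖ).obj F ⟶ Q),
        (∀ n : ℕ, ARSys.IsQuot (I ^ (n + 1)) (p.app (op n))) ∧
        (∀ n : ℕ, ∃ E : EtModW.Mod Λ X, EtModW.IsConstructible Λ E ∧
          Nonempty ((EtModW.epsPullMod Λ X).obj E ≅ Q.obj (op n))) ∧
        IsIso (limit.lift Q (Cone.mk F p)) := by
  let L := EtModW.epsPullMod Λ X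
  let p : (Functor.const ℕᵒᵖ).obj F ⟶ G ⋙ L :=
    { app := fun j => e.inv ≫ limit.π (G ⋙ L) j
      naturality := fun j j' g => by
        show 𝟙 F ≫ e.inv ≫ limit.π (G ⋙ L) j' = (e.inv ≫ limit.π (G ⋙ L) j) ≫ (G ⋙ L).map g
        rw [Category.id_comp, Category.assoc, limit.w] }
  refine ⟨G ⋙ L, p, ?_, ?_, ?_⟩
  · intro n
    exact isQuot_iso_comp _ e.symm (isQuot_limit_π_epsPullMod I hI X G hG n)
  · intro n
    exact ⟨G.obj (op n), hc n, ⟨Iso.refl _⟩⟩
  · have : limit.lift (G ⋙ L) (Cone.mk F p) = e.inv := by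
      apply limit.hom_ext
      intro j
      rw [limit.lift_π]
    rw [this]
    infer_instance

theorem forward (Q : ℕᵒᵖ ⥤ EtModW.ModP Λ X) (p : (Functor.const ℕᵒᵖ).obj F ⟶ Q)
    (hq : ∀ n : ℕ, ARSys.IsQuot (I ^ (n + 1)) (p.app (op n)))
    (hE : ∀ n : ℕ, ∃ E : EtModW.Mod Λ X, EtModW.IsConstructible Λ E ∧
          Nonempty ((EtModW.epsPullMod Λ X).obj E ≅ Q.obj (op n)))
    (hiso : IsIso (limit.lift Q (Cone.mk F p))) :
    ∃ G : ARSys.PS (EtModW.Mod Λ X), ARSys.IsAdic I G ∧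
        (∀ n : ℕ, EtModW.IsConstructible Λ (G.obj (op n))) ∧
        Nonempty (limit (G ⋙ EtModW.epsPullMod Λ X) ≅ F) := by
  let L := EtModW.epsPullMod Λ X
  have hL : ∀ (a : Λ) {A B : EtModW.Mod Λ X} (f : A ⟶ B), L.map (a • f) = a • L.map f :=
    fun a _ _ f => epsPullMod_smul X Λ a f
  choose E hEc hEi using hE
  let e : ∀ n : ℕ, L.obj (E n) ≅ Q.obj (op n) := fun n => (hEi n).some
  let G : ℕᵒᵖ ⥤ EtModW.Mod Λ X :=
    { obj := fun j => E j.unop
      map := fun {j j'} g => L.preimage ((e j.unop).hom ≫ Q.map g ≫ (e j'.unop).inv)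
      map_id := fun j => by
        apply L.map_injective
        rw [L.map_preimage, Q.map_id, Category.id_comp, Iso.hom_inv_id, L.map_id]
      map_comp := fun {j j' j''} g g' => by
        apply L.map_injective
        rw [L.map_comp, L.map_preimage, L.map_preimage, L.map_preimage, Q.map_comp]
        simp only [Category.assoc, Iso.inv_hom_id_assoc] }
  have hGmap : ∀ {j j' : ℕᵒᵖ} (g : j ⟶ j'),
      L.map (G.map g) = (e j.unop).hom ≫ Q.map g ≫ (e j'.unop).inv :=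
    fun g => L.map_preimage _
  let η : G ⋙ L ≅ Q := NatIso.ofComponents (fun j => e j.unop) (fun {j j'} g => by
    show L.map (G.map g) ≫ (e j'.unop).hom = (e j.unop).hom ≫ Q.map g
    rw [hGmap]
    simp only [Category.assoc, Iso.inv_hom_id, Category.comp_id])
  have hQmap : ∀ (n m : ℕ) (h : n ≤ m), ARSys.IsQuot (I ^ (n + 1)) (Q.map (homOfLE h).op) := by
    intro n m h
    haveI : Epi (p.app (op m)) := epi_of_isQuot _ (hq m)
    apply isQuot_of_epi_comp _ (p.app (op m))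
    have hn : p.app (op m) ≫ Q.map (homOfLE h).op = p.app (op n) := by
      have := p.naturality (homOfLE h).op
      rw [← this]
      exact Category.id_comp _
    rw [hn]
    exact hq n
  refine ⟨G, ⟨?_, ?_⟩, fun n => hEc n, ?_⟩
  · intro n
    apply killedBy_of_map (L := L) hL
    exact killedBy_of_iso _ (e n).symm (hq n).1
  · intro n m h
    apply isQuot_of_map (L := L) hL
    show ARSys.IsQuot (I ^ (n + 1)) (L.map (G.map (homOfLE h).op))
    rw [hGmap]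
    have h1 := isQuot_comp_iso _ (e n).symm (hQmap n m h)
    have h2 := isQuot_iso_comp _ (e m) h1
    refine Eq.mp ?_ h2
    congr 1
  · haveI := hiso
    exact ⟨HasLimit.isoOfNatIso η ≪≫ (asIso (limit.lift Q (Cone.mk F p))).symm⟩

end Main

end Groth.Agent.Lib.Helper82.AdicChar
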