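import Mathlib

set_option autoImplicit false
open CategoryTheory CategoryTheory.Limits Opposite

namespace Groth.Agent.Lib.Helper82.MLTower

universe w u₁
variable {Λ : Type u₁} [CommRing Λ]

/-- transition maps of a tower of modules -/
noncomputable abbrev tt (T : ℕᵒᵖ ⥤ ModuleCat.{w} Λ) {n m : ℕ} (h : n ≤ m) :
    T.obj (op m) →ₗ[Λ] T.obj (op n) := (T.map (homOfLE h).op).hom

theorem tt_tt (T : ℕᵒᵖ ⥤ ModuleCat.{w} Λ) {n m k : ℕ} (h : n ≤ m) (h' : m ≤ k)
    (x : T.obj (op k)) : tt T h (tt T h' x) = tt T (h.trans h') x := by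
  have : (homOfLE (h.trans h')).op = (homOfLE h').op ≫ (homOfLE h).op := rfl
  show _ = (T.map (homOfLE (h.trans h')).op).hom x
  rw [this, T.map_comp]
  rfl

theorem tt_nat {T T' : ℕᵒᵖ ⥤ ModuleCat.{w} Λ} (f : T ⟶ T') {n m : ℕ} (h : n ≤ m)
    (x : T.obj (op m)) : (f.app (op n)).hom (tt T h x) = tt T' h ((f.app (op m)).hom x) := by
  have := f.naturality (homOfLE h).op
  have h2 := congrArg (fun k => k.hom x) this
  exact h2

theorem tt_cone {T : ℕᵒᵖ ⥤ ModuleCat.{w} Λ} (c : Cone T) {n m : ℕ} (h : n ≤ m) (x : c.pt) :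
    tt T h ((c.π.app (op m)).hom x) = (c.π.app (op n)).hom x := by
  have := c.w (homOfLE h).op
  have h2 := congrArg (fun k => k.hom x) this
  exact h2

theorem tt_surj {T : ℕᵒᵖ ⥤ ModuleCat.{w} Λ}
    (hT : ∀ n, Function.Surjective (tt T (Nat.le_succ n))) {n m : ℕ} (h : n ≤ m) :
    Function.Surjective (tt T h) := by
  induction m, h using Nat.le_induction with
  | base =>
    intro x
    refine ⟨x, ?_⟩
    show (T.map (homOfLE (le_refl n)).op).hom x = x
    have : (homOfLE (le_refl n)).op = 𝟙 (op n) := rfl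
    rw [this, T.map_id]
    rfl
  | succ k hk ih =>
    intro x
    obtain ⟨y, hy⟩ := ih x
    obtain ⟨z, hz⟩ := hT k y
    refine ⟨z, ?_⟩
    rw [← hy, ← hz, tt_tt]

/-- a compatible sequence gives an element of the limit -/
theorem exists_of_compatible {T : ℕᵒᵖ ⥤ ModuleCat.{w} Λ} {c : Cone T} (hc : IsLimit c)
    (b : ∀ n, T.obj (op n)) (hb : ∀ n, tt T (Nat.le_succ n) (b (n + 1)) = b n) :
    ∃ x : c.pt, ∀ n, (c.π.app (op n)).hom x = b n := by
  have hle : ∀ n m (h : n ≤ m), tt T h (b m) = b n := by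
    intro n m h
    induction m, h using Nat.le_induction with
    | base =>
      show (T.map (homOfLE (le_refl n)).op).hom (b n) = b n
      have : (homOfLE (le_refl n)).op = 𝟙 (op n) := rfl
      rw [this, T.map_id]
      rfl
    | succ k hk ih =>
      rw [← ih, ← hb k, tt_tt]
  let s : (T ⋙ forget (ModuleCat.{w} Λ)).sections :=
    ⟨fun j => b j.unop, by
      intro j j' f
      obtain ⟨m'⟩ := j
      obtain ⟨m⟩ := j'
      have hmm : m ≤ m' := leOfHom f.unop
      exact hle m m' hmm⟩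
  refine ⟨(Types.isLimitEquivSections (isLimitOfPreserves (forget _) hc)).symm s, fun n => ?_⟩
  exact Types.isLimitEquivSections_symm_apply (isLimitOfPreserves (forget _) hc) s (op n)

theorem surj_of_ML {A B C Y : ℕᵒᵖ ⥤ ModuleCat.{w} Λ} (f : A ⟶ B) (g : B ⟶ C) (v : Y ⟶ A)
    (hfg : ∀ n (a : A.obj (op n)), (g.app (op n)).hom ((f.app (op n)).hom a) = 0)
    (ha : ∀ n, Function.Surjective (g.app (op n)).hom)
    (hb : ∀ n (b : B.obj (op n)), (g.app (op n)).hom b = 0 → ∃ a, (f.app (op n)).hom a = b)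
    (r : ℕ) (hML : ∀ n (a : A.obj (op (n + r))), ∃ y : Y.obj (op n),
      (v.app (op n)).hom y = tt A (Nat.le_add_right n r) a)
    (hY : ∀ n, Function.Surjective (tt Y (Nat.le_succ n)))
    {cB : Cone B} (hcB : IsLimit cB) {cC : Cone C} (hcC : IsLimit cC) (φ : cB.pt ⟶ cC.pt)
    (hφ : ∀ n, φ ≫ cC.π.app (op n) = cB.π.app (op n) ≫ g.app (op n)) :
    Function.Surjective φ.hom := by
  intro c
  let cn : ∀ n, C.obj (op n) := fun n => (cC.π.app (op n)).hom c
  have hcn : ∀ {n m : ℕ} (h : n ≤ m), tt C h (cn m) = cn n := fun h => tt_cone cC h c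
  let E : ∀ n, Set (B.obj (op n)) := fun n =>
    {b | ∃ b' : B.obj (op (n + r)), (g.app (op (n + r))).hom b' = cn (n + r) ∧
      tt B (Nat.le_add_right n r) b' = b}
  have step : ∀ n (b : B.obj (op n)), b ∈ E n →
      ∃ b₁ : B.obj (op (n + 1)), b₁ ∈ E (n + 1) ∧ tt B (Nat.le_succ n) b₁ = b := by
    rintro n b ⟨b', hb', rfl⟩
    obtain ⟨b'', hb''⟩ := ha (n + 1 + r) (cn (n + 1 + r))
    have h1 : n + r ≤ n + 1 + r := by omega
    have hz : (g.app (op (n + r))).hom (b' - tt B h1 b'') = 0 := by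
      rw [map_sub, tt_nat g, hb', hb'', hcn, sub_self]
    obtain ⟨a, hfa⟩ := hb _ _ hz
    obtain ⟨y, hy⟩ := hML n a
    have h2 : n ≤ n + 1 + r := by omega
    obtain ⟨y', hy'⟩ := tt_surj hY h2 y
    let b3 : B.obj (op (n + 1 + r)) := b'' + (f.app _).hom ((v.app _).hom y')
    refine ⟨tt B (Nat.le_add_right (n + 1) r) b3, ⟨b3, ?_, rfl⟩, ?_⟩
    · show (g.app _).hom (b'' + (f.app _).hom ((v.app _).hom y')) = _
      rw [map_add, hfg, add_zero, hb'']
    · rw [tt_tt]
      show tt B _ (b'' + (f.app _).hom ((v.app _).hom y')) = _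
      rw [map_add, ← tt_nat f, ← tt_nat v]
      have e1 : tt Y ((Nat.le_succ n).trans (Nat.le_add_right (n + 1) r)) y' = y := hy'
      rw [e1, hy, tt_nat f, hfa, ← tt_tt B (Nat.le_add_right n r) h1, ← map_add]
      congr 1
      abel
  have h0 : ∃ b : B.obj (op 0), b ∈ E 0 := by
    obtain ⟨b', hb'⟩ := ha (0 + r) (cn (0 + r))
    exact ⟨_, b', hb', rfl⟩
  let seq : (n : ℕ) → {b : B.obj (op n) // b ∈ E n} := fun n =>
    Nat.rec (motive := fun n => {b : B.obj (op n) // b ∈ E n})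
      ⟨h0.choose, h0.choose_spec⟩
      (fun n z => ⟨(step n z.1 z.2).choose, (step n z.1 z.2).choose_spec.1⟩) n
  have hseq : ∀ n, tt B (Nat.le_succ n) (seq (n + 1)).1 = (seq n).1 :=
    fun n => (step n (seq n).1 (seq n).2).choose_spec.2
  obtain ⟨β, hβ⟩ := exists_of_compatible hcB (fun n => (seq n).1) hseq
  refine ⟨β, ?_⟩
  apply Concrete.isLimit_ext C hcC
  intro j
  obtain ⟨n⟩ := j
  have h3 := congrArg (fun k => k.hom β) (hφ n)
  refine Eq.trans h3 ?_
  show (g.app (op n)).hom ((cB.π.app (op n)).hom β) = cn n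
  rw [hβ]
  obtain ⟨b', hb', hbb⟩ := (seq n).2
  rw [← hbb, tt_nat g, hb', hcn]

end Groth.Agent.Lib.Helper82.MLTower
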