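import Groth.Agent.Lib.Helper82.AdicLim
import Groth.Agent.Lib.Helper82.MLTower

set_option autoImplicit false
set_option linter.style.haveILetI false
open CategoryTheory CategoryTheory.Limits AlgebraicGeometry Opposite
universe u
open ProEtS

namespace Groth.Agent.Lib.Helper82.AdicEpi

open EpsMod AdicLim

variable {Λ : Type (u + 1)} [CommRing Λ] {X : Scheme.{u}}

/-- exactness of sections over weakly contractible objects, element form -/
theorem exact_sections {T : ShortComplex (EtModW.ModP Λ X)} (hT : T.Exact) (W : X.ProEt)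
    (hW : IsWC W) (x : T.X₂.obj.obj (op W)) (hx : (T.g.hom.app (op W)).hom x = 0) :
    ∃ y : T.X₁.obj.obj (op W), (T.f.hom.app (op W)).hom y = x := by
  haveI hepi : Epi (kernel.lift T.g T.f T.zero) := (T.exact_iff_epi_kernel_lift).1 hT
  have hex : (ShortComplex.mk (kernel.ι T.g) T.g (kernel.condition _)).Exact :=
    ShortComplex.exact_kernel _
  have hex' := hex.map_of_mono_of_preservesKernel (ModWC.Γ W) inferInstance inferInstance
  rw [ShortComplex.moduleCat_exact_iff] at hex'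
  obtain ⟨κ, hκ⟩ := hex' x hx
  obtain ⟨y, hy⟩ := ModWC.surjective_of_isWC W hW (kernel.lift T.g T.f T.zero) κ
  refine ⟨y, ?_⟩
  have h1 := kernel.lift_ι T.g T.f T.zero
  have h2 := congrArg (fun m : T.X₁ ⟶ T.X₂ => (m.hom.app (op W)).hom y) h1
  refine Eq.trans h2.symm ?_
  refine Eq.trans ?_ hκ
  show ((kernel.ι T.g).hom.app (op W)).hom (((kernel.lift T.g T.f T.zero).hom.app (op W)).hom y) = _
  rw [hy]
  rfl

variable [EpsCont X]

theorem epi_limMap (I : Ideal Λ) (S : ShortComplex (ARSys.PS (EtModW.Mod Λ X)))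
    (hS : S.ShortExact)
    (hA : ∃ (Y : ARSys.PS (EtModW.Mod Λ X)) (v : Y ⟶ S.X₁), ARSys.IsAdic I Y ∧ ARSys.IsARIso v) :
    Epi (limMap (Functor.whiskerRight S.g (EtModW.epsPullMod Λ X))) := by
  obtain ⟨Y, v, hY, -, ⟨r, hr⟩⟩ := hA
  let L := EtModW.epsPullMod Λ X
  apply epi_of_wc
  intro W hW
  let Γ := ModWC.Γ (Λ := Λ) W
  let ev : ∀ n : ℕ, ARSys.PS (EtModW.Mod Λ X) ⥤ EtModW.Mod Λ X :=
    fun n => (evaluation ℕᵒᵖ (EtModW.Mod Λ X)).obj (op n)
  -- the towers
  let f' : (S.X₁ ⋙ L) ⋙ Γ ⟶ (S.X₂ ⋙ L) ⋙ Γ :=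
    Functor.whiskerRight (Functor.whiskerRight S.f L) Γ
  let g' : (S.X₂ ⋙ L) ⋙ Γ ⟶ (S.X₃ ⋙ L) ⋙ Γ :=
    Functor.whiskerRight (Functor.whiskerRight S.g L) Γ
  let v' : (Y ⋙ L) ⋙ Γ ⟶ (S.X₁ ⋙ L) ⋙ Γ :=
    Functor.whiskerRight (Functor.whiskerRight v L) Γ
  have hcB := isLimitOfPreserves Γ (limit.isLimit (S.X₂ ⋙ L))
  have hcC := isLimitOfPreserves Γ (limit.isLimit (S.X₃ ⋙ L))
  refine MLTower.surj_of_ML f' g' v' ?_ ?_ ?_ r ?_ ?_ hcB hcC
    (Γ.map (limMap (Functor.whiskerRight S.g L))) ?_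
  · -- g ∘ f = 0
    intro n a
    have h0 : S.f.app (op n) ≫ S.g.app (op n) = 0 := by
      rw [← NatTrans.comp_app, S.zero]
      rfl
    have h1 : L.map (S.f.app (op n)) ≫ L.map (S.g.app (op n)) = 0 := by
      rw [← L.map_comp, h0, L.map_zero]
    have h2 := congrArg (fun m : L.obj (S.X₁.obj (op n)) ⟶ L.obj (S.X₃.obj (op n)) =>
      (m.hom.app (op W)).hom a) h1
    exact h2
  · -- surjectivity of g
    intro n
    haveI : Epi S.g := hS.epi_g
    haveI : Epi (S.g.app (op n)) := inferInstance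
    haveI : Epi (L.map (S.g.app (op n))) := inferInstance
    exact ModWC.surjective_of_isWC W hW (L.map (S.g.app (op n)))
  · -- exactness in the middle
    intro n b hb
    have hex : ((S.map (ev n)).map L).Exact := (hS.exact.map (ev n)).map L
    exact exact_sections hex W hW b hb
  · -- Mittag-Leffler
    intro n a
    have hexv : (ShortComplex.mk v (cokernel.π v) (cokernel.condition v)).Exact :=
      ShortComplex.exact_cokernel v
    have hex : (((ShortComplex.mk v (cokernel.π v) (cokernel.condition v)).map (ev n)).map L).Exact :=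
      (hexv.map (ev n)).map L
    refine exact_sections hex W hW _ ?_
    have hnat := (cokernel.π v).naturality (homOfLE (Nat.le_add_right n r)).op
    have hz : S.X₁.map (homOfLE (Nat.le_add_right n r)).op ≫ (cokernel.π v).app (op n) = 0 := by
      rw [hnat]
      have := hr n
      refine Eq.trans (congrArg _ this) comp_zero
    have h1 : L.map (S.X₁.map (homOfLE (Nat.le_add_right n r)).op) ≫
        L.map ((cokernel.π v).app (op n)) = 0 := by
      rw [← L.map_comp, hz, L.map_zero]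
    have h2 := congrArg (fun m : L.obj (S.X₁.obj (op (n + r))) ⟶ L.obj ((cokernel v).obj (op n)) =>
      (m.hom.app (op W)).hom a) h1
    exact h2
  · -- surjectivity of transitions of Y
    intro n
    haveI : Epi (ARSys.tr Y (Nat.le_succ n)) := epi_of_isQuot _ (hY.2 n (n + 1) (Nat.le_succ n))
    haveI : Epi (L.map (ARSys.tr Y (Nat.le_succ n))) := inferInstance
    exact ModWC.surjective_of_isWC W hW (L.map (ARSys.tr Y (Nat.le_succ n)))
  · intro n
    show Γ.map _ ≫ Γ.map _ = Γ.map _ ≫ Γ.map _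
    rw [← Γ.map_comp, ← Γ.map_comp]
    congr 1
    exact limMap_π _ _

end Groth.Agent.Lib.Helper82.AdicEpi
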