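import Groth.Agent.Lib.Helper82.AdicLim

set_option autoImplicit false
set_option linter.style.haveILetI false
open CategoryTheory CategoryTheory.Limits AlgebraicGeometry Opposite
universe u
open ProEtS

namespace Groth.Agent.Lib.Helper82.AdicFF

open EpsMod AdicLim

variable {Λ : Type (u + 1)} [CommRing Λ] (I : Ideal Λ) (hI : I.FG) (X : Scheme.{u}) [EpsCont X]

/-- `ε⁻¹` on modules is fully faithful -/
noncomputable def ffL : (EtModW.epsPullMod Λ X).FullyFaithful :=
  (adjM X Λ).fullyFaithfulLOfIsIsoUnit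

instance : (EtModW.epsPullMod Λ X).Full := (ffL X).full
instance : (EtModW.epsPullMod Λ X).Faithful := (ffL X).faithful

/-- the functor `G ↦ lim ε⁻¹ G_n` on adic systems -/
noncomputable abbrev Φ : ObjectProperty.FullSubcategory
    (fun G : ARSys.PS (EtModW.Mod Λ X) => ARSys.IsAdic I G) ⥤ EtModW.ModP Λ X :=
  ObjectProperty.ι (fun G : ARSys.PS (EtModW.Mod Λ X) => ARSys.IsAdic I G) ⋙
    ((Functor.whiskeringRight ℕᵒᵖ (EtModW.Mod Λ X) (EtModW.ModP Λ X)).obj
      (EtModW.epsPullMod Λ X) ⋙ lim)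

variable {I X}

theorem Φ_map_π {G G' : ObjectProperty.FullSubcategory
    (fun G : ARSys.PS (EtModW.Mod Λ X) => ARSys.IsAdic I G)} (α : G ⟶ G') (j : ℕᵒᵖ) :
    (Φ I X).map α ≫ limit.π (G'.obj ⋙ EtModW.epsPullMod Λ X) j =
      limit.π (G.obj ⋙ EtModW.epsPullMod Λ X) j ≫
        (EtModW.epsPullMod Λ X).map (α.hom.app j) := by
  exact limMap_π _ _

include hI in
theorem epi_π (G : ObjectProperty.FullSubcategory
    (fun G : ARSys.PS (EtModW.Mod Λ X) => ARSys.IsAdic I G)) (n : ℕ) :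
    Epi (limit.π (G.obj ⋙ EtModW.epsPullMod Λ X) (op n)) :=
  epi_of_isQuot _ (isQuot_limit_π_epsPullMod I hI X G.obj G.property n)

include hI in
theorem faithful_Φ : (Φ I X).Faithful := by
  refine ⟨fun {G G'} α β h => ?_⟩
  apply ObjectProperty.hom_ext
  apply NatTrans.ext
  funext j
  obtain ⟨n⟩ := j
  apply (EtModW.epsPullMod Λ X).map_injective
  haveI := epi_π hI G n
  rw [← cancel_epi (limit.π (G.obj ⋙ EtModW.epsPullMod Λ X) (op n))]
  rw [← Φ_map_π, ← Φ_map_π, h]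

include hI in
theorem full_Φ : (Φ I X).Full := by
  refine ⟨fun {G G'} f => ?_⟩
  let L := EtModW.epsPullMod Λ X
  have key : ∀ n : ℕ, ∃ a : G.obj.obj (op n) ⟶ G'.obj.obj (op n),
      limit.π (G.obj ⋙ L) (op n) ≫ L.map a = f ≫ limit.π (G'.obj ⋙ L) (op n) := by
    intro n
    have hk : ARSys.HomKilledBy (I ^ (n + 1)) (f ≫ limit.π (G'.obj ⋙ L) (op n)) := by
      intro a ha
      have hkill := killedBy_epsPullMod X Λ _ (G'.property.1 n) a ha
      have : a • (f ≫ limit.π (G'.obj ⋙ L) (op n)) =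
          (f ≫ limit.π (G'.obj ⋙ L) (op n)) ≫ (a • 𝟙 _) := by
        rw [Linear.comp_smul, Category.comp_id]
      rw [this]
      refine Eq.trans (congrArg _ hkill) comp_zero
    obtain ⟨ψ, hψ, -⟩ := (isQuot_limit_π_epsPullMod I hI X G.obj G.property n).2 _ _ hk
    exact ⟨L.preimage ψ, by rw [L.map_preimage]; exact hψ⟩
  choose a ha using key
  have hnat : ∀ {j j' : ℕᵒᵖ} (g : j ⟶ j'),
      G.obj.map g ≫ a j'.unop = a j.unop ≫ G'.obj.map g := by
    intro j j' g
    obtain ⟨m⟩ := j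
    obtain ⟨m'⟩ := j'
    apply L.map_injective
    haveI := epi_π hI G m
    rw [← cancel_epi (limit.π (G.obj ⋙ L) (op m))]
    rw [L.map_comp, L.map_comp]
    have e1 : limit.π (G.obj ⋙ L) (op m) ≫ L.map (G.obj.map g) =
        limit.π (G.obj ⋙ L) (op m') := limit.w (G.obj ⋙ L) g
    have e2 : limit.π (G'.obj ⋙ L) (op m) ≫ L.map (G'.obj.map g) =
        limit.π (G'.obj ⋙ L) (op m') := limit.w (G'.obj ⋙ L) g
    rw [← Category.assoc, e1, ← Category.assoc]
    refine Eq.trans (ha m') ?_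
    refine Eq.trans ?_ (congrArg (· ≫ L.map (G'.obj.map g)) (ha m).symm)
    rw [Category.assoc, e2]
  refine ⟨ObjectProperty.homMk { app := fun j => a j.unop, naturality := fun _ _ g => hnat g }, ?_⟩
  apply limit.hom_ext
  intro j
  obtain ⟨n⟩ := j
  refine (Φ_map_π _ _).trans ?_
  exact ha n

end Groth.Agent.Lib.Helper82.AdicFF
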