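import Mathlib
import Groth.Agent.Lib.Helper82.AdicAlg

set_option autoImplicit false
open CategoryTheory CategoryTheory.Limits Opposite

namespace Groth.Agent.Lib.Helper82.AdicTower

universe w u₁
variable {Λ : Type u₁} [CommRing Λ]

theorem sh_mono (m : ℕ) : Monotone (fun n : ℕ => m + n) := fun _ _ h => Nat.add_le_add_left h m

/-- shift functor `n ↦ m + n` -/
def sh (m : ℕ) : ℕ ⥤ ℕ := (sh_mono m).functor

instance (m : ℕ) : (sh m).Final := by
  unfold sh
  rw [Monotone.final_functor_iff]
  intro j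
  exact ⟨j, Nat.le_add_left j m⟩

theorem surj_π {T : ℕᵒᵖ ⥤ ModuleCat.{w} Λ} {c : Cone T} (hc : IsLimit c)
    (hT : ∀ m, Function.Surjective (T.map (homOfLE (Nat.le_succ m)).op).hom) (n : ℕ) :
    Function.Surjective (c.π.app (op n)).hom := by
  have hc' : IsLimit (c.whisker (sh n).op) :=
    (Functor.Initial.isLimitWhiskerEquiv (sh n).op c).symm hc
  have := Concrete.surjective_π_app_zero_of_surjective_map hc' (fun m => hT (n + m))
  exact this

theorem tower {T : ℕᵒᵖ ⥤ ModuleCat.{w} Λ} {c : Cone T} (hc : IsLimit c) (I : Ideal Λ) (hI : I.FG)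
    (t1 : ∀ m, Function.Surjective (T.map (homOfLE (Nat.le_succ m)).op).hom)
    (t2 : ∀ m, LinearMap.ker (T.map (homOfLE (Nat.le_succ m)).op).hom =
      I ^ (m + 1) • (⊤ : Submodule Λ (T.obj (op (m + 1)))))
    (t3 : ∀ m, ∀ a ∈ I ^ (m + 1), ∀ y : T.obj (op m), a • y = 0) (n : ℕ) :
    Function.Surjective (c.π.app (op n)).hom ∧
      LinearMap.ker (c.π.app (op n)).hom = I ^ (n + 1) • (⊤ : Submodule Λ c.pt) := by
  have hsurj := surj_π hc t1
  refine ⟨hsurj n, ?_⟩
  let p : ∀ m, c.pt →ₗ[Λ] T.obj (op m) := fun m => (c.π.app (op m)).hom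
  let K : ℕ → Submodule Λ c.pt := fun m => LinearMap.ker (p m)
  have hp : ∀ m (x : c.pt), (T.map (homOfLE (Nat.le_succ m)).op).hom (p (m + 1) x) = p m x := by
    intro m x
    have := c.w (homOfLE (Nat.le_succ m)).op
    show _ = (c.π.app (op m)).hom x
    rw [← this]
    rfl
  have hpf : ∀ {m m' : ℕ} (f : op m' ⟶ op m) (x : c.pt), (T.map f).hom (p m' x) = p m x := by
    intro m m' f x
    have := c.w f
    show _ = (c.π.app (op m)).hom x
    rw [← this]
    rfl
  have hK1 : ∀ m, K (m + 1) ≤ K m := by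
    intro m x hx
    have hx' : p (m + 1) x = 0 := hx
    show p m x = 0
    rw [← hp, hx', map_zero]
  have hanti : Antitone K := antitone_nat_of_succ_le hK1
  have h1 : ∀ m, I ^ (m + 1) • (⊤ : Submodule Λ c.pt) ≤ K m := by
    intro m
    rw [Submodule.smul_le]
    intro a ha x _
    show p m (a • x) = 0
    rw [map_smul]
    exact t3 m a ha _
  have h2 : ∀ m, K m ≤ I ^ (m + 1) • (⊤ : Submodule Λ c.pt) ⊔ K (m + 1) := by
    intro m x hx
    have hx' : p m x = 0 := hx
    have hmem : p (m + 1) x ∈ LinearMap.ker (T.map (homOfLE (Nat.le_succ m)).op).hom := by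
      show (T.map (homOfLE (Nat.le_succ m)).op).hom (p (m + 1) x) = 0
      rw [hp, hx']
    rw [t2 m] at hmem
    have hmap : Submodule.map (p (m + 1)) (I ^ (m + 1) • (⊤ : Submodule Λ c.pt)) =
        I ^ (m + 1) • (⊤ : Submodule Λ (T.obj (op (m + 1)))) := by
      rw [Submodule.map_smul'', Submodule.map_top, LinearMap.range_eq_top.2 (hsurj (m + 1))]
    rw [← hmap] at hmem
    obtain ⟨y, hy, hyx⟩ := hmem
    rw [Submodule.mem_sup]
    refine ⟨y, hy, x - y, ?_, by abel⟩
    show p (m + 1) (x - y) = 0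
    rw [map_sub, hyx, sub_self]
  have h3 : ∀ x : c.pt, (∀ m, x ∈ K m) → x = 0 := by
    intro x hx
    apply Concrete.isLimit_ext T hc
    intro j
    obtain ⟨m⟩ := j
    have : p m x = 0 := hx m
    show p m x = p m 0
    rw [this, map_zero]
  have h4 : ∀ x : ℕ → c.pt, (∀ t, x (t + 1) - x t ∈ K t) → ∃ y, ∀ t, y - x t ∈ K t := by
    intro x hx
    have hle : ∀ m m', m ≤ m' → x m' - x m ∈ K m := by
      intro m m' h
      induction m', h using Nat.le_induction with
      | base => simp
      | succ k hk ih =>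
        have : x (k + 1) - x m = (x (k + 1) - x k) + (x k - x m) := by abel
        rw [this]
        exact (K m).add_mem (hanti hk (hx k)) ih
    let s : (T ⋙ forget (ModuleCat.{w} Λ)).sections :=
      ⟨fun j => p j.unop (x j.unop), by
        intro j j' f
        obtain ⟨m'⟩ := j
        obtain ⟨m⟩ := j'
        have hmm : m ≤ m' := leOfHom f.unop
        show (T.map f).hom (p m' (x m')) = p m (x m)
        rw [hpf]
        have := hle m m' hmm
        have h0 : p m (x m' - x m) = 0 := this
        rw [map_sub, sub_eq_zero] at h0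
        exact h0⟩
    let y : c.pt := (Types.isLimitEquivSections (isLimitOfPreserves (forget _) hc)).symm s
    refine ⟨y, fun t => ?_⟩
    show p t (y - x t) = 0
    rw [map_sub, sub_eq_zero]
    exact Types.isLimitEquivSections_symm_apply (isLimitOfPreserves (forget _) hc) s (op t)
  exact le_antisymm
    (AdicAlg.le_smul_top_of_complete I K n hanti h1 h2 h3 h4 (hI.pow))
    (h1 n)

end Groth.Agent.Lib.Helper82.AdicTower
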