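import Groth.Prelude.Def_PBC
import Groth.Agent.Lib.Helper82.IndEtale

set_option autoImplicit false
open CategoryTheory CategoryTheory.Limits TensorProduct
universe u v

namespace Groth.Agent.Lib.Helper82

structure IndSys (A : Type v) (B : Type u) [CommRing A] [CommRing B] [Algebra A B] where
  J : Type u
  [cat : SmallCategory J]
  [filt : IsFiltered J]
  R : J → Type u
  [ring : ∀ j, CommRing (R j)]
  [alg : ∀ j, Algebra A (R j)]
  t : ∀ {i j : J}, (i ⟶ j) → R i →ₐ[A] R j
  t_comp : ∀ {i j k : J} (f : i ⟶ j) (g : j ⟶ k) (x : R i), t (f ≫ g) x = t g (t f x)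
  φ : ∀ j, R j →ₐ[A] B
  φ_t : ∀ {i j : J} (f : i ⟶ j) (x : R i), φ j (t f x) = φ i x
  surj : ∀ b : B, ∃ (j : J) (x : R j), φ j x = b
  eq : ∀ (j : J) (x y : R j), φ j x = φ j y → ∃ (k : J) (f : j ⟶ k), t f x = t f y

attribute [instance] IndSys.cat IndSys.filt IndSys.ring IndSys.alg

namespace IndSys

section ofColimit

variable {A B : Type u} [CommRing A] [CommRing B] [Algebra A B]
  {J : Type u} [SmallCategory J] [IsFiltered J] (D : J ⥤ Under (CommRingCat.of A))
  (c : Cocone D) (hc : IsColimit c) (e : c.pt ≅ Under.mk (CommRingCat.ofHom (algebraMap A B)))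

noncomputable def ofColimit : IndSys A B :=
  have := IsFiltered.isConnected J
  let F : Under (CommRingCat.of A) ⥤ Type u := Under.forget (CommRingCat.of A) ⋙ forget CommRingCat
  have hF : IsColimit (F.mapCocone c) := isColimitOfPreserves F hc
  let φ' : ∀ j, D.obj j ⟶ Under.mk (CommRingCat.ofHom (algebraMap A B)) := fun j => c.ι.app j ≫ e.hom
  { J := J
    R := fun j => (D.obj j).right
    alg := fun j => (D.obj j).hom.hom.toAlgebra
    t := fun {i j} f => CommRingCat.toAlgHom (D.map f)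
    t_comp := fun f g x => by
      have h1 : D.map (f ≫ g) = D.map f ≫ D.map g := D.map_comp f g
      exact congrArg (fun m => m.right.hom x) h1
    φ := fun j =>
      letI := (D.obj j).hom.hom.toAlgebra
      { (φ' j).right.hom with
        commutes' := fun a => by
          have h1 : ((D.obj j).hom ≫ (φ' j).right) = CommRingCat.ofHom (algebraMap A B) :=
            Under.w (φ' j)
          exact congrArg (fun g => g.hom a) h1 }
    φ_t := fun {i j} f x => by
      have h1 : D.map f ≫ φ' j = φ' i := by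
        simp only [φ', ← Category.assoc, c.w]
      exact congrArg (fun g => g.right.hom x) h1
    surj := fun b => by
      obtain ⟨j, x, hx⟩ := Types.jointly_surjective_of_isColimit hF (e.inv.right.hom b)
      refine ⟨j, x, ?_⟩
      have h2 : (c.ι.app j).right.hom x = e.inv.right.hom b := hx
      show e.hom.right.hom ((c.ι.app j).right.hom x) = b
      rw [h2]
      have h3 : e.inv ≫ e.hom = 𝟙 _ := e.inv_hom_id
      exact congrArg (fun g => g.right.hom b) h3
    eq := fun j x y hxy => by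
      have h4 : (c.ι.app j).right.hom x = (c.ι.app j).right.hom y := by
        have h5 : e.hom.right.hom ((c.ι.app j).right.hom x) =
            e.hom.right.hom ((c.ι.app j).right.hom y) := hxy
        have h3 : e.hom ≫ e.inv = 𝟙 _ := e.hom_inv_id
        have h6 := congrArg e.inv.right.hom h5
        have h7 : ∀ z, e.inv.right.hom (e.hom.right.hom z) = z := fun z =>
          congrArg (fun g => g.right.hom z) h3
        rwa [h7, h7] at h6
      obtain ⟨k, f, hf⟩ := (Types.FilteredColimit.isColimit_eq_iff' hF x y).1 h4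
      exact ⟨k, f, hf⟩ }

end ofColimit

variable {A : Type v} {B : Type u} [CommRing A] [CommRing B] [Algebra A B] (d : IndSys A B)

theorem exists_kill {j : d.J} (S : Finset (d.R j)) (hS : ∀ x ∈ S, d.φ j x = 0) :
    ∃ (k : d.J) (f : j ⟶ k), ∀ x ∈ S, d.t f x = 0 := by
  classical
  induction S using Finset.induction_on with
  | empty => exact ⟨j, 𝟙 j, by simp⟩
  | insert a S _ ih =>
    obtain ⟨k, f, hk⟩ := ih (fun b hb => hS b (Finset.mem_insert_of_mem hb))
    obtain ⟨k', f', hk'⟩ := d.eq k (d.t f a) 0 (by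
      rw [d.φ_t, map_zero]
      exact hS a (Finset.mem_insert_self a S))
    refine ⟨k', f ≫ f', fun b hb => ?_⟩
    rw [d.t_comp]
    rcases Finset.mem_insert.mp hb with rfl | hb
    · rw [hk', map_zero]
    · rw [hk b hb, map_zero]

theorem exists_factor {E : Type*} [CommRing E] [Algebra A E] [Algebra.FinitePresentation A E]
    (f : E →ₐ[A] B) : ∃ (j : d.J) (g : E →ₐ[A] d.R j), (d.φ j).comp g = f := by
  classical
  obtain ⟨n, π, hπ, hker⟩ := Algebra.FinitePresentation.out (R := A) (A := E)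
  obtain ⟨s, hs⟩ := hker
  obtain ⟨j₀, hj₀⟩ := exists_lift_family (S := d.R) (fun g => d.t g) (fun j => d.φ j)
    (fun g x => d.φ_t g x) d.surj (fun i : Fin n => f (π (MvPolynomial.X i)))
  obtain ⟨x', hx'⟩ := hj₀ j₀ (𝟙 _)
  let g₀ : MvPolynomial (Fin n) A →ₐ[A] d.R j₀ := MvPolynomial.aeval x'
  have hg₀ : (d.φ j₀).comp g₀ = f.comp π := by
    apply MvPolynomial.algHom_ext
    intro i
    simp [g₀, hx']
  obtain ⟨k, h, hk⟩ := d.exists_kill (s.image g₀) (by
    intro x hx
    obtain ⟨r, hr, rfl⟩ := Finset.mem_image.mp hx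
    have : (d.φ j₀) (g₀ r) = f (π r) := DFunLike.congr_fun hg₀ r
    rw [this]
    have hr' : r ∈ RingHom.ker π.toRingHom := hs ▸ Ideal.subset_span hr
    rw [show π r = 0 from hr', map_zero])
  let g₁ : MvPolynomial (Fin n) A →ₐ[A] d.R k := (d.t h).comp g₀
  have hg₁ : RingHom.ker π.toRingHom ≤ RingHom.ker g₁.toRingHom := by
    rw [← hs, Ideal.span_le]
    intro r hr
    exact hk _ (Finset.mem_image_of_mem g₀ hr)
  refine ⟨k, AlgHom.liftOfSurjective π hπ g₁ hg₁, ?_⟩
  apply AlgHom.ext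
  intro e
  obtain ⟨p, rfl⟩ := hπ e
  rw [AlgHom.comp_apply, AlgHom.liftOfSurjective_apply]
  show d.φ k (d.t h (g₀ p)) = f (π p)
  rw [d.φ_t]
  exact DFunLike.congr_fun hg₀ p

def toInt : IndSys ℤ B where
  J := d.J
  R := d.R
  t := fun f => (d.t f).toRingHom.toIntAlgHom
  t_comp := fun f g x => d.t_comp f g x
  φ := fun j => (d.φ j).toRingHom.toIntAlgHom
  φ_t := fun f x => d.φ_t f x
  surj := d.surj
  eq := d.eq

theorem exists_etale_descent (S : Type u) [CommRing S] [Algebra B S] [Algebra.Etale B S] :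
    ∃ (j₀ : d.J) (S₁ : Type u) (_ : CommRing S₁) (_ : Algebra (d.R j₀) S₁),
      Algebra.Etale (d.R j₀) S₁ ∧
        letI := (d.φ j₀).toRingHom.toAlgebra
        Nonempty (S ≃ₐ[B] B ⊗[d.R j₀] S₁) := by
  obtain ⟨A₀, S₀, _, _, hfg, het, ⟨e⟩⟩ := Algebra.Etale.exists_subalgebra_fg ℤ B S
  have h1 : Algebra.FiniteType ℤ A₀ := (Subalgebra.fg_iff_finiteType A₀).mp hfg
  have h2 : Algebra.FinitePresentation ℤ A₀ := Algebra.FinitePresentation.of_finiteType.mp h1
  obtain ⟨j₀, ι₀, hι₀⟩ : ∃ (j₀ : d.J) (ι₀ : A₀ →ₐ[ℤ] d.R j₀), ∀ x, d.φ j₀ (ι₀ x) = (x : B) := by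
    obtain ⟨j, g, hg⟩ := d.toInt.exists_factor (A₀.val : A₀ →ₐ[ℤ] B)
    exact ⟨j, g, fun x => DFunLike.congr_fun hg x⟩
  let _ : Algebra A₀ (d.R j₀) := ι₀.toRingHom.toAlgebra
  let _ : Algebra (d.R j₀) B := (d.φ j₀).toRingHom.toAlgebra
  have : IsScalarTower A₀ (d.R j₀) B :=
    IsScalarTower.of_algebraMap_eq (fun x => (hι₀ x).symm)
  refine ⟨j₀, d.R j₀ ⊗[A₀] S₀, inferInstance, inferInstance, inferInstance, ⟨?_⟩⟩
  exact e.trans (Algebra.TensorProduct.cancelBaseChange A₀ (d.R j₀) B B S₀).symm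

end IndSys

end Groth.Agent.Lib.Helper82
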