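import Groth.Agent.Lib.Helper82.WLocAlgRes
import Groth.Agent.Lib.Helper82.IndSys
import Groth.Prelude.Def_EtBase

set_option autoImplicit false
open CategoryTheory CategoryTheory.Limits TensorProduct
universe u

namespace Groth.Agent.Lib.Helper82

/-- a local isomorphism is étale. -/
theorem etale_of_isLocalIso (R S : Type u) [CommRing R] [CommRing S] [Algebra R S]
    [Algebra.IsLocalIso R S] : Algebra.Etale R S := by
  rw [← RingHom.etale_algebraMap]
  refine RingHom.Etale.ofLocalizationSpanTarget (algebraMap R S)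
    {g : S | Algebra.IsStandardOpenImmersion R (Localization.Away g)}
    (Algebra.IsLocalIso.span_isStandardOpenImmersion_eq_top R S) ?_
  rintro ⟨g, hg⟩
  have hg' : Algebra.IsStandardOpenImmersion R (Localization.Away g) := hg
  obtain ⟨r, hr⟩ := Algebra.IsStandardOpenImmersion.exists_away R (Localization.Away g)
  have : Algebra.Etale R (Localization.Away g) := Algebra.Etale.of_isLocalizationAway r
  rw [← IsScalarTower.algebraMap_eq, RingHom.etale_algebraMap]
  exact this

/-- ind-Zariski algebras are ind-étale. -/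
theorem isIndEtale_of_isIndZariski {A B : Type u} [CommRing A] [CommRing B] [Algebra A B]
    (h : EtPBC.IsIndZariski A B) : EtPBC.IsIndEtale A B := by
  obtain ⟨J, _, _, D, c, hc, hloc, e⟩ := h
  refine ⟨J, inferInstance, inferInstance, D, c, hc, fun j => ?_, e⟩
  let _ := (D.obj j).hom.hom.toAlgebra
  have := hloc j
  exact etale_of_isLocalIso A (D.obj j).right

lemma eval_map_ringEquiv {R S : Type*} [CommRing R] [CommRing S] (φ : R ≃+* S)
    (g : Polynomial R) (x : R) : (g.map (φ : R →+* S)).eval (φ x) = φ (g.eval x) :=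
  Polynomial.eval_map_apply (φ : R →+* S) x

open Polynomial in
theorem isSepClosed_of_ringEquiv {k k' : Type*} [Field k] [Field k'] (e : k ≃+* k')
    [IsSepClosed k] : IsSepClosed k' := by
  refine IsSepClosed.of_exists_root _ fun p hm hirr hsep => ?_
  have hp : (p.map (e.symm : k' →+* k)).map (e : k →+* k') = p := by
    rw [Polynomial.map_map]
    have : (e : k →+* k').comp (e.symm : k' →+* k) = RingHom.id k' := by
      ext x; simp
    rw [this, Polynomial.map_id]
  have hdeg : (p.map (e.symm : k' →+* k)).degree ≠ 0 := by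
    rw [Polynomial.degree_map]
    exact fun h0 => hirr.not_isUnit (Polynomial.isUnit_iff_degree_eq_zero.2 h0)
  obtain ⟨x, hx⟩ := IsSepClosed.exists_root (p.map (e.symm : k' →+* k)) hdeg hsep.map
  refine ⟨e x, ?_⟩
  rw [← hp, eval_map_ringEquiv, hx.eq_zero, map_zero]

open Polynomial in
theorem henselianLocalRing_of_ringEquiv {R S : Type*} [CommRing R] [CommRing S] (e : R ≃+* S)
    [HenselianLocalRing R] : HenselianLocalRing S := by
  have : IsLocalRing S := e.isLocalRing
  have hmem : ∀ x : S, x ∈ IsLocalRing.maximalIdeal S ↔ e.symm x ∈ IsLocalRing.maximalIdeal R := by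
    intro x
    rw [IsLocalRing.mem_maximalIdeal, IsLocalRing.mem_maximalIdeal, mem_nonunits_iff,
      mem_nonunits_iff]
    exact not_congr (isUnit_map_iff e.symm x).symm
  refine ⟨fun f hf a₀ h1 h2 => ?_⟩
  let f₀ : R[X] := f.map (e.symm : S →+* R)
  have h1' : f₀.eval (e.symm a₀) ∈ IsLocalRing.maximalIdeal R := by
    rw [eval_map_ringEquiv]
    exact (hmem _).1 h1
  have h2' : IsUnit (f₀.derivative.eval (e.symm a₀)) := by
    rw [Polynomial.derivative_map, eval_map_ringEquiv]
    exact (isUnit_map_iff e.symm _).2 h2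
  obtain ⟨a, ha1, ha2⟩ := HenselianLocalRing.is_henselian f₀ (hf.map _) (e.symm a₀) h1' h2'
  refine ⟨e a, ?_, ?_⟩
  · have h3 : f = f₀.map (e : R →+* S) := by
      rw [Polynomial.map_map]
      have : (e : R →+* S).comp (e.symm : S →+* R) = RingHom.id S := by
        ext x; simp
      rw [this, Polynomial.map_id]
    rw [Polynomial.IsRoot.def, h3, eval_map_ringEquiv, ha1.eq_zero, map_zero]
  · rw [hmem, map_sub, RingEquiv.symm_apply_apply]
    exact ha2

theorem isStrictlyHenselianLocalRing_of_ringEquiv {R S : Type u} [CommRing R] [CommRing S]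
    (e : R ≃+* S) (h : EtCoh.IsStrictlyHenselianLocalRing R) :
    EtCoh.IsStrictlyHenselianLocalRing S := by
  obtain ⟨h1, h2⟩ := h
  have h3 : HenselianLocalRing S := henselianLocalRing_of_ringEquiv e
  refine ⟨h3, ?_⟩
  exact isSepClosed_of_ringEquiv (IsLocalRing.ResidueField.mapEquiv e)

end Groth.Agent.Lib.Helper82
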