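import Mathlib
import Groth.Agent.Lib.Helper69.HensFinite
import Groth.Agent.Lib.Helper69.HensIntegralU
import Groth.Agent.Lib.Helper82.SqBasics

open IsLocalRing

namespace Groth.Agent.Lib.Helper82.FinWC

universe u
variable {A B : Type u} [CommRing A] [CommRing B] [Algebra A B] [Module.Finite A B]

section loc
variable (m : Ideal A) [hm : m.IsMaximal]

/-- localization of `B` at `A ∖ m` -/
abbrev Cm : Type u := Localization (Algebra.algebraMapSubmonoid B m.primeCompl)

variable (B) in
theorem disjoint_of_under_le (P : Ideal B) (hP : P.under A ≤ m) :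
    Disjoint (Algebra.algebraMapSubmonoid B m.primeCompl : Set B) P := by
  rw [Set.disjoint_left]
  rintro _ ⟨a, ha, rfl⟩ hmem
  exact ha (hP hmem)

theorem isMaximal_map (n : Ideal B) [hn : n.IsMaximal] (hnm : n.under A ≤ m) :
    (n.map (algebraMap B (Cm (B := B) m))).IsMaximal := by
  have hd := disjoint_of_under_le B m n hnm
  have hprime : (n.map (algebraMap B (Cm (B := B) m))).IsPrime :=
    IsLocalization.isPrime_of_isPrime_disjoint _ _ n hn.isPrime hd
  have hcomap : (n.map (algebraMap B (Cm (B := B) m))).under B = n :=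
    IsLocalization.under_map_of_isPrime_disjoint _ _ hn.isPrime hd
  obtain ⟨𝔫, h𝔫, hle⟩ := Ideal.exists_le_maximal _ hprime.ne_top
  have h1 : n ≤ 𝔫.under B := by
    rw [← hcomap]
    exact Ideal.comap_mono hle
  have h2 : 𝔫.under B = n :=
    (hn.eq_of_le (Ideal.IsPrime.ne_top (Ideal.comap_isPrime _ _)) h1).symm
  have h3 : 𝔫 = n.map (algebraMap B (Cm (B := B) m)) := by
    rw [← h2]
    exact (IsLocalization.map_comap (Algebra.algebraMapSubmonoid B m.primeCompl) _ 𝔫).symm
  rw [← h3]
  exact h𝔫

variable [HenselianLocalRing (Localization.AtPrime m)]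

theorem eq_of_le_of_le (Q n₁ n₂ : Ideal B) [hQ : Q.IsPrime] [hn₁ : n₁.IsMaximal]
    [hn₂ : n₂.IsMaximal] (h1 : Q ≤ n₁) (h2 : Q ≤ n₂) (hm1 : n₁.under A ≤ m)
    (hm2 : n₂.under A ≤ m) : n₁ = n₂ := by
  by_contra hne
  obtain ⟨x, hx2, hx1⟩ : ∃ x ∈ n₂, x ∉ n₁ := by
    by_contra hcon
    push_neg at hcon
    exact hne (hn₂.eq_of_le hn₁.ne_top hcon).symm
  set C := Cm (B := B) m
  have hd1 := disjoint_of_under_le B m n₁ hm1
  have hd2 := disjoint_of_under_le B m n₂ hm2
  haveI hmax1 : (n₁.map (algebraMap B C)).IsMaximal := isMaximal_map m n₁ hm1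
  have hprime2 : (n₂.map (algebraMap B C)).IsPrime :=
    IsLocalization.isPrime_of_isPrime_disjoint _ _ n₂ hn₂.isPrime hd2
  have hcomap1 : (n₁.map (algebraMap B C)).under B = n₁ :=
    IsLocalization.under_map_of_isPrime_disjoint _ _ hn₁.isPrime hd1
  have hdQ := disjoint_of_under_le B m Q ((Ideal.comap_mono h1).trans hm1)
  have hprimeQ : (Q.map (algebraMap B C)).IsPrime :=
    IsLocalization.isPrime_of_isPrime_disjoint _ _ Q hQ hdQ
  have hsurj := Groth.Agent.Lib.Helper69.HensFinite.surjective_algebraMap_atPrime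
    (Localization.AtPrime m) C (n₁.map (algebraMap B C))
  have hx' : algebraMap B C x ∉ n₁.map (algebraMap B C) := by
    intro hmem
    apply hx1
    rw [← hcomap1]
    exact hmem
  have hunit : IsUnit (algebraMap C (Localization.AtPrime (n₁.map (algebraMap B C)))
      (algebraMap B C x)) :=
    IsLocalization.map_units _ (⟨algebraMap B C x, hx'⟩ : (n₁.map (algebraMap B C)).primeCompl)
  obtain ⟨u, hu⟩ := hunit.exists_right_inv
  obtain ⟨y, rfl⟩ := hsurj u
  rw [← map_mul] at hu
  have hu' : algebraMap C (Localization.AtPrime (n₁.map (algebraMap B C)))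
      (algebraMap B C x * y) = algebraMap C _ 1 := by rw [hu, map_one]
  obtain ⟨t, ht⟩ := (IsLocalization.eq_iff_exists (n₁.map (algebraMap B C)).primeCompl _).mp hu'
  have hmem : (t : C) * (algebraMap B C x * y - 1) ∈ Q.map (algebraMap B C) := by
    rw [mul_sub, ht, sub_self]
    exact Ideal.zero_mem _
  rcases hprimeQ.mem_or_mem hmem with h | h
  · exact t.2 (Ideal.map_mono h1 h)
  · have h3 : algebraMap B C x * y - 1 ∈ n₂.map (algebraMap B C) := Ideal.map_mono h2 h
    have h4 : algebraMap B C x * y ∈ n₂.map (algebraMap B C) :=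
      Ideal.mul_mem_right _ _ (Ideal.mem_map_of_mem _ hx2)
    have h5 : (1 : C) ∈ n₂.map (algebraMap B C) := by
      have := Ideal.sub_mem _ h4 h3
      rwa [sub_sub_cancel] at this
    exact hprime2.ne_top ((Ideal.eq_top_iff_one _).mpr h5)

end loc

theorem isStrictlyHenselian_congr (P P' : Ideal B) [P.IsPrime] [P'.IsPrime] (h : P = P')
    (H : EtCoh.IsStrictlyHenselianLocalRing (Localization.AtPrime P)) :
    EtCoh.IsStrictlyHenselianLocalRing (Localization.AtPrime P') := by
  subst h
  exact H

theorem isStrictlyHenselian_atPrime (m : Ideal A) [hm : m.IsMaximal]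
    (hsh : EtCoh.IsStrictlyHenselianLocalRing (Localization.AtPrime m))
    (n : Ideal B) [hn : n.IsMaximal] (hnm : n.under A ≤ m) :
    EtCoh.IsStrictlyHenselianLocalRing (Localization.AtPrime n) := by
  obtain ⟨hH, hsc⟩ := hsh
  set C := Cm (B := B) m
  have hd := disjoint_of_under_le B m n hnm
  haveI hmax : (n.map (algebraMap B C)).IsMaximal := isMaximal_map m n hnm
  have hcomap : (n.map (algebraMap B C)).under B = n :=
    IsLocalization.under_map_of_isPrime_disjoint _ _ hn.isPrime hd
  set D := Localization.AtPrime (n.map (algebraMap B C))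
  have hsurj : Function.Surjective (algebraMap C D) :=
    Groth.Agent.Lib.Helper69.HensFinite.surjective_algebraMap_atPrime
    (Localization.AtPrime m) C (n.map (algebraMap B C))
  haveI : Module.Finite (Localization.AtPrime m) D :=
    Module.Finite.of_surjective
      (IsScalarTower.toAlgHom (Localization.AtPrime m) C D).toLinearMap hsurj
  haveI : Algebra.IsIntegral (Localization.AtPrime m) D := inferInstance
  have hHD : HenselianLocalRing D :=
    Groth.Agent.Lib.Helper69.HensIntegralU.henselianLocalRing_of_isIntegral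
      (Localization.AtPrime m) D
  have hscD : IsSepClosed (ResidueField D) :=
    Groth.Agent.Lib.Helper69.HensIntegralU.isSepClosed_residueField_of_isIntegral
      (Localization.AtPrime m) D
  have hD : EtCoh.IsStrictlyHenselianLocalRing D := ⟨hHD, hscD⟩
  have e := IsLocalization.localizationLocalizationAtPrimeIsoLocalization
    (Algebra.algebraMapSubmonoid B m.primeCompl) (n.map (algebraMap B C))
  have h1 : EtCoh.IsStrictlyHenselianLocalRing
      (Localization.AtPrime ((n.map (algebraMap B C)).comap (algebraMap B C))) :=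
    Groth.Agent.Lib.Helper82.isStrictlyHenselianLocalRing_of_ringEquiv e.symm.toRingEquiv hD
  exact isStrictlyHenselian_congr _ _ hcomap h1

end Groth.Agent.Lib.Helper82.FinWC
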