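import Mathlib
import Groth.Agent.S9633

open PrimeSpectrum Topology

namespace Groth.Agent.Lib.Helper82.QFED

universe u


/-- topological core: a compact space mapping to a Hausdorff ED space by a continuous open map that
is injective on clopen neighbourhoods is ED. -/
theorem extremallyDisconnected_of_local_inj {X Y : Type*} [TopologicalSpace X]
    [TopologicalSpace Y] [T2Space X] [ExtremallyDisconnected X] [CompactSpace Y] (f : Y → X)
    (hc : Continuous f) (ho : IsOpenMap f)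
    (hloc : ∀ y : Y, ∃ V : Set Y, IsClopen V ∧ y ∈ V ∧ Set.InjOn f V) :
    ExtremallyDisconnected Y := by
  refine ⟨fun U hU => ?_⟩
  rw [isOpen_iff_mem_nhds]
  intro y hy
  obtain ⟨V, hV, hyV, hinj⟩ := hloc y
  -- the open neighbourhood
  have hW : IsOpen (V ∩ f ⁻¹' closure (f '' (U ∩ V))) :=
    hV.isOpen.inter ((ExtremallyDisconnected.open_closure _ (ho _ (hU.inter hV.isOpen))).preimage hc)
  have hUV : closure U ∩ V ⊆ closure (U ∩ V) := hV.isOpen.closure_inter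
  have hyW : y ∈ V ∩ f ⁻¹' closure (f '' (U ∩ V)) := by
    refine ⟨hyV, ?_⟩
    have : y ∈ closure (U ∩ V) := hUV ⟨hy, hyV⟩
    exact image_closure_subset_closure_image hc ⟨y, this, rfl⟩
  refine Filter.mem_of_superset (hW.mem_nhds hyW) ?_
  rintro z ⟨hzV, hz⟩
  -- f (closure (U ∩ V)) is closed
  have hcl : IsClosed (f '' closure (U ∩ V)) :=
    (isClosed_closure.isCompact.image hc).isClosed
  have : closure (f '' (U ∩ V)) ⊆ f '' closure (U ∩ V) :=
    closure_minimal (Set.image_mono subset_closure) hcl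
  obtain ⟨z', hz', hzz'⟩ := this hz
  have hz'V : z' ∈ V := by
    have : closure (U ∩ V) ⊆ V := closure_minimal Set.inter_subset_right hV.isClosed
    exact this hz'
  have : z' = z := hinj hz'V hzV hzz'
  rw [← this]
  exact closure_mono Set.inter_subset_left hz'

variable (A B : Type u) [CommRing A] [CommRing B] [Algebra A B]

theorem isMaximal_of_t2 [T2Space (PrimeSpectrum A)] (p : Ideal A) [hp : p.IsPrime] :
    p.IsMaximal := by
  have h : T2Space (PrimeSpectrum A) ↔ ∀ p : Ideal A, p.IsPrime → p.IsMaximal :=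
    (Groth.Agent.S9633.result (R := A)).out 1 5
  exact h.mp inferInstance p hp

theorem isMaximal_of_quasiFinite [T2Space (PrimeSpectrum A)] [Algebra.QuasiFinite A B]
    (Q : Ideal B) [hQ : Q.IsPrime] : Q.IsMaximal := by
  obtain ⟨M, hM, hQM⟩ := Ideal.exists_le_maximal Q hQ.ne_top
  haveI := hM.isPrime
  have h1 : (Q.under A).IsMaximal := isMaximal_of_t2 A _
  have h2 : Q.under A = M.under A :=
    h1.eq_of_le (Ideal.IsPrime.ne_top inferInstance) (Ideal.comap_mono hQM)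
  have := Algebra.QuasiFinite.eq_of_le_of_under_eq (R := A) Q M hQM h2
  rw [this]
  exact hM

theorem profinite_of_quasiFinite [T2Space (PrimeSpectrum A)] [Algebra.QuasiFinite A B] :
    T2Space (PrimeSpectrum B) ∧ TotallyDisconnectedSpace (PrimeSpectrum B) := by
  have h : (∀ p : Ideal B, p.IsPrime → p.IsMaximal) ↔ (CompactSpace (PrimeSpectrum B) ∧
      T2Space (PrimeSpectrum B) ∧ TotallyDisconnectedSpace (PrimeSpectrum B)) :=
    (Groth.Agent.S9633.result (R := B)).out 5 0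
  exact (h.mp (fun Q hQ => by haveI := hQ; exact isMaximal_of_quasiFinite A B Q)).2

theorem hasGoingDown_of_t2 [T2Space (PrimeSpectrum A)] : Algebra.HasGoingDown A B := by
  refine ⟨fun {p} _ Q _ hlt => ?_⟩
  exfalso
  have h1 : p.IsMaximal := isMaximal_of_t2 A _
  have := h1.eq_of_le (Ideal.IsPrime.ne_top inferInstance) hlt.le
  exact hlt.ne this

theorem isOpenMap_comap_of_t2 [T2Space (PrimeSpectrum A)] [Algebra.FinitePresentation A B] :
    IsOpenMap (comap (algebraMap A B)) := by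
  haveI := hasGoingDown_of_t2 A B
  exact isOpenMap_comap_of_hasGoingDown_of_finitePresentation



theorem exists_frob (R : Type*) [CommRing R] (ℓ m : ℕ) (h : ℓ = 1 ∨ (ℓ.Prime ∧ (ℓ : R) = 0)) :
    ∃ F : R →+* R, ∀ x, F x = x ^ (ℓ ^ m) := by
  rcases h with rfl | ⟨hp, h0⟩
  · exact ⟨RingHom.id R, fun x => by simp⟩
  · rcases subsingleton_or_nontrivial R with hs | hn
    · exact ⟨RingHom.id R, fun x => Subsingleton.elim _ _⟩
    · haveI : Fact ℓ.Prime := ⟨hp⟩
      haveI : CharP R ℓ := (CharP.charP_iff_prime_eq_zero hp).mpr h0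
      exact ⟨iterateFrobenius R ℓ m, fun x => iterateFrobenius_def ..⟩

section
variable {A B : Type u} [CommRing A] [CommRing B] [Algebra A B]

theorem mem_iff_eval₂ {n : ℕ} (φ : MvPolynomial (Fin n) A →ₐ[A] B) (ℓ m : ℕ) (c : Fin n → A)
    (p₁ : Ideal A) [p₁.IsPrime] (hℓ : ℓ = 1 ∨ (ℓ.Prime ∧ (ℓ : A) ∈ p₁))
    (Fk : (A ⧸ p₁) →+* (A ⧸ p₁)) (hFk : ∀ x, Fk x = x ^ (ℓ ^ m))
    (Q : Ideal B) [Q.IsPrime] (h1 : Q.comap (algebraMap A B) = p₁)
    (hc : ∀ j, φ (MvPolynomial.X j) ^ (ℓ ^ m) - algebraMap A B (c j) ∈ Q)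
    (P : MvPolynomial (Fin n) A) :
    φ P ∈ Q ↔ MvPolynomial.eval₂ (Fk.comp (Ideal.Quotient.mk p₁))
      (fun j => Ideal.Quotient.mk p₁ (c j)) P = 0 := by
  have hℓ0 : ℓ ^ m ≠ 0 := by
    rcases hℓ with rfl | ⟨hp, -⟩
    · simp
    · exact pow_ne_zero _ hp.ne_zero
  have hℓK : ℓ = 1 ∨ (ℓ.Prime ∧ (ℓ : B ⧸ Q) = 0) := by
    rcases hℓ with h | ⟨hp, hmem⟩
    · exact Or.inl h
    · refine Or.inr ⟨hp, ?_⟩
      have : algebraMap A B (ℓ : A) ∈ Q := by
        rw [← h1] at hmem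
        exact hmem
      rw [map_natCast] at this
      have h2 := Ideal.Quotient.eq_zero_iff_mem.mpr this
      rwa [map_natCast] at h2
  obtain ⟨FK, hFK⟩ := exists_frob (B ⧸ Q) ℓ m hℓK
  let ι : (A ⧸ p₁) →+* (B ⧸ Q) := Ideal.quotientMap Q (algebraMap A B) h1.ge
  have hι : Function.Injective ι := Ideal.quotientMap_injective' h1.le
  have key : (FK.comp ((Ideal.Quotient.mk Q).comp φ.toRingHom)) =
      ι.comp (MvPolynomial.eval₂Hom (Fk.comp (Ideal.Quotient.mk p₁))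
        (fun j => Ideal.Quotient.mk p₁ (c j))) := by
    refine MvPolynomial.ringHom_ext (fun a => ?_) (fun j => ?_)
    · simp only [RingHom.comp_apply, AlgHom.toRingHom_eq_coe, RingHom.coe_coe,
        MvPolynomial.coe_eval₂Hom, MvPolynomial.eval₂_C, hFK, hFk]
      rw [map_pow]
      congr 1
      rw [← MvPolynomial.algebraMap_eq, AlgHom.commutes]
      exact (Ideal.quotientMap_mk).symm
    · simp only [RingHom.comp_apply, AlgHom.toRingHom_eq_coe, RingHom.coe_coe,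
        MvPolynomial.coe_eval₂Hom, MvPolynomial.eval₂_X, hFK]
      rw [← map_pow]
      have := Ideal.Quotient.eq.mpr (hc j)
      rw [this]
      exact (Ideal.quotientMap_mk).symm
  have h3 := congrArg (fun g => g P) key
  simp only [RingHom.comp_apply, AlgHom.toRingHom_eq_coe, RingHom.coe_coe,
        MvPolynomial.coe_eval₂Hom, hFK] at h3
  rw [← Ideal.Quotient.eq_zero_iff_mem, ← pow_eq_zero_iff hℓ0, h3]
  exact (map_eq_zero_iff ι hι)

theorem eq_of_pow_sub_mem {n : ℕ} (φ : MvPolynomial (Fin n) A →ₐ[A] B)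
    (hφ : Function.Surjective φ) (ℓ m : ℕ) (c : Fin n → A)
    (p₁ : Ideal A) [p₁.IsPrime] (hℓ : ℓ = 1 ∨ (ℓ.Prime ∧ (ℓ : A) ∈ p₁))
    (Q₁ Q₂ : Ideal B) [Q₁.IsPrime] [Q₂.IsPrime]
    (h1 : Q₁.comap (algebraMap A B) = p₁) (h2 : Q₂.comap (algebraMap A B) = p₁)
    (hc1 : ∀ j, φ (MvPolynomial.X j) ^ (ℓ ^ m) - algebraMap A B (c j) ∈ Q₁)
    (hc2 : ∀ j, φ (MvPolynomial.X j) ^ (ℓ ^ m) - algebraMap A B (c j) ∈ Q₂) : Q₁ = Q₂ := by
  have hℓk : ℓ = 1 ∨ (ℓ.Prime ∧ (ℓ : A ⧸ p₁) = 0) := by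
    rcases hℓ with h | ⟨hp, hmem⟩
    · exact Or.inl h
    · refine Or.inr ⟨hp, ?_⟩
      have h2 := Ideal.Quotient.eq_zero_iff_mem.mpr hmem
      rwa [map_natCast] at h2
  obtain ⟨Fk, hFk⟩ := exists_frob (A ⧸ p₁) ℓ m hℓk
  ext b
  obtain ⟨P, rfl⟩ := hφ b
  rw [mem_iff_eval₂ φ ℓ m c p₁ hℓ Fk hFk Q₁ h1 hc1 P, mem_iff_eval₂ φ ℓ m c p₁ hℓ Fk hFk Q₂ h2 hc2 P]




theorem exists_pow_sub_mem [Algebra.QuasiFinite A B] (q : Ideal B) [q.IsPrime]
    [hmax : (q.under A).IsMaximal]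
    (hres : IsSepClosed (q.under A).ResidueField) (ℓ : ℕ) [ExpChar (q.under A).ResidueField ℓ]
    (b : B) :
    ∃ (m : ℕ) (c : A), b ^ (ℓ ^ m) - algebraMap A B c ∈ q := by
  set p := q.under A with hp
  haveI : q.LiesOver p := ⟨rfl⟩
  letI := Localization.AtPrime.algebraOfLiesOver p q
  haveI : Module.Finite p.ResidueField q.ResidueField := inferInstance
  haveI : IsPurelyInseparable p.ResidueField q.ResidueField := inferInstance
  obtain ⟨m, y, hy⟩ := IsPurelyInseparable.pow_mem p.ResidueField ℓ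
    (algebraMap B q.ResidueField b)
  obtain ⟨c, rfl⟩ := Ideal.algebraMap_residueField_surjective p y
  refine ⟨m, c, ?_⟩
  rw [← Ideal.algebraMap_residueField_eq_zero, map_sub, map_pow, ← hy,
    ← IsScalarTower.algebraMap_apply, ← IsScalarTower.algebraMap_apply, sub_self]

theorem exists_pow_sub_mem_uniform [Algebra.QuasiFinite A B] (q : Ideal B) [q.IsPrime]
    [hmax : (q.under A).IsMaximal]
    (hres : IsSepClosed (q.under A).ResidueField) (ℓ : ℕ) [ExpChar (q.under A).ResidueField ℓ]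
    {n : ℕ} (b : Fin n → B) :
    ∃ (m : ℕ) (c : Fin n → A), ∀ j, b j ^ (ℓ ^ m) - algebraMap A B (c j) ∈ q := by
  choose m₀ c₀ h₀ using fun j => exists_pow_sub_mem q hres ℓ (b j)
  refine ⟨Finset.univ.sup m₀, fun j => c₀ j ^ (ℓ ^ (Finset.univ.sup m₀ - m₀ j)), fun j => ?_⟩
  have hle : m₀ j ≤ Finset.univ.sup m₀ := Finset.le_sup (Finset.mem_univ j)
  have e1 : ℓ ^ (Finset.univ.sup m₀) = ℓ ^ (m₀ j) * ℓ ^ (Finset.univ.sup m₀ - m₀ j) := by
    rw [← pow_add, Nat.add_sub_cancel' hle]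
  rw [e1, pow_mul, map_pow]
  obtain ⟨d, hd⟩ := sub_dvd_pow_sub_pow (b j ^ (ℓ ^ m₀ j)) (algebraMap A B (c₀ j))
    (ℓ ^ (Finset.univ.sup m₀ - m₀ j))
  rw [hd]
  exact q.mul_mem_right _ (h₀ j)


end

section main
variable (A B : Type u) [CommRing A] [CommRing B] [Algebra A B]

theorem exists_clopen_injOn [T2Space (PrimeSpectrum A)] [Algebra.QuasiFinite A B]
    [Algebra.FiniteType A B]
    (hres : ∀ p : PrimeSpectrum A, IsSepClosed p.asIdeal.ResidueField) (q : PrimeSpectrum B) :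
    ∃ V : Set (PrimeSpectrum B), IsClopen V ∧ q ∈ V ∧ Set.InjOn (comap (algebraMap A B)) V := by
  obtain ⟨hT2, hTD⟩ := profinite_of_quasiFinite A B
  set f := comap (algebraMap A B) with hf
  set p : Ideal A := q.asIdeal.under A with hp
  haveI hpmax : (q.asIdeal.under A).IsMaximal := isMaximal_of_t2 A _
  have hfq : (f q).asIdeal = p := rfl
  -- separate q from the rest of its fibre
  have hfin : (f ⁻¹' {f q} \ {q}).Finite :=
    (Algebra.QuasiFinite.finite_comap_preimage_singleton (f q)).subset Set.sdiff_subset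
  obtain ⟨V₀, hV₀, hqV₀, hV₀sub⟩ := compact_exists_isClopen_in_isOpen
    hfin.isClosed.isOpen_compl (show q ∈ (f ⁻¹' {f q} \ {q})ᶜ from fun h => h.2 rfl)
  obtain ⟨e, he, rfl⟩ := PrimeSpectrum.isClopen_iff.mp hV₀
  -- generators
  obtain ⟨n, φ, hφ⟩ := Algebra.FiniteType.iff_quotient_mvPolynomial''.mp
    (inferInstance : Algebra.FiniteType A B)
  obtain ⟨ℓ, hℓ⟩ : ∃ ℓ, ExpChar p.ResidueField ℓ := ⟨_, ringExpChar.expChar _⟩
  obtain ⟨m, c, hc⟩ := exists_pow_sub_mem_uniform q.asIdeal (hres (f q)) ℓ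
    (fun j => φ (MvPolynomial.X j))
  have hℓp : ℓ = 1 ∨ (ℓ.Prime ∧ (ℓ : A) ∈ p) := by
    cases hℓ with
    | zero => exact Or.inl rfl
    | prime hprime =>
      refine Or.inr ⟨hprime, ?_⟩
      rw [← Ideal.algebraMap_residueField_eq_zero, map_natCast]
      exact CharP.cast_eq_zero _ _
  -- the bad set
  let Z : Set (PrimeSpectrum A) :=
    (⋃ j, f '' (basicOpen (e * (φ (MvPolynomial.X j) ^ (ℓ ^ m) - algebraMap A B (c j))) :
      Set (PrimeSpectrum B))) ∪ {x | ℓ ≠ 1 ∧ x ∈ basicOpen (ℓ : A)}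
  have hZ : IsClosed Z := by
    refine IsClosed.union (isClosed_iUnion_of_finite fun j => ?_) ?_
    · exact ((isCompact_basicOpen _).image (continuous_comap (algebraMap A B))).isClosed
    · by_cases h1 : ℓ = 1
      · simp [h1]
      · simp only [ne_eq, h1, not_false_eq_true, true_and]
        exact (isCompact_basicOpen (ℓ : A)).isClosed
  have hpZ : f q ∉ Z := by
    rintro (h | ⟨h1, h2⟩)
    · obtain ⟨j, Q, hQ, hQp⟩ := Set.mem_iUnion.mp h
      rw [SetLike.mem_coe, mem_basicOpen] at hQ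
      apply hQ
      by_cases hQq : Q = q
      · rw [hQq]
        exact q.asIdeal.mul_mem_left _ (hc j)
      · have : Q ∉ (basicOpen e : Set (PrimeSpectrum B)) := fun hQe =>
          hV₀sub hQe ⟨hQp, hQq⟩
        rw [SetLike.mem_coe, mem_basicOpen, not_not] at this
        exact Q.asIdeal.mul_mem_right _ this
    · rcases hℓp with h | ⟨-, h⟩
      · exact h1 h
      · exact h2 h
  -- the neighbourhood
  have hW : IsOpen ((basicOpen e : Set (PrimeSpectrum B)) ∩ f ⁻¹' Zᶜ) :=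
    (basicOpen e).2.inter (hZ.isOpen_compl.preimage (continuous_comap (algebraMap A B)))
  obtain ⟨V, hV, hqV, hVsub⟩ := compact_exists_isClopen_in_isOpen hW ⟨hqV₀, hpZ⟩
  refine ⟨V, hV, hqV, ?_⟩
  intro Q₁ hQ₁ Q₂ hQ₂ h12
  have key : ∀ Q ∈ V, ∀ j, φ (MvPolynomial.X j) ^ (ℓ ^ m) - algebraMap A B (c j) ∈ Q.asIdeal := by
    intro Q hQ j
    obtain ⟨hQe, hQZ⟩ := hVsub hQ
    rw [SetLike.mem_coe, mem_basicOpen] at hQe
    have h1 : Q ∉ (basicOpen (e * (φ (MvPolynomial.X j) ^ (ℓ ^ m) - algebraMap A B (c j))) :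
        Set (PrimeSpectrum B)) := fun h => hQZ (Or.inl (Set.mem_iUnion.mpr ⟨j, Q, h, rfl⟩))
    rw [SetLike.mem_coe, mem_basicOpen, not_not] at h1
    exact (Q.2.mem_or_mem h1).resolve_left hQe
  have hℓ1 : ℓ = 1 ∨ (ℓ.Prime ∧ (ℓ : A) ∈ (f Q₁).asIdeal) := by
    rcases hℓp with h | ⟨hprime, -⟩
    · exact Or.inl h
    · refine Or.inr ⟨hprime, ?_⟩
      by_contra hmem
      refine (hVsub hQ₁).2 (Or.inr ⟨hprime.ne_one, ?_⟩)
      rw [mem_basicOpen]
      exact hmem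
  apply PrimeSpectrum.ext
  exact eq_of_pow_sub_mem φ hφ ℓ m c (f Q₁).asIdeal hℓ1 Q₁.asIdeal Q₂.asIdeal rfl
    (congrArg PrimeSpectrum.asIdeal h12).symm (key Q₁ hQ₁) (key Q₂ hQ₂)

theorem extremallyDisconnected_of_quasiFinite [Algebra.QuasiFinite A B]
    [Algebra.FinitePresentation A B]
    (hres : ∀ p : PrimeSpectrum A, IsSepClosed p.asIdeal.ResidueField)
    [T2Space (PrimeSpectrum A)] [ExtremallyDisconnected (PrimeSpectrum A)] :
    ExtremallyDisconnected (PrimeSpectrum B) :=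
  extremallyDisconnected_of_local_inj (comap (algebraMap A B)) (continuous_comap (algebraMap A B))
    (isOpenMap_comap_of_t2 A B) (exists_clopen_injOn A B hres)

end main

end Groth.Agent.Lib.Helper82.QFED
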