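import Groth.Agent.Lib.Helper82.EtRetr

set_option autoImplicit false
universe u

/-!
# Rings with etale retractions have strictly henselian local rings at maximal ideals
-/

namespace Groth.Agent.Lib.Helper82.EtRetr

open PrimeSpectrum Polynomial IsLocalRing

section ScaleDeriv

variable {S T : Type*} [CommRing S] [CommRing T]

theorem scaleRoots_derivative_eval₂_mul (p : S[X]) (f : S →+* T) (s : S) (r : T) :
    eval₂ f (f s * r) (derivative (scaleRoots p s)) * f s =
      f s ^ p.natDegree * eval₂ f r (derivative p) := by
  have h1 : (derivative (scaleRoots p s)).natDegree < p.natDegree + 1 :=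
    lt_of_le_of_lt (natDegree_derivative_le _) (by
      rw [natDegree_scaleRoots]; exact Nat.lt_succ_of_le (Nat.sub_le _ _))
  have h2 : (derivative p).natDegree < p.natDegree + 1 :=
    lt_of_le_of_lt (natDegree_derivative_le _) (Nat.lt_succ_of_le (Nat.sub_le _ _))
  rw [eval₂_eq_sum_range' f h1, eval₂_eq_sum_range' f h2, Finset.sum_mul, Finset.mul_sum]
  refine Finset.sum_congr rfl fun i _ => ?_
  rw [coeff_derivative, coeff_derivative, coeff_scaleRoots]
  by_cases hi : i + 1 ≤ p.natDegree
  · have hpow : p.natDegree = (p.natDegree - (i + 1)) + i + 1 := by omega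
    conv_rhs => rw [hpow]
    simp only [map_mul, map_pow, map_add, map_natCast, map_one, mul_pow, pow_add, pow_one]
    ring
  · have : p.coeff (i + 1) = 0 := coeff_eq_zero_of_natDegree_lt (by omega)
    rw [this]
    simp

end ScaleDeriv

section Residue

variable {A : Type u} [CommRing A] (m : Ideal A) [hm : m.IsMaximal]

local notation "R" => Localization.AtPrime m
local notation "κ" => IsLocalRing.ResidueField (Localization.AtPrime m)

lemma algebraMap_residueField_apply (a : A) :
    algebraMap A κ a = residue R (algebraMap A R a) := rfl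

include hm in
lemma algebraMap_residueField_surjective : Function.Surjective (algebraMap A κ) := by
  intro z
  obtain ⟨y, hy⟩ := (IsLocalization.AtPrime.equivQuotMaximalIdeal m R).surjective z
  obtain ⟨x, rfl⟩ := Ideal.Quotient.mk_surjective y
  rw [IsLocalization.AtPrime.equivQuotMaximalIdeal_apply_mk] at hy
  exact ⟨x, hy⟩

lemma ker_algebraMap_residueField : RingHom.ker (algebraMap A κ) = m := by
  ext a
  rw [RingHom.mem_ker, algebraMap_residueField_apply, residue_eq_zero_iff,
    IsLocalization.AtPrime.to_map_mem_maximal_iff _ m]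

lemma residue_aeval (F : A[X]) (x : R) :
    residue R (aeval x F) = eval (residue R x) (F.map (algebraMap A κ)) := by
  rw [aeval_def, hom_eval₂, eval_map]
  rfl

end Residue

section SepClosed

variable {A : Type u} [CommRing A] (h : ProEtW.HasEtaleRetractions A) (m : Ideal A) [hm : m.IsMaximal]

local notation "R" => Localization.AtPrime m
local notation "κ" => IsLocalRing.ResidueField (Localization.AtPrime m)

include h hm in
theorem isSepClosed_residueField : IsSepClosed κ := by
  refine IsSepClosed.of_exists_root _ fun p hp hirr hsep => ?_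
  have hlift : p ∈ lifts (algebraMap A κ) := by
    rw [mem_lifts]
    exact map_surjective _ (algebraMap_residueField_surjective m) p
  obtain ⟨F, hFp, -, hFm⟩ := lifts_and_degree_eq_and_monic hlift hp
  let P : StandardEtalePair A := ⟨F, hFm, derivative F, ⟨1, 0, 1, by ring⟩⟩
  have : Fact (Irreducible p) := ⟨hirr⟩
  have hL : RingHom.ker (algebraMap A (AdjoinRoot p)) = m := by
    ext a
    have h1 : a ∈ m ↔ algebraMap A κ a = 0 := by
      rw [← RingHom.mem_ker, ker_algebraMap_residueField m]
    rw [RingHom.mem_ker, h1, AdjoinRoot.algebraMap_eq', RingHom.comp_apply]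
    exact (map_eq_zero_iff _ (AdjoinRoot.of p).injective)
  have haeval : ∀ G : A[X], aeval (AdjoinRoot.root p) G =
      eval₂ (AdjoinRoot.of p) (AdjoinRoot.root p) (G.map (algebraMap A κ)) := by
    intro G
    rw [aeval_def, eval₂_map, AdjoinRoot.algebraMap_eq']
  have hmap : P.HasMap (AdjoinRoot.root p) := by
    refine ⟨?_, ?_⟩
    · show aeval (AdjoinRoot.root p) F = 0
      rw [haeval, hFp, AdjoinRoot.eval₂_root]
    · show IsUnit (aeval (AdjoinRoot.root p) (derivative F))
      rw [haeval, ← derivative_map, hFp]
      obtain ⟨a, b, hab⟩ := hsep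
      have h1 := congrArg (eval₂ (AdjoinRoot.of p) (AdjoinRoot.root p)) hab
      rw [eval₂_add, eval₂_mul, eval₂_mul, AdjoinRoot.eval₂_root, mul_zero, zero_add, eval₂_one]
        at h1
      exact IsUnit.of_mul_eq_one _ (by rw [mul_comm]; exact h1)
  obtain ⟨x, hx⟩ := exists_hasMap_localization h m P (AdjoinRoot p) hL (AdjoinRoot.root p) hmap
  refine ⟨residue R x, ?_⟩
  have h2 : aeval x F = 0 := hx.1
  rw [← hFp, ← residue_aeval, h2, map_zero]

end SepClosed

section Henselian

variable {A : Type u} [CommRing A] (h : ProEtW.HasEtaleRetractions A) (m : Ideal A) [hm : m.IsMaximal]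

local notation "R" => Localization.AtPrime m
local notation "κ" => IsLocalRing.ResidueField (Localization.AtPrime m)

include h hm in
theorem henselianLocalRing_localization : HenselianLocalRing R := by
  refine ((HenselianLocalRing.TFAE R).out 0 1).2 ?_
  intro f hf a₀ h0 h1
  rw [aeval_def, ResidueField.algebraMap_eq] at h0 h1
  let s : m.primeCompl := IsLocalization.commonDenom m.primeCompl f.support f.coeff
  let σ : R := algebraMap A R s
  have hσu : IsUnit σ := IsLocalization.map_units R s
  have hl : f.scaleRoots σ ∈ lifts (algebraMap A R) :=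
    IsLocalization.scaleRoots_commonDenom_mem_lifts m.primeCompl f (by
      rw [hf.leadingCoeff]
      exact ⟨1, map_one _⟩)
  have hmon : (f.scaleRoots σ).Monic := (monic_scaleRoots_iff σ).2 hf
  obtain ⟨F, hFf, -, hFm⟩ := lifts_and_degree_eq_and_monic hl hmon
  have hσ0 : residue R σ ≠ 0 := (residue_ne_zero_iff_isUnit σ).2 hσu
  obtain ⟨α, hα⟩ := algebraMap_residueField_surjective m (residue R σ * a₀)
  have hFκ : F.map (algebraMap A κ) = (f.scaleRoots σ).map (residue R) := by
    rw [← hFf, map_map]
    rfl
  have e0 : eval (residue R σ * a₀) (F.map (algebraMap A κ)) = 0 := by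
    rw [hFκ, eval_map, scaleRoots_eval₂_mul, h0, mul_zero]
  have e1 : eval (residue R σ * a₀) (derivative (F.map (algebraMap A κ))) ≠ 0 := by
    rw [hFκ, derivative_map, eval_map]
    intro hz
    have h2 := scaleRoots_derivative_eval₂_mul f (residue R) σ a₀
    rw [hz, zero_mul] at h2
    exact h1 ((mul_eq_zero.1 h2.symm).resolve_left (pow_ne_zero _ hσ0))
  rw [← hα] at e0 e1
  -- division by `X - α`
  let Q : A[X] := F /ₘ (X - C α)
  have hFQ : F = (X - C α) * Q + C (F.eval α) := by
    have h2 := modByMonic_add_div F (X - C α)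
    rw [modByMonic_X_sub_C_eq_C_eval] at h2
    rw [add_comm]
    exact h2.symm
  have hF' : derivative F = Q + (X - C α) * derivative Q := by
    conv_lhs => rw [hFQ]
    rw [derivative_add, derivative_mul, derivative_sub, derivative_X, derivative_C, derivative_C,
      sub_zero, one_mul, add_zero]
  have hQα : Q.eval α = (derivative F).eval α := by
    rw [hF', eval_add, eval_mul, eval_sub, eval_X, eval_C, sub_self, zero_mul, add_zero]
  have hev : ∀ G : A[X], eval (algebraMap A κ α) (G.map (algebraMap A κ)) =
      algebraMap A κ (G.eval α) := by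
    intro G
    rw [eval_map, eval₂_at_apply]
  have hFα : algebraMap A κ (F.eval α) = 0 := by
    rw [← hev]
    exact e0
  have hF'α : algebraMap A κ ((derivative F).eval α) ≠ 0 := by
    rw [← hev, ← derivative_map]
    exact e1
  let P : StandardEtalePair A := ⟨F, hFm, derivative F * Q, ⟨Q, 0, 1, by ring⟩⟩
  have haev : ∀ G : A[X], aeval (algebraMap A κ α) G = algebraMap A κ (G.eval α) := by
    intro G
    rw [aeval_def, eval₂_at_apply]
  have hmap : P.HasMap (algebraMap A κ α) := by
    refine ⟨?_, ?_⟩
    · show aeval (algebraMap A κ α) F = 0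
      rw [haev, hFα]
    · show IsUnit (aeval (algebraMap A κ α) (derivative F * Q))
      rw [haev, eval_mul, hQα, map_mul]
      exact (isUnit_iff_ne_zero.2 hF'α).mul (isUnit_iff_ne_zero.2 hF'α)
  obtain ⟨x, hx⟩ := exists_hasMap_localization h m P κ (ker_algebraMap_residueField m)
    (algebraMap A κ α) hmap
  have hx0 : aeval x F = 0 := hx.1
  have hxu : IsUnit (aeval x (derivative F * Q)) := hx.2
  have hxQ : IsUnit (aeval x Q) := by
    rw [map_mul] at hxu
    exact isUnit_of_mul_isUnit_right hxu
  have hres : residue R x = algebraMap A κ α := by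
    have h3 : residue R (aeval x F) = 0 := by rw [hx0, map_zero]
    rw [residue_aeval] at h3
    have h4 : F.map (algebraMap A κ) =
        (X - C (algebraMap A κ α)) * Q.map (algebraMap A κ) + C (algebraMap A κ (F.eval α)) := by
      conv_lhs => rw [hFQ]
      rw [Polynomial.map_add, Polynomial.map_mul, Polynomial.map_sub, map_X, map_C, map_C]
    rw [h4, hFα, eval_add, eval_mul, eval_sub, eval_X, eval_C, C_0, eval_zero, add_zero] at h3
    have h6 : eval (residue R x) (Q.map (algebraMap A κ)) ≠ 0 := by
      rw [← residue_aeval]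
      exact (residue_ne_zero_iff_isUnit _).2 hxQ
    exact sub_eq_zero.1 ((mul_eq_zero.1 h3).resolve_right h6)
  obtain ⟨τ, hτ⟩ := hσu.exists_right_inv
  refine ⟨τ * x, ?_, ?_⟩
  · have h7 : eval (σ * (τ * x)) (f.scaleRoots σ) = σ ^ f.natDegree * eval (τ * x) f := by
      have := scaleRoots_eval₂_mul (p := f) (RingHom.id R) (τ * x) σ
      simpa using this
    have h8 : eval (σ * (τ * x)) (f.scaleRoots σ) = 0 := by
      rw [← mul_assoc, hτ, one_mul, ← hFf, eval_map, ← aeval_def]
      exact hx0
    rw [h8] at h7
    exact (hσu.pow _).mul_right_eq_zero.1 h7.symm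
  · have h9 : residue R σ * residue R τ = 1 := by rw [← map_mul, hτ, map_one]
    rw [map_mul, hres, hα]
    calc residue R τ * (residue R σ * a₀) = (residue R σ * residue R τ) * a₀ := by ring
      _ = a₀ := by rw [h9, one_mul]

end Henselian

section Strict

variable {A : Type u} [CommRing A] (h : ProEtW.HasEtaleRetractions A) (m : Ideal A)
  [hm : m.IsMaximal]

include h hm in
theorem isStrictlyHenselianLocalRing_localization :
    EtCoh.IsStrictlyHenselianLocalRing (Localization.AtPrime m) :=
  ⟨henselianLocalRing_localization h m, isSepClosed_residueField h m⟩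

end Strict

end Groth.Agent.Lib.Helper82.EtRetr
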