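import Groth.Agent.Lib.Helper82.IndZarConv

set_option autoImplicit false
universe u

namespace Groth.Agent.Lib.Helper82.IndZar

open PrimeSpectrum

section LocalIso

variable {A E : Type u} [CommRing A] [CommRing E] [Algebra A E]

lemma away_rep (g : E) (a₀ : A) [IsLocalization.Away a₀ (Localization.Away g)] (x : E) :
    ∃ (n : ℕ) (c : A) (m : ℕ),
      g ^ m * (algebraMap A E (a₀ ^ n) * x - algebraMap A E c) = 0 := by
  obtain ⟨n, c, hc⟩ := IsLocalization.Away.surj a₀ (algebraMap E (Localization.Away g) x)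
  have h3 : algebraMap E (Localization.Away g)
      (algebraMap A E (a₀ ^ n) * x - algebraMap A E c) = 0 := by
    rw [map_sub, map_mul, ← IsScalarTower.algebraMap_apply, ← IsScalarTower.algebraMap_apply,
      map_pow, mul_comm, hc, sub_self]
  rw [IsLocalization.map_eq_zero_iff (Submonoid.powers g)] at h3
  obtain ⟨⟨_, m, rfl⟩, hm⟩ := h3
  exact ⟨n, c, m, hm⟩

variable [Algebra.IsLocalIso A E] (𝔯 : Ideal E) [h𝔯 : 𝔯.IsPrime]

include h𝔯 in
/-- the local data at a prime of a local-iso algebra. -/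
theorem exists_away_data :
    ∃ (g : E) (a₀ : A), g ∉ 𝔯 ∧ algebraMap A E a₀ ∉ 𝔯 ∧
      IsLocalization.Away a₀ (Localization.Away g) := by
  obtain ⟨g, hg, hstd⟩ := Algebra.IsLocalIso.exists_notMem_isStandardOpenImmersion (R := A) 𝔯
  obtain ⟨a₀, ha₀⟩ := Algebra.IsStandardOpenImmersion.exists_away A (Localization.Away g)
  refine ⟨g, a₀, hg, ?_, ha₀⟩
  intro hmem
  have hdisj : Disjoint (Submonoid.powers g : Set E) (𝔯 : Set E) := by
    rw [Set.disjoint_left]
    rintro _ ⟨k, rfl⟩ hk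
    exact hg (h𝔯.mem_of_pow_mem k hk)
  have hprime := IsLocalization.isPrime_of_isPrime_disjoint (Submonoid.powers g)
    (Localization.Away g) 𝔯 h𝔯 hdisj
  have hunit : IsUnit (algebraMap A (Localization.Away g) a₀) :=
    IsLocalization.Away.algebraMap_isUnit a₀
  apply hprime.ne_top
  apply Ideal.eq_top_of_isUnit_mem _ _ hunit
  rw [IsScalarTower.algebraMap_apply A E (Localization.Away g)]
  exact Ideal.mem_map_of_mem _ hmem

include h𝔯 in
theorem exists_mul_smul_sub_eq_zero (x : E) :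
    ∃ (s a : A) (u : E), algebraMap A E s ∉ 𝔯 ∧ u ∉ 𝔯 ∧
      u * (algebraMap A E s * x - algebraMap A E a) = 0 := by
  obtain ⟨g, a₀, hg, ha₀𝔯, ha₀⟩ := exists_away_data (A := A) 𝔯
  obtain ⟨n, c, m, hm⟩ := away_rep g a₀ x
  refine ⟨a₀ ^ n, c, g ^ m, ?_, fun h => hg (h𝔯.mem_of_pow_mem m h), hm⟩
  rw [map_pow]
  exact fun h => ha₀𝔯 (h𝔯.mem_of_pow_mem n h)

include h𝔯 in
theorem exists_mul_eq_zero_of_mul_eq_zero (a : A) (u : E) (hu : u ∉ 𝔯)
    (hua : u * algebraMap A E a = 0) : ∃ s : A, algebraMap A E s ∉ 𝔯 ∧ s * a = 0 := by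
  obtain ⟨g, a₀, hg, ha₀𝔯, ha₀⟩ := exists_away_data (A := A) 𝔯
  obtain ⟨n, c, m, hm⟩ := away_rep g a₀ u
  have hgm : g ^ m ∉ 𝔯 := fun h => hg (h𝔯.mem_of_pow_mem m h)
  have ha₀n : algebraMap A E (a₀ ^ n) ∉ 𝔯 := by
    rw [map_pow]
    exact fun h => ha₀𝔯 (h𝔯.mem_of_pow_mem n h)
  have hc : algebraMap A E c ∉ 𝔯 := by
    intro hmem
    have h2 : g ^ m * (algebraMap A E (a₀ ^ n) * u) ∈ 𝔯 := by
      have : g ^ m * (algebraMap A E (a₀ ^ n) * u) =
          g ^ m * (algebraMap A E (a₀ ^ n) * u - algebraMap A E c) +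
            g ^ m * algebraMap A E c := by ring
      rw [this, hm, zero_add]
      exact 𝔯.mul_mem_left _ hmem
    exact (h𝔯.mul_notMem hgm (h𝔯.mul_notMem ha₀n hu)) h2
  -- `g ^ m * c * a = 0` in `E`
  have h1 : g ^ m * algebraMap A E (c * a) = 0 := by
    have : g ^ m * algebraMap A E (c * a) =
        g ^ m * algebraMap A E (a₀ ^ n) * (u * algebraMap A E a) -
          (g ^ m * (algebraMap A E (a₀ ^ n) * u - algebraMap A E c)) * algebraMap A E a := by
      rw [map_mul]; ring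
    rw [this, hua, hm, mul_zero, zero_mul, sub_zero]
  have h2 : algebraMap A (Localization.Away g) (c * a) = 0 := by
    have hu : IsUnit (algebraMap E (Localization.Away g) (g ^ m)) := by
      rw [map_pow]
      exact (IsLocalization.Away.algebraMap_isUnit g).pow m
    apply hu.mul_right_injective
    simp only
    rw [mul_zero, IsScalarTower.algebraMap_apply A E (Localization.Away g), ← map_mul, h1,
      map_zero]
  rw [IsLocalization.map_eq_zero_iff (Submonoid.powers a₀)] at h2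
  obtain ⟨⟨_, k, rfl⟩, hk⟩ := h2
  refine ⟨a₀ ^ k * c, ?_, ?_⟩
  · rw [map_mul, map_pow]
    exact h𝔯.mul_notMem (fun h => ha₀𝔯 (h𝔯.mem_of_pow_mem k h)) hc
  · rw [mul_assoc]
    exact hk

end LocalIso

section Crit

variable {A B : Type u} [CommRing A] [CommRing B] [Algebra A B]
  (h1 : CoveredByLocalIso A B) (h2 : KillsRelations A B) (q : PrimeSpectrum B)

include h1 in
theorem exists_rep_of_covered (b : B) :
    ∃ (s a : A) (t : B), algebraMap A B s ∉ q.asIdeal ∧ t ∉ q.asIdeal ∧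
      t * (algebraMap A B s * b - algebraMap A B a) = 0 := by
  obtain ⟨E, _, _, _, f, x, rfl⟩ := h1 b
  have hr : (q.asIdeal.comap f.toRingHom).IsPrime := Ideal.comap_isPrime _ _
  obtain ⟨s, a, u, hs, hu, hsu⟩ := exists_mul_smul_sub_eq_zero (A := A)
    (q.asIdeal.comap f.toRingHom) x
  refine ⟨s, a, f u, ?_, hu, ?_⟩
  · intro h
    apply hs
    show f (algebraMap A E s) ∈ q.asIdeal
    rw [f.commutes]
    exact h
  · have := congrArg f hsu
    rw [map_mul, map_sub, map_mul, f.commutes, f.commutes, map_zero] at this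
    exact this

include h1 h2 in
theorem exists_kill_of_criterion (a : A) (t : B) (ht : t ∉ q.asIdeal)
    (hta : t * algebraMap A B a = 0) : ∃ s : A, algebraMap A B s ∉ q.asIdeal ∧ s * a = 0 := by
  obtain ⟨E, _, _, _, f, x, rfl⟩ := h1 t
  have hx : f (x * algebraMap A E a) = 0 := by
    rw [map_mul, f.commutes]
    exact hta
  obtain ⟨E', _, _, _, δ, f', hf', hδ⟩ := h2 E f (x * algebraMap A E a) hx
  have hr : (q.asIdeal.comap f'.toRingHom).IsPrime := Ideal.comap_isPrime _ _
  have hu : δ x ∉ q.asIdeal.comap f'.toRingHom := by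
    intro h
    apply ht
    have h3 : f' (δ x) ∈ q.asIdeal := h
    have h4 := DFunLike.congr_fun hf' x
    rw [AlgHom.comp_apply] at h4
    rw [h4] at h3
    exact h3
  have hδ' : δ x * algebraMap A E' a = 0 := by
    rw [map_mul, δ.commutes] at hδ
    exact hδ
  obtain ⟨s, hs, hsa⟩ := exists_mul_eq_zero_of_mul_eq_zero (A := A)
    (q.asIdeal.comap f'.toRingHom) a (δ x) hu hδ'
  refine ⟨s, ?_, hsa⟩
  intro h
  apply hs
  show f' (algebraMap A E' s) ∈ q.asIdeal
  rw [f'.commutes]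
  exact h

include h1 h2 in
theorem identifiesLocalRings_of_criterion : EtPBC.IdentifiesLocalRings A B := by
  intro q
  constructor
  · rw [injective_iff_map_eq_zero]
    intro z hz
    obtain ⟨a, s, rfl⟩ := IsLocalization.exists_mk'_eq
      (q.asIdeal.comap (algebraMap A B)).primeCompl z
    rw [Localization.localRingHom_mk', IsLocalization.mk'_eq_zero_iff] at hz
    obtain ⟨t, ht⟩ := hz
    obtain ⟨s', hs', hs'a⟩ := exists_kill_of_criterion h1 h2 q a t.1 t.2 ht
    rw [IsLocalization.mk'_eq_zero_iff]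
    exact ⟨⟨s', hs'⟩, hs'a⟩
  · intro z
    obtain ⟨b, t, rfl⟩ := IsLocalization.exists_mk'_eq q.asIdeal.primeCompl z
    obtain ⟨s₁, a₁, t₁, hs₁, ht₁, h₁⟩ := exists_rep_of_covered h1 q b
    obtain ⟨s₂, a₂, t₂, hs₂, ht₂, h₂⟩ := exists_rep_of_covered h1 q t.1
    have ha₂ : algebraMap A B a₂ ∉ q.asIdeal := by
      intro hmem
      have h3 : t₂ * (algebraMap A B s₂ * t.1) ∈ q.asIdeal := by
        have : t₂ * (algebraMap A B s₂ * t.1) =
            t₂ * (algebraMap A B s₂ * t.1 - algebraMap A B a₂) + t₂ * algebraMap A B a₂ := by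
          ring
        rw [this, h₂, zero_add]
        exact q.asIdeal.mul_mem_left _ hmem
      exact (q.2.mul_notMem ht₂ (q.2.mul_notMem hs₂ t.2)) h3
    have hden : s₁ * a₂ ∈ (q.asIdeal.comap (algebraMap A B)).primeCompl := by
      show algebraMap A B (s₁ * a₂) ∉ q.asIdeal
      rw [map_mul]
      exact q.2.mul_notMem hs₁ ha₂
    refine ⟨IsLocalization.mk' _ (a₁ * s₂) ⟨s₁ * a₂, hden⟩, ?_⟩
    rw [Localization.localRingHom_mk', IsLocalization.mk'_eq_iff_eq,
      IsLocalization.eq_iff_exists q.asIdeal.primeCompl]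
    refine ⟨⟨t₁ * t₂, q.2.mul_notMem ht₁ ht₂⟩, ?_⟩
    simp only [map_mul]
    have e₁ : t₁ * (algebraMap A B s₁ * b) = t₁ * algebraMap A B a₁ := by
      have := h₁
      rw [mul_sub, sub_eq_zero] at this
      exact this
    have e₂ : t₂ * (algebraMap A B s₂ * t.1) = t₂ * algebraMap A B a₂ := by
      have := h₂
      rw [mul_sub, sub_eq_zero] at this
      exact this
    linear_combination (-(t₂ * algebraMap A B s₂ * t.1)) * e₁ + (t₁ * algebraMap A B s₁ * b) * e₂

end Crit

theorem identifiesLocalRings_of_isIndZariski {A B : Type u} [CommRing A] [CommRing B]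
    [Algebra A B] (h : EtPBC.IsIndZariski A B) : EtPBC.IdentifiesLocalRings A B := by
  obtain ⟨h1, h2⟩ := isIndZariski_iff.1 h
  exact identifiesLocalRings_of_criterion h1 h2

end Groth.Agent.Lib.Helper82.IndZar
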