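import Groth.Agent.Lib.Helper82.WLocIdentify

set_option autoImplicit false
universe u

namespace Groth.Agent.Lib.Helper82.WLoc

open Classical PrimeSpectrum Topology

section SpectralComap

variable {R S : Type*} [CommRing R] [CommRing S]

theorem isSpectralMap_comap (f : R →+* S) : IsSpectralMap (PrimeSpectrum.comap f) := by
  refine ⟨PrimeSpectrum.continuous_comap f, fun s hs hsc => ?_⟩
  obtain ⟨t, rfl⟩ := isCompact_isOpen_iff.1 ⟨hsc, hs⟩
  rw [Set.preimage_compl, preimage_comap_zeroLocus]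
  have : (f '' (t : Set R)) = ((t.image f : Finset S) : Set S) := by
    rw [Finset.coe_image]
  rw [this]
  exact (isCompact_isOpen_iff.2 ⟨t.image f, rfl⟩).1

end SpectralComap

section IdemEq

variable {B : Type u} [CommRing B]

theorem idem_eq_of_forall_mem_iff {a b : B} (ha : IsIdempotentElem a) (hb : IsIdempotentElem b)
    (h : ∀ p : PrimeSpectrum B, a ∈ p.asIdeal ↔ b ∈ p.asIdeal) : a = b := by
  refine basicOpen_injOn_isIdempotentElem ha hb ?_
  ext p
  exact not_congr (h p)

lemma one_sub_mem_of_notMem {a : B} (ha : IsIdempotentElem a) (p : PrimeSpectrum B)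
    (h : a ∉ p.asIdeal) : 1 - a ∈ p.asIdeal := by
  have h0 : a * (1 - a) ∈ p.asIdeal := by
    rw [mul_sub, mul_one, ha.eq, sub_self]
    exact Ideal.zero_mem _
  exact (p.2.mem_or_mem h0).resolve_left h

end IdemEq

section ClopenOfCompactOpen

variable {Y : Type u} [TopologicalSpace Y] [SpectralSpace Y]
  (h0 : IsClosed {y : Y | IsClosed ({y} : Set Y)})
  (huniq : ∀ y : Y, ∃! z : Y, IsClosed ({z} : Set Y) ∧ y ⤳ z)

include h0 in
theorem isClopen_closedSpec_mem {U : Set Y} (hU1 : IsOpen U) (hU2 : IsCompact U) :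
    IsClopen {y : Y | (closedSpec huniq y : Y) ∈ U} := by
  have := t2Space_closedPts huniq
  have hc : IsClopen (Subtype.val ⁻¹' U : Set {y : Y // IsClosed ({y} : Set Y)}) := by
    refine ⟨?_, hU1.preimage continuous_subtype_val⟩
    have hemb : IsClosedEmbedding (Subtype.val : {y : Y // IsClosed ({y} : Set Y)} → Y) :=
      h0.isClosedEmbedding_subtypeVal
    exact (hemb.isCompact_preimage hU2).isClosed
  exact hc.preimage (continuous_closedSpec h0 huniq)

end ClopenOfCompactOpen

section Univ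

variable {A B : Type u} [CommRing A] [CommRing B] [Algebra A B]
  (h0 : IsClosed {y : PrimeSpectrum B | IsClosed ({y} : Set (PrimeSpectrum B))})
  (huniq : ∀ y : PrimeSpectrum B, ∃! z : PrimeSpectrum B,
    IsClosed ({z} : Set (PrimeSpectrum B)) ∧ y ⤳ z)

include h0 in
theorem exists_idem_family :
    ∃ ε : A → B, (∀ f, IsIdempotentElem (ε f)) ∧ ∀ (f : A) (y : PrimeSpectrum B),
      ε f ∈ y.asIdeal ↔ algebraMap A B f ∈ (closedSpec huniq y : PrimeSpectrum B).asIdeal := by
  have key : ∀ f : A, ∃ ε : B, IsIdempotentElem ε ∧ ∀ y : PrimeSpectrum B,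
      ε ∈ y.asIdeal ↔ algebraMap A B f ∈ (closedSpec huniq y : PrimeSpectrum B).asIdeal := by
    intro f
    have hcl := isClopen_closedSpec_mem h0 huniq (basicOpen (algebraMap A B f)).2
      (isCompact_basicOpen _)
    obtain ⟨ε, hε, hε'⟩ := PrimeSpectrum.isClopen_iff.1 hcl
    refine ⟨ε, hε, fun y => ?_⟩
    have h1 : y ∈ {y : PrimeSpectrum B | (closedSpec huniq y : PrimeSpectrum B) ∈
        (basicOpen (algebraMap A B f)).carrier} ↔
        y ∈ (basicOpen ε : Set (PrimeSpectrum B)) := by rw [hε']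
    have h2 : ε ∉ y.asIdeal ↔ algebraMap A B f ∉
        (closedSpec huniq y : PrimeSpectrum B).asIdeal := h1.symm
    exact not_iff_not.1 h2
  choose ε hε hε' using key
  exact ⟨ε, hε, hε'⟩

variable {ε : A → B} (hε : ∀ f, IsIdempotentElem (ε f))
  (hε' : ∀ (f : A) (y : PrimeSpectrum B),
    ε f ∈ y.asIdeal ↔ algebraMap A B f ∈ (closedSpec huniq y : PrimeSpectrum B).asIdeal)

include hε hε' in
theorem idemFamily_of_wLocal : IdemFamily ε where
  idem f := (hε f).eq
  one := by
    refine idem_eq_of_forall_mem_iff (hε 1) IsIdempotentElem.one fun p => ?_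
    rw [hε', map_one]
    exact ⟨fun h => ((closedSpec huniq p).1.2.ne_top ((Ideal.eq_top_iff_one _).2 h)).elim,
      fun h => (p.2.ne_top ((Ideal.eq_top_iff_one _).2 h)).elim⟩
  zero := by
    refine idem_eq_of_forall_mem_iff (hε 0) IsIdempotentElem.zero fun p => ?_
    rw [hε', map_zero]
    exact ⟨fun _ => Ideal.zero_mem _, fun _ => Ideal.zero_mem _⟩
  mul f g := by
    refine idem_eq_of_forall_mem_iff (hε _) ((hε f).mul (hε g)) fun p => ?_
    rw [hε', map_mul, (closedSpec huniq p).1.2.mul_mem_iff_mem_or_mem,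
      p.2.mul_mem_iff_mem_or_mem, hε', hε']
  add f g := by
    refine idem_eq_of_forall_mem_iff
      (((hε f).one_sub.mul (hε g).one_sub).mul (hε _)) IsIdempotentElem.zero fun p => ?_
    refine ⟨fun _ => Ideal.zero_mem _, fun _ => ?_⟩
    by_cases h1 : ε (f + g) ∈ p.asIdeal
    · exact Ideal.mul_mem_left _ _ h1
    · apply Ideal.mul_mem_right
      rw [hε', map_add] at h1
      by_cases h2 : ε f ∈ p.asIdeal
      · have h3 : ε g ∉ p.asIdeal := by
          intro h3
          rw [hε'] at h2 h3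
          exact h1 (Ideal.add_mem _ h2 h3)
        exact Ideal.mul_mem_left _ _ (one_sub_mem_of_notMem (hε g) p h3)
      · exact Ideal.mul_mem_right _ _ (one_sub_mem_of_notMem (hε f) p h2)
  unit f := by
    by_contra hnu
    obtain ⟨m, hm, hmem⟩ := exists_max_ideal_of_mem_nonunits hnu
    let q : PrimeSpectrum B := ⟨m, hm.isPrime⟩
    have hq : IsClosed ({q} : Set (PrimeSpectrum B)) :=
      (isClosed_singleton_iff_isMaximal q).2 hm
    have hcs : (closedSpec huniq q : PrimeSpectrum B) = q :=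
      congrArg Subtype.val (closedSpec_coe huniq ⟨q, hq⟩)
    have hmem' : algebraMap A B f * ε f + 1 - ε f ∈ q.asIdeal := hmem
    by_cases h1 : ε f ∈ q.asIdeal
    · have h2 : (1 : B) ∈ q.asIdeal := by
        have h3 := Ideal.sub_mem _ (Ideal.add_mem _ hmem' h1) (Ideal.mul_mem_left _ (algebraMap A B f) h1)
        convert h3 using 1
        ring
      exact q.2.ne_top ((Ideal.eq_top_iff_one _).2 h2)
    · have h2 : 1 - ε f ∈ q.asIdeal := one_sub_mem_of_notMem (hε f) q h1
      have h3 : algebraMap A B f * ε f ∈ q.asIdeal := by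
        have h4 := Ideal.sub_mem _ hmem' h2
        convert h4 using 1
        ring
      have h5 : algebraMap A B f ∉ q.asIdeal := by
        intro h5
        apply h1
        rw [hε', hcs]
        exact h5
      exact (q.2.mem_or_mem h3).elim h5 h1

end Univ

end Groth.Agent.Lib.Helper82.WLoc

namespace Groth.Agent.Lib.Helper82.WLoc

open Classical PrimeSpectrum Topology

section UnivMain

variable {A B : Type u} [CommRing A] [CommRing B] [Algebra A B]

lemma idem_mem_iff_of_le {a : B} (ha : IsIdempotentElem a) {p q : PrimeSpectrum B}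
    (hpq : p.asIdeal ≤ q.asIdeal) : a ∈ p.asIdeal ↔ a ∈ q.asIdeal := by
  refine ⟨fun h => hpq h, fun h => ?_⟩
  by_contra hp
  have h1 : 1 - a ∈ q.asIdeal := hpq (one_sub_mem_of_notMem ha p hp)
  have h2 : (1 : B) ∈ q.asIdeal := by
    have := Ideal.add_mem _ h1 h
    rwa [sub_add_cancel] at this
  exact q.2.ne_top ((Ideal.eq_top_iff_one _).2 h2)

theorem existsUnique_wLocal_hom (hB : ProEtW.IsWLocal (PrimeSpectrum B)) :
    ∃! φ : Aw A →ₐ[A] B, ProEtW.IsWLocalMap (PrimeSpectrum.comap φ.toRingHom) := by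
  obtain ⟨hsp, h0, huniq⟩ := hB
  obtain ⟨ε, hε, hε'⟩ := exists_idem_family (A := A) h0 huniq
  have hcs : ∀ q : PrimeSpectrum B, IsClosed ({q} : Set (PrimeSpectrum B)) →
      (closedSpec huniq q : PrimeSpectrum B) = q := fun q hq =>
    congrArg Subtype.val (closedSpec_coe huniq ⟨q, hq⟩)
  refine ⟨lift (idemFamily_of_wLocal huniq hε hε'), ⟨isSpectralMap_comap _, fun q hq => ?_⟩, ?_⟩
  · rw [isClosed_singleton_iff]
    ext f
    rw [mem_yOf, mem_xOf]
    show lift _ (algebraMap A (Aw A) f) ∈ q.asIdeal ↔ lift _ (e f) ∈ q.asIdeal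
    rw [AlgHom.commutes, lift_e, hε', hcs q hq]
  · rintro ψ ⟨-, hψ⟩
    apply algHom_ext'
    intro f
    rw [lift_e]
    have hidem : IsIdempotentElem (ψ (e f)) := by
      unfold IsIdempotentElem
      rw [← map_mul, e_idem]
    refine idem_eq_of_forall_mem_iff hidem (hε f) fun p => ?_
    let q : PrimeSpectrum B := (closedSpec huniq p).1
    have hq : IsClosed ({q} : Set (PrimeSpectrum B)) := (closedSpec huniq p).2
    have hpq : p.asIdeal ≤ q.asIdeal :=
      (le_iff_specializes p q).2 (specializes_closedSpec huniq p)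
    rw [idem_mem_iff_of_le hidem hpq, hε']
    have hcl := (isClosed_singleton_iff _).1 (hψ q hq)
    have h1 : f ∈ xOf (PrimeSpectrum.comap ψ.toRingHom q).asIdeal ↔ ψ (e f) ∈ q.asIdeal := Iff.rfl
    have h2 : f ∈ yOf (PrimeSpectrum.comap ψ.toRingHom q).asIdeal ↔
        ψ (algebraMap A (Aw A) f) ∈ q.asIdeal := Iff.rfl
    rw [← h1, ← hcl, h2, AlgHom.commutes]

end UnivMain

end Groth.Agent.Lib.Helper82.WLoc
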