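import Groth.Agent.Lib.Helper82.WLocProfClosed
import Groth.Agent.Lib.Helper82.WLocUniv

set_option autoImplicit false
universe u

namespace Groth.Agent.Lib.Helper82.WLoc

open PrimeSpectrum Topology

section T1Spectral

variable (Y : Type u) [TopologicalSpace Y] [SpectralSpace Y] [T1Space Y]

theorem t2Space_and_totallyDisconnectedSpace_of_spectral_t1 :
    T2Space Y ∧ TotallyDisconnectedSpace Y := by
  have hall : ∀ y : Y, IsClosed ({y} : Set Y) := fun y => isClosed_singleton
  have h0 : IsClosed {y : Y | IsClosed ({y} : Set Y)} := by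
    have : {y : Y | IsClosed ({y} : Set Y)} = Set.univ := Set.eq_univ_of_forall hall
    rw [this]
    exact isClosed_univ
  have huniq : ∀ y : Y, ∃! z : Y, IsClosed ({z} : Set Y) ∧ y ⤳ z := fun y =>
    ⟨y, ⟨hall y, specializes_rfl⟩, fun z hz => hz.2.eq.symm⟩
  let φ : {y : Y // IsClosed ({y} : Set Y)} ≃ₜ Y :=
    { toFun := Subtype.val
      invFun := fun y => ⟨y, hall y⟩
      left_inv := fun _ => rfl
      right_inv := fun _ => rfl
      continuous_toFun := continuous_subtype_val
      continuous_invFun := continuous_id.subtype_mk _ }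
  have := t2Space_closedPts huniq
  have := totallyDisconnectedSpace_closedPts h0 huniq
  exact ⟨φ.t2Space, φ.totallyDisconnectedSpace⟩

end T1Spectral

section S0737

variable (A B : Type u) [CommRing A] [CommRing B] [Algebra A B]
  (I : Ideal A)
  (hI0 : PrimeSpectrum.zeroLocus (R := A) I = ProEtW.closedPoints (PrimeSpectrum A))
  (h : ProEtW.AlgebraicResidueExtensions A B)

include hI0 h in
theorem zeroLocus_map_subset_closedPoints :
    PrimeSpectrum.zeroLocus (R := B) (I.map (algebraMap A B)) ⊆
      ProEtW.closedPoints (PrimeSpectrum B) := by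
  intro q hq
  rw [mem_zeroLocus, SetLike.coe_subset_coe, Ideal.map_le_iff_le_comap] at hq
  have hp : PrimeSpectrum.comap (algebraMap A B) q ∈ ProEtW.closedPoints (PrimeSpectrum A) := by
    rw [← hI0, mem_zeroLocus, SetLike.coe_subset_coe]
    exact hq
  have hclosed : IsClosed ({PrimeSpectrum.comap (algebraMap A B) q} : Set (PrimeSpectrum A)) := hp
  rw [PrimeSpectrum.isClosed_singleton_iff_isMaximal] at hclosed
  have hmax : (q.asIdeal.comap (algebraMap A B)).IsMaximal := hclosed
  have halg := h q.asIdeal
  have hF : IsField (A ⧸ q.asIdeal.comap (algebraMap A B)) :=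
    (Ideal.Quotient.maximal_ideal_iff_isField_quotient _).mp hmax
  let _ := Ideal.Quotient.field (q.asIdeal.comap (algebraMap A B))
  have hint : Algebra.IsIntegral (A ⧸ q.asIdeal.comap (algebraMap A B)) (B ⧸ q.asIdeal) :=
    Algebra.IsAlgebraic.isIntegral
  have hFB : IsField (B ⧸ q.asIdeal) := isField_of_isIntegral_of_isField' hF
  have hqmax : q.asIdeal.IsMaximal := Ideal.Quotient.maximal_of_isField _ hFB
  show IsClosed _
  rw [PrimeSpectrum.isClosed_singleton_iff_isMaximal]
  exact hqmax

include hI0 h in
theorem isProfinite_zeroLocus_map :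
    ProEtW.IsProfinite (PrimeSpectrum.zeroLocus (R := B) (I.map (algebraMap A B))) := by
  have hcl : IsClosed (PrimeSpectrum.zeroLocus (R := B) (I.map (algebraMap A B))) :=
    isClosed_zeroLocus _
  have hemb : IsClosedEmbedding (Subtype.val :
      PrimeSpectrum.zeroLocus (R := B) (I.map (algebraMap A B)) → PrimeSpectrum B) :=
    hcl.isClosedEmbedding_subtypeVal
  have : SpectralSpace (PrimeSpectrum.zeroLocus (R := B) (I.map (algebraMap A B))) :=
    spectralSpace_of_isClosedEmbedding hemb
  have : T1Space (PrimeSpectrum.zeroLocus (R := B) (I.map (algebraMap A B))) := by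
    refine ⟨fun y => ?_⟩
    rw [isClosed_singleton_iff_of_isClosedEmbedding hemb]
    exact zeroLocus_map_subset_closedPoints A B I hI0 h y.2
  obtain ⟨h1, h2⟩ := t2Space_and_totallyDisconnectedSpace_of_spectral_t1
    (PrimeSpectrum.zeroLocus (R := B) (I.map (algebraMap A B)))
  exact ⟨inferInstance, h1, h2⟩

include hI0 h in
theorem exists_indZariski_wLocal_of_algebraicResidueExtensions :
    PrimeSpectrum.zeroLocus (R := B) (I.map (algebraMap A B)) ⊆
        ProEtW.closedPoints (PrimeSpectrum B) ∧
    ∃ (C : Type u) (_ : CommRing C) (_ : Algebra B C) (_ : Algebra A C) (_ : IsScalarTower A B C),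
      EtPBC.IsIndZariski B C ∧
      Function.Bijective (Ideal.quotientMap ((I.map (algebraMap A B)).map (algebraMap B C))
        (algebraMap B C) Ideal.le_comap_map) ∧
      ProEtW.IsWLocal (PrimeSpectrum C) ∧
      ProEtW.IsWLocalMap (PrimeSpectrum.comap (algebraMap A C)) ∧
      ProEtW.closedPoints (PrimeSpectrum C) =
        PrimeSpectrum.comap (algebraMap A C) ⁻¹' ProEtW.closedPoints (PrimeSpectrum A) := by
  refine ⟨zeroLocus_map_subset_closedPoints A B I hI0 h, ?_⟩
  have hprof := isProfinite_zeroLocus_map A B I hI0 h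
  let C := BI B (I.map (algebraMap A B))
  let _ : Algebra A C := ((algebraMap B C).comp (algebraMap A B)).toAlgebra
  have hst : IsScalarTower A B C := IsScalarTower.of_algebraMap_eq (fun _ => rfl)
  have hcp := closedPoints_BI hprof
  have key : ∀ c : PrimeSpectrum C, c ∈ ProEtW.closedPoints (PrimeSpectrum C) ↔
      PrimeSpectrum.comap (algebraMap A C) c ∈ ProEtW.closedPoints (PrimeSpectrum A) := by
    intro c
    rw [hcp, ← hI0, mem_zeroLocus, mem_zeroLocus, SetLike.coe_subset_coe, SetLike.coe_subset_coe,
      Ideal.map_le_iff_le_comap, Ideal.map_le_iff_le_comap, Ideal.comap_comap]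
    rfl
  refine ⟨C, inferInstance, inferInstance, inferInstance, hst, isIndZariski_BI B _,
    bijective_quotientMap_BI hprof, isWLocal_BI B _, ⟨isSpectralMap_comap _, fun c hc => ?_⟩, ?_⟩
  · exact (key c).1 hc
  · ext c
    exact key c

end S0737

end Groth.Agent.Lib.Helper82.WLoc
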