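import Groth.Agent.Lib.Helper82.WLocQuot

set_option autoImplicit false
universe u

namespace Groth.Agent.Lib.Helper82.WLoc

open PrimeSpectrum Topology

section S0705

variable (A : Type u) [CommRing A] (I : Ideal A)

/-- the ideal of `Aw A` generated by the idempotents attached to the elements of `I`. -/
noncomputable def JI : Ideal (Aw A) := Ideal.span (Set.range fun f : I => e (f : A))

/-- the ring of the construction. -/
abbrev BI : Type u := Aw A ⧸ JI A I

lemma identifiesLocalRings_BI_aux : EtPBC.IdentifiesLocalRings (Aw A) (BI A I) := by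
  refine identifiesLocalRings_quotient_span _ ?_
  rintro _ ⟨f, rfl⟩
  refine ⟨1 - e (f : A), ?_, ?_⟩
  · rw [sub_mul, one_mul, e_idem, sub_self]
  · rw [sub_sub_cancel]
    exact Ideal.subset_span ⟨f, rfl⟩

lemma identifiesLocalRings_BI : EtPBC.IdentifiesLocalRings A (BI A I) :=
  identifiesLocalRings_comp identifiesLocalRings_Aw (identifiesLocalRings_BI_aux A I)

lemma isClosedEmbedding_comap_BI :
    IsClosedEmbedding (PrimeSpectrum.comap (Ideal.Quotient.mk (JI A I))) :=
  PrimeSpectrum.isClosedEmbedding_comap_of_surjective _ _ Ideal.Quotient.mk_surjective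

lemma isWLocal_BI : ProEtW.IsWLocal (PrimeSpectrum (BI A I)) :=
  isWLocal_of_isClosedEmbedding (isClosedEmbedding_comap_BI A I) isWLocal_Aw

lemma isIndZariski_BI : EtPBC.IsIndZariski A (BI A I) :=
  IndZar.isIndZariski_of_identifiesLocalRings_wLocal A (BI A I) (identifiesLocalRings_BI A I)
    (isWLocal_BI A I)

variable {A I}

/-- the prime of `Aw A` under a prime of `BI`. -/
noncomputable def under (𝔟 : PrimeSpectrum (BI A I)) : PrimeSpectrum (Aw A) :=
  PrimeSpectrum.comap (Ideal.Quotient.mk (JI A I)) 𝔟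

lemma le_xOf_under (𝔟 : PrimeSpectrum (BI A I)) : I ≤ xOf (under 𝔟).asIdeal := by
  intro f hf
  rw [mem_xOf]
  show Ideal.Quotient.mk (JI A I) (e f) ∈ 𝔟.asIdeal
  have : Ideal.Quotient.mk (JI A I) (e f) = 0 :=
    Ideal.Quotient.eq_zero_iff_mem.2 (Ideal.subset_span ⟨⟨f, hf⟩, rfl⟩)
  rw [this]
  exact Ideal.zero_mem _

lemma comap_algebraMap_eq_yOf (𝔟 : PrimeSpectrum (BI A I)) :
    𝔟.asIdeal.comap (algebraMap A (BI A I)) = yOf (under 𝔟).asIdeal := rfl

lemma map_le_iff (𝔟 : PrimeSpectrum (BI A I)) :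
    I.map (algebraMap A (BI A I)) ≤ 𝔟.asIdeal ↔ I ≤ yOf (under 𝔟).asIdeal := by
  rw [Ideal.map_le_iff_le_comap, comap_algebraMap_eq_yOf]

lemma isClosed_singleton_iff_BI (𝔟 : PrimeSpectrum (BI A I)) :
    IsClosed ({𝔟} : Set (PrimeSpectrum (BI A I))) ↔
      yOf (under 𝔟).asIdeal = xOf (under 𝔟).asIdeal := by
  rw [isClosed_singleton_iff_of_isClosedEmbedding (isClosedEmbedding_comap_BI A I)]
  exact isClosed_singleton_iff _

lemma exists_under_eq (𝔮 : PrimeSpectrum (Aw A)) (h : I ≤ xOf 𝔮.asIdeal) :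
    ∃ 𝔟 : PrimeSpectrum (BI A I), under 𝔟 = 𝔮 := by
  have hmem : 𝔮 ∈ Set.range (PrimeSpectrum.comap (Ideal.Quotient.mk (JI A I))) := by
    rw [range_comap_of_surjective _ _ Ideal.Quotient.mk_surjective, Ideal.mk_ker,
      mem_zeroLocus]
    show (JI A I : Set (Aw A)) ⊆ 𝔮.asIdeal
    rw [SetLike.coe_subset_coe]
    unfold JI
    rw [Ideal.span_le]
    rintro _ ⟨f, rfl⟩
    exact h f.2
  exact hmem

lemma under_injective : Function.Injective (under (A := A) (I := I)) :=
  (isClosedEmbedding_comap_BI A I).injective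

variable (hI : ProEtW.IsProfinite (PrimeSpectrum.zeroLocus (R := A) I))

include hI in
lemma eq_of_le_of_mem_zeroLocus {y x : Ideal A} [hy : y.IsPrime] [hx : x.IsPrime]
    (hyI : I ≤ y) (hxI : I ≤ x) (hyx : y ≤ x) : y = x := by
  obtain ⟨-, hT2, -⟩ := hI
  let y' : PrimeSpectrum.zeroLocus (R := A) I := ⟨⟨y, hy⟩, hyI⟩
  let x' : PrimeSpectrum.zeroLocus (R := A) I := ⟨⟨x, hx⟩, hxI⟩
  have hspec : y' ⤳ x' := by
    rw [subtype_specializes_iff, ← le_iff_specializes]
    exact hyx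
  have := hspec.eq
  exact congrArg (fun z : PrimeSpectrum.zeroLocus (R := A) I => z.1.asIdeal) this

include hI in
theorem closedPoints_BI :
    ProEtW.closedPoints (PrimeSpectrum (BI A I)) =
      PrimeSpectrum.zeroLocus (I.map (algebraMap A (BI A I))) := by
  ext 𝔟
  rw [mem_zeroLocus, SetLike.coe_subset_coe, map_le_iff]
  show IsClosed _ ↔ _
  rw [isClosed_singleton_iff_BI]
  constructor
  · intro h
    rw [h]
    exact le_xOf_under 𝔟
  · intro h
    exact eq_of_le_of_mem_zeroLocus hI h (le_xOf_under 𝔟) (yOf_le_xOf _)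

include hI in
theorem bijective_quotientMap_BI :
    Function.Bijective (Ideal.quotientMap (I.map (algebraMap A (BI A I))) (algebraMap A (BI A I))
      Ideal.le_comap_map) := by
  refine bijective_quotientMap_of_identifiesLocalRings A (BI A I) I (identifiesLocalRings_BI A I)
    ?_ ?_
  · intro x hx hIx
    have : x.IsPrime := hx.isPrime
    let x' : PrimeSpectrum A := ⟨x, hx.isPrime⟩
    obtain ⟨𝔟, h𝔟⟩ := exists_under_eq (I := I) (closedPt x') (by
      rw [xOf_closedPt]
      exact hIx)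
    refine ⟨𝔟, ?_, ?_⟩
    · rw [map_le_iff, h𝔟, yOf_closedPt]
      exact hIx
    · rw [comap_algebraMap_eq_yOf, h𝔟, yOf_closedPt]
  · intro 𝔟 𝔶 h𝔟 h𝔶 _ hle
    rw [map_le_iff] at h𝔟 h𝔶
    rw [comap_algebraMap_eq_yOf, comap_algebraMap_eq_yOf] at hle
    have hb : yOf (under 𝔟).asIdeal = xOf (under 𝔟).asIdeal :=
      eq_of_le_of_mem_zeroLocus hI h𝔟 (le_xOf_under 𝔟) (yOf_le_xOf _)
    have hy : yOf (under 𝔶).asIdeal = xOf (under 𝔶).asIdeal :=
      eq_of_le_of_mem_zeroLocus hI h𝔶 (le_xOf_under 𝔶) (yOf_le_xOf _)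
    have hyb : yOf (under 𝔶).asIdeal = yOf (under 𝔟).asIdeal :=
      eq_of_le_of_mem_zeroLocus hI h𝔶 h𝔟 hle
    have : under 𝔶 = under 𝔟 :=
      PrimeSpectrum.ext (eq_of_xOf_eq_of_yOf_eq _ _ (by rw [← hy, ← hb, hyb]) hyb)
    rw [under_injective this]

include hI in
theorem exists_indZariski_wLocal_along_profinite_closed :
    ∃ (B : Type u) (_ : CommRing B) (_ : Algebra A B),
      EtPBC.IsIndZariski A B ∧ ProEtW.IsWLocal (PrimeSpectrum B) ∧
      ProEtW.closedPoints (PrimeSpectrum B) = PrimeSpectrum.zeroLocus (I.map (algebraMap A B)) ∧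
      Function.Bijective (Ideal.quotientMap (I.map (algebraMap A B)) (algebraMap A B)
        Ideal.le_comap_map) :=
  ⟨BI A I, inferInstance, inferInstance, isIndZariski_BI A I, isWLocal_BI A I,
    closedPoints_BI hI, bijective_quotientMap_BI hI⟩

end S0705

end Groth.Agent.Lib.Helper82.WLoc
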