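import Groth.Agent.Lib.Helper82.WLocalTop
import Groth.Prelude.Def_ProEtW
import Groth.Prelude.Def_PBC

set_option autoImplicit false
universe u

namespace Groth.Agent.Lib.Helper82

open Topology Set

section WLocalMapTop

variable {X Y : Type u} [TopologicalSpace X] [TopologicalSpace Y]
  (hX : ProEtW.IsWLocal X) (hY : ProEtW.IsWLocal Y) {f : Y → X} (hf : Continuous f)
  (hfc : ∀ y : Y, IsClosed ({y} : Set Y) → IsClosed ({f y} : Set X))

include hX hY hfc in
theorem exists_closedPt_over (hsurj : Function.Surjective hf.connectedComponentsMap)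
    {x : X} (hx : IsClosed ({x} : Set X)) :
    ∃ y : Y, IsClosed ({y} : Set Y) ∧ f y = x := by
  obtain ⟨hXs, hX0, hXu⟩ := hX
  obtain ⟨hYs, hY0, hYu⟩ := hY
  obtain ⟨d, hd⟩ := hsurj (ConnectedComponents.mk x)
  obtain ⟨y, hy⟩ := (bijective_closedPts_connectedComponents hY0 hYu).2 d
  refine ⟨y.1, y.2, ?_⟩
  have h1 : ConnectedComponents.mk (f y.1) = ConnectedComponents.mk x := by
    rw [← hd, ← hy]
    rfl
  have h2 := (bijective_closedPts_connectedComponents hX0 hXu).1
    (a₁ := ⟨f y.1, hfc y.1 y.2⟩) (a₂ := ⟨x, hx⟩) h1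
  exact congrArg Subtype.val h2

include hY in
theorem closedPt_over_unique (hinj : Function.Injective hf.connectedComponentsMap)
    {y y' : Y} (hy : IsClosed ({y} : Set Y)) (hy' : IsClosed ({y'} : Set Y))
    (h : f y = f y') : y = y' := by
  obtain ⟨hYs, hY0, hYu⟩ := hY
  have h1 : hf.connectedComponentsMap (ConnectedComponents.mk y) =
      hf.connectedComponentsMap (ConnectedComponents.mk y') := by
    rw [hf.connectedComponentsMap_mk, hf.connectedComponentsMap_mk, h]
  have h2 := (bijective_closedPts_connectedComponents hY0 hYu).1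
    (a₁ := ⟨y, hy⟩) (a₂ := ⟨y', hy'⟩) (hinj h1)
  exact congrArg Subtype.val h2

include hX hY hfc in
theorem specializes_closedPt_of_map_specializes
    (hinj : Function.Injective hf.connectedComponentsMap)
    {y q : Y} (hq : IsClosed ({q} : Set Y)) (h : f y ⤳ f q) : y ⤳ q := by
  obtain ⟨q', ⟨hq'c, hyq'⟩, -⟩ := hY.2.2 y
  obtain ⟨z, -, hz⟩ := hX.2.2 (f y)
  have h1 : f q' = z := hz _ ⟨hfc q' hq'c, hyq'.map hf⟩
  have h2 : f q = z := hz _ ⟨hfc q hq, h⟩
  have h3 : q' = q := closedPt_over_unique hY hf hinj hq'c hq (h1.trans h2.symm)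
  exact h3 ▸ hyq'

end WLocalMapTop

section Ring

variable (A B : Type u) [CommRing A] [CommRing B] [Algebra A B]
  (h1 : EtPBC.IdentifiesLocalRings A B) (h2 : ProEtW.IsWLocal (PrimeSpectrum A))
  (h3 : ProEtW.IsWLocal (PrimeSpectrum B))
  (h4 : ProEtW.IsWLocalMap (PrimeSpectrum.comap (algebraMap A B)))
  (h5 : Function.Bijective
    (PrimeSpectrum.continuous_comap (algebraMap A B)).connectedComponentsMap)

include h2 h3 h4 h5 in
theorem exists_dvd_of_notMem_closedPt (q : PrimeSpectrum B) (hq : IsClosed ({q} : Set _))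
    (t : B) (ht : t ∉ q.asIdeal) :
    ∃ m : A, m ∉ q.asIdeal.comap (algebraMap A B) ∧ t ∣ algebraMap A B m := by
  by_contra hcon
  push Not at hcon
  have hdisj : Disjoint ((Ideal.span {t} : Ideal B) : Set B)
      (Algebra.algebraMapSubmonoid B (q.asIdeal.comap (algebraMap A B)).primeCompl) := by
    rw [Set.disjoint_left]
    rintro x hx ⟨m, hm, rfl⟩
    exact hcon m hm (Ideal.mem_span_singleton.1 hx)
  obtain ⟨y, hyp, hty, hyd⟩ := Ideal.exists_le_prime_disjoint _ _ hdisj
  have hle : (PrimeSpectrum.comap (algebraMap A B) ⟨y, hyp⟩).asIdeal ≤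
      (PrimeSpectrum.comap (algebraMap A B) q).asIdeal := by
    intro a ha
    by_contra haq
    exact Set.disjoint_left.1 hyd ha ⟨a, haq, rfl⟩
  have hspec : PrimeSpectrum.comap (algebraMap A B) ⟨y, hyp⟩ ⤳
      PrimeSpectrum.comap (algebraMap A B) q := (PrimeSpectrum.le_iff_specializes _ _).1 hle
  have := specializes_closedPt_of_map_specializes h2 h3
    (PrimeSpectrum.continuous_comap (algebraMap A B)) h4.2 h5.1 hq hspec
  have hyq : y ≤ q.asIdeal := (PrimeSpectrum.le_iff_specializes ⟨y, hyp⟩ q).2 this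
  exact ht (hyq (hty (Ideal.mem_span_singleton_self t)))

include h1 h2 h3 h4 h5 in
theorem bijective_of_identifiesLocalRings_wLocal : Function.Bijective (algebraMap A B) := by
  have key : ∀ (J : Ideal A) (_ : J.IsMaximal), ∃ q : PrimeSpectrum B,
      IsClosed ({q} : Set _) ∧ q.asIdeal.comap (algebraMap A B) = J := by
    intro J hJ
    obtain ⟨q, hq, hqJ⟩ := exists_closedPt_over h2 h3
      (PrimeSpectrum.continuous_comap (algebraMap A B)) h4.2 h5.2
      (x := ⟨J, hJ.isPrime⟩) ((PrimeSpectrum.isClosed_singleton_iff_isMaximal _).2 hJ)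
    exact ⟨q, hq, congrArg PrimeSpectrum.asIdeal hqJ⟩
  constructor
  · rw [injective_iff_map_eq_zero]
    intro a ha
    apply eq_zero_of_localization
    intro J hJ
    obtain ⟨q, -, rfl⟩ := key J hJ
    apply (h1 q).1
    rw [Localization.localRingHom_to_map, ha, map_zero, map_zero]
  · intro b
    let N : Submodule A B := LinearMap.range (Algebra.linearMap A B)
    suffices hb : (1 : A) ∈ N.colon {b} by
      rw [Submodule.mem_colon_singleton, one_smul] at hb
      obtain ⟨a, ha⟩ := hb
      exact ⟨a, ha⟩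
    by_contra hne
    have hne' : N.colon {b} ≠ ⊤ := fun h => hne (h ▸ Submodule.mem_top)
    obtain ⟨J, hJ, hle⟩ := Ideal.exists_le_maximal _ hne'
    obtain ⟨q, hq, rfl⟩ := key J hJ
    obtain ⟨x, hx⟩ := (h1 q).2 (algebraMap B (Localization.AtPrime q.asIdeal) b)
    obtain ⟨a, s, rfl⟩ := IsLocalization.exists_mk'_eq
      (q.asIdeal.comap (algebraMap A B)).primeCompl x
    rw [Localization.localRingHom_mk', IsLocalization.mk'_eq_iff_eq_mul, ← map_mul,
      IsLocalization.eq_iff_exists q.asIdeal.primeCompl] at hx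
    obtain ⟨t, ht⟩ := hx
    obtain ⟨m, hm, c, hc⟩ := exists_dvd_of_notMem_closedPt A B h2 h3 h4 h5 q hq t.1 t.2
    have hmem : m * s.1 ∈ N.colon {b} := by
      rw [Submodule.mem_colon_singleton]
      refine ⟨m * a, ?_⟩
      simp only [Algebra.linearMap_apply, Algebra.smul_def, map_mul]
      rw [hc]
      simp only at ht
      linear_combination c * ht
    have := hle hmem
    rcases (hJ.isPrime.mem_or_mem this) with h | h
    · exact hm h
    · exact s.2 h

end Ring

end Groth.Agent.Lib.Helper82
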