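import Groth.Agent.Lib.Helper82.WLocExtr
import Groth.Agent.Lib.Helper82.IndZarIdentify
import Groth.Agent.Lib.Helper82.WLocalRing
import Groth.Agent.Lib.Helper82.WLocAlgRes
import Groth.Agent.Lib.Helper82.WLocProfClosed

set_option autoImplicit false
universe u

/-!
# Retractions of faithfully flat ind-Zariski algebras
-/

namespace Groth.Agent.Lib.Helper82.WLoc

open PrimeSpectrum Topology TopologicalSpace

section Retract

theorem extremallyDisconnected_of_retract {X P : Type*} [TopologicalSpace X] [TopologicalSpace P]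
    [ExtremallyDisconnected P] (ι : X → P) (ρ : P → X) (hι : Continuous ι) (hρ : Continuous ρ)
    (h : ∀ x, ρ (ι x) = x) : ExtremallyDisconnected X where
  open_closure U hU := by
    have key : closure U = ι ⁻¹' closure (ρ ⁻¹' U) := by
      apply subset_antisymm
      · apply closure_minimal
        · intro x hx
          apply subset_closure
          show ρ (ι x) ∈ U
          rw [h]
          exact hx
        · exact isClosed_closure.preimage hι
      · intro x hx
        have h1 : ρ (ι x) ∈ ρ '' closure (ρ ⁻¹' U) := ⟨ι x, hx, rfl⟩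
        have h2 := image_closure_subset_closure_image hρ h1
        rw [h] at h2
        exact closure_mono (Set.image_preimage_subset ρ U) h2
    rw [key]
    exact (ExtremallyDisconnected.open_closure _ (hU.preimage hρ)).preimage hι

end Retract

section Forward

variable (A : Type u) [CommRing A]

theorem wLocal_extrDisc_of_hasIndZariskiRetractions (H : ProEtW.HasIndZariskiRetractions A) :
    ProEtW.IsWLocal (PrimeSpectrum A) ∧
      ExtremallyDisconnected (ConnectedComponents (PrimeSpectrum A)) := by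
  obtain ⟨B, _, _, hff, hiz, hW, hED⟩ := exists_wLocal_extrDisc A
  obtain ⟨r⟩ := H B hff hiz
  have hr : Function.Surjective r.toRingHom := fun a => ⟨algebraMap A B a, r.commutes a⟩
  refine ⟨isWLocal_of_isClosedEmbedding
    (PrimeSpectrum.isClosedEmbedding_comap_of_surjective _ _ hr) hW, ?_⟩
  have h1 := PrimeSpectrum.continuous_comap r.toRingHom
  have h2 := PrimeSpectrum.continuous_comap (algebraMap A B)
  refine extremallyDisconnected_of_retract h1.connectedComponentsMap h2.connectedComponentsMap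
    h1.connectedComponentsMap_continuous h2.connectedComponentsMap_continuous ?_
  intro c
  obtain ⟨x, rfl⟩ := ConnectedComponents.surjective_coe c
  rw [h1.connectedComponentsMap_mk, h2.connectedComponentsMap_mk]
  congr 1
  apply PrimeSpectrum.ext
  ext a
  show r (algebraMap A B a) ∈ x.asIdeal ↔ _
  rw [r.commutes]
  rfl

end Forward

section QuotIso

variable {B C : Type u} [CommRing B] [CommRing C] [Algebra B C] (I : Ideal B)
  (hbij : Function.Bijective (Ideal.quotientMap (I.map (algebraMap B C)) (algebraMap B C)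
    Ideal.le_comap_map))

include hbij in
theorem eq_of_comap_eq_of_map_le (c₁ c₂ : PrimeSpectrum C)
    (h₁ : I.map (algebraMap B C) ≤ c₁.asIdeal) (h₂ : I.map (algebraMap B C) ≤ c₂.asIdeal)
    (h : PrimeSpectrum.comap (algebraMap B C) c₁ = PrimeSpectrum.comap (algebraMap B C) c₂) :
    c₁ = c₂ := by
  have key : ∀ c c' : PrimeSpectrum C, I.map (algebraMap B C) ≤ c.asIdeal →
      I.map (algebraMap B C) ≤ c'.asIdeal →
      PrimeSpectrum.comap (algebraMap B C) c = PrimeSpectrum.comap (algebraMap B C) c' →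
      c.asIdeal ≤ c'.asIdeal := by
    intro c c' hc hc' hcc' x hx
    obtain ⟨b', hb'⟩ := hbij.2 (Ideal.Quotient.mk _ x)
    obtain ⟨b, rfl⟩ := Ideal.Quotient.mk_surjective b'
    rw [Ideal.quotientMap_mk, Ideal.Quotient.eq] at hb'
    have h3 : algebraMap B C b ∈ c.asIdeal := by
      have := c.asIdeal.add_mem (hc hb') hx
      rwa [sub_add_cancel] at this
    have h4 : b ∈ (PrimeSpectrum.comap (algebraMap B C) c).asIdeal := h3
    rw [hcc'] at h4
    have h5 : algebraMap B C b ∈ c'.asIdeal := h4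
    have := c'.asIdeal.sub_mem h5 (hc' hb')
    rwa [sub_sub_cancel] at this
  exact PrimeSpectrum.ext (le_antisymm (key c₁ c₂ h₁ h₂ h) (key c₂ c₁ h₂ h₁ h.symm))

include hbij in
theorem exists_comap_eq_of_le (z : PrimeSpectrum B) (hz : I ≤ z.asIdeal) :
    ∃ c : PrimeSpectrum C, I.map (algebraMap B C) ≤ c.asIdeal ∧
      PrimeSpectrum.comap (algebraMap B C) c = z := by
  let φ := Ideal.quotientMap (I.map (algebraMap B C)) (algebraMap B C) Ideal.le_comap_map
  let φe : (B ⧸ I) ≃+* (C ⧸ I.map (algebraMap B C)) := RingEquiv.ofBijective φ hbij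
  have hzr : z ∈ Set.range (PrimeSpectrum.comap (Ideal.Quotient.mk I)) := by
    rw [range_comap_of_surjective _ _ Ideal.Quotient.mk_surjective, Ideal.mk_ker, mem_zeroLocus]
    exact hz
  obtain ⟨z', hz'⟩ := hzr
  let c' : PrimeSpectrum (C ⧸ I.map (algebraMap B C)) :=
    PrimeSpectrum.comap φe.symm.toRingHom z'
  refine ⟨PrimeSpectrum.comap (Ideal.Quotient.mk _) c', ?_, ?_⟩
  · intro x hx
    show φe.symm (Ideal.Quotient.mk (I.map (algebraMap B C)) x) ∈ z'.asIdeal
    rw [Ideal.Quotient.eq_zero_iff_mem.2 hx, map_zero]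
    exact Ideal.zero_mem _
  · rw [← hz']
    apply PrimeSpectrum.ext
    ext b
    show φe.symm (Ideal.Quotient.mk (I.map (algebraMap B C)) (algebraMap B C b)) ∈ z'.asIdeal ↔
      Ideal.Quotient.mk I b ∈ z'.asIdeal
    have : Ideal.Quotient.mk (I.map (algebraMap B C)) (algebraMap B C b) =
        φe (Ideal.Quotient.mk I b) := by
      show _ = φ (Ideal.Quotient.mk I b)
      rw [Ideal.quotientMap_mk]
    rw [this, RingEquiv.symm_apply_apply]

end QuotIso

section Backward

variable {A B : Type u} [CommRing A] [CommRing B] [Algebra A B]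
  (h1 : EtPBC.IdentifiesLocalRings A B)

include h1 in
theorem exists_rep_of_identifiesLocalRings (q : PrimeSpectrum B) (b : B) :
    ∃ (s a : A) (t : B), algebraMap A B s ∉ q.asIdeal ∧ t ∉ q.asIdeal ∧
      t * (algebraMap A B s * b) = t * algebraMap A B a := by
  obtain ⟨x, hx⟩ := (h1 q).2 (algebraMap B (Localization.AtPrime q.asIdeal) b)
  obtain ⟨a, s, rfl⟩ := IsLocalization.exists_mk'_eq
    (q.asIdeal.comap (algebraMap A B)).primeCompl x
  rw [Localization.localRingHom_mk', IsLocalization.mk'_eq_iff_eq_mul, ← map_mul,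
    IsLocalization.eq_iff_exists q.asIdeal.primeCompl] at hx
  obtain ⟨t, ht⟩ := hx
  refine ⟨s.1, a, t.1, s.2, t.2, ?_⟩
  simp only at ht
  linear_combination -ht

include h1 in
theorem le_of_le_of_comap_eq (q q' : PrimeSpectrum B) (hle : q.asIdeal ≤ q'.asIdeal)
    (hc : q.asIdeal.comap (algebraMap A B) = q'.asIdeal.comap (algebraMap A B)) :
    q'.asIdeal ≤ q.asIdeal := by
  intro b hb
  obtain ⟨s, a, t, hs, ht, hst⟩ := exists_rep_of_identifiesLocalRings h1 q' b
  have ha' : algebraMap A B a ∈ q'.asIdeal := by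
    have h2 : t * algebraMap A B a ∈ q'.asIdeal := by
      rw [← hst]
      exact q'.asIdeal.mul_mem_left _ (q'.asIdeal.mul_mem_left _ hb)
    exact (q'.2.mem_or_mem h2).resolve_left ht
  have ha : algebraMap A B a ∈ q.asIdeal := by
    have : a ∈ q'.asIdeal.comap (algebraMap A B) := ha'
    rw [← hc] at this
    exact this
  have hs' : algebraMap A B s ∉ q.asIdeal := by
    intro h
    have : s ∈ q.asIdeal.comap (algebraMap A B) := h
    rw [hc] at this
    exact hs this
  have ht' : t ∉ q.asIdeal := fun h => ht (hle h)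
  have h3 : t * (algebraMap A B s * b) ∈ q.asIdeal := by
    rw [hst]
    exact q.asIdeal.mul_mem_left _ ha
  exact ((q.2.mem_or_mem ((q.2.mem_or_mem h3).resolve_left ht')).resolve_left hs')

include h1 in
theorem profinite_of_closed_over_closedPts (S : Set (PrimeSpectrum B)) (hS : IsClosed S)
    (hSX : ∀ y ∈ S, IsClosed ({PrimeSpectrum.comap (algebraMap A B) y} : Set (PrimeSpectrum A))) :
    CompactSpace S ∧ T2Space S ∧ TotallyDisconnectedSpace S := by
  have hc : CompactSpace S := isCompact_iff_compactSpace.1 hS.isCompact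
  have hsp : SpectralSpace S := spectralSpace_of_isClosedEmbedding hS.isClosedEmbedding_subtypeVal
  have ht1 : T1Space S := by
    rw [t1Space_iff_specializes_imp_eq]
    intro y y' hyy'
    rw [subtype_specializes_iff] at hyy'
    have hle : y.1.asIdeal ≤ y'.1.asIdeal := (PrimeSpectrum.le_iff_specializes _ _).2 hyy'
    have h2 : PrimeSpectrum.comap (algebraMap A B) y.1 ⤳ PrimeSpectrum.comap (algebraMap A B) y'.1 :=
      hyy'.map (PrimeSpectrum.continuous_comap _)
    have h3 : PrimeSpectrum.comap (algebraMap A B) y'.1 = PrimeSpectrum.comap (algebraMap A B) y.1 :=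
      h2.mem_closed (hSX y.1 y.2) rfl
    have h4 := le_of_le_of_comap_eq h1 y.1 y'.1 hle (congrArg PrimeSpectrum.asIdeal h3.symm)
    exact Subtype.ext (PrimeSpectrum.ext (le_antisymm hle h4))
  obtain ⟨h5, h6⟩ := t2Space_and_totallyDisconnectedSpace_of_spectral_t1 S
  exact ⟨hc, h5, h6⟩

include h1 in
theorem exists_closed_section (hW : ProEtW.IsWLocal (PrimeSpectrum A))
    [ExtremallyDisconnected (ConnectedComponents (PrimeSpectrum A))]
    (hff : Module.FaithfullyFlat A B) :
    ∃ Z : Set (PrimeSpectrum B), IsClosed Z ∧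
      (∀ z ∈ Z, IsClosed ({PrimeSpectrum.comap (algebraMap A B) z} : Set (PrimeSpectrum A))) ∧
      ∀ x : PrimeSpectrum A, IsClosed ({x} : Set (PrimeSpectrum A)) →
        ∃! z, z ∈ Z ∧ PrimeSpectrum.comap (algebraMap A B) z = x := by
  obtain ⟨hsp, h0, huniq⟩ := hW
  let X₀ := {x : PrimeSpectrum A // IsClosed ({x} : Set (PrimeSpectrum A))}
  have : CompactSpace X₀ := compactSpace_closedPts h0
  have : T2Space X₀ := t2Space_closedPts huniq
  have := t2Space_connectedComponents (X := PrimeSpectrum A)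
  let κ : X₀ → ConnectedComponents (PrimeSpectrum A) := fun x => ConnectedComponents.mk x.1
  have hκ : Continuous κ := ConnectedComponents.continuous_coe.comp continuous_subtype_val
  let e₀ : X₀ ≃ ConnectedComponents (PrimeSpectrum A) :=
    Equiv.ofBijective κ (bijective_closedPts_connectedComponents h0 huniq)
  let e : X₀ ≃ₜ ConnectedComponents (PrimeSpectrum A) :=
    Continuous.homeoOfEquivCompactToT2 (f := e₀) hκ
  have : ExtremallyDisconnected X₀ := extremallyDisconnected_of_homeo e.symm
  let F : Set (PrimeSpectrum B) := PrimeSpectrum.comap (algebraMap A B) ⁻¹'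
    {x | IsClosed ({x} : Set (PrimeSpectrum A))}
  have hF : IsClosed F := h0.preimage (PrimeSpectrum.continuous_comap _)
  obtain ⟨hFc, hFt2, hFtd⟩ := profinite_of_closed_over_closedPts h1 F hF (fun y hy => hy)
  let g : F → X₀ := fun y => ⟨PrimeSpectrum.comap (algebraMap A B) y.1, y.2⟩
  have hg : Continuous g :=
    Continuous.subtype_mk ((PrimeSpectrum.continuous_comap _).comp continuous_subtype_val) _
  have hgs : Function.Surjective g := by
    intro x
    obtain ⟨y, hy⟩ := PrimeSpectrum.comap_surjective_of_faithfullyFlat (A := A) (B := B) x.1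
    refine ⟨⟨y, ?_⟩, Subtype.ext hy⟩
    show IsClosed ({PrimeSpectrum.comap (algebraMap A B) y} : Set (PrimeSpectrum A))
    rw [hy]
    exact x.2
  obtain ⟨σ, hσ, hgσ⟩ := (CompactT2.ExtremallyDisconnected.projective (A := X₀))
    continuous_id hg hgs
  refine ⟨Subtype.val '' Set.range σ, ?_, ?_, ?_⟩
  · exact hF.isClosedEmbedding_subtypeVal.isClosedMap _ (isCompact_range hσ).isClosed
  · rintro _ ⟨y, -, rfl⟩
    exact y.2
  · intro x hx
    refine ⟨(σ ⟨x, hx⟩).1, ⟨⟨_, ⟨_, rfl⟩, rfl⟩, ?_⟩, ?_⟩
    · have := congrFun hgσ ⟨x, hx⟩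
      exact congrArg Subtype.val this
    · rintro _ ⟨⟨_, ⟨x', rfl⟩, rfl⟩, h⟩
      have h2 := congrFun hgσ x'
      have h3 : x' = ⟨x, hx⟩ := Subtype.ext ((congrArg Subtype.val h2).symm.trans h)
      rw [h3]

include h1 in
theorem exists_retraction (hW : ProEtW.IsWLocal (PrimeSpectrum A))
    [ExtremallyDisconnected (ConnectedComponents (PrimeSpectrum A))]
    (hff : Module.FaithfullyFlat A B) : Nonempty (B →ₐ[A] A) := by
  obtain ⟨Z, hZ, hZX, hZu⟩ := exists_closed_section h1 hW hff
  let I' : Ideal B := vanishingIdeal Z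
  have hZI : zeroLocus (I' : Set B) = Z := by
    rw [zeroLocus_vanishingIdeal_eq_closure, hZ.closure_eq]
  have hI' : ProEtW.IsProfinite (zeroLocus (R := B) I') := by
    rw [hZI]
    exact profinite_of_closed_over_closedPts h1 Z hZ hZX
  obtain ⟨C, _, _, hCiz, hCW, hCcl, hCbij⟩ :=
    exists_indZariski_wLocal_along_profinite_closed (A := B) (I := I') hI'
  let _ : Algebra A C := ((algebraMap B C).comp (algebraMap A B)).toAlgebra
  have : IsScalarTower A B C := IsScalarTower.of_algebraMap_eq (fun _ => rfl)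
  have h1C : EtPBC.IdentifiesLocalRings A C :=
    identifiesLocalRings_comp h1 (IndZar.identifiesLocalRings_of_isIndZariski hCiz)
  have hcl_iff : ∀ c : PrimeSpectrum C, IsClosed ({c} : Set (PrimeSpectrum C)) ↔
      I'.map (algebraMap B C) ≤ c.asIdeal := by
    intro c
    have h2 : c ∈ ProEtW.closedPoints (PrimeSpectrum C) ↔
        c ∈ zeroLocus (I'.map (algebraMap B C) : Set C) := by rw [hCcl]
    exact h2
  have hclZ : ∀ c : PrimeSpectrum C, IsClosed ({c} : Set (PrimeSpectrum C)) →
      PrimeSpectrum.comap (algebraMap B C) c ∈ Z := by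
    intro c hc
    rw [← hZI, mem_zeroLocus, SetLike.coe_subset_coe]
    exact Ideal.le_comap_of_map_le ((hcl_iff c).1 hc)
  have hcomp : ∀ c : PrimeSpectrum C, PrimeSpectrum.comap (algebraMap A C) c =
      PrimeSpectrum.comap (algebraMap A B) (PrimeSpectrum.comap (algebraMap B C) c) :=
    fun c => rfl
  have h4 : ProEtW.IsWLocalMap (PrimeSpectrum.comap (algebraMap A C)) := by
    refine ⟨isSpectralMap_comap _, fun c hc => ?_⟩
    rw [hcomp]
    exact hZX _ (hclZ c hc)
  have hinj : ∀ c₁ c₂ : PrimeSpectrum C, IsClosed ({c₁} : Set (PrimeSpectrum C)) →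
      IsClosed ({c₂} : Set (PrimeSpectrum C)) →
      PrimeSpectrum.comap (algebraMap A C) c₁ = PrimeSpectrum.comap (algebraMap A C) c₂ →
      c₁ = c₂ := by
    intro c₁ c₂ hc₁ hc₂ h
    rw [hcomp, hcomp] at h
    have hx := hZX _ (hclZ c₁ hc₁)
    obtain ⟨z, -, hzu⟩ := hZu _ hx
    have e₁ := hzu _ ⟨hclZ c₁ hc₁, rfl⟩
    have e₂ := hzu _ ⟨hclZ c₂ hc₂, h.symm⟩
    exact eq_of_comap_eq_of_map_le I' hCbij c₁ c₂ ((hcl_iff c₁).1 hc₁) ((hcl_iff c₂).1 hc₂)
      (e₁.trans e₂.symm)
  have hsurj : ∀ x : PrimeSpectrum A, IsClosed ({x} : Set (PrimeSpectrum A)) →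
      ∃ c : PrimeSpectrum C, IsClosed ({c} : Set (PrimeSpectrum C)) ∧
        PrimeSpectrum.comap (algebraMap A C) c = x := by
    intro x hx
    obtain ⟨z, ⟨hzZ, hzx⟩, -⟩ := hZu x hx
    have hz : I' ≤ z.asIdeal := by
      rw [← hZI, mem_zeroLocus, SetLike.coe_subset_coe] at hzZ
      exact hzZ
    obtain ⟨c, hc, hcz⟩ := exists_comap_eq_of_le I' hCbij z hz
    refine ⟨c, (hcl_iff c).2 hc, ?_⟩
    rw [hcomp, hcz, hzx]
  have hA := bijective_closedPts_connectedComponents hW.2.1 hW.2.2
  have hC := bijective_closedPts_connectedComponents hCW.2.1 hCW.2.2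
  have hcont := PrimeSpectrum.continuous_comap (algebraMap A C)
  have h5 : Function.Bijective hcont.connectedComponentsMap := by
    constructor
    · intro d₁ d₂ h
      obtain ⟨c₁, rfl⟩ := hC.2 d₁
      obtain ⟨c₂, rfl⟩ := hC.2 d₂
      simp only at h
      rw [hcont.connectedComponentsMap_mk, hcont.connectedComponentsMap_mk] at h
      have h6 : (⟨_, h4.2 c₁.1 c₁.2⟩ : {x : PrimeSpectrum A // IsClosed ({x} : Set _)}) =
          ⟨_, h4.2 c₂.1 c₂.2⟩ := hA.1 h
      have h7 := hinj c₁.1 c₂.1 c₁.2 c₂.2 (congrArg Subtype.val h6)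
      simp only
      rw [h7]
    · intro d
      obtain ⟨x, rfl⟩ := hA.2 d
      obtain ⟨c, hc, hcx⟩ := hsurj x.1 x.2
      refine ⟨ConnectedComponents.mk c, ?_⟩
      rw [hcont.connectedComponentsMap_mk, hcx]
  have hbij := bijective_of_identifiesLocalRings_wLocal A C h1C hW hCW h4 h5
  let ψ : C ≃ₐ[A] A := (AlgEquiv.ofBijective (Algebra.ofId A C) hbij).symm
  exact ⟨(ψ : C →ₐ[A] A).comp (IsScalarTower.toAlgHom A B C)⟩

end Backward

section Iff

theorem hasIndZariskiRetractions_iff (A : Type u) [CommRing A] :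
    ProEtW.HasIndZariskiRetractions A ↔
      (ProEtW.IsWLocal (PrimeSpectrum A) ∧
        ExtremallyDisconnected (ConnectedComponents (PrimeSpectrum A))) := by
  constructor
  · exact wLocal_extrDisc_of_hasIndZariskiRetractions A
  · rintro ⟨hW, hED⟩ B _ _ hff hiz
    exact exists_retraction (IndZar.identifiesLocalRings_of_isIndZariski hiz) hW hff

end Iff

end Groth.Agent.Lib.Helper82.WLoc
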