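import Groth.Agent.Lib.Helper82.SqBasics

set_option autoImplicit false
open CategoryTheory CategoryTheory.Limits TensorProduct PrimeSpectrum
universe u

namespace Groth.Agent.Lib.Helper82

namespace WLoc

section General

variable (A B : Type u) [CommRing A] [CommRing B] [Algebra A B]
  (I : Ideal A)
  (hI0 : PrimeSpectrum.zeroLocus (R := A) I = ProEtW.closedPoints (PrimeSpectrum A))
  (hsub : PrimeSpectrum.zeroLocus (R := B) (I.map (algebraMap A B)) ⊆
      ProEtW.closedPoints (PrimeSpectrum B))

include hsub in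
theorem isProfinite_zeroLocus_map_of_subset :
    ProEtW.IsProfinite (PrimeSpectrum.zeroLocus (R := B) (I.map (algebraMap A B))) := by
  have hcl : IsClosed (PrimeSpectrum.zeroLocus (R := B) (I.map (algebraMap A B))) :=
    isClosed_zeroLocus _
  have hemb : Topology.IsClosedEmbedding (Subtype.val :
      PrimeSpectrum.zeroLocus (R := B) (I.map (algebraMap A B)) → PrimeSpectrum B) :=
    hcl.isClosedEmbedding_subtypeVal
  have : SpectralSpace (PrimeSpectrum.zeroLocus (R := B) (I.map (algebraMap A B))) :=
    spectralSpace_of_isClosedEmbedding hemb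
  have : T1Space (PrimeSpectrum.zeroLocus (R := B) (I.map (algebraMap A B))) := by
    refine ⟨fun y => ?_⟩
    rw [isClosed_singleton_iff_of_isClosedEmbedding hemb]
    exact hsub y.2
  obtain ⟨h1, h2⟩ := t2Space_and_totallyDisconnectedSpace_of_spectral_t1
    (PrimeSpectrum.zeroLocus (R := B) (I.map (algebraMap A B)))
  exact ⟨inferInstance, h1, h2⟩

include hI0 hsub in
theorem exists_indZariski_wLocal_of_subset_closedPoints :
    ∃ (C : Type u) (_ : CommRing C) (_ : Algebra B C) (_ : Algebra A C) (_ : IsScalarTower A B C),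
      EtPBC.IsIndZariski B C ∧
      Function.Bijective (Ideal.quotientMap ((I.map (algebraMap A B)).map (algebraMap B C))
        (algebraMap B C) Ideal.le_comap_map) ∧
      ProEtW.IsWLocal (PrimeSpectrum C) ∧
      ProEtW.IsWLocalMap (PrimeSpectrum.comap (algebraMap A C)) ∧
      ProEtW.closedPoints (PrimeSpectrum C) =
        PrimeSpectrum.comap (algebraMap A C) ⁻¹' ProEtW.closedPoints (PrimeSpectrum A) := by
  have hprof := isProfinite_zeroLocus_map_of_subset A B I hsub
  let C := BI B (I.map (algebraMap A B))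
  let _ : Algebra A C := ((algebraMap B C).comp (algebraMap A B)).toAlgebra
  have hst : IsScalarTower A B C := IsScalarTower.of_algebraMap_eq (fun _ => rfl)
  have hcp := closedPoints_BI hprof
  have key : ∀ c : PrimeSpectrum C, c ∈ ProEtW.closedPoints (PrimeSpectrum C) ↔
      PrimeSpectrum.comap (algebraMap A C) c ∈ ProEtW.closedPoints (PrimeSpectrum A) := by
    intro c
    rw [hcp, ← hI0, mem_zeroLocus, mem_zeroLocus, SetLike.coe_subset_coe, SetLike.coe_subset_coe,
      Ideal.map_le_iff_le_comap, Ideal.map_le_iff_le_comap, Ideal.comap_comap]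
    rfl
  refine ⟨C, inferInstance, inferInstance, inferInstance, hst, isIndZariski_BI B _,
    bijective_quotientMap_BI hprof, isWLocal_BI B _, ⟨isSpectralMap_comap _, fun c hc => ?_⟩, ?_⟩
  · exact (key c).1 hc
  · ext c
    exact key c

end General

/-- lifting primes through an isomorphism of quotients. -/
theorem exists_prime_of_bijective_quotientMap {R S : Type*} [CommRing R] [CommRing S]
    [Algebra R S] (J : Ideal R)
    (hb : Function.Bijective (Ideal.quotientMap (J.map (algebraMap R S)) (algebraMap R S)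
      Ideal.le_comap_map)) (q : PrimeSpectrum R) (hq : J ≤ q.asIdeal) :
    ∃ Q : PrimeSpectrum S, PrimeSpectrum.comap (algebraMap R S) Q = q ∧
      J.map (algebraMap R S) ≤ Q.asIdeal := by
  let e : (R ⧸ J) ≃+* (S ⧸ J.map (algebraMap R S)) := RingEquiv.ofBijective _ hb
  let θ : S →+* R ⧸ J := (e.symm.toRingHom).comp (Ideal.Quotient.mk (J.map (algebraMap R S)))
  have hθ : ∀ x : R, θ (algebraMap R S x) = Ideal.Quotient.mk J x := by
    intro x
    show e.symm (Ideal.Quotient.mk _ (algebraMap R S x)) = _
    rw [RingEquiv.symm_apply_eq]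
    rfl
  have hprime : (q.asIdeal.map (Ideal.Quotient.mk J)).IsPrime :=
    Ideal.map_isPrime_of_surjective Ideal.Quotient.mk_surjective (by rwa [Ideal.mk_ker])
  refine ⟨⟨(q.asIdeal.map (Ideal.Quotient.mk J)).comap θ, inferInstance⟩, ?_, ?_⟩
  · ext x
    show θ (algebraMap R S x) ∈ q.asIdeal.map (Ideal.Quotient.mk J) ↔ x ∈ q.asIdeal
    rw [hθ, Ideal.mem_map_iff_of_surjective _ Ideal.Quotient.mk_surjective]
    constructor
    · rintro ⟨y, hy, hxy⟩
      have : y - x ∈ J := Ideal.Quotient.eq.mp hxy
      have h2 : x = y - (y - x) := by ring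
      rw [h2]
      exact Ideal.sub_mem _ hy (hq this)
    · intro hx
      exact ⟨x, hx, rfl⟩
  · intro s hs
    show θ s ∈ q.asIdeal.map (Ideal.Quotient.mk J)
    have : θ s = 0 := by
      show e.symm (Ideal.Quotient.mk _ s) = 0
      rw [Ideal.Quotient.eq_zero_iff_mem.2 hs, map_zero]
    rw [this]
    exact Ideal.zero_mem _

end WLoc

namespace IndSys

variable {A B : Type u} [CommRing A] [CommRing B] [Algebra A B] (d : IndSys A B)

/-- incomparability for colimits of quasi-finite algebras. -/
theorem eq_of_le_of_comap_eq (hqf : ∀ j, Algebra.QuasiFinite A (d.R j))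
    (q q' : Ideal B) [q.IsPrime] [q'.IsPrime] (hle : q ≤ q')
    (hc : q.comap (algebraMap A B) = q'.comap (algebraMap A B)) : q = q' := by
  refine le_antisymm hle fun x hx => ?_
  obtain ⟨j, y, rfl⟩ := d.surj x
  have := hqf j
  have h1 : q.comap (d.φ j) = q'.comap (d.φ j) := by
    refine Algebra.QuasiFinite.eq_of_le_of_under_eq (R := A) _ _ (Ideal.comap_mono hle) ?_
    show (q.comap (d.φ j)).comap (algebraMap A (d.R j)) =
      (q'.comap (d.φ j)).comap (algebraMap A (d.R j))
    have key : ∀ Q : Ideal B, (Q.comap (d.φ j)).comap (algebraMap A (d.R j)) =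
        Q.comap (algebraMap A B) := by
      intro Q
      ext a
      simp only [Ideal.mem_comap, AlgHom.commutes]
    rw [key, key, hc]
  have h2 : y ∈ q'.comap (d.φ j) := hx
  rw [← h1] at h2
  exact h2

end IndSys

/-- primes of an ind-étale algebra lying over closed points are closed. -/
theorem zeroLocus_map_subset_closedPoints_of_isIndEtale (A B : Type u) [CommRing A] [CommRing B]
    [Algebra A B] (h : EtPBC.IsIndEtale A B) (I : Ideal A)
    (hI0 : PrimeSpectrum.zeroLocus (R := A) I ⊆ ProEtW.closedPoints (PrimeSpectrum A)) :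
    PrimeSpectrum.zeroLocus (R := B) (I.map (algebraMap A B)) ⊆
      ProEtW.closedPoints (PrimeSpectrum B) := by
  obtain ⟨J, _, _, D, c, hc, het, ⟨e⟩⟩ := h
  let d : IndSys A B := IndSys.ofColimit D c hc e
  have hqf : ∀ j, Algebra.QuasiFinite A (d.R j) := fun j => by
    have : Algebra.Etale A (d.R j) := het j
    infer_instance
  intro q hq
  rw [mem_zeroLocus, SetLike.coe_subset_coe, Ideal.map_le_iff_le_comap] at hq
  have hp : PrimeSpectrum.comap (algebraMap A B) q ∈ ProEtW.closedPoints (PrimeSpectrum A) :=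
    hI0 (by rw [mem_zeroLocus, SetLike.coe_subset_coe]; exact hq)
  have hclosed : IsClosed ({PrimeSpectrum.comap (algebraMap A B) q} : Set (PrimeSpectrum A)) := hp
  rw [PrimeSpectrum.isClosed_singleton_iff_isMaximal] at hclosed
  have hmax : (q.asIdeal.comap (algebraMap A B)).IsMaximal := hclosed
  show IsClosed _
  rw [PrimeSpectrum.isClosed_singleton_iff_isMaximal]
  obtain ⟨M, hM, hqM⟩ := Ideal.exists_le_maximal q.asIdeal q.isPrime.ne_top
  have hMc : q.asIdeal.comap (algebraMap A B) = M.comap (algebraMap A B) :=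
    hmax.eq_of_le (Ideal.comap_ne_top _ hM.ne_top) (Ideal.comap_mono hqM)
  have := d.eq_of_le_of_comap_eq hqf q.asIdeal M hqM hMc
  rw [this]
  exact hM

end Groth.Agent.Lib.Helper82

namespace Groth.Agent.Lib.Helper82

open Polynomial in
/-- primes of `B ⊗[A] C` over a maximal ideal of `C` are maximal, when `A → B` induces algebraic
residue field extensions. -/
theorem isMaximal_of_comap_includeRight_isMaximal (A B C : Type u) [CommRing A] [CommRing B]
    [CommRing C] [Algebra A B] [Algebra A C] (h : ProEtW.AlgebraicResidueExtensions A B)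
    (r : Ideal (B ⊗[A] C)) [hr : r.IsPrime]
    (hc : (r.comap (Algebra.TensorProduct.includeRight (R := A) (A := B) (B := C))).IsMaximal) :
    r.IsMaximal := by
  letI : Algebra C (B ⊗[A] C) := Algebra.TensorProduct.rightAlgebra
  set c : Ideal C := r.comap (algebraMap C (B ⊗[A] C)) with hcdef
  have hcmax : c.IsMaximal := hc
  let q : Ideal B := r.comap (Algebra.TensorProduct.includeLeft (R := A) (S := A) (A := B) (B := C))
  have hq : q.IsPrime := Ideal.comap_isPrime _ r
  let p : Ideal A := q.comap (algebraMap A B)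
  have halg := h q
  have hpc : ∀ a : A, a ∈ p ↔ algebraMap A C a ∈ c := by
    intro a
    show (algebraMap A B a) ⊗ₜ[A] (1 : C) ∈ r ↔ (1 : B) ⊗ₜ[A] (algebraMap A C a) ∈ r
    rw [Algebra.algebraMap_eq_smul_one, Algebra.algebraMap_eq_smul_one, TensorProduct.smul_tmul]
  have hst : IsScalarTower A (C ⧸ c) ((B ⊗[A] C) ⧸ r) := by
    refine IsScalarTower.of_algebraMap_eq fun a => ?_
    show Ideal.Quotient.mk r (algebraMap A (B ⊗[A] C) a) =
      Ideal.Quotient.mk r ((1 : B) ⊗ₜ[A] (algebraMap A C a))
    rw [Algebra.TensorProduct.algebraMap_apply, Algebra.algebraMap_eq_smul_one,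
      Algebra.algebraMap_eq_smul_one, TensorProduct.smul_tmul]
  have hKfield : IsField (C ⧸ c) := (Ideal.Quotient.maximal_ideal_iff_isField_quotient _).mp hcmax
  letI := Ideal.Quotient.field c
  have hint : Algebra.IsIntegral (C ⧸ c) ((B ⊗[A] C) ⧸ r) := by
    refine ⟨fun z => ?_⟩
    obtain ⟨w, rfl⟩ := Ideal.Quotient.mk_surjective z
    induction w using TensorProduct.induction_on with
    | zero => rw [map_zero]; exact isIntegral_zero
    | add x y hx hy => rw [map_add]; exact hx.add hy
    | tmul b x =>
      have h1 : b ⊗ₜ[A] x = (b ⊗ₜ[A] (1 : C)) * ((1 : B) ⊗ₜ[A] x) := by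
        rw [Algebra.TensorProduct.tmul_mul_tmul, mul_one, one_mul]
      rw [h1, map_mul]
      refine IsIntegral.mul ?_ ?_
      · -- the algebraic part
        obtain ⟨P, hP0, hP⟩ := (halg.isAlgebraic (Ideal.Quotient.mk q b))
        obtain ⟨P₀, rfl⟩ := Polynomial.map_surjective (Ideal.Quotient.mk p)
          Ideal.Quotient.mk_surjective P
        have hmem : aeval b P₀ ∈ q := by
          rw [← Ideal.Quotient.eq_zero_iff_mem]
          have h2 : aeval (Ideal.Quotient.mk q b) (P₀.map (Ideal.Quotient.mk p)) =
              Ideal.Quotient.mk q (aeval b P₀) := by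
            have h3 : P₀.map (Ideal.Quotient.mk p) = P₀.map (algebraMap A (A ⧸ p)) := rfl
            rw [h3, Polynomial.aeval_map_algebraMap]
            exact Polynomial.aeval_algHom_apply (Ideal.Quotient.mkₐ A q) b P₀
          rw [← h2]
          exact hP
        obtain ⟨n, hn⟩ : ∃ n, P₀.coeff n ∉ p := by
          by_contra hall
          push_neg at hall
          apply hP0
          ext n
          rw [Polynomial.coeff_map, Polynomial.coeff_zero, Ideal.Quotient.eq_zero_iff_mem]
          exact hall n
        refine IsAlgebraic.isIntegral ⟨P₀.map (algebraMap A (C ⧸ c)), ?_, ?_⟩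
        · intro h0
          have h4 := congrArg (fun Q => Polynomial.coeff Q n) h0
          simp only [Polynomial.coeff_map, Polynomial.coeff_zero] at h4
          have h5 : algebraMap A (C ⧸ c) (P₀.coeff n) =
              Ideal.Quotient.mk c (algebraMap A C (P₀.coeff n)) := rfl
          rw [h5, Ideal.Quotient.eq_zero_iff_mem, ← hpc] at h4
          exact hn h4
        · rw [Polynomial.aeval_map_algebraMap]
          let ψ : B →ₐ[A] ((B ⊗[A] C) ⧸ r) :=
            (Ideal.Quotient.mkₐ A r).comp
              (Algebra.TensorProduct.includeLeft (R := A) (S := A) (A := B) (B := C))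
          have h6 : aeval (ψ b) P₀ = ψ (aeval b P₀) := Polynomial.aeval_algHom_apply ψ b P₀
          have h7 : ψ (aeval b P₀) = 0 := by
            show Ideal.Quotient.mk r ((aeval b P₀) ⊗ₜ[A] (1 : C)) = 0
            rw [Ideal.Quotient.eq_zero_iff_mem]
            exact hmem
          rw [← h7, ← h6]
          rfl
      · have : Ideal.Quotient.mk r ((1 : B) ⊗ₜ[A] x) =
            algebraMap (C ⧸ c) ((B ⊗[A] C) ⧸ r) (Ideal.Quotient.mk c x) := rfl
        rw [this]
        exact isIntegral_algebraMap
  have hFB : IsField ((B ⊗[A] C) ⧸ r) := isField_of_isIntegral_of_isField' hKfield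
  exact Ideal.Quotient.maximal_of_isField _ hFB

end Groth.Agent.Lib.Helper82
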