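import Groth.Prelude.Def_PBC
import Groth.Agent.Lib.Helper82.IndSys
import Groth.Agent.Lib.Helper82.IndEtaleBaseChange
import Groth.Agent.Lib.Helper87.IndEtaleConv

set_option autoImplicit false
open CategoryTheory CategoryTheory.Limits TensorProduct
universe u v

namespace Groth.Agent.Lib.Helper82

section LemmaZ

variable {A : Type u} [CommRing A]
  {J : Type u} [SmallCategory J] [IsFiltered J] (D : J ⥤ Under (CommRingCat.of A))
  (c : Cocone D) (hc : IsColimit c) (j₀ : J)

/-- the diagram of stages after `j₀`, as algebras under the stage `j₀`. -/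
@[simps]
def stageDiagram : Under j₀ ⥤ Under (D.obj j₀).right where
  obj k := Under.mk (D.map k.hom).right
  map {k k'} m := Under.homMk (D.map m.right).right (by
    have h1 : k.hom ≫ m.right = k'.hom := Under.w m
    have h2 : D.map k.hom ≫ D.map m.right = D.map k'.hom := by rw [← D.map_comp, h1]
    exact congrArg (fun g => g.right) h2)
  map_id k := by
    ext : 1
    simp
  map_comp m m' := by
    ext : 1
    simp

@[simps]
def stageCocone : Cocone (stageDiagram D j₀) where
  pt := Under.mk (c.ι.app j₀).right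
  ι := {
    app := fun k => Under.homMk (c.ι.app k.right).right (by
      have h2 : D.map k.hom ≫ c.ι.app k.right = c.ι.app j₀ := c.w k.hom
      exact congrArg (fun g => g.right) h2)
    naturality := fun k k' m => by
      ext : 1
      have h2 : D.map m.right ≫ c.ι.app k'.right = c.ι.app k.right := c.w m.right
      have h3 := congrArg (fun g => g.right) h2
      simp only [Functor.const_obj_obj, Functor.const_obj_map, Category.comp_id]
      exact h3 }

noncomputable def isColimitStageCocone : IsColimit (stageCocone D c j₀) := by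
  have := IsFiltered.isConnected J
  have := IsFiltered.isConnected (Under j₀)
  have h1 : IsColimit ((Under.forget (CommRingCat.of A)).mapCocone c) :=
    isColimitOfPreserves _ hc
  have h2 := (Functor.Final.isColimitWhiskerEquiv (Under.forget j₀) _).symm h1
  apply isColimitOfReflects (Under.forget (D.obj j₀).right)
  exact IsColimit.ofIsoColimit h2 (Cocone.ext (Iso.refl _) (fun k => Category.comp_id _))

end LemmaZ

end Groth.Agent.Lib.Helper82

namespace Groth.Agent.Lib.Helper82

section LemmaZ'

variable {A : Type u} [CommRing A]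
  {J : Type u} [SmallCategory J] [IsFiltered J] (D : J ⥤ Under (CommRingCat.of A))
  (c : Cocone D) (hc : IsColimit c) (j₀ : J)

include hc in
theorem isIndEtale_over_stage {B : Type u} [CommRing B] [Algebra A B]
    (e : c.pt ≅ Under.mk (CommRingCat.ofHom (algebraMap A B)))
    (het : ∀ j, letI := (D.obj j).hom.hom.toAlgebra; Algebra.Etale A (D.obj j).right) :
    letI : Algebra (D.obj j₀).right B := ((c.ι.app j₀ ≫ e.hom).right.hom).toAlgebra
    EtPBC.IsIndEtale (D.obj j₀).right B := by
  let _ : Algebra (D.obj j₀).right B := ((c.ι.app j₀ ≫ e.hom).right.hom).toAlgebra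
  refine ⟨Under j₀, inferInstance, inferInstance, stageDiagram D j₀, stageCocone D c j₀,
    isColimitStageCocone D c hc j₀, ?_, ⟨?_⟩⟩
  · intro k
    let _ : Algebra A (D.obj j₀).right := (D.obj j₀).hom.hom.toAlgebra
    let _ : Algebra A (D.obj k.right).right := (D.obj k.right).hom.hom.toAlgebra
    let _ : Algebra (D.obj j₀).right (D.obj k.right).right := (D.map k.hom).right.hom.toAlgebra
    have h1 : Algebra.Etale A (D.obj j₀).right := het j₀
    have h2 : Algebra.Etale A (D.obj k.right).right := het k.right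
    have h3 : IsScalarTower A (D.obj j₀).right (D.obj k.right).right :=
      IsScalarTower.of_algebraMap_eq (fun a => by
        have := congrArg (fun g => g.hom a) (Under.w (D.map k.hom))
        exact this.symm)
    show Algebra.Etale (D.obj j₀).right (D.obj k.right).right
    exact Algebra.Etale.of_restrictScalars A _ _
  · refine Under.isoMk ((Under.forget _).mapIso e) ?_
    rfl

end LemmaZ'

end Groth.Agent.Lib.Helper82

namespace Groth.Agent.Lib.Helper82

noncomputable instance preservesColimitsOfShape_underMap {R R' : CommRingCat.{u}} (f : R ⟶ R')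
    (J : Type u) [SmallCategory J] [IsFiltered J] :
    PreservesColimitsOfShape J (Under.map f) := by
  have := IsFiltered.isConnected J
  have h : PreservesColimitsOfShape J (Under.map f ⋙ Under.forget R) := by
    have e : Under.map f ⋙ Under.forget R ≅ Under.forget R' :=
      NatIso.ofComponents (fun X => Iso.refl _) (fun g => by simp)
    exact preservesColimitsOfShape_of_natIso e.symm
  exact preservesColimitsOfShape_of_reflects_of_preserves (Under.map f) (Under.forget R)

theorem isIndEtale_of_etale_of_isIndEtale (A A' C : Type u) [CommRing A] [CommRing A'] [CommRing C]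
    [Algebra A A'] [Algebra A' C] [Algebra A C] [IsScalarTower A A' C] [Algebra.Etale A A']
    (h : EtPBC.IsIndEtale A' C) : EtPBC.IsIndEtale A C := by
  obtain ⟨J, _, _, D, c, hc, het, ⟨e⟩⟩ := h
  let F : Under (CommRingCat.of A') ⥤ Under (CommRingCat.of A) :=
    Under.map (CommRingCat.ofHom (algebraMap A A'))
  refine ⟨J, inferInstance, inferInstance, D ⋙ F, F.mapCocone c, isColimitOfPreserves F hc, ?_, ⟨?_⟩⟩
  · intro j
    let _ : Algebra A' (D.obj j).right := (D.obj j).hom.hom.toAlgebra
    let _ : Algebra A (D.obj j).right := ((D ⋙ F).obj j).hom.hom.toAlgebra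
    have h1 : Algebra.Etale A' (D.obj j).right := het j
    have h3 : IsScalarTower A A' (D.obj j).right :=
      IsScalarTower.of_algebraMap_eq (fun a => rfl)
    show Algebra.Etale A (D.obj j).right
    exact Algebra.Etale.comp A A' _
  · refine F.mapIso e ≪≫ Under.isoMk (Iso.refl _) ?_
    ext a
    exact (IsScalarTower.algebraMap_apply A A' C a).symm

end Groth.Agent.Lib.Helper82

namespace Groth.Agent.Lib.Helper82

theorem isIndEtale_of_equiv {A B B' : Type u} [CommRing A] [CommRing B] [CommRing B']
    [Algebra A B] [Algebra A B'] (e : B ≃ₐ[A] B') (h : EtPBC.IsIndEtale A B) :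
    EtPBC.IsIndEtale A B' :=
  Groth.Agent.Lib.Helper87.IndEt.exists_filtered_colimit_of_equiv e h

theorem isIndEtale_of_descent (A A₁ B S₁ S : Type u) [CommRing A] [CommRing A₁] [CommRing B]
    [CommRing S₁] [CommRing S] [Algebra A A₁] [Algebra A₁ B] [Algebra A B] [IsScalarTower A A₁ B]
    [Algebra A₁ S₁] [Algebra B S] [Algebra A S] [IsScalarTower A B S]
    [Algebra.Etale A A₁] [Algebra.Etale A₁ S₁] (hZ : EtPBC.IsIndEtale A₁ B)
    (eS : S ≃ₐ[B] B ⊗[A₁] S₁) : EtPBC.IsIndEtale A S := by
  let _ : Algebra A S₁ := ((algebraMap A₁ S₁).comp (algebraMap A A₁)).toAlgebra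
  have : IsScalarTower A A₁ S₁ := IsScalarTower.of_algebraMap_eq (fun a => rfl)
  have : Algebra.Etale A S₁ := Algebra.Etale.comp A A₁ S₁
  have : IsScalarTower A S₁ (S₁ ⊗[A₁] B) := inferInstance
  have hbc : EtPBC.IsIndEtale S₁ (S₁ ⊗[A₁] B) := isIndEtale_baseChange A₁ B S₁ hZ
  have hY : EtPBC.IsIndEtale A (S₁ ⊗[A₁] B) := isIndEtale_of_etale_of_isIndEtale A S₁ _ hbc
  let f : S₁ ⊗[A₁] B ≃+* S :=
    (Algebra.TensorProduct.comm A₁ S₁ B).toRingEquiv.trans eS.symm.toRingEquiv
  have hf : ∀ a : A, f (algebraMap A (S₁ ⊗[A₁] B) a) = algebraMap A S a := by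
    intro a
    show eS.symm (Algebra.TensorProduct.comm A₁ S₁ B
      ((algebraMap A₁ S₁ (algebraMap A A₁ a)) ⊗ₜ[A₁] (1 : B))) = algebraMap A S a
    rw [Algebra.TensorProduct.comm_tmul, Algebra.algebraMap_eq_smul_one, ← TensorProduct.smul_tmul,
      ← Algebra.algebraMap_eq_smul_one, ← IsScalarTower.algebraMap_apply A A₁ B,
      show (algebraMap A B a ⊗ₜ[A₁] (1 : S₁)) = algebraMap B (B ⊗[A₁] S₁) (algebraMap A B a) from rfl,
      AlgEquiv.commutes, ← IsScalarTower.algebraMap_apply]
  exact isIndEtale_of_equiv (AlgEquiv.ofRingEquiv hf) hY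

end Groth.Agent.Lib.Helper82

namespace Groth.Agent.Lib.Helper82

theorem isIndEtale_of_isIndEtale_of_etale (A B S : Type u) [CommRing A] [CommRing B] [CommRing S]
    [Algebra A B] [Algebra B S] [Algebra A S] [IsScalarTower A B S] [Algebra.Etale B S]
    (h : EtPBC.IsIndEtale A B) : EtPBC.IsIndEtale A S := by
  obtain ⟨J, _, _, D, c, hc, het, ⟨e⟩⟩ := h
  obtain ⟨j₀, S₁, instR, instA, hS₁, ⟨eS⟩⟩ := (IndSys.ofColimit D c hc e).exists_etale_descent S
  let A₁ : Type u := (D.obj j₀).right
  let _ : Algebra A A₁ := (D.obj j₀).hom.hom.toAlgebra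
  let _ : Algebra A₁ B := ((IndSys.ofColimit D c hc e).φ j₀).toRingHom.toAlgebra
  let _ : Algebra A₁ S₁ := instA
  have : Algebra.Etale A₁ S₁ := hS₁
  have hZ : EtPBC.IsIndEtale A₁ B := isIndEtale_over_stage D c hc j₀ e het
  have : IsScalarTower A A₁ B := IsScalarTower.of_algebraMap_eq (fun a => by
    have := congrArg (fun g => g.hom a) (Under.w (c.ι.app j₀ ≫ e.hom))
    exact this.symm)
  have : Algebra.Etale A A₁ := het j₀
  exact isIndEtale_of_descent A A₁ B S₁ S hZ eS

end Groth.Agent.Lib.Helper82

namespace Groth.Agent.Lib.Helper82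

theorem isIndEtale_trans (A B C : Type u) [CommRing A] [CommRing B] [CommRing C] [Algebra A B]
    [Algebra B C] [Algebra A C] [IsScalarTower A B C] (hAB : EtPBC.IsIndEtale A B)
    (hBC : EtPBC.IsIndEtale B C) : EtPBC.IsIndEtale A C := by
  obtain ⟨J, _, _, D, c, hc, het, ⟨e⟩⟩ := hBC
  let F : Under (CommRingCat.of B) ⥤ Under (CommRingCat.of A) :=
    Under.map (CommRingCat.ofHom (algebraMap A B))
  have iso : (F.mapCocone c).pt ≅ Under.mk (CommRingCat.ofHom (algebraMap A C)) := by
    refine F.mapIso e ≪≫ Under.isoMk (Iso.refl _) ?_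
    ext a
    exact (IsScalarTower.algebraMap_apply A B C a).symm
  refine Groth.Agent.Lib.Helper87.IndEt.hasPres_of_isColimit (D ⋙ F) (F.mapCocone c)
    (isColimitOfPreserves F hc) iso (fun j => ?_)
  let _ : Algebra B (D.obj j).right := (D.obj j).hom.hom.toAlgebra
  let _ : Algebra A (D.obj j).right := ((D ⋙ F).obj j).hom.hom.toAlgebra
  have h3 : IsScalarTower A B (D.obj j).right := IsScalarTower.of_algebraMap_eq (fun a => rfl)
  have h1 : Algebra.Etale B (D.obj j).right := het j
  exact isIndEtale_of_isIndEtale_of_etale A B (D.obj j).right hAB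

end Groth.Agent.Lib.Helper82
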