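import Groth.Agent.Lib.Helper82.IndZarWLocal

set_option autoImplicit false
universe u

namespace Groth.Agent.Lib.Helper82.IndZar

open PrimeSpectrum

/-! Variant of `IndZarWLocal`: only the local rings at closed points need to be identified. -/

section Main

variable (A B : Type u) [CommRing A] [CommRing B] [Algebra A B]
  (h1 : ∀ q : PrimeSpectrum B, IsClosed ({q} : Set (PrimeSpectrum B)) →
    Function.Bijective (Localization.localRingHom (q.asIdeal.comap (algebraMap A B)) q.asIdeal
      (algebraMap A B) rfl)) (h3 : ProEtW.IsWLocal (PrimeSpectrum B))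

include h1 h3 in
theorem coveredByLocalIso_of_closed_wLocal : CoveredByLocalIso A B := by
  intro b
  have key : ∀ q : {q : PrimeSpectrum B // IsClosed ({q} : Set (PrimeSpectrum B))},
      ∃ (s a : A) (t : B), algebraMap A B s ∉ q.1.asIdeal ∧ t ∉ q.1.asIdeal ∧
        t * (algebraMap A B s * b) = t * algebraMap A B a := by
    intro q
    obtain ⟨x, hx⟩ := (h1 q.1 q.2).2 (algebraMap B (Localization.AtPrime q.1.asIdeal) b)
    obtain ⟨a, s, rfl⟩ := IsLocalization.exists_mk'_eq
      (q.1.asIdeal.comap (algebraMap A B)).primeCompl x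
    rw [Localization.localRingHom_mk', IsLocalization.mk'_eq_iff_eq_mul, ← map_mul,
      IsLocalization.eq_iff_exists q.1.asIdeal.primeCompl] at hx
    obtain ⟨t, ht⟩ := hx
    refine ⟨s.1, a, t.1, s.2, t.2, ?_⟩
    simp only at ht
    linear_combination -ht
  choose s a t hs ht hst using key
  obtain ⟨G, q, hGu, hGw⟩ := exists_glueData h3 (Algebra.ofId A B) s t hs ht
  refine ⟨G.E', inferInstance, inferInstance, inferInstance, G.ψ, ?_⟩
  refine G.mem_range_ψ (fun k => a (q k)) fun k => ?_
  apply (hGw k).mul_right_injective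
  simp only
  rw [← map_mul, ← map_mul, hGu k]
  exact congrArg _ (hst (q k))

include h1 h3 in
theorem killsRelations_of_closed_wLocal : KillsRelations A B := by
  intro E _ _ _ f x hx
  have key : ∀ q : {q : PrimeSpectrum B // IsClosed ({q} : Set (PrimeSpectrum B))},
      ∃ u : E, f u ∉ q.1.asIdeal ∧ u * x = 0 := fun q =>
    exists_notMem_mul_eq_zero f q.1 (h1 q.1 q.2).1 x hx
  choose u hu hux using key
  obtain ⟨G, q, hGu, -⟩ := exists_glueData h3 f u (fun _ => 1) hu
    (fun q => q.1.2.one_notMem)
  refine ⟨G.E', inferInstance, inferInstance, inferInstance, G.δ, G.ψ, G.ψ_comp_δ, ?_⟩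
  refine G.δ_eq_zero fun k => ?_
  rw [hGu k]
  exact hux (q k)

include h1 h3 in
theorem isIndZariski_of_closed_wLocal : EtPBC.IsIndZariski A B :=
  isIndZariski_of_criterion (coveredByLocalIso_of_closed_wLocal A B h1 h3)
    (killsRelations_of_closed_wLocal A B h1 h3)

end Main

end Groth.Agent.Lib.Helper82.IndZar
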