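import Mathlib
import Groth.Agent.Lib.Helper82.Olivier1

open TensorProduct IsLocalRing

namespace Groth.Agent.Lib.Helper82.Olivier

universe u

section loc
variable {A B D : Type u} [CommRing A] [CommRing B] [CommRing D]
    [IsLocalRing A] [IsLocalRing B] [Algebra A B] [IsLocalHom (algebraMap A B)] [Module.Flat A B]
    [IsLocalRing D] [Algebra A D] [Algebra.IsIntegral A D]

attribute [local instance] Algebra.TensorProduct.rightAlgebra in
theorem isIntegral_rightAlgebra : Algebra.IsIntegral B (D ⊗[A] B) := by
  refine ⟨fun x => ?_⟩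
  induction x using TensorProduct.induction_on with
  | zero => exact isIntegral_zero
  | tmul d b =>
    have h1 : IsIntegral A (d ⊗ₜ[A] (1 : B)) :=
      (Algebra.IsIntegral.isIntegral (R := A) d).map (Algebra.TensorProduct.includeLeft : D →ₐ[A] D ⊗[A] B)
    have h2 : IsIntegral B (d ⊗ₜ[A] (1 : B)) := h1.tower_top
    have h3 : d ⊗ₜ[A] b = b • (d ⊗ₜ[A] (1 : B)) := by
      rw [Algebra.smul_def, Algebra.TensorProduct.algebraMap_eq_includeRight]
      simp
    rw [h3]
    exact h2.smul b
  | add x y hx hy => exact hx.add hy

theorem isLocalRing_tensor (hκ : Function.Surjective (algebraMap A (ResidueField B))) :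
    IsLocalRing (D ⊗[A] B) := by
  haveI : Module.FaithfullyFlat A B := Module.FaithfullyFlat.of_flat_of_isLocalHom
  haveI : Nontrivial (D ⊗[A] B) := inferInstance
  let f : D ⊗[A] B →ₐ[D] D ⊗[A] ResidueField B :=
    Algebra.TensorProduct.map (AlgHom.id D D) (IsScalarTower.toAlgHom A B (ResidueField B))
  have hf : Function.Surjective f :=
    Algebra.TensorProduct.map_surjective _ _ Function.surjective_id IsLocalRing.residue_surjective
  have hker : RingHom.ker f = (maximalIdeal B).map
      (Algebra.TensorProduct.includeRight : B →ₐ[A] D ⊗[A] B) := by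
    have h0 := Algebra.TensorProduct.lTensor_ker (A := D)
      (IsScalarTower.toAlgHom A B (ResidueField B)) IsLocalRing.residue_surjective
    have h1 : RingHom.ker (IsScalarTower.toAlgHom A B (ResidueField B)) = maximalIdeal B := by
      ext x
      rw [RingHom.mem_ker]
      exact IsLocalRing.residue_eq_zero_iff x
    rw [h1] at h0
    rw [← h0]
    ext x
    simp only [RingHom.mem_ker]
    rfl
  -- all maximal ideals contain the image of `maximalIdeal B`
  have hjac : RingHom.ker f ≤ Ideal.jacobson ⊥ := by
    rw [hker, Ideal.jacobson, le_sInf_iff]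
    rintro M ⟨-, hM⟩
    letI := Algebra.TensorProduct.rightAlgebra (R := A) (A := D) (B := B)
    haveI : Algebra.IsIntegral B (D ⊗[A] B) := isIntegral_rightAlgebra
    have hmax : (M.comap (algebraMap B (D ⊗[A] B))).IsMaximal :=
      Ideal.isMaximal_comap_of_isIntegral_of_isMaximal M
    have heq := IsLocalRing.eq_maximalIdeal hmax
    rw [Ideal.map_le_iff_le_comap]
    exact heq.ge
  haveI : IsLocalHom f.toRingHom :=
    isLocalHom_of_surjective_of_ker_le_jacobson f.toRingHom hf hjac
  haveI : Nontrivial (D ⊗[A] ResidueField B) := by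
    have hne : RingHom.ker f ≠ ⊤ := by
      intro htop
      rw [htop, top_le_iff] at hjac
      exact bot_ne_top (Ideal.jacobson_eq_top_iff.mp hjac)
    rw [← not_subsingleton_iff_nontrivial]
    intro hsub
    apply hne
    rw [Ideal.eq_top_iff_one, RingHom.mem_ker]
    exact Subsingleton.elim _ _
  haveI : IsLocalRing (D ⊗[A] ResidueField B) := by
    refine IsLocalRing.of_surjective'
      (Algebra.TensorProduct.includeLeft : D →ₐ[A] D ⊗[A] ResidueField B).toRingHom ?_
    exact Algebra.TensorProduct.includeLeft_surjective A D hκ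
  exact RingHom.domain_isLocalRing f.toRingHom

end loc

end Groth.Agent.Lib.Helper82.Olivier
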