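import Mathlib
import Groth.Agent.Lib.Helper82.Olivier2
import Groth.Agent.S1967

open TensorProduct IsLocalRing

namespace Groth.Agent.Lib.Helper82.Olivier

universe u

lemma isIntegral_of_isIdempotentElem {R S : Type*} [CommRing R] [CommRing S] [Algebra R S] {e : S}
    (he : IsIdempotentElem e) : IsIntegral R e := by
  refine ⟨Polynomial.X * (Polynomial.X - Polynomial.C 1), ?_, ?_⟩
  · exact Polynomial.monic_X.mul (Polynomial.monic_X_sub_C 1)
  · simp [mul_sub, he.eq]

lemma eq_zero_or_one_of_isIdempotentElem_of_isLocalRing {R : Type*} [CommRing R] [IsLocalRing R]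
    {e : R} (he : IsIdempotentElem e) : e = 0 ∨ e = 1 := by
  have h0 : e * (1 - e) = 0 := by rw [mul_sub, mul_one, he.eq, sub_self]
  rcases IsLocalRing.isUnit_or_isUnit_one_sub_self e with h | h
  · right
    have := h.mul_right_eq_zero.mp h0
    exact (sub_eq_zero.mp this).symm
  · left
    exact h.mul_left_eq_zero.mp h0

section G

theorem isField_tensor_of_fractionRing
    {A B : Type u} (D : Type u) {L : Type u} [CommRing A] [CommRing B] [IsLocalRing A]
    [IsLocalRing B] [Algebra A B]
    [IsLocalHom (algebraMap A B)] [Algebra.WeaklyEtale A B]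
    [CommRing D] [IsDomain D] [IsIntegrallyClosed D] [IsLocalRing D] [Algebra A D]
    [Algebra.IsIntegral A D]
    [Field L] [Algebra D L] [IsFractionRing D L] [Algebra A L] [IsScalarTower A D L]
    (hκ : Function.Surjective (algebraMap A (ResidueField B))) :
    IsField (L ⊗[A] B) := by
  haveI : IsLocalRing (D ⊗[A] B) := isLocalRing_tensor hκ
  haveI : Module.FaithfullyFlat A B := Module.FaithfullyFlat.of_flat_of_isLocalHom
  have hic := Groth.Agent.S1967.result D L (D ⊗[A] B)
  let e : (D ⊗[A] B) ⊗[D] L ≃+* L ⊗[A] B :=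
    ((Algebra.TensorProduct.comm D (D ⊗[A] B) L).trans
      (Algebra.TensorProduct.cancelBaseChange A D D L B)).toRingEquiv
  haveI : Nontrivial (L ⊗[A] B) := inferInstance
  apply isField_of_weaklyEtale_of_idem (K := L)
  intro x hx
  have hx' : IsIdempotentElem (e.symm x) := hx.map e.symm
  obtain ⟨x0, hx0⟩ := (isIntegrallyClosedIn_iff.mp hic).2
    (isIntegral_of_isIdempotentElem (R := D ⊗[A] B) hx')
  have hx0' : IsIdempotentElem x0 := by
    apply (isIntegrallyClosedIn_iff.mp hic).1
    rw [map_mul, hx0, hx'.eq]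
  rcases eq_zero_or_one_of_isIdempotentElem_of_isLocalRing hx0' with h | h
  · left
    rw [h, map_zero] at hx0
    exact (RingEquiv.map_eq_zero_iff e.symm).mp hx0.symm
  · right
    rw [h, map_one] at hx0
    exact (RingEquiv.map_eq_one_iff e.symm).mp hx0.symm

end G

end Groth.Agent.Lib.Helper82.Olivier
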