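import Mathlib
import Groth.Agent.Lib.Helper82.Olivier3
import Groth.Agent.S1964

open TensorProduct IsLocalRing

namespace Groth.Agent.Lib.Helper82.Olivier

universe u

theorem isField_tensor_of_algebraic
    {A B : Type u} [CommRing A] [CommRing B] [HenselianLocalRing A]
    [IsLocalRing B] [Algebra A B]
    [IsLocalHom (algebraMap A B)] [Algebra.WeaklyEtale A B]
    (R₀ : Type u) [CommRing R₀] [IsDomain R₀] [Algebra A R₀] [Algebra.IsIntegral A R₀]
    {L : Type u} [Field L] [Algebra R₀ L] [Algebra A L] [IsScalarTower A R₀ L]
    [Algebra.IsAlgebraic R₀ L] (hinj : Function.Injective (algebraMap R₀ L))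
    (hκ : Function.Surjective (algebraMap A (ResidueField B))) :
    IsField (L ⊗[A] B) := by
  let D := integralClosure R₀ L
  haveI : IsFractionRing D L :=
    integralClosure.isFractionRing_of_algebraic (A := R₀) (L := L)
      (fun x hx => hinj (by rw [hx, map_zero]))
  haveI : IsIntegrallyClosed D := (isIntegrallyClosed_iff_isIntegrallyClosedIn L).mpr inferInstance
  haveI : Algebra.IsIntegral A D := Algebra.IsIntegral.trans R₀
  obtain ⟨hD, -, -⟩ := Groth.Agent.S1964.result A D
  exact isField_tensor_of_fractionRing D hκ

end Groth.Agent.Lib.Helper82.Olivier
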