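import Mathlib
import Groth.Agent.Lib.Helper82.Olivier4

open TensorProduct IsLocalRing

namespace Groth.Agent.Lib.Helper82.Olivier

universe u

theorem bijective_algebraMap_of_isField_tensor_self {κ F : Type u} [Field κ] [Field F]
    [Algebra κ F] (h : IsField (F ⊗[κ] F)) : Function.Bijective (algebraMap κ F) := by
  letI := h.toField
  let μ : F ⊗[κ] F →ₐ[F] F := Algebra.TensorProduct.lmul'' κ
  have hμs : Function.Surjective μ := fun x => ⟨x ⊗ₜ 1, by
    show (Algebra.TensorProduct.lmul' κ (S := F)) (x ⊗ₜ[κ] 1) = x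
    simp⟩
  have hμi : Function.Injective μ := (μ : F ⊗[κ] F →+* F).injective
  let e : F ⊗[κ] F ≃ₗ[F] F := LinearEquiv.ofBijective μ.toLinearMap ⟨hμi, hμs⟩
  have h1 : Module.rank F (F ⊗[κ] F) = 1 := by rw [e.rank_eq, Module.rank_self]
  have h2 : Module.rank F (F ⊗[κ] F) = Cardinal.lift.{u} (Module.rank κ F) :=
    Module.rank_baseChange
  have h3 : Module.rank κ F = 1 := by
    rw [h1] at h2
    rw [Cardinal.lift_id] at h2
    exact h2.symm
  refine ⟨(algebraMap κ F).injective, ?_⟩
  exact Algebra.surjective_algebraMap_iff.mpr (Subalgebra.bot_eq_top_of_rank_eq_one h3).symm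


theorem bijective_fiber {A B : Type u} [CommRing A] [CommRing B] [HenselianLocalRing A]
    [IsLocalRing B] [Algebra A B] [IsLocalHom (algebraMap A B)] [Algebra.WeaklyEtale A B]
    (hκ : Function.Surjective (algebraMap A (ResidueField B))) (p : Ideal A) [p.IsPrime] :
    Function.Bijective (algebraMap p.ResidueField (p.ResidueField ⊗[A] B)) := by
  haveI : Algebra.IsIntegral A (A ⧸ p) :=
    Algebra.IsIntegral.of_surjective (Ideal.Quotient.mkₐ A p) Ideal.Quotient.mk_surjective
  haveI : Algebra.IsAlgebraic (A ⧸ p) p.ResidueField :=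
    (IsFractionRing.comap_isAlgebraic_iff (A := A ⧸ p) (K := p.ResidueField)
      (C := p.ResidueField)).mpr inferInstance
  have hF : IsField (p.ResidueField ⊗[A] B) :=
    isField_tensor_of_algebraic (A ⧸ p) (IsFractionRing.injective _ _) hκ
  letI := hF.toField
  haveI : Algebra.IsIntegral p.ResidueField (p.ResidueField ⊗[A] B) :=
    ⟨fun b => Groth.Agent.Lib.Helper27.WeaklyEtaleField.isIntegral_of_weaklyEtale b⟩
  haveI : IsScalarTower (A ⧸ p) p.ResidueField (p.ResidueField ⊗[A] B) := inferInstance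
  haveI : IsScalarTower A (A ⧸ p) (p.ResidueField ⊗[A] B) := inferInstance
  haveI : Algebra.IsAlgebraic (A ⧸ p) (p.ResidueField ⊗[A] B) :=
    (IsFractionRing.comap_isAlgebraic_iff (A := A ⧸ p) (K := p.ResidueField)
      (C := p.ResidueField ⊗[A] B)).mpr inferInstance
  have hinj : Function.Injective (algebraMap (A ⧸ p) (p.ResidueField ⊗[A] B)) := by
    rw [IsScalarTower.algebraMap_eq (A ⧸ p) p.ResidueField (p.ResidueField ⊗[A] B)]
    exact (algebraMap p.ResidueField (p.ResidueField ⊗[A] B)).injective.comp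
      (IsFractionRing.injective _ _)
  have hFF : IsField ((p.ResidueField ⊗[A] B) ⊗[A] B) :=
    isField_tensor_of_algebraic (A ⧸ p) hinj hκ
  have h2 : IsField ((p.ResidueField ⊗[A] B) ⊗[p.ResidueField] (p.ResidueField ⊗[A] B)) :=
    MulEquiv.isField hFF (Algebra.TensorProduct.cancelBaseChange A p.ResidueField p.ResidueField
      (p.ResidueField ⊗[A] B) B).toMulEquiv
  exact bijective_algebraMap_of_isField_tensor_self h2

end Groth.Agent.Lib.Helper82.Olivier
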