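import Mathlib
import Groth.Agent.Lib.Helper82.Olivier5

open TensorProduct IsLocalRing

namespace Groth.Agent.Lib.Helper82.Olivier

universe u

/-- if the fibres of `B₁` and `B₂` over `κ` are trivial, so is the fibre of `B₁ ⊗ B₂`. -/
theorem surjective_algebraMap_tensor_tensor {A κ B₁ B₂ : Type*} [CommRing A] [CommRing κ]
    [Algebra A κ] [CommRing B₁] [CommRing B₂] [Algebra A B₁] [Algebra A B₂]
    (h₁ : Function.Surjective (algebraMap κ (κ ⊗[A] B₁)))
    (h₂ : Function.Surjective (algebraMap κ (κ ⊗[A] B₂))) :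
    Function.Surjective (algebraMap κ (κ ⊗[A] (B₁ ⊗[A] B₂))) := by
  let j₁ : κ ⊗[A] B₁ →ₐ[κ] κ ⊗[A] (B₁ ⊗[A] B₂) :=
    Algebra.TensorProduct.map (AlgHom.id κ κ) Algebra.TensorProduct.includeLeft
  let j₂ : κ ⊗[A] B₂ →ₐ[κ] κ ⊗[A] (B₁ ⊗[A] B₂) :=
    Algebra.TensorProduct.map (AlgHom.id κ κ) Algebra.TensorProduct.includeRight
  intro x
  change x ∈ (algebraMap κ (κ ⊗[A] (B₁ ⊗[A] B₂))).range
  induction x using TensorProduct.induction_on with
  | zero => exact zero_mem _
  | add x y hx hy => exact add_mem hx hy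
  | tmul k c =>
    induction c using TensorProduct.induction_on with
    | zero => rw [TensorProduct.tmul_zero]; exact zero_mem _
    | add x y hx hy => rw [TensorProduct.tmul_add]; exact add_mem hx hy
    | tmul b₁ b₂ =>
      obtain ⟨k₁, hk₁⟩ := h₁ (1 ⊗ₜ b₁)
      obtain ⟨k₂, hk₂⟩ := h₂ (1 ⊗ₜ b₂)
      have e1 : k ⊗ₜ[A] (b₁ ⊗ₜ[A] b₂) =
          (algebraMap κ (κ ⊗[A] (B₁ ⊗[A] B₂)) k) * j₁ (1 ⊗ₜ b₁) * j₂ (1 ⊗ₜ b₂) := by
        simp [j₁, j₂, Algebra.TensorProduct.algebraMap_apply]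
      rw [e1, ← hk₁, ← hk₂, AlgHom.commutes, AlgHom.commutes]
      exact mul_mem (mul_mem ⟨k, rfl⟩ ⟨k₁, rfl⟩) ⟨k₂, rfl⟩

section III
variable {A B : Type u} [CommRing A] [CommRing B] [Algebra A B] [Algebra.WeaklyEtale A B]

theorem lmul'_injective
    (hfib : ∀ (p : Ideal A) [p.IsPrime],
      Function.Bijective (algebraMap p.ResidueField (p.ResidueField ⊗[A] B))) :
    Function.Injective (Algebra.TensorProduct.lmul' A (S := B)) := by
  rw [injective_iff_map_eq_zero]
  intro x hx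
  by_contra hx0
  obtain ⟨y, hy, hxy⟩ :=
    Groth.Agent.Lib.Helper27.WeaklyEtaleField.exists_eq_mul_of_lmul'_eq_zero hx
  -- annihilator of x
  let I : Ideal (B ⊗[A] B) := (Ideal.span {x}).annihilator
  have hI : I ≠ ⊤ := by
    intro h
    have h1 : (1 : B ⊗[A] B) ∈ I := h ▸ Submodule.mem_top
    rw [Submodule.mem_annihilator_span_singleton] at h1
    exact hx0 (by simpa using h1)
  obtain ⟨P, hP, hIP⟩ := Ideal.exists_le_maximal I hI
  have hyP : y ∉ P := by
    intro hyP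
    have h1 : (1 - y) ∈ I := by
      rw [Submodule.mem_annihilator_span_singleton, smul_eq_mul, sub_mul, one_mul, mul_comm,
        ← hxy, sub_self]
    have h2 : (1 : B ⊗[A] B) ∈ P := by
      have := P.add_mem (hIP h1) hyP
      simpa using this
    exact hP.ne_top ((Ideal.eq_top_iff_one P).mpr h2)
  apply hyP
  -- every element of the kernel lies in P
  haveI : P.IsPrime := hP.isPrime
  let p : Ideal A := P.comap (algebraMap A (B ⊗[A] B))
  haveI : p.IsPrime := Ideal.comap_isPrime _ _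
  let κ := p.ResidueField
  have hsurj : Function.Surjective (algebraMap κ (κ ⊗[A] (B ⊗[A] B))) :=
    surjective_algebraMap_tensor_tensor (hfib p).2 (hfib p).2
  obtain ⟨k, hk⟩ := hsurj (1 ⊗ₜ y)
  let μp : κ ⊗[A] (B ⊗[A] B) →ₐ[κ] κ ⊗[A] B :=
    Algebra.TensorProduct.map (AlgHom.id κ κ) (Algebra.TensorProduct.lmul' A (S := B))
  have h1 : μp (1 ⊗ₜ y) = 0 := by
    simp [μp, hy]
  rw [← hk, AlgHom.commutes] at h1
  have hk0 : k = 0 := (hfib p).1 (by rw [h1, map_zero])
  rw [hk0, map_zero] at hk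
  -- map to the residue field of P
  let ψ : κ ⊗[A] (B ⊗[A] B) →ₐ[A] P.ResidueField :=
    Algebra.TensorProduct.productMap
      (Ideal.ResidueField.mapₐ p P (Algebra.ofId A (B ⊗[A] B)) rfl)
      (IsScalarTower.toAlgHom A (B ⊗[A] B) P.ResidueField)
  have h2 : ψ (1 ⊗ₜ y) = algebraMap (B ⊗[A] B) P.ResidueField y := by
    simp [ψ]
  rw [← hk, map_zero] at h2
  exact Ideal.algebraMap_residueField_eq_zero.mp h2.symm

end III

theorem bijective_of_lmul'_injective {A B : Type*} [CommRing A] [CommRing B] [Algebra A B]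
    [Module.FaithfullyFlat A B]
    (h : Function.Injective (Algebra.TensorProduct.lmul' A (S := B))) :
    Function.Bijective (algebraMap A B) := by
  refine ⟨FaithfulSMul.algebraMap_injective A B, ?_⟩
  intro b
  have hex := Algebra.IsEffective.of_faithfullyFlat (R := A) (S := B)
  have h0 : Algebra.TensorProduct.includeLeftSubRight A B b = 0 := by
    apply h
    simp
  obtain ⟨a, ha⟩ := (hex b).mp h0
  exact ⟨a, ha⟩

end Groth.Agent.Lib.Helper82.Olivier
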