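import Mathlib
import Groth.Prelude.Def_ProEtW
import Groth.Prelude.Def_EtBase
import Groth.Agent.S0427
import Groth.Agent.Lib.Helper93.WEtale
import Groth.Agent.Lib.Helper69.WEtFlat
import Groth.Agent.Lib.Helper27.WeaklyEtaleField

open TensorProduct IsLocalRing

namespace Groth.Agent.Lib.Helper82.ThmW

universe u

theorem algebraicResidueExtensions_of_weaklyEtale (A B : Type u) [CommRing A] [CommRing B]
    [Algebra A B] [Algebra.WeaklyEtale A B] : ProEtW.AlgebraicResidueExtensions A B := by
  intro q hq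
  let p : Ideal A := q.comap (algebraMap A B)
  haveI : p.IsPrime := Ideal.comap_isPrime _ _
  let κ := p.ResidueField
  let T := q.ResidueField
  refine ⟨fun x => ?_⟩
  obtain ⟨b, rfl⟩ := Ideal.Quotient.mk_surjective x
  have hint : IsIntegral κ ((1 : κ) ⊗ₜ[A] b) :=
    Groth.Agent.Lib.Helper27.WeaklyEtaleField.isIntegral_of_weaklyEtale _
  have halg : IsAlgebraic (A ⧸ p) ((1 : κ) ⊗ₜ[A] b) :=
    (IsFractionRing.isAlgebraic_iff (A ⧸ p) κ (κ ⊗[A] B)).mpr hint.isAlgebraic
  obtain ⟨G, hG0, hG⟩ := halg
  refine ⟨G, hG0, ?_⟩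
  let ψ : κ ⊗[A] B →ₐ[A] T :=
    Algebra.TensorProduct.productMap
      (Ideal.ResidueField.mapₐ p q (Algebra.ofId A B) rfl)
      (IsScalarTower.toAlgHom A B T)
  have hψ : ψ ((1 : κ) ⊗ₜ[A] b) = algebraMap (B ⧸ q) T (Ideal.Quotient.mk q b) := by
    simp [ψ]
    rfl
  have hcomp : (ψ : κ ⊗[A] B →+* T).comp (algebraMap (A ⧸ p) (κ ⊗[A] B)) =
      (algebraMap (B ⧸ q) T).comp (algebraMap (A ⧸ p) (B ⧸ q)) := by
    apply Ideal.Quotient.ringHom_ext
    ext a
    simp only [ψ, RingHom.coe_comp, RingHom.coe_coe, Function.comp_apply,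
      Algebra.TensorProduct.algebraMap_apply,
      Algebra.TensorProduct.productMap_apply_tmul, map_one, mul_one]
    rw [Ideal.algebraMap_quotient_residueField_mk, AlgHom.commutes]
    have e1 : (algebraMap (A ⧸ p) (B ⧸ q)) ((Ideal.Quotient.mk p) a) =
        Ideal.Quotient.mk q (algebraMap A B a) := rfl
    rw [e1, Ideal.algebraMap_quotient_residueField_mk, ← IsScalarTower.algebraMap_apply A B T]
  apply Ideal.injective_algebraMap_quotient_residueField (I := q)
  rw [map_zero, Polynomial.aeval_def, Polynomial.hom_eval₂, ← hcomp, ← hψ]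
  show Polynomial.eval₂ ((ψ : κ ⊗[A] B →+* T).comp _) ((ψ : κ ⊗[A] B →+* T) _) G = 0
  rw [← Polynomial.hom_eval₂, ← Polynomial.aeval_def, hG, map_zero]


theorem bijective_localRingHom_of_weaklyEtale {C D : Type u} [CommRing C] [CommRing D]
    [Algebra C D] [Algebra.WeaklyEtale C D]
    (n : Ideal D) [n.IsPrime] (m : Ideal C) [m.IsPrime] (hm : m = n.comap (algebraMap C D))
    (hsh : EtCoh.IsStrictlyHenselianLocalRing (Localization.AtPrime m)) :
    Function.Bijective (Localization.localRingHom m n (algebraMap C D) hm) := by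
  obtain ⟨hH, hS⟩ := hsh
  letI : Algebra (Localization.AtPrime m) (Localization.AtPrime n) :=
    (Localization.localRingHom m n (algebraMap C D) hm).toAlgebra
  haveI : IsScalarTower C (Localization.AtPrime m) (Localization.AtPrime n) :=
    .of_algebraMap_eq (fun c => by
      rw [RingHom.algebraMap_toAlgebra, Localization.localRingHom_to_map,
        ← IsScalarTower.algebraMap_apply])
  haveI : Algebra.WeaklyEtale C (Localization.AtPrime m) :=
    Groth.Agent.Lib.Helper93.WEtale.weaklyEtale_of_isLocalization m.primeCompl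
  haveI : Algebra.WeaklyEtale D (Localization.AtPrime n) :=
    Groth.Agent.Lib.Helper93.WEtale.weaklyEtale_of_isLocalization n.primeCompl
  haveI : Algebra.WeaklyEtale C (Localization.AtPrime n) := Algebra.WeaklyEtale.trans C D _
  haveI : Algebra.WeaklyEtale (Localization.AtPrime m) (Localization.AtPrime n) :=
    Groth.Agent.Lib.Helper69.WEtFlat.weaklyEtale_of_tower C _ _
  haveI : IsLocalHom (algebraMap (Localization.AtPrime m) (Localization.AtPrime n)) :=
    Localization.isLocalHom_localRingHom _ _ _ hm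
  exact Groth.Agent.S0427.result (A := Localization.AtPrime m) (B := Localization.AtPrime n)

end Groth.Agent.Lib.Helper82.ThmW
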