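import Groth.Agent.Lib.Helper82.SqColumn
import Groth.Agent.Lib.Helper82.IndEtaleBaseChange

set_option autoImplicit false
open CategoryTheory CategoryTheory.Limits TensorProduct PrimeSpectrum
universe u

namespace Groth.Agent.Lib.Helper82

lemma zeroLocus_map_eq_preimage {R S : Type*} [CommRing R] [CommRing S] (f : R →+* S)
    (I : Ideal R) :
    PrimeSpectrum.zeroLocus (R := S) (I.map f) =
      PrimeSpectrum.comap f ⁻¹' PrimeSpectrum.zeroLocus (R := R) I := by
  ext Q
  rw [Set.mem_preimage, mem_zeroLocus, mem_zeroLocus, SetLike.coe_subset_coe,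
    SetLike.coe_subset_coe, Ideal.map_le_iff_le_comap]
  rfl

theorem exists_wLocal_indEtale_square (A B : Type u) [CommRing A] [CommRing B] [Algebra A B]
    (h : ProEtW.AlgebraicResidueExtensions A B) :
    ∃ (C D : Type u) (_ : CommRing C) (_ : CommRing D) (_ : Algebra A C) (_ : Algebra B D)
      (_ : Algebra C D) (_ : Algebra A D) (_ : IsScalarTower A C D) (_ : IsScalarTower A B D),
      Module.FaithfullyFlat A C ∧ EtPBC.IsIndEtale A C ∧ Module.FaithfullyFlat B D ∧
      EtPBC.IsIndEtale B D ∧ ProEtW.IsWLocal (PrimeSpectrum C) ∧ ProEtW.IsWLocal (PrimeSpectrum D) ∧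
      ProEtW.IsWLocalMap (PrimeSpectrum.comap (algebraMap C D)) ∧
      ProEtW.closedPoints (PrimeSpectrum D) =
        PrimeSpectrum.comap (algebraMap C D) ⁻¹' ProEtW.closedPoints (PrimeSpectrum C) ∧
      PrimeSpectrum.comap (algebraMap A C) '' ProEtW.closedPoints (PrimeSpectrum C) = Set.univ ∧
      PrimeSpectrum.comap (algebraMap B D) '' ProEtW.closedPoints (PrimeSpectrum D) = Set.univ ∧
      ∀ (m : Ideal C) [m.IsMaximal], EtCoh.IsStrictlyHenselianLocalRing (Localization.AtPrime m) := by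
  -- Step 1: the w-localization of `A`
  have hA'w : ProEtW.IsWLocal (PrimeSpectrum (WLoc.Aw A)) := WLoc.isWLocal_Aw
  obtain ⟨I, hI0⟩ : ∃ I : Ideal (WLoc.Aw A), PrimeSpectrum.zeroLocus (R := WLoc.Aw A) I =
      ProEtW.closedPoints (PrimeSpectrum (WLoc.Aw A)) :=
    ⟨PrimeSpectrum.vanishingIdeal (ProEtW.closedPoints (PrimeSpectrum (WLoc.Aw A))), by
      rw [PrimeSpectrum.zeroLocus_vanishingIdeal_eq_closure]
      exact hA'w.2.1.closure_eq⟩
  -- Step 2: the first column
  obtain ⟨C, _, _, hCet, hCw, hCmap, hCcp, hCsurj, hCsh⟩ :=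
    exists_wLocal_strictlyHenselian_cover (WLoc.Aw A) (TOmega.C (WLoc.Aw A)) I hI0
      (TOmega.faithfullyFlat_C _) (TOmega.isIndEtale_C _) (TOmega.hasEtaleRetractions_C _)
  letI : Algebra A C := ((algebraMap (WLoc.Aw A) C).comp (algebraMap A (WLoc.Aw A))).toAlgebra
  have hstA : IsScalarTower A (WLoc.Aw A) C := IsScalarTower.of_algebraMap_eq' rfl
  have hACet : EtPBC.IsIndEtale A C :=
    isIndEtale_trans A (WLoc.Aw A) C (isIndEtale_of_isIndZariski WLoc.isIndZariski_Aw) hCet
  have hsurjA : PrimeSpectrum.comap (algebraMap A C) '' ProEtW.closedPoints (PrimeSpectrum C) =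
      Set.univ := by
    rw [Set.eq_univ_iff_forall]
    intro p
    obtain ⟨x, hx, hxp⟩ := (WLoc.bijOn_comap_closedPoints (A := A)).surjOn (Set.mem_univ p)
    obtain ⟨Q, hQ, hQx⟩ := hCsurj hx
    refine ⟨Q, hQ, ?_⟩
    rw [IsScalarTower.algebraMap_eq A (WLoc.Aw A) C, PrimeSpectrum.comap_comp_apply, hQx, hxp]
  have hACflat : Module.Flat A C := (weaklyEtale_of_isIndEtale hACet).flat
  have hACff : Module.FaithfullyFlat A C := by
    refine Module.FaithfullyFlat.of_comap_surjective fun p => ?_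
    have : p ∈ PrimeSpectrum.comap (algebraMap A C) '' ProEtW.closedPoints (PrimeSpectrum C) := by
      rw [hsurjA]; exact Set.mem_univ p
    obtain ⟨Q, -, hQ⟩ := this
    exact ⟨Q, hQ⟩
  -- the ideal of closed points of `C`
  have hJ0 : PrimeSpectrum.zeroLocus (R := C) (I.map (algebraMap (WLoc.Aw A) C)) =
      ProEtW.closedPoints (PrimeSpectrum C) := by
    rw [hCcp, ← hI0]
    exact zeroLocus_map_eq_preimage _ I
  -- Step 3: the second column
  letI : Algebra C (B ⊗[A] C) := Algebra.TensorProduct.rightAlgebra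
  have hsub2 : PrimeSpectrum.zeroLocus (R := B ⊗[A] C)
      ((I.map (algebraMap (WLoc.Aw A) C)).map (algebraMap C (B ⊗[A] C))) ⊆
      ProEtW.closedPoints (PrimeSpectrum (B ⊗[A] C)) := by
    intro r hr
    rw [zeroLocus_map_eq_preimage, Set.mem_preimage, hJ0] at hr
    have h1 : IsClosed ({PrimeSpectrum.comap (algebraMap C (B ⊗[A] C)) r} :
        Set (PrimeSpectrum C)) := hr
    rw [PrimeSpectrum.isClosed_singleton_iff_isMaximal] at h1
    have h2 : (r.asIdeal.comap
        (Algebra.TensorProduct.includeRight (R := A) (A := B) (B := C))).IsMaximal := h1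
    have h3 := isMaximal_of_comap_includeRight_isMaximal A B C h r.asIdeal h2
    show IsClosed _
    rw [PrimeSpectrum.isClosed_singleton_iff_isMaximal]
    exact h3
  obtain ⟨D, _, _, _, hstD, hDzar, hDbij, hDw, hDmap, hDcp⟩ :=
    WLoc.exists_indZariski_wLocal_of_subset_closedPoints C (B ⊗[A] C)
      (I.map (algebraMap (WLoc.Aw A) C)) hJ0 hsub2
  letI : Algebra B D := ((algebraMap (B ⊗[A] C) D).comp (algebraMap B (B ⊗[A] C))).toAlgebra
  letI : Algebra A D := ((algebraMap C D).comp (algebraMap A C)).toAlgebra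
  have hACD : IsScalarTower A C D := IsScalarTower.of_algebraMap_eq' rfl
  have hBB'D : IsScalarTower B (B ⊗[A] C) D := IsScalarTower.of_algebraMap_eq' rfl
  have hABD : IsScalarTower A B D := by
    refine IsScalarTower.of_algebraMap_eq fun a => ?_
    show algebraMap C D (algebraMap A C a) =
      algebraMap (B ⊗[A] C) D (algebraMap B (B ⊗[A] C) (algebraMap A B a))
    rw [IsScalarTower.algebraMap_apply C (B ⊗[A] C) D]
    congr 1
    show (1 : B) ⊗ₜ[A] (algebraMap A C a) = (algebraMap A B a) ⊗ₜ[A] (1 : C)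
    rw [Algebra.algebraMap_eq_smul_one, Algebra.algebraMap_eq_smul_one, TensorProduct.smul_tmul]
  have hBDet : EtPBC.IsIndEtale B D :=
    isIndEtale_trans B (B ⊗[A] C) D (isIndEtale_baseChange A C B hACet)
      (isIndEtale_of_isIndZariski hDzar)
  have hsurjB : PrimeSpectrum.comap (algebraMap B D) '' ProEtW.closedPoints (PrimeSpectrum D) =
      Set.univ := by
    rw [Set.eq_univ_iff_forall]
    intro q
    have : PrimeSpectrum.comap (algebraMap A B) q ∈
        PrimeSpectrum.comap (algebraMap A C) '' ProEtW.closedPoints (PrimeSpectrum C) := by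
      rw [hsurjA]; exact Set.mem_univ _
    obtain ⟨Qc, hQc, hQcp⟩ := this
    obtain ⟨r, hr1, hr2⟩ := exists_prime_tensor A B C q Qc hQcp.symm
    have hr2' : PrimeSpectrum.comap (algebraMap C (B ⊗[A] C)) r = Qc := hr2
    have hrJ : (I.map (algebraMap (WLoc.Aw A) C)).map (algebraMap C (B ⊗[A] C)) ≤ r.asIdeal := by
      have : r ∈ PrimeSpectrum.zeroLocus (R := B ⊗[A] C)
          ((I.map (algebraMap (WLoc.Aw A) C)).map (algebraMap C (B ⊗[A] C))) := by
        rw [zeroLocus_map_eq_preimage, Set.mem_preimage, hJ0, hr2']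
        exact hQc
      rw [mem_zeroLocus, SetLike.coe_subset_coe] at this
      exact this
    obtain ⟨Q, hQ, -⟩ := WLoc.exists_prime_of_bijective_quotientMap _ hDbij r hrJ
    refine ⟨Q, ?_, ?_⟩
    · rw [hDcp, Set.mem_preimage, IsScalarTower.algebraMap_eq C (B ⊗[A] C) D,
        PrimeSpectrum.comap_comp_apply, hQ, hr2']
      exact hQc
    · rw [IsScalarTower.algebraMap_eq B (B ⊗[A] C) D, PrimeSpectrum.comap_comp_apply, hQ]
      exact hr1
  have hBDflat : Module.Flat B D := (weaklyEtale_of_isIndEtale hBDet).flat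
  have hBDff : Module.FaithfullyFlat B D := by
    refine Module.FaithfullyFlat.of_comap_surjective fun q => ?_
    have : q ∈ PrimeSpectrum.comap (algebraMap B D) '' ProEtW.closedPoints (PrimeSpectrum D) := by
      rw [hsurjB]; exact Set.mem_univ q
    obtain ⟨Q, -, hQ⟩ := this
    exact ⟨Q, hQ⟩
  exact ⟨C, D, inferInstance, inferInstance, inferInstance, inferInstance, inferInstance,
    inferInstance, hACD, hABD, hACff, hACet, hBDff, hBDet, hCw, hDw, hDmap, hDcp, hsurjA, hsurjB,
    fun m _ => hCsh m⟩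

end Groth.Agent.Lib.Helper82
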