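import Mathlib
import Groth.Agent.Lib.Helper82.ThmW1
import Groth.Agent.Lib.Helper82.IndZarWLocal2
import Groth.Agent.Lib.Helper82.IndEtaleTrans
import Groth.Agent.Lib.Helper82.SqBasics
import Groth.Agent.S0692

open TensorProduct IsLocalRing

namespace Groth.Agent.Lib.Helper82.ThmW

universe u

theorem theoremW (A B : Type u) [CommRing A] [CommRing B] [Algebra A B]
    [Algebra.WeaklyEtale A B] :
    ∃ (B' : Type u) (_ : CommRing B') (_ : Algebra B B') (_ : Algebra A B')
      (_ : IsScalarTower A B B'),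
      Module.FaithfullyFlat B B' ∧ EtPBC.IsIndEtale B B' ∧ EtPBC.IsIndEtale A B' := by
  obtain ⟨C, D, _, _, _, _, _, _, _, _, hffC, hetC, hffD, hetD, hwC, hwD, hwmap, hcl, -, -, hsh⟩ :=
    Groth.Agent.S0692.result A B (algebraicResidueExtensions_of_weaklyEtale A B)
  refine ⟨D, inferInstance, inferInstance, inferInstance, inferInstance, hffD, hetD, ?_⟩
  haveI : Algebra.WeaklyEtale A C := Groth.Agent.Lib.Helper82.weaklyEtale_of_isIndEtale hetC
  haveI : Algebra.WeaklyEtale B D := Groth.Agent.Lib.Helper82.weaklyEtale_of_isIndEtale hetD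
  haveI : Algebra.WeaklyEtale A D := Algebra.WeaklyEtale.trans A B D
  haveI : Algebra.WeaklyEtale C D := Groth.Agent.Lib.Helper69.WEtFlat.weaklyEtale_of_tower A C D
  have hZ : EtPBC.IsIndZariski C D :=
    Groth.Agent.Lib.Helper82.IndZar.isIndZariski_of_closed_wLocal C D (fun q hq => by
      have hmcl : IsClosed ({PrimeSpectrum.comap (algebraMap C D) q} : Set (PrimeSpectrum C)) :=
        hwmap.2 q hq
      haveI : (q.asIdeal.comap (algebraMap C D)).IsMaximal :=
        (PrimeSpectrum.isClosed_singleton_iff_isMaximal _).mp hmcl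
      exact bijective_localRingHom_of_weaklyEtale q.asIdeal _ rfl (hsh _)) hwD
  exact isIndEtale_trans A C D hetC (isIndEtale_of_isIndZariski hZ)

end Groth.Agent.Lib.Helper82.ThmW
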