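import Mathlib
import Groth.Agent.Lib.Helper82.ThmW2
import Groth.Agent.Lib.Helper82.EtRetrHensel
import Groth.Agent.Lib.Helper82.IndZarRetract
import Groth.Agent.Lib.Helper82.TConstr
import Groth.Agent.Lib.Helper82.SqLemmas
import Groth.Agent.Lib.Helper82.WLocAlgRes

open TensorProduct IsLocalRing

namespace Groth.Agent.Lib.Helper82.WContr

universe u

theorem isWContractible_of_hasIndEtaleRetractions {A : Type u} [CommRing A]
    (h : ProEtW.HasIndEtaleRetractions A) : EtPBC.IsWContractible A := by
  intro B _ _ hff hwe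
  obtain ⟨B', _, _, _, _, hff', -, hetA⟩ := Groth.Agent.Lib.Helper82.ThmW.theoremW A B
  haveI := hff
  haveI := hff'
  haveI : Module.FaithfullyFlat A B' := Module.FaithfullyFlat.trans A B B'
  obtain ⟨r⟩ := h B' inferInstance hetA
  exact ⟨r.comp (IsScalarTower.toAlgHom A B B')⟩

theorem hasIndEtaleRetractions_of_isWContractible {A : Type u} [CommRing A]
    (h : EtPBC.IsWContractible A) : ProEtW.HasIndEtaleRetractions A := by
  intro B _ _ hff het
  exact h B hff (Groth.Agent.Lib.Helper82.weaklyEtale_of_isIndEtale het)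

/-- (2) ⇒ (3) -/
theorem wLocal_extrDisc_strictlyHenselian_of_hasIndEtaleRetractions {A : Type u} [CommRing A]
    (h : ProEtW.HasIndEtaleRetractions A) :
    ProEtW.IsWLocal (PrimeSpectrum A) ∧
      ExtremallyDisconnected (_root_.ConnectedComponents (PrimeSpectrum A)) ∧
      ∀ (m : Ideal A) [m.IsMaximal],
        EtCoh.IsStrictlyHenselianLocalRing (Localization.AtPrime m) := by
  have hZ : ProEtW.HasIndZariskiRetractions A := by
    intro B _ _ hff hiz
    exact h B hff (isIndEtale_of_isIndZariski hiz)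
  have hE : ProEtW.HasEtaleRetractions A := by
    intro B _ _ hff het
    exact h B hff (isIndEtale_of_etale A B)
  obtain ⟨h1, h2⟩ := (WLoc.hasIndZariskiRetractions_iff A).mp hZ
  exact ⟨h1, h2, fun m _ => EtRetr.isStrictlyHenselianLocalRing_localization hE m⟩

/-- (3) ⇒ (2) -/
theorem hasIndEtaleRetractions_of_wLocal_extrDisc_strictlyHenselian {A : Type u} [CommRing A]
    (hW : ProEtW.IsWLocal (PrimeSpectrum A))
    (hED : ExtremallyDisconnected (_root_.ConnectedComponents (PrimeSpectrum A)))
    (hsh : ∀ (m : Ideal A) [m.IsMaximal],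
        EtCoh.IsStrictlyHenselianLocalRing (Localization.AtPrime m)) :
    ProEtW.HasIndEtaleRetractions A := by
  intro B _ _ hff het
  haveI := hff
  haveI : Algebra.WeaklyEtale A B := weaklyEtale_of_isIndEtale het
  -- the ideal of closed points
  let I : Ideal A := PrimeSpectrum.vanishingIdeal (ProEtW.closedPoints (PrimeSpectrum A))
  have hI0 : PrimeSpectrum.zeroLocus (R := A) I = ProEtW.closedPoints (PrimeSpectrum A) := by
    rw [PrimeSpectrum.zeroLocus_vanishingIdeal_eq_closure]
    exact hW.2.1.closure_eq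
  obtain ⟨hsub, C, _, _, _, _, hiz, hbij, hWC, hWmap, hcl⟩ :=
    WLoc.exists_indZariski_wLocal_of_algebraicResidueExtensions A B I hI0
      (ThmW.algebraicResidueExtensions_of_weaklyEtale A B)
  haveI : Algebra.WeaklyEtale B C := weaklyEtale_of_isIndEtale (isIndEtale_of_isIndZariski hiz)
  haveI : Algebra.WeaklyEtale A C := Algebra.WeaklyEtale.trans A B C
  have hZ : EtPBC.IsIndZariski A C :=
    IndZar.isIndZariski_of_closed_wLocal A C (fun q hq => by
      have hmcl : IsClosed ({PrimeSpectrum.comap (algebraMap A C) q} : Set (PrimeSpectrum A)) :=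
        hWmap.2 q hq
      haveI : (q.asIdeal.comap (algebraMap A C)).IsMaximal :=
        (PrimeSpectrum.isClosed_singleton_iff_isMaximal _).mp hmcl
      exact ThmW.bijective_localRingHom_of_weaklyEtale q.asIdeal _ rfl (hsh _)) hWC
  have hffC : Module.FaithfullyFlat A C := by
    refine ⟨fun m hm => ?_⟩
    -- a prime of B over m
    obtain ⟨q, hq⟩ := PrimeSpectrum.comap_surjective_of_faithfullyFlat (A := A) (B := B)
      ⟨m, hm.isPrime⟩
    have hmcl : (⟨m, hm.isPrime⟩ : PrimeSpectrum A) ∈ ProEtW.closedPoints (PrimeSpectrum A) :=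
      (PrimeSpectrum.isClosed_singleton_iff_isMaximal _).mpr hm
    have hIm : I ≤ m := by
      rw [← hI0] at hmcl
      exact hmcl
    have hIq : I.map (algebraMap A B) ≤ q.asIdeal := by
      rw [Ideal.map_le_iff_le_comap]
      have := congrArg PrimeSpectrum.asIdeal hq
      simp only [PrimeSpectrum.comap_asIdeal] at this
      rw [this]
      exact hIm
    obtain ⟨Q, hQ, -⟩ := WLoc.exists_prime_of_bijective_quotientMap _ hbij q hIq
    rw [Ideal.smul_top_eq_map]
    intro htop
    have hle : m.map (algebraMap A C) ≤ Q.asIdeal := by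
      rw [Ideal.map_le_iff_le_comap]
      have h1 := congrArg PrimeSpectrum.asIdeal hQ
      have h2 := congrArg PrimeSpectrum.asIdeal hq
      simp only [PrimeSpectrum.comap_asIdeal] at h1 h2
      rw [IsScalarTower.algebraMap_eq A B C, ← Ideal.comap_comap, h1, h2]
    have : Q.asIdeal = ⊤ := by
      rw [eq_top_iff]
      have h3 : (⊤ : Submodule A C) ≤ (Q.asIdeal.restrictScalars A) := by
        rw [← htop]
        exact fun x hx => hle hx
      exact fun x hx => h3 hx
    exact Q.2.ne_top this
  obtain ⟨r⟩ := (WLoc.hasIndZariskiRetractions_iff A).mpr ⟨hW, hED⟩ C hffC hZ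
  exact ⟨r.comp (IsScalarTower.toAlgHom A B C)⟩

end Groth.Agent.Lib.Helper82.WContr
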