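import Mathlib.Topology.Spectral.Basic
import Mathlib.Topology.Spectral.Hom

set_option autoImplicit false
open Topology

namespace Groth.Agent.Lib.Helper82

theorem quasiSeparatedSpace_of_isClosedEmbedding {X Y : Type*} [TopologicalSpace X]
    [TopologicalSpace Y] [QuasiSeparatedSpace Y] [PrespectralSpace Y] {f : X → Y}
    (hf : IsClosedEmbedding f) : QuasiSeparatedSpace X := by
  have hb := (PrespectralSpace.isTopologicalBasis (X := Y)).isInducing hf.isInducing
  let b : {V : Set Y // IsOpen V ∧ IsCompact V} → Set X := fun V => f ⁻¹' V.1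
  have hrange : Set.range b = Set.image (Set.preimage f) {V : Set Y | IsOpen V ∧ IsCompact V} := by
    ext s
    constructor
    · rintro ⟨V, rfl⟩
      exact ⟨V.1, V.2, rfl⟩
    · rintro ⟨V, hV, rfl⟩
      exact ⟨⟨V, hV⟩, rfl⟩
  refine QuasiSeparatedSpace.of_isTopologicalBasis (b := b) (hrange ▸ hb) ?_
  rintro ⟨U, hU, hU'⟩ ⟨V, hV, hV'⟩
  show IsCompact (f ⁻¹' U ∩ f ⁻¹' V)
  rw [← Set.preimage_inter]
  exact hf.isCompact_preimage (hU'.inter_of_isOpen hV' hU hV)

theorem spectralSpace_of_isClosedEmbedding {X Y : Type*} [TopologicalSpace X]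
    [TopologicalSpace Y] [SpectralSpace Y] {f : X → Y}
    (hf : IsClosedEmbedding f) : SpectralSpace X where
  __ := hf.quasiSober
  __ := PrespectralSpace.of_isClosedEmbedding f hf
  __ := quasiSeparatedSpace_of_isClosedEmbedding hf
  __ := hf.isEmbedding.t0Space
  __ := hf.compactSpace

end Groth.Agent.Lib.Helper82
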