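import Mathlib.Topology.Spectral.Basic
import Mathlib.Topology.Spectral.Hom
import Mathlib.Topology.Separation.Regular
import Mathlib.Topology.Connected.TotallyDisconnected

set_option autoImplicit false
open Topology Set

namespace Groth.Agent.Lib.Helper82

variable {X : Type*} [TopologicalSpace X]

theorem exists_isClopen_mem_disjoint_of_isCompact (x : X) {K : Set X}
    (hK : IsCompact K) (h : Disjoint K (⋂₀ {Z : Set X | IsClopen Z ∧ x ∈ Z})) :
    ∃ Z : Set X, IsClopen Z ∧ x ∈ Z ∧ Disjoint K Z := by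
  have h' : K ∩ ⋂ s : { s : Set X // IsClopen s ∧ x ∈ s }, (s : Set X) = ∅ := by
    rw [← disjoint_iff_inter_eq_empty]
    refine h.mono_right ?_
    intro y hy
    rw [mem_sInter]
    intro Z hZ
    exact mem_iInter.1 hy ⟨Z, hZ⟩
  obtain ⟨si, H2⟩ := hK.elim_finite_subfamily_closed
    (fun s : { s : Set X // IsClopen s ∧ x ∈ s } => (s : Set X)) (fun s => s.2.1.1) h'
  refine ⟨⋂ U ∈ si, Subtype.val U, ?_, ?_, ?_⟩
  · exact isClopen_biInter_finset fun s _ => s.2.1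
  · exact mem_iInter₂.2 fun s _ => s.2.2
  · rwa [disjoint_iff_inter_eq_empty]

theorem isPreconnected_sInter_isClopen [CompactSpace X] [QuasiSeparatedSpace X]
    [PrespectralSpace X] (x : X) : IsPreconnected (⋂₀ {Z : Set X | IsClopen Z ∧ x ∈ Z}) := by
  set S : Set X := ⋂₀ {Z : Set X | IsClopen Z ∧ x ∈ Z} with hS
  have hSc : IsClosed S := isClosed_sInter fun Z hZ => hZ.1.1
  have hxS : x ∈ S := mem_sInter.2 fun Z hZ => hZ.2
  rw [isPreconnected_iff_subset_of_fully_disjoint_closed hSc]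
  intro a b ha hb hab ab_disj
  obtain ⟨U, hUc, hUo, hBU, hUb⟩ := PrespectralSpace.exists_isCompact_and_isOpen_between
    (K := S ∩ a) (U := bᶜ) (hSc.inter ha).isCompact hb.isOpen_compl
    (fun y hy => fun hyb => (Set.disjoint_left.1 ab_disj) hy.2 hyb)
  obtain ⟨V, hVc, hVo, hCV, hVa⟩ := PrespectralSpace.exists_isCompact_and_isOpen_between
    (K := S ∩ b) (U := aᶜ) (hSc.inter hb).isCompact ha.isOpen_compl
    (fun y hy => fun hya => (Set.disjoint_left.1 ab_disj) hya hy.2)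
  have hSUV : Disjoint (U ∪ V)ᶜ S := by
    rw [Set.disjoint_left]
    intro y hy hyS
    exact hy ((hab hyS).elim (fun h => Or.inl (hBU ⟨hyS, h⟩)) (fun h => Or.inr (hCV ⟨hyS, h⟩)))
  have hdisj : Disjoint (U ∩ V) S := by
    rw [Set.disjoint_left]
    intro y hyUV hy
    rcases hab hy with h | h
    · exact hVa hyUV.2 h
    · exact hUb hyUV.1 h
  have hUVc : IsCompact (U ∩ V) := hUc.inter_of_isOpen hVc hUo hVo
  obtain ⟨Z₁, hZ₁, hxZ₁, hZ₁d⟩ := exists_isClopen_mem_disjoint_of_isCompact x hUVc hdisj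
  obtain ⟨Z₂, hZ₂, hxZ₂, hZ₂d⟩ := exists_isClopen_mem_disjoint_of_isCompact x
    (hUo.union hVo).isClosed_compl.isCompact hSUV
  have hZ : IsClopen (Z₁ ∩ Z₂) := hZ₁.inter hZ₂
  have hZsub : Z₁ ∩ Z₂ ⊆ U ∪ V := by
    intro y hy
    by_contra hyn
    exact (Set.disjoint_left.1 hZ₂d) hyn hy.2
  have hZd : ∀ y ∈ Z₁ ∩ Z₂, y ∈ U → y ∈ V → False := fun y hy hU hV =>
    (Set.disjoint_left.1 hZ₁d) ⟨hU, hV⟩ hy.1
  have hZU : IsClopen (Z₁ ∩ Z₂ ∩ U) := by
    refine ⟨?_, hZ.2.inter hUo⟩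
    have : Z₁ ∩ Z₂ ∩ U = Z₁ ∩ Z₂ ∩ Vᶜ := by
      ext y
      constructor
      · rintro ⟨hy, hyU⟩
        exact ⟨hy, fun hyV => hZd y hy hyU hyV⟩
      · rintro ⟨hy, hyV⟩
        exact ⟨hy, (hZsub hy).resolve_right hyV⟩
    rw [this]
    exact hZ.1.inter hVo.isClosed_compl
  have hZV : IsClopen (Z₁ ∩ Z₂ ∩ V) := by
    refine ⟨?_, hZ.2.inter hVo⟩
    have : Z₁ ∩ Z₂ ∩ V = Z₁ ∩ Z₂ ∩ Uᶜ := by
      ext y
      constructor
      · rintro ⟨hy, hyV⟩
        exact ⟨hy, fun hyU => hZd y hy hyU hyV⟩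
      · rintro ⟨hy, hyU⟩
        exact ⟨hy, (hZsub hy).resolve_left hyU⟩
    rw [this]
    exact hZ.1.inter hUo.isClosed_compl
  rcases hab hxS with hxa | hxb
  · left
    have hSU : S ⊆ Z₁ ∩ Z₂ ∩ U := sInter_subset_of_mem ⟨hZU, ⟨⟨hxZ₁, hxZ₂⟩, hBU ⟨hxS, hxa⟩⟩⟩
    intro y hy
    exact (hab hy).resolve_right (fun hyb => hUb (hSU hy).2 hyb)
  · right
    have hSV : S ⊆ Z₁ ∩ Z₂ ∩ V := sInter_subset_of_mem ⟨hZV, ⟨⟨hxZ₁, hxZ₂⟩, hCV ⟨hxS, hxb⟩⟩⟩
    intro y hy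
    exact (hab hy).resolve_left (fun hya => hVa (hSV hy).2 hya)

theorem connectedComponent_eq_sInter_isClopen [CompactSpace X] [QuasiSeparatedSpace X]
    [PrespectralSpace X] (x : X) :
    connectedComponent x = ⋂₀ {Z : Set X | IsClopen Z ∧ x ∈ Z} := by
  apply Subset.antisymm
  · intro y hy
    rw [mem_sInter]
    intro Z hZ
    exact hZ.1.connectedComponent_subset hZ.2 hy
  · exact (isPreconnected_sInter_isClopen x).subset_connectedComponent
      (mem_sInter.2 fun Z hZ => hZ.2)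

end Groth.Agent.Lib.Helper82
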