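import Groth.Agent.Lib.Helper74.SpectralPi
import Groth.Agent.Lib.Helper82.SpectralClosed
import Groth.Agent.Lib.Helper82.SpectralPi0
import Mathlib.Topology.Separation.Profinite

set_option autoImplicit false
open Topology Set
universe u

namespace Groth.Agent.Lib.Helper82

variable {X : Type*} [TopologicalSpace X]

theorem t2Space_connectedComponents [CompactSpace X] [QuasiSeparatedSpace X]
    [PrespectralSpace X] : T2Space (ConnectedComponents X) := by
  refine ⟨ConnectedComponents.surjective_coe.forall₂.2 fun a b ne => ?_⟩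
  rw [ConnectedComponents.coe_ne_coe] at ne
  have hb : b ∉ connectedComponent a := fun hb => ne (connectedComponent_eq hb)
  rw [connectedComponent_eq_sInter_isClopen a] at hb
  simp only [Set.mem_sInter, Set.mem_ofPred_eq, not_forall] at hb
  obtain ⟨U, ⟨hU, haU⟩, hbU⟩ := hb
  have hpre : ((↑) : X → ConnectedComponents X) ⁻¹' ((↑) '' U) = U :=
    (connectedComponents_preimage_image U).symm ▸ hU.biUnion_connectedComponent_eq
  have hV : IsClopen (((↑) : X → ConnectedComponents X) '' U) := by
    rw [← ConnectedComponents.isQuotientMap_coe.isClopen_preimage, hpre]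
    exact hU
  refine ⟨(↑) '' U, ((↑) '' U)ᶜ, hV.isOpen, hV.compl.isOpen, ⟨a, haU, rfl⟩, ?_,
    disjoint_compl_right⟩
  intro hmem
  have h3 : b ∈ ((↑) : X → ConnectedComponents X) ⁻¹' ((↑) '' U) := hmem
  rw [hpre] at h3
  exact hbU h3

theorem exists_isClosed_singleton_specializes [CompactSpace X] [T0Space X] (x : X) :
    ∃ z : X, IsClosed ({z} : Set X) ∧ x ⤳ z := by
  obtain ⟨z, hz, hzc⟩ := (isClosed_closure (s := ({x} : Set X))).exists_closed_singleton
    (singleton_nonempty x).closure
  exact ⟨z, hzc, specializes_iff_mem_closure.2 hz⟩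

theorem connectedComponents_mk_eq_of_specializes {x z : X} (h : x ⤳ z) :
    ConnectedComponents.mk x = ConnectedComponents.mk z := by
  symm
  rw [ConnectedComponents.coe_eq_coe']
  have h1 : closure ({x} : Set X) ⊆ connectedComponent x :=
    (isPreconnected_singleton.closure).subset_connectedComponent (subset_closure rfl)
  exact h1 (specializes_iff_mem_closure.1 h)

theorem spectralSpace_of_profinite (T : Type*) [TopologicalSpace T] [CompactSpace T] [T2Space T]
    [TotallyDisconnectedSpace T] : SpectralSpace T :=
  have : PrespectralSpace T := PrespectralSpace.of_isTopologicalBasis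
    (isTopologicalBasis_isClopen (X := T)) (fun _ hU => hU.1.isCompact)
  { }

end Groth.Agent.Lib.Helper82

namespace Groth.Agent.Lib.Helper82

section WLocal

open Groth.Agent.Lib.Helper74

variable {X : Type u} [TopologicalSpace X] [SpectralSpace X]
  (huniq : ∀ x : X, ∃! z : X, IsClosed ({z} : Set X) ∧ x ⤳ z)

include huniq in
theorem closedPt_eq_of_specializes {x y z w : X} (hxy : x ⤳ y) (hz : IsClosed ({z} : Set X))
    (hxz : x ⤳ z) (hw : IsClosed ({w} : Set X)) (hyw : y ⤳ w) : z = w := by
  obtain ⟨c, _, hc⟩ := huniq x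
  rw [hc z ⟨hz, hxz⟩, hc w ⟨hw, hxy.trans hyw⟩]

include huniq in
theorem disjoint_nhds_of_closedPts {x y : X} (hx : IsClosed ({x} : Set X))
    (hy : IsClosed ({y} : Set X)) (hxy : x ≠ y) :
    ∃ U V : Set X, IsOpen U ∧ IsOpen V ∧ x ∈ U ∧ y ∈ V ∧ Disjoint U V := by
  rcases exists_common_generalization_or_disjoint_nhds x y with ⟨z, hzx, hzy⟩ | h
  · exact absurd (closedPt_eq_of_specializes huniq (specializes_rfl (x := z)) hx hzx hy hzy) hxy
  · exact h

include huniq in
theorem isClosed_generalizations {T : Set X} (hT : IsClosed T)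
    (hT0 : ∀ t ∈ T, IsClosed ({t} : Set X)) : IsClosed {x : X | ∃ t ∈ T, x ⤳ t} := by
  rw [generalizations_eq_sInter hT.isCompact]
  apply isClosed_of_isClosed_cons_of_stableUnderSpecialization
  · apply @isClosed_sInter X (constructibleTopology X)
    rintro U ⟨hU1, hU2, -⟩
    exact isClosed_cons_of_isCompact_isOpen hU1 hU2
  · rw [← generalizations_eq_sInter hT.isCompact]
    rintro x y hxy ⟨t, ht, hxt⟩
    obtain ⟨w, hw, hyw⟩ := exists_isClosed_singleton_specializes y
    have := closedPt_eq_of_specializes huniq hxy (hT0 t ht) hxt hw hyw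
    exact ⟨t, ht, this ▸ hyw⟩

end WLocal

end Groth.Agent.Lib.Helper82

namespace Groth.Agent.Lib.Helper82

section WLocal2

open Groth.Agent.Lib.Helper74

variable {X : Type u} [TopologicalSpace X] [SpectralSpace X]
  (h0 : IsClosed {x : X | IsClosed ({x} : Set X)})
  (huniq : ∀ x : X, ∃! z : X, IsClosed ({z} : Set X) ∧ x ⤳ z)

include h0 in
theorem compactSpace_closedPts : CompactSpace {x : X // IsClosed ({x} : Set X)} :=
  isCompact_iff_compactSpace.1 h0.isCompact

include huniq in
theorem t2Space_closedPts : T2Space {x : X // IsClosed ({x} : Set X)} := by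
  refine ⟨fun x y hxy => ?_⟩
  obtain ⟨U, V, hU, hV, hxU, hyV, hUV⟩ := disjoint_nhds_of_closedPts huniq x.2 y.2
    (fun h => hxy (Subtype.ext h))
  exact ⟨Subtype.val ⁻¹' U, Subtype.val ⁻¹' V, hU.preimage continuous_subtype_val,
    hV.preimage continuous_subtype_val, hxU, hyV, hUV.preimage _⟩

include h0 huniq in
theorem totallyDisconnectedSpace_closedPts :
    TotallyDisconnectedSpace {x : X // IsClosed ({x} : Set X)} := by
  have := compactSpace_closedPts h0
  have := t2Space_closedPts huniq
  have : TotallySeparatedSpace {x : X // IsClosed ({x} : Set X)} := by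
    rw [totallySeparatedSpace_iff_exists_isClopen]
    intro x y hxy
    have hxy' : (x : X) ≠ y := fun h => hxy (Subtype.ext h)
    have key : ∀ (U : Set X), IsOpen U → IsCompact U →
        IsClopen (Subtype.val ⁻¹' U : Set {x : X // IsClosed ({x} : Set X)}) := by
      intro U hU1 hU2
      refine ⟨?_, hU1.preimage continuous_subtype_val⟩
      have hc : IsCompact (Subtype.val ⁻¹' U : Set {x : X // IsClosed ({x} : Set X)}) := by
        have hemb : IsClosedEmbedding (Subtype.val : {x : X // IsClosed ({x} : Set X)} → X) :=
          h0.isClosedEmbedding_subtypeVal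
        exact hemb.isCompact_preimage hU2
      exact hc.isClosed
    obtain ⟨U, hU1, hU2, h | h⟩ := exists_isCompact_isOpen_mem_not_mem hxy'
    · exact ⟨_, key U hU1 hU2, h.1, h.2⟩
    · exact ⟨_, (key U hU1 hU2).compl, h.2, fun hn => hn h.1⟩
  infer_instance

/-- the closed specialization. -/
noncomputable def closedSpec (x : X) : {x : X // IsClosed ({x} : Set X)} :=
  ⟨(huniq x).choose, (huniq x).choose_spec.1.1⟩

theorem specializes_closedSpec (x : X) : x ⤳ (closedSpec huniq x : X) :=
  (huniq x).choose_spec.1.2

theorem closedSpec_eq {x z : X} (hz : IsClosed ({z} : Set X)) (hxz : x ⤳ z) :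
    (closedSpec huniq x : X) = z :=
  ((huniq x).choose_spec.2 z ⟨hz, hxz⟩).symm

theorem closedSpec_coe (x : {x : X // IsClosed ({x} : Set X)}) : closedSpec huniq (x : X) = x :=
  Subtype.ext (closedSpec_eq huniq x.2 specializes_rfl)

include h0 in
theorem continuous_closedSpec : Continuous (closedSpec huniq) := by
  rw [continuous_iff_isClosed]
  intro T hT
  have hemb : IsClosedEmbedding (Subtype.val : {x : X // IsClosed ({x} : Set X)} → X) :=
    h0.isClosedEmbedding_subtypeVal
  have hT' : IsClosed (Subtype.val '' T) := hemb.isClosedMap T hT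
  have := isClosed_generalizations huniq hT' (by rintro _ ⟨t, -, rfl⟩; exact t.2)
  convert this using 1
  ext x
  simp only [mem_preimage, mem_ofPred_eq, mem_image, exists_exists_and_eq_and]
  constructor
  · intro hx
    exact ⟨_, hx, specializes_closedSpec huniq x⟩
  · rintro ⟨t, ht, hxt⟩
    have := closedSpec_eq huniq t.2 hxt
    rwa [show closedSpec huniq x = t from Subtype.ext this]

include h0 huniq in
theorem bijective_closedPts_connectedComponents :
    Function.Bijective
      (fun x : {x : X // IsClosed ({x} : Set X)} => ConnectedComponents.mk x.1) := by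
  have := totallyDisconnectedSpace_closedPts h0 huniq
  constructor
  · intro x y hxy
    have h1 := (continuous_closedSpec h0 huniq).connectedComponentsLift_apply_coe
    have h2 : (continuous_closedSpec h0 huniq).connectedComponentsLift (ConnectedComponents.mk x.1)
        = (continuous_closedSpec h0 huniq).connectedComponentsLift (ConnectedComponents.mk y.1) :=
      congrArg _ hxy
    rw [h1, h1, closedSpec_coe, closedSpec_coe] at h2
    exact h2
  · intro c
    obtain ⟨x, rfl⟩ := ConnectedComponents.surjective_coe c
    exact ⟨closedSpec huniq x,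
      (connectedComponents_mk_eq_of_specializes (specializes_closedSpec huniq x)).symm⟩

end WLocal2

end Groth.Agent.Lib.Helper82
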