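import Mathlib
import Groth.Agent.Lib.Helper82.WLocalTop
import Groth.Agent.Lib.Helper82.WContr
import Groth.Agent.Lib.Helper82.QFED
import Groth.Agent.Lib.Helper82.FinWC1

open IsLocalRing PrimeSpectrum TensorProduct

namespace Groth.Agent.Lib.Helper82.FinWC

universe u

/-- for a w-local spectrum with closed points cut out by `J`, `Spec (R/J) ≃ₜ π₀ (Spec R)` -/
theorem nonempty_homeo_quot (R : Type u) [CommRing R] (hW : ProEtW.IsWLocal (PrimeSpectrum R))
    (J : Ideal R) (hJ : zeroLocus (J : Set R) = ProEtW.closedPoints (PrimeSpectrum R)) :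
    Nonempty (PrimeSpectrum (R ⧸ J) ≃ₜ ConnectedComponents (PrimeSpectrum R)) := by
  obtain ⟨-, h0, huniq⟩ := hW
  let f : PrimeSpectrum (R ⧸ J) → ConnectedComponents (PrimeSpectrum R) :=
    fun x => ConnectedComponents.mk (comap (Ideal.Quotient.mk J) x)
  have hfc : Continuous f :=
    ConnectedComponents.continuous_coe.comp (continuous_comap _)
  have hrange : Set.range (comap (Ideal.Quotient.mk J)) = zeroLocus (J : Set R) := by
    rw [range_comap_of_surjective _ _ Ideal.Quotient.mk_surjective, Ideal.mk_ker]
  have hinj : Function.Injective (comap (Ideal.Quotient.mk J)) :=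
    comap_injective_of_surjective _ Ideal.Quotient.mk_surjective
  have hb := bijective_closedPts_connectedComponents h0 huniq
  have hf : Function.Bijective f := by
    constructor
    · intro x y hxy
      apply hinj
      have hx : comap (Ideal.Quotient.mk J) x ∈ ProEtW.closedPoints (PrimeSpectrum R) := by
        rw [← hJ, ← hrange]; exact ⟨x, rfl⟩
      have hy : comap (Ideal.Quotient.mk J) y ∈ ProEtW.closedPoints (PrimeSpectrum R) := by
        rw [← hJ, ← hrange]; exact ⟨y, rfl⟩
      have := hb.1 (a₁ := ⟨_, hx⟩) (a₂ := ⟨_, hy⟩) hxy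
      exact congrArg Subtype.val this
    · intro c
      obtain ⟨⟨z, hz⟩, rfl⟩ := hb.2 c
      have : z ∈ Set.range (comap (Ideal.Quotient.mk J)) := by
        rw [hrange, hJ]; exact hz
      obtain ⟨x, rfl⟩ := this
      exact ⟨x, rfl⟩
  haveI : T2Space (ConnectedComponents (PrimeSpectrum R)) := t2Space_connectedComponents
  exact ⟨Continuous.homeoOfEquivCompactToT2 (f := Equiv.ofBijective f hf) hfc⟩

variable (A B : Type u) [CommRing A] [CommRing B] [Algebra A B] [Module.Finite A B]

theorem isClosed_singleton_iff (Q : PrimeSpectrum B) :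
    IsClosed ({Q} : Set (PrimeSpectrum B)) ↔
      IsClosed ({comap (algebraMap A B) Q} : Set (PrimeSpectrum A)) := by
  rw [isClosed_singleton_iff_isMaximal, isClosed_singleton_iff_isMaximal]
  constructor
  · intro h
    exact Ideal.isMaximal_comap_of_isIntegral_of_isMaximal (R := A) Q.asIdeal
  · intro h
    exact Ideal.isMaximal_of_isIntegral_of_isMaximal_comap (R := A) Q.asIdeal h

theorem isWLocal_of_finite (hW : ProEtW.IsWLocal (PrimeSpectrum A))
    (hsh : ∀ (m : Ideal A) [m.IsMaximal],
        EtCoh.IsStrictlyHenselianLocalRing (Localization.AtPrime m)) :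
    ProEtW.IsWLocal (PrimeSpectrum B) := by
  obtain ⟨-, h0, huniq⟩ := hW
  refine ⟨inferInstance, ?_, fun Q => ?_⟩
  · have : {x : PrimeSpectrum B | IsClosed ({x} : Set (PrimeSpectrum B))} =
        comap (algebraMap A B) ⁻¹' {y | IsClosed ({y} : Set (PrimeSpectrum A))} := by
      ext Q
      exact isClosed_singleton_iff A B Q
    rw [this]
    exact h0.preimage (continuous_comap _)
  · obtain ⟨N, hN, hQN⟩ := exists_isClosed_singleton_specializes Q
    refine ⟨N, ⟨hN, hQN⟩, ?_⟩
    rintro N' ⟨hN', hQN'⟩
    -- the images in Spec A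
    have h1 := (isClosed_singleton_iff A B N).mp hN
    have h2 := (isClosed_singleton_iff A B N').mp hN'
    have s1 : comap (algebraMap A B) Q ⤳ comap (algebraMap A B) N :=
      hQN.map (continuous_comap _)
    have s2 : comap (algebraMap A B) Q ⤳ comap (algebraMap A B) N' :=
      hQN'.map (continuous_comap _)
    have heq : comap (algebraMap A B) N' = comap (algebraMap A B) N :=
      (huniq (comap (algebraMap A B) Q)).unique ⟨h2, s2⟩ ⟨h1, s1⟩
    haveI hm : (comap (algebraMap A B) N).asIdeal.IsMaximal :=
      (isClosed_singleton_iff_isMaximal _).mp h1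
    obtain ⟨hH, -⟩ := hsh (comap (algebraMap A B) N).asIdeal
    haveI : N.asIdeal.IsMaximal := (isClosed_singleton_iff_isMaximal _).mp hN
    haveI : N'.asIdeal.IsMaximal := (isClosed_singleton_iff_isMaximal _).mp hN'
    apply PrimeSpectrum.ext
    refine eq_of_le_of_le (comap (algebraMap A B) N).asIdeal Q.asIdeal N'.asIdeal N.asIdeal
      ((le_iff_specializes _ _).mpr hQN') ((le_iff_specializes _ _).mpr hQN) ?_ le_rfl
    exact (congrArg PrimeSpectrum.asIdeal heq).le

theorem isStrictlyHenselian_of_finite
    (hsh : ∀ (m : Ideal A) [m.IsMaximal],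
        EtCoh.IsStrictlyHenselianLocalRing (Localization.AtPrime m))
    (n : Ideal B) [hn : n.IsMaximal] :
    EtCoh.IsStrictlyHenselianLocalRing (Localization.AtPrime n) := by
  haveI : (n.under A).IsMaximal := Ideal.isMaximal_comap_of_isIntegral_of_isMaximal (R := A) n
  exact isStrictlyHenselian_atPrime (n.under A) (hsh _) n le_rfl

theorem extremallyDisconnected_of_finite [Algebra.FinitePresentation A B]
    (hW : ProEtW.IsWLocal (PrimeSpectrum A))
    (hED : ExtremallyDisconnected (ConnectedComponents (PrimeSpectrum A)))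
    (hsh : ∀ (m : Ideal A) [m.IsMaximal],
        EtCoh.IsStrictlyHenselianLocalRing (Localization.AtPrime m)) :
    ExtremallyDisconnected (ConnectedComponents (PrimeSpectrum B)) := by
  have hWB := isWLocal_of_finite A B hW hsh
  let I : Ideal A := vanishingIdeal (ProEtW.closedPoints (PrimeSpectrum A))
  have hI0 : zeroLocus (I : Set A) = ProEtW.closedPoints (PrimeSpectrum A) := by
    rw [zeroLocus_vanishingIdeal_eq_closure]
    exact hW.2.1.closure_eq
  have hIB : zeroLocus ((I.map (algebraMap A B) : Ideal B) : Set B) =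
      ProEtW.closedPoints (PrimeSpectrum B) := by
    ext Q
    rw [mem_zeroLocus, SetLike.coe_subset_coe, Ideal.map_le_iff_le_comap]
    have h1 : comap (algebraMap A B) Q ∈ zeroLocus (I : Set A) ↔
        I ≤ Q.asIdeal.comap (algebraMap A B) := by
      rw [mem_zeroLocus, SetLike.coe_subset_coe]
      rfl
    rw [← h1, hI0]
    exact (isClosed_singleton_iff A B Q).symm
  obtain ⟨eA⟩ := nonempty_homeo_quot A hW I hI0
  obtain ⟨eB⟩ := nonempty_homeo_quot B hWB _ hIB
  haveI : ExtremallyDisconnected (PrimeSpectrum (A ⧸ I)) :=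
    extremallyDisconnected_of_homeo eA.symm
  haveI : T2Space (ConnectedComponents (PrimeSpectrum A)) := t2Space_connectedComponents
  haveI : T2Space (PrimeSpectrum (A ⧸ I)) := eA.symm.t2Space
  let e := Algebra.TensorProduct.quotIdealMapEquivQuotTensor B I
  haveI : Module.Finite (A ⧸ I) (B ⧸ I.map (algebraMap A B)) :=
    Module.Finite.equiv e.symm.toLinearEquiv
  haveI : Algebra.FinitePresentation (A ⧸ I) (B ⧸ I.map (algebraMap A B)) :=
    Algebra.FinitePresentation.equiv e.symm
  have hres : ∀ p : PrimeSpectrum (A ⧸ I), IsSepClosed p.asIdeal.ResidueField := by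
    intro p
    have hmem : comap (Ideal.Quotient.mk I) p ∈ ProEtW.closedPoints (PrimeSpectrum A) := by
      have hr : Set.range (comap (Ideal.Quotient.mk I)) = zeroLocus (I : Set A) := by
        rw [range_comap_of_surjective _ _ Ideal.Quotient.mk_surjective, Ideal.mk_ker]
      rw [← hI0, ← hr]
      exact ⟨p, rfl⟩
    haveI : (comap (Ideal.Quotient.mk I) p).asIdeal.IsMaximal :=
      (isClosed_singleton_iff_isMaximal _).mp hmem
    obtain ⟨_, hsc⟩ := hsh (comap (Ideal.Quotient.mk I) p).asIdeal
    have hbij := (RingHom.surjectiveOnStalks_of_surjective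
      (Ideal.Quotient.mk_surjective (I := I))).residueFieldMap_bijective
      (comap (Ideal.Quotient.mk I) p).asIdeal p.asIdeal rfl
    haveI : IsSepClosed (comap (Ideal.Quotient.mk I) p).asIdeal.ResidueField := hsc
    exact isSepClosed_of_ringEquiv (RingEquiv.ofBijective _ hbij)
  haveI := QFED.extremallyDisconnected_of_quasiFinite (A ⧸ I) (B ⧸ I.map (algebraMap A B)) hres
  exact extremallyDisconnected_of_homeo eB

theorem isWContractible_of_finite [Algebra.FinitePresentation A B]
    (h : EtPBC.IsWContractible A) : EtPBC.IsWContractible B := by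
  obtain ⟨hW, hED, hsh⟩ := WContr.wLocal_extrDisc_strictlyHenselian_of_hasIndEtaleRetractions
    (WContr.hasIndEtaleRetractions_of_isWContractible h)
  exact WContr.isWContractible_of_hasIndEtaleRetractions
    (WContr.hasIndEtaleRetractions_of_wLocal_extrDisc_strictlyHenselian
      (isWLocal_of_finite A B hW hsh) (extremallyDisconnected_of_finite A B hW hED hsh)
      (fun n _ => isStrictlyHenselian_of_finite A B hsh n))

end Groth.Agent.Lib.Helper82.FinWC
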