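import Groth.Agent.Lib.Helper82.ProEtWC4
import Groth.Agent.Lib.Helper82.FinWC2

set_option autoImplicit false
open CategoryTheory CategoryTheory.Limits AlgebraicGeometry Opposite
universe u w
open ProEtS

namespace Groth.Agent.Lib.Helper82.FinPush

open Groth.Agent.Lib.Helper82.ProEtWC

set_option backward.isDefEq.respectTransparency.types false in
theorem exists_affine_wc_family {X : Scheme.{u}} (U : X.ProEt) :
    ∃ (ι : Type u) (V : ι → X.ProEt) (g : ∀ i, V i ⟶ U),
      Sieve.generate (Presieve.ofArrows V g) ∈ Scheme.ProEt.topology X U ∧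
      ∀ i, ∃ (_ : IsAffine (V i).left), EtPBC.IsWContractible ↥(Γ((V i).left, ⊤)) := by
  let 𝒰 : Scheme.OpenCover.{u} U.left := U.left.affineCover
  choose W h hWaff hwe hsurj hqc hwc using
    fun i : 𝒰.I₀ => ProEtCov.exists_wContractible_cover_affine (𝒰.X i)
  let V' : 𝒰.I₀ → X.ProEt := fun i => Scheme.ProEt.mk ((h i ≫ 𝒰.f i) ≫ U.hom)
  let V'' : (Σ _ : 𝒰.I₀, PUnit.{u+1}) → X.ProEt := fun p => V' p.1
  let g'' : ∀ p, V'' p ⟶ U := fun p => MorphismProperty.Over.homMk (h p.1 ≫ 𝒰.f p.1)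
  refine ⟨_, V'', g'', ?_, fun p => ⟨hWaff p.1, hwc p.1⟩⟩
  apply Precoverage.generate_mem_toGrothendieck
  show (Presieve.ofArrows V'' g'').map (Scheme.ProEt.forget X ⋙ Over.forget X) ∈
    Scheme.proetalePrecoverage U.left
  rw [Presieve.map_ofArrows]
  have hf : Presieve.ofArrows 𝒰.X 𝒰.f ∈ Scheme.proetalePrecoverage U.left :=
    Scheme.zariskiPrecoverage_le_propQCPrecoverage _ 𝒰.mem₀
  have hg : ∀ i : 𝒰.I₀, Presieve.ofArrows (fun _ : PUnit.{u+1} => W i) (fun _ => h i) ∈
      Scheme.proetalePrecoverage (𝒰.X i) := by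
    intro i
    rw [Presieve.ofArrows_pUnit]
    refine ⟨?_, ?_⟩
    · haveI := hsurj i
      haveI := hqc i
      exact Scheme.Hom.singleton_mem_qcPrecoverage (h i)
    · rw [Scheme.singleton_mem_precoverage_iff]
      exact ⟨(hsurj i).surj, hwe i⟩
  exact Precoverage.comp_mem_coverings 𝒰.f hf (fun i _ => h i) hg

theorem surjective_of_isWC {Z : Scheme.{u}} (W : Z.ProEt) (hW : ProEtS.IsWC W) {F G : AbP Z}
    (φ : F ⟶ G) [Epi φ] : Function.Surjective (φ.hom.app (op W)) := by
  have hls : Sheaf.IsLocallySurjective φ := (Sheaf.isLocallySurjective_iff_epi' _ φ).2 inferInstance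
  let φ' := (sheafCompose (Scheme.ProEt.topology Z) (forget AddCommGrpCat.{u+1})).map φ
  have hls' : Sheaf.IsLocallySurjective φ' :=
    (Presheaf.isLocallySurjective_iff_whisker_forget (Scheme.ProEt.topology Z) φ.hom).mp hls
  have hepi : Epi φ' := (Sheaf.isLocallySurjective_iff_epi φ').mp hls'
  exact hW _ _ φ' hepi

set_option backward.isDefEq.respectTransparency.types false in
theorem isWC_bcP_of_finite {Z X : Scheme.{u}} (f : Z ⟶ X) [IsFinite f]
    [LocallyOfFinitePresentation f] (V : X.ProEt) [IsAffine V.left]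
    (hV : EtPBC.IsWContractible ↥(Γ(V.left, ⊤))) : ProEtS.IsWC ((bcP f).obj V) := by
  let p : pullback V.hom f ⟶ V.left := pullback.fst V.hom f
  haveI : IsFinite p := inferInstance
  haveI : LocallyOfFinitePresentation p := inferInstance
  haveI haff : IsAffine (pullback V.hom f) := isAffine_of_isAffineHom p
  haveI : IsAffine ((bcP f).obj V).left := haff
  apply isWC_of_wContractible
  show EtPBC.IsWContractible ↥(Γ(pullback V.hom f, ⊤))
  have h1 : (p.appTop).hom.Finite := ((HasAffineProperty.iff_of_isAffine (P := @IsFinite)).mp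
    (inferInstance : IsFinite p)).2
  have h2 : (p.appTop).hom.FinitePresentation :=
    (HasRingHomProperty.iff_of_isAffine (P := @LocallyOfFinitePresentation)).mp inferInstance
  letI : Algebra ↥(Γ(V.left, ⊤)) ↥(Γ(pullback V.hom f, ⊤)) := (p.appTop).hom.toAlgebra
  haveI : Module.Finite ↥(Γ(V.left, ⊤)) ↥(Γ(pullback V.hom f, ⊤)) := h1
  haveI : Algebra.FinitePresentation ↥(Γ(V.left, ⊤)) ↥(Γ(pullback V.hom f, ⊤)) := h2
  exact Groth.Agent.Lib.Helper82.FinWC.isWContractible_of_finite _ _ hV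

set_option backward.isDefEq.respectTransparency.types false in
theorem epi_pushP_map {Z X : Scheme.{u}} (f : Z ⟶ X) [IsFinite f]
    [LocallyOfFinitePresentation f] [ProEtS.PCont f] {F G : AbP Z} (φ : F ⟶ G) [Epi φ] :
    Epi ((pushP f).map φ) := by
  rw [← Sheaf.isLocallySurjective_iff_epi' _ ((pushP f).map φ)]
  refine ⟨fun {U} s => ?_⟩
  obtain ⟨ι, V, g, hcov, hV⟩ := exists_affine_wc_family U
  refine (Scheme.ProEt.topology X).superset_covering ?_ hcov
  rw [Sieve.generate_le_iff]
  rintro Y h ⟨i⟩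
  obtain ⟨haff, hwc⟩ := hV i
  have hWC := isWC_bcP_of_finite f (V i) hwc
  obtain ⟨t, ht⟩ := surjective_of_isWC _ hWC φ (G.obj.map ((bcP f).map (g i)).op s)
  exact ⟨t, ht⟩

set_option backward.isDefEq.respectTransparency.types false in
theorem pushP_exact_of_finite {Z X : Scheme.{u}} (f : Z ⟶ X) [IsFinite f]
    [LocallyOfFinitePresentation f] [ProEtS.PCont f] :
    PreservesFiniteLimits (ProEtS.pushP f) ∧ PreservesFiniteColimits (ProEtS.pushP f) := by
  haveI hlim : PreservesFiniteLimits (ProEtS.pushP f) := by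
    haveI := (pullPushAdjP f).rightAdjoint_preservesLimits
    infer_instance
  refine ⟨hlim, ?_⟩
  rw [Functor.preservesFiniteColimits_iff_forall_exact_map_and_epi]
  intro S hS
  refine ⟨(((pushP f).preservesFiniteLimits_iff_forall_exact_map_and_mono).mp hlim S hS).1, ?_⟩
  haveI := hS.epi_g
  exact epi_pushP_map f S.g

end Groth.Agent.Lib.Helper82.FinPush
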