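import Mathlib
import Groth.Prelude.Def_EtModW
import Groth.Prelude.Def_ARSys
import Groth.Agent.Lib.Helper82.FinPush

set_option autoImplicit false
open CategoryTheory CategoryTheory.Limits AlgebraicGeometry Opposite
universe u
open EtModW

namespace Groth.Agent.Lib.Helper82.ModWC

variable {Λ : Type (u + 1)} [CommRing Λ] {X : Scheme.{u}}

theorem surjective_of_isWC (W : X.ProEt) (hW : ProEtS.IsWC W) {F G : EtModW.ModP Λ X}
    (φ : F ⟶ G) [Epi φ] : Function.Surjective (φ.hom.app (op W)).hom := by
  have hls : Sheaf.IsLocallySurjective φ := (Sheaf.isLocallySurjective_iff_epi' _ φ).2 inferInstance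
  let φ' := (sheafCompose (Scheme.ProEt.topology X) (forget (ModuleCat.{u+1} Λ))).map φ
  have hls' : Sheaf.IsLocallySurjective φ' :=
    (Presheaf.isLocallySurjective_iff_whisker_forget (Scheme.ProEt.topology X) φ.hom).mp hls
  have hepi : Epi φ' := (Sheaf.isLocallySurjective_iff_epi φ').mp hls'
  exact hW _ _ φ' hepi

/-- evaluation of a finite sum of morphisms of sheaves of modules -/
theorem sum_app {F G : EtModW.ModP Λ X} {ι : Type*} (s : Finset ι) (f : ι → (F ⟶ G))
    (U : X.ProEtᵒᵖ) (x : F.obj.obj U) :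
    ((∑ i ∈ s, f i).hom.app U).hom x = ∑ i ∈ s, ((f i).hom.app U).hom x := by
  classical
  induction s using Finset.induction_on with
  | empty => simp
  | insert a s ha ih =>
    rw [Finset.sum_insert ha, Finset.sum_insert ha, ← ih]
    rfl

noncomputable instance : HasFiniteBiproducts (EtModW.ModP Λ X) :=
  HasFiniteBiproducts.of_hasFiniteProducts

/-- sections over `U` -/
noncomputable abbrev Γ (U : X.ProEt) : EtModW.ModP Λ X ⥤ ModuleCat.{u+1} Λ :=
  sheafToPresheaf _ _ ⋙ (evaluation _ _).obj (op U)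

theorem main (I : Ideal Λ) (hI : I.FG)
    (F Q : EtModW.ModP Λ X) (p : F ⟶ Q) (hp : ARSys.IsQuot I p)
    (U : X.ProEt) (hU : ProEtS.IsWC U) :
    Function.Surjective (p.hom.app (op U)).hom ∧
      LinearMap.ker (p.hom.app (op U)).hom = I • (⊤ : Submodule Λ (F.obj.obj (op U))) := by
  classical
  obtain ⟨hQ, huniv⟩ := hp
  -- p is an epimorphism
  have hpk : ∀ a ∈ I, a • p = 0 := by
    intro a ha
    have : a • p = p ≫ (a • 𝟙 Q) := by
      rw [Linear.comp_smul, Category.comp_id]
    rw [this, hQ a ha, comp_zero]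
  have hepi : Epi p := by
    constructor
    intro Z ψ₁ ψ₂ h
    have hk : ARSys.HomKilledBy I (p ≫ ψ₁) := by
      intro a ha
      rw [← Linear.smul_comp, hpk a ha, zero_comp]
    obtain ⟨ψ, -, hψ⟩ := huniv Z (p ≫ ψ₁) hk
    rw [hψ ψ₁ rfl, hψ ψ₂ h.symm]
  refine ⟨surjective_of_isWC U hU p, ?_⟩
  apply le_antisymm
  · -- kernel ⊆ I • ⊤
    intro s hs
    have hs0 : (p.hom.app (op U)).hom s = 0 := hs
    obtain ⟨S, hS⟩ := hI
    let ι : Type := Fin S.card
    let g : ι → Λ := fun k => (S.equivFin.symm k).1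
    have hgS : ∀ k, g k ∈ S := fun k => (S.equivFin.symm k).2
    have hgsurj : ∀ x ∈ S, ∃ k, g k = x := fun x hx =>
      ⟨S.equivFin ⟨x, hx⟩, by simp [g]⟩
    let φ : (⨁ fun _ : ι => F) ⟶ F := biproduct.desc (fun a => g a • 𝟙 F)
    let c := cokernel.π φ
    have hcgen : ∀ a : ι, g a • c = 0 := by
      intro a
      have h1 : g a • c = (g a • 𝟙 F) ≫ c := by
        rw [Linear.smul_comp, Category.id_comp]
      have h2 : g a • 𝟙 F = biproduct.ι (fun _ : ι => F) a ≫ φ := by
        simp [φ]
      rw [h1, h2, Category.assoc, cokernel.condition, comp_zero]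
    have hck : ARSys.HomKilledBy I c := by
      intro a ha
      rw [← hS] at ha
      refine Submodule.span_induction (p := fun a _ => a • c = 0) ?_ ?_ ?_ ?_ ha
      · intro x hx
        obtain ⟨k, rfl⟩ := hgsurj x hx
        exact hcgen k
      · exact zero_smul _ _
      · intro x y _ _ hx hy
        rw [add_smul, hx, hy, add_zero]
      · intro r x _ hx
        rw [smul_eq_mul, mul_smul, hx, smul_zero]
    obtain ⟨ψ, hψ, -⟩ := huniv _ c hck
    have hcs : (c.hom.app (op U)).hom s = 0 := by
      rw [← hψ]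
      show (ψ.hom.app (op U)).hom ((p.hom.app (op U)).hom s) = 0
      rw [hs0, map_zero]
    -- exactness on sections
    let e := Abelian.factorThruImage φ
    have he : e ≫ Abelian.image.ι φ = φ := Abelian.image.fac φ
    have hex : (ShortComplex.mk (Abelian.image.ι φ) c (kernel.condition _)).Exact :=
      ShortComplex.exact_kernel _
    have hex' := hex.map_of_mono_of_preservesKernel (Γ U) inferInstance inferInstance
    rw [ShortComplex.moduleCat_exact_iff] at hex'
    obtain ⟨s', hs'⟩ := hex' s hcs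
    obtain ⟨t, ht⟩ := surjective_of_isWC U hU e s'
    have hst : s = (φ.hom.app (op U)).hom t := by
      have h3 := congrArg (fun m : (⨁ fun _ : ι => F) ⟶ F => (m.hom.app (op U)).hom t) he.symm
      refine Eq.trans ?_ h3.symm
      rw [← hs', ← ht]
      rfl
    -- expand φ
    have hφ : φ = ∑ a : ι, biproduct.π (fun _ : ι => F) a ≫ (g a • 𝟙 F) :=
      biproduct.desc_eq
    rw [hst, hφ, sum_app]
    refine Submodule.sum_mem _ (fun a _ => ?_)
    have : ((biproduct.π (fun _ : ι => F) a ≫ (g a • 𝟙 F)).hom.app (op U)).hom t =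
        g a • ((biproduct.π (fun _ : ι => F) a).hom.app (op U)).hom t := rfl
    rw [this]
    refine Submodule.smul_mem_smul ?_ trivial
    rw [← hS]
    exact Ideal.subset_span (hgS a)
  · -- I • ⊤ ⊆ kernel
    rw [Submodule.smul_le]
    intro a ha x _
    show (p.hom.app (op U)).hom (a • x) = 0
    have h1 : (p.hom.app (op U)).hom (a • x) = ((a • p).hom.app (op U)).hom x := by
      rw [map_smul]; rfl
    rw [h1, hpk a ha]
    rfl

end Groth.Agent.Lib.Helper82.ModWC
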