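import Groth.Agent.Lib.Helper82.EpsMod
import Groth.Agent.Lib.Helper82.ModWC
import Groth.Prelude.Def_ARSys
import Groth.Agent.Lib.Helper82.AdicTower

set_option autoImplicit false
set_option linter.style.haveILetI false
open CategoryTheory CategoryTheory.Limits AlgebraicGeometry Opposite
universe u
open ProEtS

namespace Groth.Agent.Lib.Helper82.AdicLim

open EpsMod

section General

variable {A : Type*} [CommRing A] {C D : Type*} [Category C] [Category D] [Preadditive C]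
  [Preadditive D] [Linear A C] [Linear A D]

theorem left_linear {L : C ⥤ D} {R : D ⥤ C} (adj : L ⊣ R)
    (hR : ∀ (a : A) {X Y : D} (f : X ⟶ Y), R.map (a • f) = a • R.map f)
    (a : A) {X Y : C} (f : X ⟶ Y) : L.map (a • f) = a • L.map f := by
  apply (adj.homEquiv _ _).injective
  rw [Adjunction.homEquiv_unit, Adjunction.homEquiv_unit, hR, Linear.comp_smul]
  rw [adj.unit_naturality, adj.unit_naturality, Linear.smul_comp]

theorem map_zero_of_linear {L : C ⥤ D}
    (hL : ∀ (a : A) {X Y : C} (f : X ⟶ Y), L.map (a • f) = a • L.map f) (X Y : C) :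
    L.map (0 : X ⟶ Y) = 0 := by
  have := hL 0 (0 : X ⟶ Y)
  rwa [zero_smul, zero_smul] at this

theorem killedBy_map {L : C ⥤ D}
    (hL : ∀ (a : A) {X Y : C} (f : X ⟶ Y), L.map (a • f) = a • L.map f)
    (J : Ideal A) {X : C} (h : ARSys.KilledBy J X) : ARSys.KilledBy J (L.obj X) := by
  intro a ha
  have := hL a (𝟙 X)
  rw [h a ha, L.map_id] at this
  rw [← this]
  exact map_zero_of_linear hL _ _

theorem homKilledBy_map {L : C ⥤ D}
    (hL : ∀ (a : A) {X Y : C} (f : X ⟶ Y), L.map (a • f) = a • L.map f)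
    (J : Ideal A) {X Y : C} {φ : X ⟶ Y} (h : ARSys.HomKilledBy J φ) :
    ARSys.HomKilledBy J (L.map φ) := by
  intro a ha
  rw [← hL, h a ha]
  exact map_zero_of_linear hL _ _

/-- a left adjoint with linear right adjoint preserves quotient maps modulo an ideal -/
theorem isQuot_map {L : C ⥤ D} {R : D ⥤ C} (adj : L ⊣ R)
    (hR : ∀ (a : A) {X Y : D} (f : X ⟶ Y), R.map (a • f) = a • R.map f)
    (J : Ideal A) {X Q : C} {p : X ⟶ Q} (h : ARSys.IsQuot J p) : ARSys.IsQuot J (L.map p) := by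
  have hL := fun (a : A) {X Y : C} (f : X ⟶ Y) => left_linear adj hR a f
  refine ⟨killedBy_map hL J h.1, ?_⟩
  intro Y φ hφ
  have hφ' : ARSys.HomKilledBy J (adj.homEquiv _ _ φ) := by
    intro a ha
    rw [Adjunction.homEquiv_unit, ← Linear.comp_smul, ← hR, hφ a ha]
    have : R.map (0 : L.obj X ⟶ Y) = 0 := by
      have := hR 0 (0 : L.obj X ⟶ Y)
      rwa [zero_smul, zero_smul] at this
    rw [this, comp_zero]
  obtain ⟨ψ, hψ, huniq⟩ := h.2 _ _ hφ'
  refine ⟨(adj.homEquiv _ _).symm ψ, ?_, ?_⟩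
  · apply (adj.homEquiv _ _).injective
    rw [Adjunction.homEquiv_naturality_left, Equiv.apply_symm_apply, hψ]
  · intro ψ' hψ'
    apply (adj.homEquiv _ _).injective
    rw [Equiv.apply_symm_apply]
    apply huniq
    show p ≫ adj.homEquiv _ _ ψ' = _
    rw [← Adjunction.homEquiv_naturality_left, hψ']

/-- a quotient map is an epimorphism -/
theorem epi_of_isQuot (J : Ideal A) {X Q : C} {p : X ⟶ Q} (hp : ARSys.IsQuot J p) : Epi p := by
  obtain ⟨hQ, huniv⟩ := hp
  have hpk : ∀ a ∈ J, a • p = 0 := by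
    intro a ha
    have : a • p = p ≫ (a • 𝟙 Q) := by
      rw [Linear.comp_smul, Category.comp_id]
    rw [this, hQ a ha, comp_zero]
  constructor
  intro Z ψ₁ ψ₂ h
  have hk : ARSys.HomKilledBy J (p ≫ ψ₁) := by
    intro a ha
    rw [← Linear.smul_comp, hpk a ha, zero_comp]
  obtain ⟨ψ, -, hψ⟩ := huniv Z (p ≫ ψ₁) hk
  rw [hψ ψ₁ rfl, hψ ψ₂ h.symm]

end General

section Eps

variable (X : Scheme.{u}) [EpsCont X] (Λ : Type (u + 1)) [CommRing Λ]

theorem pushM_smul (a : Λ) {F G : EtModW.ModP Λ X} (f : F ⟶ G) :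
    (pushM X Λ).map (a • f) = a • (pushM X Λ).map f := rfl

theorem epsPullMod_smul (a : Λ) {F G : EtModW.Mod Λ X} (f : F ⟶ G) :
    (EtModW.epsPullMod Λ X).map (a • f) = a • (EtModW.epsPullMod Λ X).map f :=
  left_linear (adjM X Λ) (fun a _ _ f => pushM_smul X Λ a f) a f

theorem killedBy_epsPullMod (J : Ideal Λ) {F : EtModW.Mod Λ X} (h : ARSys.KilledBy J F) :
    ARSys.KilledBy J ((EtModW.epsPullMod Λ X).obj F) :=
  killedBy_map (fun a _ _ f => epsPullMod_smul X Λ a f) J h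

theorem isQuot_epsPullMod (J : Ideal Λ) {F Q : EtModW.Mod Λ X} {p : F ⟶ Q}
    (h : ARSys.IsQuot J p) : ARSys.IsQuot J ((EtModW.epsPullMod Λ X).map p) :=
  isQuot_map (adjM X Λ) (fun a _ _ f => pushM_smul X Λ a f) J h

end Eps

section Sheaf

variable {X : Scheme.{u}} {Λ : Type (u + 1)} [CommRing Λ]

/-- zero detection on weakly contractible objects -/
theorem hom_eq_zero_of_wc {A B : EtModW.ModP Λ X} (ψ : A ⟶ B)
    (h : ∀ W : X.ProEt, ProEtS.IsWC W → ψ.hom.app (op W) = 0) : ψ = 0 := by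
  apply Sheaf.hom_ext
  ext U : 2
  obtain ⟨U⟩ := U
  obtain ⟨ι, V, g, hcov, hV⟩ := FinPush.exists_affine_wc_family U
  refine Presheaf.IsSheaf.hom_ext B.property ⟨_, hcov⟩ _ _ ?_
  rintro ⟨Y, f, hf⟩
  obtain ⟨Z, k, g', ⟨i⟩, rfl⟩ := hf
  obtain ⟨haff, hwc⟩ := hV i
  have hWC : ProEtS.IsWC (V i) := ProEtWC.isWC_of_wContractible (V i) hwc
  show ψ.hom.app (op U) ≫ B.obj.map (k ≫ g i).op = 0 ≫ B.obj.map (k ≫ g i).op
  rw [zero_comp, op_comp, B.obj.map_comp, ← Category.assoc, ← ψ.hom.naturality, h _ hWC]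
  simp

/-- epi detection on weakly contractible objects -/
theorem epi_of_wc {A B : EtModW.ModP Λ X} (ψ : A ⟶ B)
    (h : ∀ W : X.ProEt, ProEtS.IsWC W → Function.Surjective (ψ.hom.app (op W)).hom) : Epi ψ := by
  rw [← Sheaf.isLocallySurjective_iff_epi' _ ψ]
  refine ⟨fun {U} s => ?_⟩
  obtain ⟨ι, V, g, hcov, hV⟩ := FinPush.exists_affine_wc_family U
  refine (Scheme.ProEt.topology X).superset_covering ?_ hcov
  rw [Sieve.generate_le_iff]
  rintro Y _ ⟨i⟩
  obtain ⟨haff, hwc⟩ := hV i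
  have hWC : ProEtS.IsWC (V i) := ProEtWC.isWC_of_wContractible (V i) hwc
  obtain ⟨t, ht⟩ := h _ hWC (B.obj.map (g i).op s)
  exact ⟨t, ht⟩

/-- sections over `W` of a tower of quotient maps -/
theorem sections_limit {D : ℕᵒᵖ ⥤ EtModW.ModP Λ X} (I : Ideal Λ) (hI : I.FG)
    (hD : ∀ m, ARSys.IsQuot (I ^ (m + 1)) (D.map (homOfLE (Nat.le_succ m)).op))
    (hk : ∀ m, ARSys.KilledBy (I ^ (m + 1)) (D.obj (op m)))
    (W : X.ProEt) (hW : ProEtS.IsWC W) (n : ℕ) :
    Function.Surjective ((limit.π D (op n)).hom.app (op W)).hom ∧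
      LinearMap.ker ((limit.π D (op n)).hom.app (op W)).hom =
        I ^ (n + 1) • (⊤ : Submodule Λ ((limit D).obj.obj (op W))) := by
  have hc := isLimitOfPreserves (ModWC.Γ (Λ := Λ) W) (limit.isLimit D)
  have hmain := fun m => ModWC.main (I ^ (m + 1)) hI.pow _ _ _ (hD m) W hW
  exact AdicTower.tower (T := D ⋙ ModWC.Γ W) hc I hI (fun m => (hmain m).1)
    (fun m => (hmain m).2)
    (fun m a ha y => by
      have h0 := hk m a ha
      have h1 : ((a • 𝟙 (D.obj (op m)) : D.obj (op m) ⟶ D.obj (op m)).hom.app (op W)).hom y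
          = a • y := rfl
      rw [← h1, h0]
      rfl) n

/-- the limit projections of a tower of quotient maps are quotient maps -/
theorem isQuot_limit_π {D : ℕᵒᵖ ⥤ EtModW.ModP Λ X} (I : Ideal Λ) (hI : I.FG)
    (hD : ∀ m, ARSys.IsQuot (I ^ (m + 1)) (D.map (homOfLE (Nat.le_succ m)).op))
    (hk : ∀ m, ARSys.KilledBy (I ^ (m + 1)) (D.obj (op m))) (n : ℕ) :
    ARSys.IsQuot (I ^ (n + 1)) (limit.π D (op n)) := by
  have hsec := fun W hW => sections_limit I hI hD hk W hW n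
  haveI hepi : Epi (limit.π D (op n)) := epi_of_wc _ (fun W hW => (hsec W hW).1)
  refine ⟨hk n, ?_⟩
  intro Y φ hφ
  have hκ : kernel.ι (limit.π D (op n)) ≫ φ = 0 := by
    apply hom_eq_zero_of_wc
    intro W hW
    ext s
    have hs : ((kernel.ι (limit.π D (op n))).hom.app (op W)).hom s ∈
        LinearMap.ker ((limit.π D (op n)).hom.app (op W)).hom := by
      have h0 := kernel.condition (limit.π D (op n))
      have h1 := congrArg (fun m : kernel (limit.π D (op n)) ⟶ D.obj (op n) =>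
        (m.hom.app (op W)).hom s) h0
      exact h1
    rw [(hsec W hW).2] at hs
    have hle : I ^ (n + 1) • (⊤ : Submodule Λ ((limit D).obj.obj (op W))) ≤
        LinearMap.ker (φ.hom.app (op W)).hom := by
      rw [Submodule.smul_le]
      intro a ha x _
      show (φ.hom.app (op W)).hom (a • x) = 0
      rw [map_smul]
      have h2 : a • (φ.hom.app (op W)).hom x = ((a • φ).hom.app (op W)).hom x := rfl
      rw [h2, hφ a ha]
      rfl
    exact hle hs
  have hcok := Abelian.epiIsCokernelOfKernel (limit.cone (parallelPair (limit.π D (op n)) 0))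
    (limit.isLimit _)
  refine ⟨hcok.desc (CokernelCofork.ofπ φ hκ), hcok.fac _ WalkingParallelPair.one, ?_⟩
  intro ψ hψ
  rw [← cancel_epi (limit.π D (op n)), hψ]
  exact (hcok.fac (CokernelCofork.ofπ φ hκ) WalkingParallelPair.one).symm

end Sheaf

theorem isQuot_limit_π_epsPullMod {Λ : Type (u + 1)} [CommRing Λ] (I : Ideal Λ) (hI : I.FG)
    (X : Scheme.{u}) [EpsCont X] (G : ARSys.PS (EtModW.Mod Λ X)) (hG : ARSys.IsAdic I G) (n : ℕ) :
    ARSys.IsQuot (I ^ (n + 1)) (limit.π (G ⋙ EtModW.epsPullMod Λ X) (op n)) := by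
  have h1 : ∀ m, ARSys.IsQuot (I ^ (m + 1))
      ((G ⋙ EtModW.epsPullMod Λ X).map (homOfLE (Nat.le_succ m)).op) := by
    intro m
    have := isQuot_epsPullMod X Λ _ (hG.2 m (m + 1) (Nat.le_succ m))
    exact this
  have h2 : ∀ m, ARSys.KilledBy (I ^ (m + 1)) ((G ⋙ EtModW.epsPullMod Λ X).obj (op m)) := by
    intro m
    have := killedBy_epsPullMod X Λ _ (hG.1 m)
    exact this
  exact isQuot_limit_π I hI h1 h2 n

end Groth.Agent.Lib.Helper82.AdicLim
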