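import Groth.Agent.Lib.Helper82.BTPre

set_option autoImplicit false
universe u

namespace Groth.Agent.Lib.Helper82.BT

open TopologicalSpace PrimeSpectrum MvPolynomial Classical

section Def

variable {A : Type u} [CommRing A] {T : Type u} [TopologicalSpace T]
  (g : C(T, ConnectedComponents (PrimeSpectrum A)))

/-- index of relations. -/
inductive RelIdx (A : Type u) [CommRing A] (T : Type u) [TopologicalSpace T] : Type u
  | top
  | compl (U : Clopens T)
  | inf (U V : Clopens T)
  | compat (a : {a : A // IsIdempotentElem a})

/-- the polynomial ring on clopen variables. -/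
abbrev Pol (A : Type u) [CommRing A] (T : Type u) [TopologicalSpace T] : Type u :=
  MvPolynomial (Clopens T) A

/-- the relations. -/
noncomputable def rel : RelIdx A T → Pol A T
  | .top => X ⊤ - 1
  | .compl U => X Uᶜ - (1 - X U)
  | .inf U V => X (U ⊓ V) - X U * X V
  | .compat a => X (G g a) - C a.1

/-- the ideal of relations. -/
noncomputable def relIdeal : Ideal (Pol A T) := Ideal.span (Set.range (rel g))

/-- the ring realizing the fibre product. -/
def BT : Type u := Pol A T ⧸ relIdeal g

noncomputable instance : CommRing (BT g) := inferInstanceAs (CommRing (Pol A T ⧸ relIdeal g))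

noncomputable instance : Algebra A (BT g) := inferInstanceAs (Algebra A (Pol A T ⧸ relIdeal g))

/-- the quotient map. -/
noncomputable def mkBT : Pol A T →ₐ[A] BT g := Ideal.Quotient.mkₐ A (relIdeal g)

/-- the idempotent attached to a clopen. -/
noncomputable def e (U : Clopens T) : BT g := mkBT g (X U)

variable {g}

lemma mk_rel (i : RelIdx A T) : mkBT g (rel g i) = 0 :=
  Ideal.Quotient.eq_zero_iff_mem.2 (Ideal.subset_span ⟨i, rfl⟩)

lemma e_top : e g ⊤ = 1 := by
  have := mk_rel (g := g) .top
  simp only [rel, map_sub, map_one] at this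
  exact sub_eq_zero.1 this

lemma e_compl (U : Clopens T) : e g Uᶜ = 1 - e g U := by
  have := mk_rel (g := g) (.compl U)
  simp only [rel, map_sub, map_one] at this
  exact sub_eq_zero.1 this

lemma e_inf (U V : Clopens T) : e g (U ⊓ V) = e g U * e g V := by
  have := mk_rel (g := g) (.inf U V)
  simp only [rel, map_sub, map_mul] at this
  exact sub_eq_zero.1 this

lemma e_compat (a : {a : A // IsIdempotentElem a}) : e g (G g a) = algebraMap A (BT g) a.1 := by
  have := mk_rel (g := g) (.compat a)
  simp only [rel, map_sub] at this
  exact sub_eq_zero.1 this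

lemma e_idem (U : Clopens T) : e g U * e g U = e g U := by
  rw [← e_inf, inf_idem]

lemma e_bot : e g (⊥ : Clopens T) = 0 := by
  rw [← compl_top, e_compl, e_top, sub_self]

lemma e_mul_compl (U : Clopens T) : e g U * e g Uᶜ = 0 := by
  rw [← e_inf, inf_compl_eq_bot, e_bot]

end Def

section Lift

variable {A : Type u} [CommRing A] {T : Type u} [TopologicalSpace T]
  {g : C(T, ConnectedComponents (PrimeSpectrum A))} {S : Type*} [CommRing S] [Algebra A S]

/-- a family of idempotents satisfying the relations of `BT`. -/
structure ClopenFamily (g : C(T, ConnectedComponents (PrimeSpectrum A))) (ε : Clopens T → S) :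
    Prop where
  top : ε ⊤ = 1
  compl : ∀ U, ε Uᶜ = 1 - ε U
  inf : ∀ U V, ε (U ⊓ V) = ε U * ε V
  compat : ∀ a : {a : A // IsIdempotentElem a}, ε (G g a) = algebraMap A S a.1

variable {ε : Clopens T → S} (h : ClopenFamily g ε)

/-- the induced map. -/
noncomputable def lift : BT g →ₐ[A] S :=
  Ideal.Quotient.liftₐ (relIdeal g) (MvPolynomial.aeval ε)
    (by
      have : relIdeal g ≤ RingHom.ker (MvPolynomial.aeval (R := A) ε).toRingHom := by
        unfold relIdeal
        rw [Ideal.span_le]
        rintro _ ⟨i, rfl⟩
        rw [SetLike.mem_coe, RingHom.mem_ker]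
        cases i with
        | top => simp [rel, h.top]
        | compl U => simp [rel, h.compl]
        | inf U V => simp [rel, h.inf]
        | compat a => simp [rel, h.compat]
      intro a ha
      exact RingHom.mem_ker.1 (this ha))

@[simp]
lemma lift_e (U : Clopens T) : lift h (e g U) = ε U := by
  have : lift h (e g U) = MvPolynomial.aeval (R := A) ε (X U) := rfl
  rw [this, aeval_X]

theorem algHom_ext' {φ ψ : BT g →ₐ[A] S} (h : ∀ U, φ (e g U) = ψ (e g U)) : φ = ψ := by
  apply Ideal.Quotient.algHom_ext
  apply MvPolynomial.algHom_ext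
  intro U
  exact h U

end Lift

end Groth.Agent.Lib.Helper82.BT
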