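import Groth.Agent.Lib.Helper82.BTDef

set_option autoImplicit false
universe u

namespace Groth.Agent.Lib.Helper82.BT

open TopologicalSpace PrimeSpectrum Classical

section Ic

variable {A : Type u} [CommRing A]

/-- the ideal generated by idempotents vanishing on a component. -/
noncomputable def Ic (c : ConnectedComponents (PrimeSpectrum A)) : Ideal A :=
  ⨆ e : IndZar.IdemIdx A (fibre c), IndZar.idemIdeal A (fibre c) e

lemma one_sub_mem_Ic {c : ConnectedComponents (PrimeSpectrum A)} {a : A}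
    (ha : IsIdempotentElem a) (h : fibre c ⊆ (basicOpen a : Set (PrimeSpectrum A))) :
    1 - a ∈ Ic c := by
  have : IndZar.idemIdeal A (fibre c) ⟨a, ha, h⟩ ≤ Ic c :=
    le_iSup (IndZar.idemIdeal A (fibre c)) ⟨a, ha, h⟩
  exact this (Ideal.mem_span_singleton_self _)

lemma mem_Ic_of_disjoint {c : ConnectedComponents (PrimeSpectrum A)} {a : A}
    (ha : IsIdempotentElem a) (h : fibre c ⊆ (basicOpen (1 - a) : Set (PrimeSpectrum A))) :
    a ∈ Ic c := by
  have := one_sub_mem_Ic ha.one_sub h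
  rwa [sub_sub_cancel] at this

lemma zeroLocus_Ic (c : ConnectedComponents (PrimeSpectrum A)) :
    zeroLocus (Ic c : Set A) = fibre c := by
  have := t2Space_connectedComponents (X := PrimeSpectrum A)
  exact IndZar.zeroLocus_iSup_idemIdeal A (fibre c) {c} isClosed_singleton rfl

lemma Ic_le_iff (c : ConnectedComponents (PrimeSpectrum A)) (y : PrimeSpectrum A) :
    Ic c ≤ y.asIdeal ↔ ConnectedComponents.mk y = c := by
  have h1 : y ∈ zeroLocus (Ic c : Set A) ↔ y ∈ fibre c := by rw [zeroLocus_Ic]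
  exact h1

end Ic

section Point

variable {A : Type u} [CommRing A] {T : Type u} [TopologicalSpace T]
  (g : C(T, ConnectedComponents (PrimeSpectrum A))) (t : T)
  (S : Type*) [CommRing S] [Algebra A S]

/-- the characteristic family of a point of `T`. -/
noncomputable def chi (U : Clopens T) : S := if t ∈ U then 1 else 0

variable {S}

omit [Algebra A S] in
lemma chi_of_mem {U : Clopens T} (h : t ∈ U) : chi t S U = 1 := if_pos h

omit [Algebra A S] in
lemma chi_of_notMem {U : Clopens T} (h : t ∉ U) : chi t S U = 0 := if_neg h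

omit [Algebra A S] in
lemma map_chi {S' F : Type*} [CommRing S'] [FunLike F S S'] [RingHomClass F S S'] (φ : F)
    (U : Clopens T) : φ (chi t S U) = chi t S' U := by
  unfold chi
  split_ifs <;> simp

omit [Algebra A S] in
lemma mem_compl_iff' {U : Clopens T} : t ∈ Uᶜ ↔ t ∉ U := Iff.rfl

omit [Algebra A S] in
lemma mem_inf_iff' {U V : Clopens T} : t ∈ U ⊓ V ↔ t ∈ U ∧ t ∈ V := Iff.rfl

lemma clopenFamily_chi (hS : ∀ r ∈ Ic (g t), algebraMap A S r = 0) :
    ClopenFamily g (chi t S) where
  top := chi_of_mem t (Set.mem_univ t)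
  compl U := by
    by_cases h : t ∈ U
    · rw [chi_of_mem t h, chi_of_notMem t (fun h' => (mem_compl_iff' t).1 h' h), sub_self]
    · rw [chi_of_notMem t h, chi_of_mem t ((mem_compl_iff' t).2 h), sub_zero]
  inf U V := by
    by_cases hU : t ∈ U
    · by_cases hV : t ∈ V
      · rw [chi_of_mem t hU, chi_of_mem t hV, chi_of_mem t ((mem_inf_iff' t).2 ⟨hU, hV⟩), mul_one]
      · rw [chi_of_notMem t hV, chi_of_notMem t (fun h => hV ((mem_inf_iff' t).1 h).2), mul_zero]
    · rw [chi_of_notMem t hU, chi_of_notMem t (fun h => hU ((mem_inf_iff' t).1 h).1), zero_mul]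
  compat a := by
    by_cases h : t ∈ G g a
    · rw [chi_of_mem t h]
      have h1 := hS _ (one_sub_mem_Ic a.2 ((mem_G_iff g a t).1 h))
      rw [map_sub, map_one, sub_eq_zero] at h1
      exact h1
    · rw [chi_of_notMem t h]
      exact (hS _ (mem_Ic_of_disjoint a.2 ((not_mem_G_iff g a t).1 h))).symm

/-- the point map. -/
noncomputable def pt (hS : ∀ r ∈ Ic (g t), algebraMap A S r = 0) : BT g →ₐ[A] S :=
  lift (clopenFamily_chi g t hS)

@[simp]
lemma pt_e (hS : ∀ r ∈ Ic (g t), algebraMap A S r = 0) (U : Clopens T) :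
    pt g t hS (e g U) = chi t S U := lift_e _ U

/-- evaluation at the fibre over `t`. -/
noncomputable def theta : BT g →ₐ[A] A ⧸ Ic (g t) :=
  pt g t (S := A ⧸ Ic (g t)) (fun _ hr => Ideal.Quotient.eq_zero_iff_mem.2 hr)

@[simp]
lemma theta_e (U : Clopens T) : theta g t (e g U) = chi t (A ⧸ Ic (g t)) U := pt_e g t _ U

/-- the ideal cutting out the fibre over `t`. -/
noncomputable def K : Ideal (BT g) := Ideal.span (Set.range fun U => e g U - chi t (BT g) U)

lemma e_sub_chi_mem_K (U : Clopens T) : e g U - chi t (BT g) U ∈ K g t :=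
  Ideal.subset_span ⟨U, rfl⟩

lemma K_le_ker : K g t ≤ RingHom.ker (theta g t).toRingHom := by
  unfold K
  rw [Ideal.span_le]
  rintro _ ⟨U, rfl⟩
  rw [SetLike.mem_coe, RingHom.mem_ker]
  show theta g t (e g U - chi t (BT g) U) = 0
  rw [map_sub, theta_e, map_chi, sub_self]

lemma Ic_le_ker_quot : ∀ r ∈ Ic (g t), algebraMap A (BT g ⧸ K g t) r = 0 := by
  intro r hr
  have hle : Ic (g t) ≤ RingHom.ker (algebraMap A (BT g ⧸ K g t)) := by
    unfold Ic
    rw [iSup_le_iff]
    intro a
    unfold IndZar.idemIdeal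
    rw [Ideal.span_le, Set.singleton_subset_iff, SetLike.mem_coe, RingHom.mem_ker]
    have hmem : t ∈ G g ⟨a.1, a.2.1⟩ := (mem_G_iff g ⟨a.1, a.2.1⟩ t).2 a.2.2
    have h1 : Ideal.Quotient.mk (K g t) (e g (G g ⟨a.1, a.2.1⟩)) = 1 := by
      have := Ideal.Quotient.eq.2 (e_sub_chi_mem_K g t (G g ⟨a.1, a.2.1⟩))
      rw [this, chi_of_mem t hmem, map_one]
    rw [e_compat] at h1
    show Ideal.Quotient.mk (K g t) (algebraMap A (BT g) (1 - a.1)) = 0
    rw [map_sub, map_sub, map_one, map_one, h1, sub_self]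
  exact RingHom.mem_ker.1 (hle hr)

/-- the section of the quotient by `K`. -/
noncomputable def sigma : A ⧸ Ic (g t) →ₐ[A] BT g ⧸ K g t :=
  Ideal.Quotient.liftₐ (Ic (g t)) (Algebra.ofId A (BT g ⧸ K g t)) (Ic_le_ker_quot g t)

lemma sigma_comp_theta : (sigma g t).comp (theta g t) = Ideal.Quotient.mkₐ A (K g t) := by
  apply algHom_ext'
  intro U
  show sigma g t (theta g t (e g U)) = Ideal.Quotient.mk (K g t) (e g U)
  rw [theta_e, map_chi, Ideal.Quotient.eq.2 (e_sub_chi_mem_K g t U), map_chi]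

lemma ker_le_K : RingHom.ker (theta g t).toRingHom ≤ K g t := by
  intro z hz
  have h1 : (sigma g t).comp (theta g t) z = 0 := by
    show sigma g t (theta g t z) = 0
    rw [show theta g t z = 0 from hz, map_zero]
  rw [sigma_comp_theta] at h1
  exact Ideal.Quotient.eq_zero_iff_mem.1 h1

lemma theta_surjective : Function.Surjective (theta g t) := by
  intro z
  obtain ⟨a, rfl⟩ := Ideal.Quotient.mk_surjective z
  exact ⟨algebraMap A (BT g) a, (theta g t).commutes a⟩

lemma exists_rep (z : BT g) : ∃ a : A, z - algebraMap A (BT g) a ∈ K g t := by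
  obtain ⟨a, ha⟩ := Ideal.Quotient.mk_surjective (theta g t z)
  refine ⟨a, ker_le_K g t ?_⟩
  rw [RingHom.mem_ker]
  show theta g t (z - algebraMap A (BT g) a) = 0
  rw [map_sub, AlgHom.commutes, ← ha]
  exact sub_self _

end Point

end Groth.Agent.Lib.Helper82.BT
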