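import Groth.Agent.Lib.Helper82.BTTop

set_option autoImplicit false
universe u

namespace Groth.Agent.Lib.Helper82.BT

open TopologicalSpace PrimeSpectrum Classical Topology

section Conn

variable {A : Type u} [CommRing A]

theorem preconnectedSpace_quotient_Ic (c : ConnectedComponents (PrimeSpectrum A)) :
    PreconnectedSpace (PrimeSpectrum (A ⧸ Ic c)) := by
  have hemb : IsClosedEmbedding (PrimeSpectrum.comap (Ideal.Quotient.mk (Ic c))) :=
    PrimeSpectrum.isClosedEmbedding_comap_of_surjective _ _ Ideal.Quotient.mk_surjective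
  have hrange : Set.range (PrimeSpectrum.comap (Ideal.Quotient.mk (Ic c))) = fibre c := by
    rw [range_comap_of_surjective _ _ Ideal.Quotient.mk_surjective, Ideal.mk_ker, zeroLocus_Ic]
  have hpre : IsPreconnected (fibre c) := by
    obtain ⟨x, rfl⟩ := ConnectedComponents.surjective_coe c
    have hf : fibre (ConnectedComponents.mk x) = connectedComponent x :=
      connectedComponents_preimage_singleton
    rw [hf]
    exact isPreconnected_connectedComponent
  refine ⟨?_⟩
  rw [← hemb.isInducing.isPreconnected_image, Set.image_univ, hrange]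
  exact hpre

end Conn

section Homeo

variable {A : Type u} [CommRing A] {T : Type u} [TopologicalSpace T]
  [CompactSpace T] [T2Space T] [TotallyDisconnectedSpace T]
  (g : C(T, ConnectedComponents (PrimeSpectrum A)))

lemma mem_range_comap_theta (𝔮 : PrimeSpectrum (BT g)) :
    𝔮 ∈ Set.range (PrimeSpectrum.comap (theta g (tau g 𝔮)).toRingHom) := by
  rw [range_comap_of_surjective _ _ (theta_surjective g (tau g 𝔮)), mem_zeroLocus,
    SetLike.coe_subset_coe]
  exact (ker_le_K g (tau g 𝔮)).trans (K_tOf_le 𝔮.asIdeal)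

lemma tau_surjective : Function.Surjective (tau g) := by
  intro t
  obtain ⟨y, hy⟩ := ConnectedComponents.surjective_coe (g t)
  exact ⟨⟨qOf g y t hy, inferInstance⟩, tOf_qOf g y t hy⟩

theorem exists_homeomorph :
    ∃ e : ConnectedComponents (PrimeSpectrum (BT g)) ≃ₜ T,
      ∀ 𝔮 : PrimeSpectrum (BT g), e (ConnectedComponents.mk 𝔮) = tau g 𝔮 := by
  have hτ := continuous_tau g
  have hinj : Function.Injective hτ.connectedComponentsLift := by
    intro c₁ c₂ h
    obtain ⟨𝔮₁, rfl⟩ := ConnectedComponents.surjective_coe c₁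
    obtain ⟨𝔮₂, rfl⟩ := ConnectedComponents.surjective_coe c₂
    rw [hτ.connectedComponentsLift_apply_coe, hτ.connectedComponentsLift_apply_coe] at h
    have := preconnectedSpace_quotient_Ic (g (tau g 𝔮₁))
    have hr : IsPreconnected
        (Set.range (PrimeSpectrum.comap (theta g (tau g 𝔮₁)).toRingHom)) :=
      isPreconnected_range (PrimeSpectrum.continuous_comap _)
    have h1 := mem_range_comap_theta g 𝔮₁
    have h2 : 𝔮₂ ∈ Set.range (PrimeSpectrum.comap (theta g (tau g 𝔮₁)).toRingHom) := by
      rw [h]
      exact mem_range_comap_theta g 𝔮₂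
    have h3 := hr.subset_connectedComponent h1 h2
    symm
    rw [ConnectedComponents.coe_eq_coe']
    exact h3
  have hsurj : Function.Surjective hτ.connectedComponentsLift := by
    intro t
    obtain ⟨𝔮, h𝔮⟩ := tau_surjective g t
    refine ⟨ConnectedComponents.mk 𝔮, ?_⟩
    rw [hτ.connectedComponentsLift_apply_coe, h𝔮]
  let e₀ : ConnectedComponents (PrimeSpectrum (BT g)) ≃ T := Equiv.ofBijective _ ⟨hinj, hsurj⟩
  refine ⟨Continuous.homeoOfEquivCompactToT2 (f := e₀) hτ.connectedComponentsLift_continuous,
    fun 𝔮 => ?_⟩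
  exact hτ.connectedComponentsLift_apply_coe 𝔮

end Homeo

end Groth.Agent.Lib.Helper82.BT
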