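import Groth.Agent.Lib.Helper82.IndZarGlue
import Groth.Agent.Lib.Helper82.IndZarCrit

set_option autoImplicit false
universe u

namespace Groth.Agent.Lib.Helper82.IndZar

open PrimeSpectrum

section LemmaL

variable {A E B : Type u} [CommRing A] [CommRing E] [CommRing B] [Algebra A E] [Algebra A B]

theorem exists_notMem_mul_eq_zero [Algebra.IsLocalIso A E] (f : E →ₐ[A] B)
    (q : PrimeSpectrum B)
    (hinj : Function.Injective (Localization.localRingHom (q.asIdeal.comap (algebraMap A B))
      q.asIdeal (algebraMap A B) rfl))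
    (x : E) (hx : f x = 0) : ∃ u : E, f u ∉ q.asIdeal ∧ u * x = 0 := by
  have hr : (q.asIdeal.comap f.toRingHom).IsPrime := Ideal.comap_isPrime _ _
  obtain ⟨g, hg, hstd⟩ := Algebra.IsLocalIso.exists_notMem_isStandardOpenImmersion (R := A)
    (q.asIdeal.comap f.toRingHom)
  have hfg : f g ∉ q.asIdeal := hg
  obtain ⟨a₀, ha₀⟩ := Algebra.IsStandardOpenImmersion.exists_away A (Localization.Away g)
  obtain ⟨n, c, hc⟩ := IsLocalization.Away.surj a₀ (algebraMap E (Localization.Away g) x)
  have hunit : IsUnit ((algebraMap B (Localization.AtPrime q.asIdeal)).comp f.toRingHom g) := by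
    exact IsLocalization.map_units (Localization.AtPrime q.asIdeal)
      (⟨f g, hfg⟩ : q.asIdeal.primeCompl)
  let lam : Localization.Away g →+* Localization.AtPrime q.asIdeal :=
    IsLocalization.Away.lift g hunit
  have hlam : ∀ y : E, lam (algebraMap E _ y) =
      algebraMap B (Localization.AtPrime q.asIdeal) (f y) := fun y =>
    IsLocalization.Away.lift_eq g hunit y
  have hlamA : ∀ a : A, lam (algebraMap A _ a) =
      algebraMap B (Localization.AtPrime q.asIdeal) (algebraMap A B a) := by
    intro a
    rw [IsScalarTower.algebraMap_apply A E (Localization.Away g), hlam, f.commutes]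
  have h1 := congrArg lam hc
  rw [map_mul, hlam, hx, map_zero, zero_mul, hlamA] at h1
  have h2 : algebraMap A (Localization.AtPrime (q.asIdeal.comap (algebraMap A B))) c = 0 := by
    apply hinj
    rw [Localization.localRingHom_to_map, map_zero]
    exact h1.symm
  rw [IsLocalization.map_eq_zero_iff (q.asIdeal.comap (algebraMap A B)).primeCompl] at h2
  obtain ⟨v, hv⟩ := h2
  have h3 : algebraMap E (Localization.Away g) (algebraMap A E v.1 * x) = 0 := by
    have hu : IsUnit (algebraMap A (Localization.Away g) a₀ ^ n) :=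
      (IsLocalization.Away.algebraMap_isUnit a₀).pow n
    apply hu.mul_left_injective
    simp only
    rw [zero_mul, map_mul, mul_assoc, hc, ← IsScalarTower.algebraMap_apply, ← map_mul, hv,
      map_zero]
  rw [IsLocalization.map_eq_zero_iff (Submonoid.powers g)] at h3
  obtain ⟨⟨_, m, rfl⟩, hm⟩ := h3
  refine ⟨g ^ m * algebraMap A E v.1, ?_, ?_⟩
  · rw [map_mul, map_pow, f.commutes]
    refine q.2.mul_notMem (fun h => hfg (q.2.mem_of_pow_mem m h)) ?_
    exact v.2
  · rw [mul_assoc]
    exact hm

end LemmaL

section Main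

variable (A B : Type u) [CommRing A] [CommRing B] [Algebra A B]
  (h1 : EtPBC.IdentifiesLocalRings A B) (h3 : ProEtW.IsWLocal (PrimeSpectrum B))

include h1 h3 in
theorem coveredByLocalIso_of_identifiesLocalRings_wLocal : CoveredByLocalIso A B := by
  intro b
  have key : ∀ q : {q : PrimeSpectrum B // IsClosed ({q} : Set (PrimeSpectrum B))},
      ∃ (s a : A) (t : B), algebraMap A B s ∉ q.1.asIdeal ∧ t ∉ q.1.asIdeal ∧
        t * (algebraMap A B s * b) = t * algebraMap A B a := by
    intro q
    obtain ⟨x, hx⟩ := (h1 q.1).2 (algebraMap B (Localization.AtPrime q.1.asIdeal) b)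
    obtain ⟨a, s, rfl⟩ := IsLocalization.exists_mk'_eq
      (q.1.asIdeal.comap (algebraMap A B)).primeCompl x
    rw [Localization.localRingHom_mk', IsLocalization.mk'_eq_iff_eq_mul, ← map_mul,
      IsLocalization.eq_iff_exists q.1.asIdeal.primeCompl] at hx
    obtain ⟨t, ht⟩ := hx
    refine ⟨s.1, a, t.1, s.2, t.2, ?_⟩
    simp only at ht
    linear_combination -ht
  choose s a t hs ht hst using key
  obtain ⟨G, q, hGu, hGw⟩ := exists_glueData h3 (Algebra.ofId A B) s t hs ht
  refine ⟨G.E', inferInstance, inferInstance, inferInstance, G.ψ, ?_⟩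
  refine G.mem_range_ψ (fun k => a (q k)) fun k => ?_
  apply (hGw k).mul_right_injective
  simp only
  rw [← map_mul, ← map_mul, hGu k]
  exact congrArg _ (hst (q k))

include h1 h3 in
theorem killsRelations_of_identifiesLocalRings_wLocal : KillsRelations A B := by
  intro E _ _ _ f x hx
  have key : ∀ q : {q : PrimeSpectrum B // IsClosed ({q} : Set (PrimeSpectrum B))},
      ∃ u : E, f u ∉ q.1.asIdeal ∧ u * x = 0 := fun q =>
    exists_notMem_mul_eq_zero f q.1 (h1 q.1).1 x hx
  choose u hu hux using key
  obtain ⟨G, q, hGu, -⟩ := exists_glueData h3 f u (fun _ => 1) hu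
    (fun q => q.1.2.one_notMem)
  refine ⟨G.E', inferInstance, inferInstance, inferInstance, G.δ, G.ψ, G.ψ_comp_δ, ?_⟩
  refine G.δ_eq_zero fun k => ?_
  rw [hGu k]
  exact hux (q k)

include h1 h3 in
theorem isIndZariski_of_identifiesLocalRings_wLocal : EtPBC.IsIndZariski A B :=
  isIndZariski_of_criterion (coveredByLocalIso_of_identifiesLocalRings_wLocal A B h1 h3)
    (killsRelations_of_identifiesLocalRings_wLocal A B h1 h3)

end Main

end Groth.Agent.Lib.Helper82.IndZar
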