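import Groth.Agent.Lib.Helper82.WLocTop
import Groth.Agent.Lib.Helper82.IndZarWLocal

set_option autoImplicit false
universe u

namespace Groth.Agent.Lib.Helper82.WLoc

open Classical PrimeSpectrum

section Flat

variable {A B : Type u} [CommRing A] [CommRing B] [Algebra A B]

theorem flat_of_identifiesLocalRings (h : EtPBC.IdentifiesLocalRings A B) : Module.Flat A B := by
  rw [← RingHom.flat_algebraMap_iff]
  apply RingHom.Flat.ofLocalizationPrime
  intro J hJ
  exact RingHom.Flat.of_bijective (h ⟨J, hJ⟩)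

end Flat

section LocalRing

lemma eq_zero_of_idem_of_mem_maximalIdeal {L : Type*} [CommRing L] [IsLocalRing L] {a : L}
    (ha : a * a = a) (hmem : a ∈ IsLocalRing.maximalIdeal L) : a = 0 := by
  have h1 : IsUnit (1 - a) := IsLocalRing.isUnit_one_sub_self_of_mem_nonunits a hmem
  have h2 : a * (1 - a) = 0 := by rw [mul_sub, mul_one, ha, sub_self]
  exact (h1.mul_left_eq_zero).1 h2

end LocalRing

section Identify

variable {A : Type u} [CommRing A]

theorem eq_qOf (𝔮 : Ideal (Aw A)) [𝔮.IsPrime] :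
    𝔮 = qOf (xOf 𝔮) (yOf 𝔮) (yOf_le_xOf 𝔮) :=
  eq_of_xOf_eq_of_yOf_eq _ _ (xOf_qOf _ _ _).symm (yOf_qOf _ _ _).symm

lemma algebraMap_e_eq_chi (𝔮 : Ideal (Aw A)) [h𝔮 : 𝔮.IsPrime] (f : A) :
    algebraMap (Aw A) (Localization.AtPrime 𝔮) (e f) =
      chi (xOf 𝔮) (Localization.AtPrime 𝔮) f := by
  by_cases hf : f ∈ xOf 𝔮
  · rw [chi_of_mem _ _ hf]
    apply eq_zero_of_idem_of_mem_maximalIdeal
    · rw [← map_mul, e_idem]
    · exact (IsLocalization.AtPrime.to_map_mem_maximal_iff _ 𝔮 _).2 hf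
  · rw [chi_of_notMem _ _ hf]
    have h1 : (1 : Localization.AtPrime 𝔮) - algebraMap (Aw A) (Localization.AtPrime 𝔮) (e f) =
        0 := by
      apply eq_zero_of_idem_of_mem_maximalIdeal
      · rw [← map_one (algebraMap (Aw A) (Localization.AtPrime 𝔮)), ← map_sub, ← map_mul]
        congr 1
        rw [mul_sub, mul_one, sub_mul, one_mul, e_idem, sub_self, sub_zero]
      · rw [← map_one (algebraMap (Aw A) (Localization.AtPrime 𝔮)), ← map_sub]
        exact (IsLocalization.AtPrime.to_map_mem_maximal_iff _ 𝔮 _).2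
          ((one_sub_e_mem_iff 𝔮 f).2 hf)
    exact (sub_eq_zero.1 h1).symm

theorem identifiesLocalRings_Aw : EtPBC.IdentifiesLocalRings A (Aw A) := by
  intro q
  let 𝔮 : Ideal (Aw A) := q.asIdeal
  let x : Ideal A := xOf 𝔮
  let y : Ideal A := yOf 𝔮
  have hyx : y ≤ x := yOf_le_xOf 𝔮
  let ρ : Aw A →ₐ[A] Localization.AtPrime y := rho x y hyx
  have h𝔮 : 𝔮 = qOf x y hyx := eq_qOf 𝔮
  have hunit : ∀ w : 𝔮.primeCompl, IsUnit (ρ.toRingHom w) := by
    intro w
    have h1 : ρ w.1 ∉ IsLocalRing.maximalIdeal (Localization.AtPrime y) := by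
      intro hmem
      apply w.2
      have h2 : w.1 ∈ qOf x y hyx := hmem
      have h3 : ∀ v : Aw A, v ∈ qOf x y hyx → v ∈ 𝔮 := by
        intro v hv
        rw [h𝔮]
        exact hv
      exact h3 _ h2
    exact of_not_not (fun hnu => h1 ((IsLocalRing.mem_maximalIdeal _).2 hnu))
  let lrh : Localization.AtPrime y →+* Localization.AtPrime 𝔮 :=
    Localization.localRingHom y 𝔮 (algebraMap A (Aw A)) rfl
  show Function.Bijective lrh
  let ρ' : Localization.AtPrime 𝔮 →+* Localization.AtPrime y := IsLocalization.lift hunit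
  have hlrh : ∀ a : A, lrh (algebraMap A _ a) =
      algebraMap (Aw A) (Localization.AtPrime 𝔮) (algebraMap A (Aw A) a) := fun a =>
    Localization.localRingHom_to_map _ _ _ rfl a
  have hcomp : ρ'.comp lrh = RingHom.id _ := by
    apply IsLocalization.ringHom_ext y.primeCompl
    ext a
    show ρ' (lrh (algebraMap A _ a)) = algebraMap A _ a
    rw [hlrh, IsLocalization.lift_eq]
    exact ρ.commutes a
  let lrhAlg : Localization.AtPrime y →ₐ[A] Localization.AtPrime 𝔮 :=
    { lrh with
      commutes' := fun a => by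
        show lrh (algebraMap A _ a) = algebraMap A (Localization.AtPrime 𝔮) a
        rw [hlrh, ← IsScalarTower.algebraMap_apply] }
  have hfact : (IsScalarTower.toAlgHom A (Aw A) (Localization.AtPrime 𝔮)) = lrhAlg.comp ρ := by
    apply algHom_ext'
    intro f
    show algebraMap (Aw A) (Localization.AtPrime 𝔮) (e f) = lrh (ρ (e f))
    rw [algebraMap_e_eq_chi, rho_e, map_chi]
  have hfact' : ∀ z : Aw A, algebraMap (Aw A) (Localization.AtPrime 𝔮) z = lrh (ρ z) := fun z =>
    DFunLike.congr_fun hfact z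
  constructor
  · intro a b hab
    have := congrArg ρ' hab
    rwa [← RingHom.comp_apply, ← RingHom.comp_apply, hcomp] at this
  · intro l
    obtain ⟨z, w, rfl⟩ := IsLocalization.exists_mk'_eq 𝔮.primeCompl l
    obtain ⟨u, hu⟩ := hunit w
    refine ⟨ρ z * ↑u⁻¹, ?_⟩
    rw [IsLocalization.eq_mk'_iff_mul_eq, hfact', hfact', ← map_mul]
    congr 1
    have hu' : (u : Localization.AtPrime y) = ρ w.1 := hu
    rw [mul_assoc, ← hu', Units.inv_mul, mul_one]

theorem isIndZariski_Aw : EtPBC.IsIndZariski A (Aw A) :=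
  IndZar.isIndZariski_of_identifiesLocalRings_wLocal A (Aw A) identifiesLocalRings_Aw isWLocal_Aw

theorem faithfullyFlat_Aw : Module.FaithfullyFlat A (Aw A) := by
  have := flat_of_identifiesLocalRings (identifiesLocalRings_Aw (A := A))
  apply Module.FaithfullyFlat.of_comap_surjective
  intro x
  exact ⟨closedPt x, PrimeSpectrum.ext (yOf_closedPt x)⟩

end Identify

end Groth.Agent.Lib.Helper82.WLoc
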