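import Groth.Agent.Lib.Helper82.BTHomeo
import Groth.Agent.Lib.Helper82.WLocIdentify

set_option autoImplicit false
universe u

namespace Groth.Agent.Lib.Helper82.BT

open TopologicalSpace PrimeSpectrum Classical Topology

section Identify

variable {A : Type u} [CommRing A] {T : Type u} [TopologicalSpace T]
  [CompactSpace T] [T2Space T] [TotallyDisconnectedSpace T]
  (g : C(T, ConnectedComponents (PrimeSpectrum A)))

lemma algebraMap_eq_zero_of_mem_Ic (y : PrimeSpectrum A) {c : ConnectedComponents (PrimeSpectrum A)}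
    (hy : ConnectedComponents.mk y = c) :
    ∀ r ∈ Ic c, algebraMap A (Localization.AtPrime y.asIdeal) r = 0 := by
  intro r hr
  have hle : Ic c ≤ RingHom.ker (algebraMap A (Localization.AtPrime y.asIdeal)) := by
    unfold Ic
    rw [iSup_le_iff]
    intro a
    unfold IndZar.idemIdeal
    rw [Ideal.span_le, Set.singleton_subset_iff, SetLike.mem_coe, RingHom.mem_ker]
    have hay : a.1 ∉ y.asIdeal := a.2.2 (show y ∈ fibre c from hy)
    rw [IsLocalization.map_eq_zero_iff y.asIdeal.primeCompl]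
    refine ⟨⟨a.1, hay⟩, ?_⟩
    show a.1 * (1 - a.1) = 0
    rw [mul_sub, mul_one, a.2.1.eq, sub_self]
  exact RingHom.mem_ker.1 (hle hr)

lemma algebraMap_e_eq_chi (𝔮 : Ideal (BT g)) [h𝔮 : 𝔮.IsPrime] (U : Clopens T) :
    algebraMap (BT g) (Localization.AtPrime 𝔮) (e g U) =
      chi (tOf 𝔮) (Localization.AtPrime 𝔮) U := by
  by_cases hU : tOf 𝔮 ∈ U
  · rw [chi_of_mem _ hU]
    have h1 : (1 : Localization.AtPrime 𝔮) - algebraMap (BT g) (Localization.AtPrime 𝔮) (e g U) =
        0 := by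
      apply WLoc.eq_zero_of_idem_of_mem_maximalIdeal
      · rw [← map_one (algebraMap (BT g) (Localization.AtPrime 𝔮)), ← map_sub, ← map_mul]
        congr 1
        rw [mul_sub, mul_one, sub_mul, one_mul, e_idem, sub_self, sub_zero]
      · rw [← map_one (algebraMap (BT g) (Localization.AtPrime 𝔮)), ← map_sub, ← e_compl]
        exact (IsLocalization.AtPrime.to_map_mem_maximal_iff _ 𝔮 _).2
          ((e_compl_mem_iff 𝔮 U).2 ((mem_iff_e_notMem 𝔮 U).1 hU))
    exact (sub_eq_zero.1 h1).symm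
  · rw [chi_of_notMem _ hU]
    apply WLoc.eq_zero_of_idem_of_mem_maximalIdeal
    · rw [← map_mul, e_idem]
    · refine (IsLocalization.AtPrime.to_map_mem_maximal_iff _ 𝔮 _).2 ?_
      by_contra h
      exact hU ((mem_iff_e_notMem 𝔮 U).2 h)

theorem identifiesLocalRings_BT : EtPBC.IdentifiesLocalRings A (BT g) := by
  intro q
  let 𝔮 : Ideal (BT g) := q.asIdeal
  let t : T := tOf 𝔮
  let y : PrimeSpectrum A := ⟨yOf 𝔮, inferInstance⟩
  have hyt : ConnectedComponents.mk y = g t := mk_yOf_eq 𝔮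
  let ρ : BT g →ₐ[A] Localization.AtPrime y.asIdeal :=
    pt g t (S := Localization.AtPrime y.asIdeal) (algebraMap_eq_zero_of_mem_Ic y hyt)
  let 𝔮' : Ideal (BT g) := (IsLocalRing.maximalIdeal (Localization.AtPrime y.asIdeal)).comap ρ
  have h𝔮'p : 𝔮'.IsPrime := Ideal.comap_isPrime _ _
  have ht' : tOf 𝔮' = t := by
    apply tOf_eq
    intro U
    show t ∈ U ↔ ρ (e g U) ∉ IsLocalRing.maximalIdeal _
    rw [pt_e]
    by_cases hU : t ∈ U
    · rw [chi_of_mem t hU]
      exact ⟨fun _ h => (Ideal.ne_top_iff_one _).1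
        (IsLocalRing.maximalIdeal.isMaximal _).ne_top h, fun _ => hU⟩
    · rw [chi_of_notMem t hU]
      exact ⟨fun h => (hU h).elim, fun h => (h (Ideal.zero_mem _)).elim⟩
  have hy' : yOf 𝔮' = yOf 𝔮 := by
    ext a
    rw [mem_yOf]
    show ρ (algebraMap A (BT g) a) ∈ IsLocalRing.maximalIdeal _ ↔ a ∈ y.asIdeal
    rw [AlgHom.commutes]
    exact IsLocalization.AtPrime.to_map_mem_maximal_iff (Localization.AtPrime y.asIdeal)
      y.asIdeal a
  have h𝔮 : 𝔮' = 𝔮 := eq_of_tOf_eq_of_yOf_eq 𝔮' 𝔮 ht' hy'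
  have hunit : ∀ w : 𝔮.primeCompl, IsUnit (ρ.toRingHom w) := by
    intro w
    have h1 : ρ w.1 ∉ IsLocalRing.maximalIdeal (Localization.AtPrime y.asIdeal) := by
      intro hmem
      apply w.2
      have h2 : w.1 ∈ 𝔮' := hmem
      have h3 : ∀ v : BT g, v ∈ 𝔮' → v ∈ 𝔮 := by
        intro v hv
        rw [← h𝔮]
        exact hv
      exact h3 _ h2
    exact of_not_not (fun hnu => h1 ((IsLocalRing.mem_maximalIdeal _).2 hnu))
  let lrh : Localization.AtPrime y.asIdeal →+* Localization.AtPrime 𝔮 :=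
    Localization.localRingHom y.asIdeal 𝔮 (algebraMap A (BT g)) rfl
  show Function.Bijective lrh
  let ρ' : Localization.AtPrime 𝔮 →+* Localization.AtPrime y.asIdeal := IsLocalization.lift hunit
  have hlrh : ∀ a : A, lrh (algebraMap A _ a) =
      algebraMap (BT g) (Localization.AtPrime 𝔮) (algebraMap A (BT g) a) := fun a =>
    Localization.localRingHom_to_map _ _ _ rfl a
  have hcomp : ρ'.comp lrh = RingHom.id _ := by
    apply IsLocalization.ringHom_ext y.asIdeal.primeCompl
    ext a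
    show ρ' (lrh (algebraMap A _ a)) = algebraMap A _ a
    rw [hlrh, IsLocalization.lift_eq]
    exact ρ.commutes a
  let lrhAlg : Localization.AtPrime y.asIdeal →ₐ[A] Localization.AtPrime 𝔮 :=
    { lrh with
      commutes' := fun a => by
        show lrh (algebraMap A _ a) = algebraMap A (Localization.AtPrime 𝔮) a
        rw [hlrh, ← IsScalarTower.algebraMap_apply] }
  have hfact : (IsScalarTower.toAlgHom A (BT g) (Localization.AtPrime 𝔮)) = lrhAlg.comp ρ := by
    apply algHom_ext'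
    intro U
    show algebraMap (BT g) (Localization.AtPrime 𝔮) (e g U) = lrh (ρ (e g U))
    rw [algebraMap_e_eq_chi, pt_e, map_chi]
  have hfact' : ∀ z : BT g, algebraMap (BT g) (Localization.AtPrime 𝔮) z = lrh (ρ z) := fun z =>
    DFunLike.congr_fun hfact z
  constructor
  · intro a b hab
    have := congrArg ρ' hab
    rwa [← RingHom.comp_apply, ← RingHom.comp_apply, hcomp] at this
  · intro l
    obtain ⟨z, w, rfl⟩ := IsLocalization.exists_mk'_eq 𝔮.primeCompl l
    obtain ⟨u, hu⟩ := hunit w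
    refine ⟨ρ z * ↑u⁻¹, ?_⟩
    rw [IsLocalization.eq_mk'_iff_mul_eq, hfact', hfact', ← map_mul]
    congr 1
    have hu' : (u : Localization.AtPrime y.asIdeal) = ρ w.1 := hu
    rw [mul_assoc, ← hu', Units.inv_mul, mul_one]

end Identify

end Groth.Agent.Lib.Helper82.BT
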