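import Mathlib
import Groth.Agent.Lib.Helper82.IndZarCrit

set_option autoImplicit false
universe u

/-!
# The converse of the criterion: extracting element-level data from a filtered colimit
presentation by local-iso algebras.
-/

namespace Groth.Agent.Lib.Helper82.IndZar

open CategoryTheory Limits

variable {R : Type u} [CommRing R] {B : Type u} [CommRing B] [Algebra R B]

/-- the presentation datum (the unfolded form of being ind-local-iso). -/
def HasPres (R B : Type u) [CommRing R] [CommRing B] [Algebra R B] : Prop :=
  ∃ (J : Type u) (_ : SmallCategory J) (_ : IsFiltered J)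
    (D : J ⥤ Under (CommRingCat.of R)) (c : Cocone D) (_ : IsColimit c),
    (∀ j, letI := (D.obj j).hom.hom.toAlgebra; Algebra.IsLocalIso R (D.obj j).right) ∧
    Nonempty (c.pt ≅ Under.mk (CommRingCat.ofHom (algebraMap R B)))

/-- the algebra structure of an object under `R`. -/
@[reducible] def underAlg (X : Under (CommRingCat.of R)) : Algebra R X.right :=
  X.hom.hom.toAlgebra

attribute [local instance] underAlg

/-- an algebra map out of an object under `R` to `B`. -/
def algHomOfUnder {X : Under (CommRingCat.of R)}
    (g : X ⟶ Under.mk (CommRingCat.ofHom (algebraMap R B))) : X.right →ₐ[R] B where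
  __ := g.right.hom
  commutes' r := by
    have := congrArg (fun t => t.hom r) (Under.w g)
    exact this

@[simp]
lemma algHomOfUnder_apply {X : Under (CommRingCat.of R)}
    (g : X ⟶ Under.mk (CommRingCat.ofHom (algebraMap R B))) (x : X.right) :
    algHomOfUnder g x = g.right.hom x := rfl

/-- an algebra map between objects under `R`. -/
def algHomOfUnderHom {X Y : Under (CommRingCat.of R)} (g : X ⟶ Y) : X.right →ₐ[R] Y.right where
  __ := g.right.hom
  commutes' r := by
    have := congrArg (fun t => t.hom r) (Under.w g)
    exact this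

@[simp]
lemma algHomOfUnderHom_apply {X Y : Under (CommRingCat.of R)} (g : X ⟶ Y) (x : X.right) :
    algHomOfUnderHom g x = g.right.hom x := rfl

section Data

variable {J : Type u} [SmallCategory J] [IsFiltered J] (D : J ⥤ Under (CommRingCat.of R))
  (c : Cocone D) (hc : IsColimit c)

/-- the colimit cocone in sets. -/
noncomputable def isColimitTypes :
    IsColimit ((forget CommRingCat.{u}).mapCocone ((Under.forget (CommRingCat.of R)).mapCocone c)) := by
  haveI : IsConnected J := IsFiltered.isConnected _
  exact isColimitOfPreserves (forget CommRingCat.{u})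
    (isColimitOfPreserves (Under.forget (CommRingCat.of R)) hc)

include hc in
lemma exists_rep (x : c.pt.right) : ∃ (j : J) (y : (D.obj j).right), (c.ι.app j).right.hom y = x := by
  obtain ⟨j, y, hy⟩ := Types.jointly_surjective_of_isColimit (isColimitTypes D c hc) x
  exact ⟨j, y, hy⟩

include hc in
lemma exists_map_eq_zero {j : J} (y : (D.obj j).right) (hy : (c.ι.app j).right.hom y = 0) :
    ∃ (k : J) (g : j ⟶ k), (D.map g).right.hom y = 0 := by
  have := (Types.FilteredColimit.isColimit_eq_iff' (isColimitTypes D c hc) y
    (0 : (D.obj j).right)).mp (by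
      show (c.ι.app j).right.hom y = (c.ι.app j).right.hom 0
      rw [hy, map_zero])
  obtain ⟨k, g, hg⟩ := this
  refine ⟨k, g, ?_⟩
  have h0 : (D.map g).right.hom (0 : (D.obj j).right) = 0 := map_zero _
  rw [← h0]
  exact hg

/-- the structure maps of the diagram as a natural transformation. -/
def strNat : (Functor.const J).obj (CommRingCat.of R) ⟶ D ⋙ Under.forget (CommRingCat.of R) where
  app j := (D.obj j).hom
  naturality j k g := by
    simp only [Functor.const_obj_obj, Functor.const_obj_map, Category.id_comp,
      Functor.comp_obj, Under.forget_obj, Functor.comp_map, Under.forget_map]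
    exact (Under.w (D.map g)).symm

include hc in
lemma exists_factor {A : Type u} [CommRing A] [Algebra R A] [Algebra.FinitePresentation R A]
    (f : A →ₐ[R] c.pt.right) :
    ∃ (j : J) (f' : A →ₐ[R] (D.obj j).right), ∀ a, (c.ι.app j).right.hom (f' a) = f a := by
  have : IsConnected J := IsFiltered.isConnected _
  have hc1 := isColimitOfPreserves (Under.forget (CommRingCat.of R)) hc
  have hfp : (CommRingCat.ofHom (algebraMap R A)).hom.FinitePresentation := by
    rw [CommRingCat.hom_ofHom, RingHom.finitePresentation_algebraMap]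
    infer_instance
  obtain ⟨j, g', h1, h2⟩ := RingHom.EssFiniteType.exists_eq_comp_ι_app_of_isColimit
    (CommRingCat.of R) (D ⋙ Under.forget (CommRingCat.of R)) (strNat D)
    (CommRingCat.ofHom (algebraMap R A)) _ hc1 hfp (CommRingCat.ofHom f.toRingHom) (by
      intro i
      ext r
      show f (algebraMap R A r) = (c.ι.app i).right.hom ((D.obj i).hom.hom r)
      rw [f.commutes]
      exact (congrArg (fun t => t.hom r) (Under.w (c.ι.app i))).symm)
  refine ⟨j, ⟨g'.hom, fun r => ?_⟩, fun a => ?_⟩
  · exact congrArg (fun t => t.hom r) h1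
  · exact (congrArg (fun t => t.hom a) h2).symm

end Data

section Converse

lemma iso_hom_inv_apply {X Y : Under (CommRingCat.of R)} (iso : X ≅ Y) (y : Y.right) :
    iso.hom.right.hom (iso.inv.right.hom y) = y := by
  have := congrArg (fun t => t.right.hom y) iso.inv_hom_id
  exact this

lemma iso_inv_hom_apply {X Y : Under (CommRingCat.of R)} (iso : X ≅ Y) (x : X.right) :
    iso.inv.right.hom (iso.hom.right.hom x) = x := by
  have := congrArg (fun t => t.right.hom x) iso.hom_inv_id
  exact this

theorem HasPres.coveredByLocalIso (h : HasPres R B) : CoveredByLocalIso R B := by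
  obtain ⟨J, _, _, D, c, hc, hD, ⟨iso⟩⟩ := h
  intro b
  obtain ⟨j, y, hy⟩ := exists_rep D c hc (iso.inv.right.hom b)
  refine ⟨(D.obj j).right, inferInstance, underAlg (D.obj j), hD j,
    algHomOfUnder (c.ι.app j ≫ iso.hom), y, ?_⟩
  show iso.hom.right.hom ((c.ι.app j).right.hom y) = b
  rw [hy]
  exact iso_hom_inv_apply iso b

theorem HasPres.killsRelations (h : HasPres R B) : KillsRelations R B := by
  obtain ⟨J, _, _, D, c, hc, hD, ⟨iso⟩⟩ := h
  intro A _ _ _ f a ha
  let f0 : A →ₐ[R] c.pt.right :=
    { toRingHom := iso.inv.right.hom.comp f.toRingHom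
      commutes' := fun r => by
        show iso.inv.right.hom (f (algebraMap R A r)) = c.pt.hom.hom r
        rw [f.commutes]
        exact congrArg (fun t => t.hom r) (Under.w iso.inv) }
  have hf0 : ∀ x, f0 x = iso.inv.right.hom (f x) := fun x => rfl
  obtain ⟨j, f', hf'⟩ := exists_factor D c hc f0
  have h0 : (c.ι.app j).right.hom (f' a) = 0 := by
    rw [hf', hf0, ha, map_zero]
  obtain ⟨k, g, hg⟩ := exists_map_eq_zero D c hc (f' a) h0
  refine ⟨(D.obj k).right, inferInstance, underAlg (D.obj k), hD k,
    (algHomOfUnderHom (D.map g)).comp f', algHomOfUnder (c.ι.app k ≫ iso.hom), ?_, hg⟩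
  ext x
  show iso.hom.right.hom ((c.ι.app k).right.hom ((D.map g).right.hom (f' x))) = f x
  have hw : (c.ι.app k).right.hom ((D.map g).right.hom (f' x)) = (c.ι.app j).right.hom (f' x) :=
    congrArg (fun t => t.right.hom (f' x)) (c.w g)
  rw [hw, hf', hf0]
  exact iso_hom_inv_apply iso (f x)

/-- the presentation datum is equivalent to the element-level criterion. -/
theorem hasPres_iff : HasPres R B ↔ CoveredByLocalIso R B ∧ KillsRelations R B :=
  ⟨fun h => ⟨h.coveredByLocalIso, h.killsRelations⟩, fun h => exists_filtered_colimit h.1 h.2⟩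

end Converse

section FilteredColimit

variable {J : Type u} [SmallCategory J] [IsFiltered J] (D : J ⥤ Under (CommRingCat.of R))
  (c : Cocone D) (hc : IsColimit c)
  (iso : c.pt ≅ Under.mk (CommRingCat.ofHom (algebraMap R B)))

include hc iso in
theorem coveredByLocalIso_of_isColimit (hD : ∀ j, CoveredByLocalIso R (D.obj j).right) :
    CoveredByLocalIso R B := by
  intro b
  obtain ⟨j, y, hy⟩ := exists_rep D c hc (iso.inv.right.hom b)
  obtain ⟨A', _, _, _, f, x, hx⟩ := hD j y
  refine ⟨A', inferInstance, inferInstance, inferInstance,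
    (algHomOfUnder (c.ι.app j ≫ iso.hom)).comp f, x, ?_⟩
  show iso.hom.right.hom ((c.ι.app j).right.hom (f x)) = b
  have hx' : f x = y := hx
  rw [hx', hy]
  exact iso_hom_inv_apply iso b

include hc iso in
theorem killsRelations_of_isColimit (hD : ∀ j, KillsRelations R (D.obj j).right) :
    KillsRelations R B := by
  intro A _ _ _ f a ha
  let f0 : A →ₐ[R] c.pt.right :=
    { toRingHom := iso.inv.right.hom.comp f.toRingHom
      commutes' := fun r => by
        show iso.inv.right.hom (f (algebraMap R A r)) = c.pt.hom.hom r
        rw [f.commutes]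
        exact congrArg (fun t => t.hom r) (Under.w iso.inv) }
  have hf0 : ∀ x, f0 x = iso.inv.right.hom (f x) := fun x => rfl
  obtain ⟨j, f', hf'⟩ := exists_factor D c hc f0
  have h0 : (c.ι.app j).right.hom (f' a) = 0 := by
    rw [hf', hf0, ha, map_zero]
  obtain ⟨k, g, hg⟩ := exists_map_eq_zero D c hc (f' a) h0
  obtain ⟨A'', _, _, _, g', f''', hfg, hga⟩ :=
    hD k A ((algHomOfUnderHom (D.map g)).comp f') a hg
  refine ⟨A'', inferInstance, inferInstance, inferInstance, g',
    (algHomOfUnder (c.ι.app k ≫ iso.hom)).comp f''', ?_, hga⟩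
  ext x
  show iso.hom.right.hom ((c.ι.app k).right.hom (f''' (g' x))) = f x
  have h1 : f''' (g' x) = (D.map g).right.hom (f' x) := DFunLike.congr_fun hfg x
  have hw : (c.ι.app k).right.hom ((D.map g).right.hom (f' x)) = (c.ι.app j).right.hom (f' x) :=
    congrArg (fun t => t.right.hom (f' x)) (c.w g)
  rw [h1, hw, hf', hf0]
  exact iso_hom_inv_apply iso (f x)

include hc iso in
/-- a filtered colimit of algebras with presentations has a presentation. -/
theorem hasPres_of_isColimit (hD : ∀ j, HasPres R (D.obj j).right) : HasPres R B :=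
  exists_filtered_colimit
    (coveredByLocalIso_of_isColimit D c hc iso (fun j => (hD j).coveredByLocalIso))
    (killsRelations_of_isColimit D c hc iso (fun j => (hD j).killsRelations))

include hc iso in
/-- a filtered colimit of ind-Zariski algebras is ind-Zariski. -/
theorem isIndZariski_of_isColimit (hD : ∀ j, EtPBC.IsIndZariski R (D.obj j).right) :
    EtPBC.IsIndZariski R B :=
  hasPres_of_isColimit D c hc iso hD

end FilteredColimit

theorem isIndZariski_iff :
    EtPBC.IsIndZariski R B ↔ CoveredByLocalIso R B ∧ KillsRelations R B :=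
  hasPres_iff

end Groth.Agent.Lib.Helper82.IndZar
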