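import Groth.Agent.Lib.Helper82.BTIdentify
import Groth.Agent.Lib.Helper82.IndZarConv
import Mathlib.Order.Disjointed

set_option autoImplicit false
universe u

/-!
# `BT g` is ind-Zariski over `A`
-/

namespace Groth.Agent.Lib.Helper82.BT

open TopologicalSpace PrimeSpectrum Classical Topology


section Glue

variable {A B : Type u} [CommRing A] [CommRing B] [Algebra A B] {ι : Type} [Fintype ι]
  (ε : ι → B) (hε : CompleteOrthogonalIdempotents ε)

/-- the chinese remainder isomorphism attached to complete orthogonal idempotents. -/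
noncomputable def crt : B ≃ₐ[A] (∀ k, B ⧸ Ideal.span {1 - ε k}) :=
  AlgEquiv.ofBijective (AlgHom.pi (fun k => Ideal.Quotient.mkₐ A (Ideal.span {1 - ε k})))
    hε.bijective_pi

lemma crt_apply (b : B) (k : ι) : crt (A := A) ε hε b k = Ideal.Quotient.mk _ b := rfl

include hε in
theorem exists_glue (E : ι → Type u) [∀ k, CommRing (E k)] [∀ k, Algebra A (E k)]
    (ψ : ∀ k, E k →ₐ[A] B ⧸ Ideal.span {1 - ε k}) :
    ∃ Ψ : (∀ k, E k) →ₐ[A] B,
      ∀ y k, Ideal.Quotient.mk (Ideal.span {1 - ε k}) (Ψ y) = ψ k (y k) := by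
  refine ⟨((crt (A := A) ε hε).symm : _ →ₐ[A] B).comp
    (AlgHom.pi (fun k => (ψ k).comp (Pi.evalAlgHom A E k))), fun y k => ?_⟩
  rw [← crt_apply (A := A) ε hε]
  simp only [AlgHom.comp_apply, AlgEquiv.coe_toAlgHom, AlgEquiv.apply_symm_apply]
  rfl

include hε in
lemma eq_of_forall_mk_eq {b b' : B}
    (h : ∀ k, Ideal.Quotient.mk (Ideal.span {1 - ε k}) b = Ideal.Quotient.mk _ b') : b = b' :=
  hε.bijective_pi.1 (funext h)

end Glue



section Partition

variable {T : Type u} [TopologicalSpace T] [CompactSpace T]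

theorem exists_clopen_partition (U : T → Clopens T) (hU : ∀ t, t ∈ U t) :
    ∃ (n : ℕ) (P : Fin n → Clopens T) (s : Fin n → T),
      (∀ k l, k ≠ l → P k ⊓ P l = ⊥) ∧ (∀ t, ∃ k, t ∈ P k) ∧ ∀ k, P k ≤ U (s k) := by
  obtain ⟨t, ht⟩ := isCompact_univ.elim_finite_subcover (fun x => (U x : Set T))
    (fun x => (U x).isClopen.2) (fun x _ => Set.mem_iUnion.2 ⟨x, hU x⟩)
  let n := t.card
  let e : Fin n ≃ t := t.equivFin.symm
  let W : Fin n → Set T := fun k => U (e k)
  have hW : ∀ k, IsClopen (disjointed W k) := fun k =>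
    disjointedRec (p := IsClopen) (fun s i hs => hs.diff (U _).isClopen) (U _).isClopen
  refine ⟨n, fun k => ⟨disjointed W k, hW k⟩, fun k => e k, fun k l hkl => ?_, fun x => ?_,
    fun k => ?_⟩
  · apply SetLike.coe_injective
    show disjointed W k ∩ disjointed W l = ∅
    exact Set.disjoint_iff_inter_eq_empty.1 (disjoint_disjointed W hkl)
  · have hx : x ∈ ⋃ k, disjointed W k := by
      rw [iUnion_disjointed]
      obtain ⟨y, hy⟩ := Set.mem_iUnion.1 (ht (Set.mem_univ x))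
      obtain ⟨hyt, hxy⟩ := Set.mem_iUnion.1 hy
      exact Set.mem_iUnion.2 ⟨e.symm ⟨y, hyt⟩, by simpa [W] using hxy⟩
    obtain ⟨k, hk⟩ := Set.mem_iUnion.1 hx
    exact ⟨k, hk⟩
  · intro x hx
    exact disjointed_subset W k hx

end Partition

section COI

variable {A : Type u} [CommRing A] {T : Type u} [TopologicalSpace T]
  (g : C(T, ConnectedComponents (PrimeSpectrum A)))

lemma e_mono_mul {U V : Clopens T} (h : U ≤ V) : e g U * e g V = e g U := by
  rw [← e_inf, inf_eq_left.2 h]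

lemma prod_one_sub_e {ι : Type} (s : Finset ι) (P : ι → Clopens T) :
    ∏ k ∈ s, (1 - e g (P k)) = e g (s.inf fun k => (P k)ᶜ) := by
  induction s using Finset.induction_on with
  | empty => rw [Finset.prod_empty, Finset.inf_empty, e_top]
  | insert k s hk ih => rw [Finset.prod_insert hk, Finset.inf_insert, e_inf, ih, e_compl]

theorem completeOrthogonalIdempotents_e {n : ℕ} (P : Fin n → Clopens T)
    (hdisj : ∀ k l, k ≠ l → P k ⊓ P l = ⊥) (hcov : ∀ t, ∃ k, t ∈ P k) :
    CompleteOrthogonalIdempotents (fun k => e g (P k)) := by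
  refine CompleteOrthogonalIdempotents.of_prod_one_sub ⟨fun k => e_idem (P k), fun k l hkl => ?_⟩ ?_
  · show e g (P k) * e g (P l) = 0
    rw [← e_inf, hdisj k l hkl, e_bot]
  · rw [prod_one_sub_e]
    have : (Finset.univ.inf fun k => (P k)ᶜ) = (⊥ : Clopens T) := by
      rw [eq_bot_iff]
      intro t ht
      obtain ⟨k, hk⟩ := hcov t
      have hle : (Finset.univ.inf fun k => (P k)ᶜ) ≤ (P k)ᶜ :=
        Finset.inf_le (f := fun k => (P k)ᶜ) (Finset.mem_univ k)
      exact (hle ht hk).elim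
    rw [this, e_bot]

lemma mem_span_one_sub_of_mul_eq_zero {U V : Clopens T} (hUV : U ≤ V) {z : BT g}
    (h : e g V * z = 0) : z ∈ Ideal.span {1 - e g U} := by
  rw [Ideal.mem_span_singleton']
  refine ⟨z, ?_⟩
  have h1 : e g U * z = 0 := by
    rw [← e_mono_mul g hUV, mul_assoc, h, mul_zero]
  rw [mul_sub, mul_one, mul_comm, h1, sub_zero]

end COI



section Factor

attribute [local instance] IndZar.underAlg

variable {A : Type u} [CommRing A] (c : ConnectedComponents (PrimeSpectrum A))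
  {E : Type u} [CommRing E] [Algebra A E] [Algebra.FinitePresentation A E]

lemma idemIdeal_le_Ic (a : IndZar.IdemIdx A (fibre c)) : IndZar.idemIdeal A (fibre c) a ≤ Ic c :=
  le_iSup (IndZar.idemIdeal A (fibre c)) a

theorem exists_factor_Ic (f : E →ₐ[A] A ⧸ Ic c) (x : E) (hx : f x = 0) :
    ∃ (a : IndZar.IdemIdx A (fibre c)) (δ : E →ₐ[A] A ⧸ IndZar.idemIdeal A (fibre c) a),
      (Ideal.Quotient.factorₐ A (idemIdeal_le_Ic c a)).comp δ = f ∧ δ x = 0 := by
  let I := IndZar.idemIdeal A (fibre c)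
  have hI : Monotone I := IndZar.idemIdeal_mono A (fibre c)
  have : CategoryTheory.IsFiltered (IndZar.IdemIdx A (fibre c)) :=
    CategoryTheory.isFiltered_of_directed_le_nonempty _
  let f₁ : @AlgHom A E (IndZar.quotCocone I hI).pt.right _ _ _ _
      (IndZar.underAlg (IndZar.quotCocone I hI).pt) :=
    @AlgHom.mk A E (IndZar.quotCocone I hI).pt.right _ _ _ _
      (IndZar.underAlg (IndZar.quotCocone I hI).pt) f.toRingHom (fun r => f.commutes r)
  obtain ⟨a₀, f', hf'⟩ := @IndZar.exists_factor A _ _ _ _ (IndZar.quotDiag I hI)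
    (IndZar.quotCocone I hI) (IndZar.isColimitQuotCocone I hI) E _ _ _ f₁
  let f'' : E →ₐ[A] A ⧸ I a₀ := AlgHom.mk f'.toRingHom (fun r => f'.commutes r)
  have hf'' : ∀ y, Ideal.Quotient.factorₐ A (idemIdeal_le_Ic c a₀) (f'' y) = f y := fun y => hf' y
  obtain ⟨r, hr⟩ := Ideal.Quotient.mk_surjective (f'' x)
  have hr0 : r ∈ Ic c := by
    have h1 := hf'' x
    rw [hx, ← hr] at h1
    exact Ideal.Quotient.eq_zero_iff_mem.1 h1
  have hr1 : r ∈ ⨆ a, I a := hr0
  rw [Submodule.mem_iSup_of_directed _ hI.directed_le] at hr1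
  obtain ⟨a₁, ha₁⟩ := hr1
  obtain ⟨a₂, h02, h12⟩ := exists_ge_ge a₀ a₁
  refine ⟨a₂, (Ideal.Quotient.factorₐ A (hI h02)).comp f'', ?_, ?_⟩
  · ext y
    rw [← hf'' y]
    obtain ⟨z, hz⟩ := Ideal.Quotient.mk_surjective (f'' y)
    simp only [AlgHom.comp_apply]
    rw [← hz]
    rfl
  · rw [AlgHom.comp_apply, ← hr]
    exact Ideal.Quotient.eq_zero_iff_mem.2 (hI h12 ha₁)

end Factor

section Point

variable {A : Type u} [CommRing A] {T : Type u} [TopologicalSpace T]
  [CompactSpace T] [T2Space T] [TotallyDisconnectedSpace T]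
  (g : C(T, ConnectedComponents (PrimeSpectrum A)))
  {E : Type u} [CommRing E] [Algebra A E] [Algebra.FinitePresentation A E]

theorem exists_local_factor (φ : E →ₐ[A] BT g) (x : E) (hx : φ x = 0) (t : T) :
    ∃ (a : A) (_ : IsIdempotentElem a) (δ : E →ₐ[A] A ⧸ Ideal.span {1 - a}) (U : Clopens T)
      (ψ : A ⧸ Ideal.span {1 - a} →ₐ[A] BT g ⧸ Ideal.span {1 - e g U}),
      t ∈ U ∧ δ x = 0 ∧ ψ.comp δ = (Ideal.Quotient.mkₐ A (Ideal.span {1 - e g U})).comp φ := by
  have hfx : ((theta g t).comp φ) x = 0 := by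
    rw [AlgHom.comp_apply, hx, map_zero]
  obtain ⟨a, δ, hδ, hδx⟩ := exists_factor_Ic (g t) ((theta g t).comp φ) x hfx
  let U₀ : Clopens T := G g ⟨a.1, a.2.1⟩
  have htU₀ : t ∈ U₀ := (mem_G_iff g ⟨a.1, a.2.1⟩ t).2 a.2.2
  obtain ⟨s, hs⟩ := (Algebra.FiniteType.out : (⊤ : Subalgebra A E).FG)
  have key : ∀ y : E, ∃ (r : A) (V : Clopens T),
      Ideal.Quotient.mk (Ideal.span {1 - a.1}) r = δ y ∧ t ∈ V ∧
        e g V * (φ y - algebraMap A (BT g) r) = 0 := by
    intro y
    obtain ⟨r, hr⟩ := Ideal.Quotient.mk_surjective (δ y)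
    have h1 : φ y - algebraMap A (BT g) r ∈ K g t := by
      apply ker_le_K g t
      rw [RingHom.mem_ker]
      show theta g t (φ y - algebraMap A (BT g) r) = 0
      rw [map_sub, AlgHom.commutes]
      have h2 := DFunLike.congr_fun hδ y
      rw [AlgHom.comp_apply, AlgHom.comp_apply, ← hr] at h2
      rw [← h2]
      exact sub_self _
    obtain ⟨V, hV, hVz⟩ := exists_clopen_mul_eq_zero g t h1
    exact ⟨r, V, hr, hV, hVz⟩
  choose r V hr hV hVz using key
  let U : Clopens T := U₀ ⊓ s.inf V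
  have htU : t ∈ U := by
    refine (mem_inf_iff' t).2 ⟨htU₀, ?_⟩
    exact Finset.inf_induction (p := fun W : Clopens T => t ∈ W) (Set.mem_univ t)
      (fun W₁ h₁ W₂ h₂ => (mem_inf_iff' t).2 ⟨h₁, h₂⟩) (fun y _ => hV y)
  have hUU₀ : U ≤ U₀ := inf_le_left
  have hUV : ∀ y ∈ s, U ≤ V y := fun y hy => inf_le_right.trans (Finset.inf_le hy)
  have hkill : ∀ r ∈ Ideal.span {1 - a.1},
      Algebra.ofId A (BT g ⧸ Ideal.span {1 - e g U}) r = 0 := by
    have hle : Ideal.span {1 - a.1} ≤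
        RingHom.ker (algebraMap A (BT g ⧸ Ideal.span {1 - e g U})) := by
      rw [Ideal.span_le, Set.singleton_subset_iff, SetLike.mem_coe, RingHom.mem_ker]
      show Ideal.Quotient.mk _ (algebraMap A (BT g) (1 - a.1)) = 0
      rw [Ideal.Quotient.eq_zero_iff_mem, map_sub, map_one,
        ← e_compat (g := g) ⟨a.1, a.2.1⟩]
      apply mem_span_one_sub_of_mul_eq_zero g hUU₀
      show e g U₀ * (1 - e g U₀) = 0
      rw [mul_sub, mul_one, e_idem, sub_self]
    intro r hr
    exact RingHom.mem_ker.1 (hle hr)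
  refine ⟨a.1, a.2.1, δ, U, Ideal.Quotient.liftₐ (Ideal.span {1 - a.1})
    (Algebra.ofId A (BT g ⧸ Ideal.span {1 - e g U})) hkill, htU, hδx, ?_⟩
  refine AlgHom.ext_of_adjoin_eq_top hs fun y hy => ?_
  show Ideal.Quotient.liftₐ (Ideal.span {1 - a.1})
    (Algebra.ofId A (BT g ⧸ Ideal.span {1 - e g U})) hkill (δ y) =
      Ideal.Quotient.mk (Ideal.span {1 - e g U}) (φ y)
  rw [← hr y]
  show Ideal.Quotient.mk (Ideal.span {1 - e g U}) (algebraMap A (BT g) (r y)) =
    Ideal.Quotient.mk (Ideal.span {1 - e g U}) (φ y)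
  rw [eq_comm, Ideal.Quotient.eq]
  exact mem_span_one_sub_of_mul_eq_zero g (hUV y hy) (hVz y)

end Point

section Crit

variable {A : Type u} [CommRing A] {T : Type u} [TopologicalSpace T]
  [CompactSpace T] [T2Space T] [TotallyDisconnectedSpace T]
  (g : C(T, ConnectedComponents (PrimeSpectrum A)))

lemma span_one_sub_le {U V : Clopens T} (hUV : U ≤ V) :
    Ideal.span {1 - e g V} ≤ Ideal.span {1 - e g U} := by
  rw [Ideal.span_le, Set.singleton_subset_iff, SetLike.mem_coe]
  apply mem_span_one_sub_of_mul_eq_zero g hUV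
  rw [mul_sub, mul_one, e_idem, sub_self]

lemma isLocalIso_quotient_idem {a : A} (ha : IsIdempotentElem a) :
    Algebra.IsLocalIso A (A ⧸ Ideal.span {1 - a}) := by
  have : IsLocalization.Away a (A ⧸ Ideal.span {1 - a}) :=
    IsLocalization.Away.quotient_of_isIdempotentElem ha
  have : Algebra.IsStandardOpenImmersion A (A ⧸ Ideal.span {1 - a}) := ⟨a, this⟩
  infer_instance

theorem killsRelations_BT : IndZar.KillsRelations A (BT g) := by
  intro E _ _ _ φ x hx
  have : Algebra.FinitePresentation A E := IndZar.finitePresentation_of_isLocalIso A E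
  choose a ha δ U ψ htU hδx hψδ using exists_local_factor g φ x hx
  obtain ⟨n, P, s, hdisj, hcov, hPU⟩ := exists_clopen_partition U htU
  have hε := completeOrthogonalIdempotents_e g P hdisj hcov
  obtain ⟨Ψ, hΨ⟩ := exists_glue (A := A) (fun k => e g (P k)) hε
    (fun k => A ⧸ Ideal.span {1 - a (s k)})
    (fun k => (Ideal.Quotient.factorₐ A (span_one_sub_le g (hPU k))).comp (ψ (s k)))
  have hloc : ∀ k, Algebra.IsLocalIso A (A ⧸ Ideal.span {1 - a (s k)}) := fun k =>
    isLocalIso_quotient_idem (ha (s k))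
  refine ⟨∀ k, A ⧸ Ideal.span {1 - a (s k)}, inferInstance, inferInstance,
    Algebra.IsLocalIso.pi_of_finite A _, AlgHom.pi (fun k => δ (s k)), Ψ, ?_, ?_⟩
  · ext y
    apply eq_of_forall_mk_eq _ hε
    intro k
    rw [AlgHom.comp_apply, hΨ]
    show Ideal.Quotient.factorₐ A (span_one_sub_le g (hPU k)) (ψ (s k) (δ (s k) y)) = _
    have h1 := DFunLike.congr_fun (hψδ (s k)) y
    rw [AlgHom.comp_apply] at h1
    rw [h1]
    rfl
  · ext k
    exact hδx (s k)

theorem coveredByLocalIso_BT : IndZar.CoveredByLocalIso A (BT g) := by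
  intro b
  have key : ∀ t, ∃ (r : A) (U : Clopens T), t ∈ U ∧ e g U * (b - algebraMap A (BT g) r) = 0 := by
    intro t
    obtain ⟨r, hr⟩ := exists_rep g t b
    obtain ⟨U, hU, hUz⟩ := exists_clopen_mul_eq_zero g t hr
    exact ⟨r, U, hU, hUz⟩
  choose r U htU hUz using key
  obtain ⟨n, P, s, hdisj, hcov, hPU⟩ := exists_clopen_partition U htU
  have hε := completeOrthogonalIdempotents_e g P hdisj hcov
  obtain ⟨Ψ, hΨ⟩ := exists_glue (A := A) (fun k => e g (P k)) hε
    (fun _ => A) (fun k => Algebra.ofId A _)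
  refine ⟨Fin n → A, inferInstance, inferInstance, Algebra.IsLocalIso.pi_of_finite A _, Ψ,
    ⟨fun k => r (s k), ?_⟩⟩
  show Ψ (fun k => r (s k)) = b
  apply eq_of_forall_mk_eq _ hε
  intro k
  rw [hΨ]
  show Ideal.Quotient.mk _ (algebraMap A (BT g) (r (s k))) = _
  rw [eq_comm, Ideal.Quotient.eq]
  exact mem_span_one_sub_of_mul_eq_zero g (hPU k) (hUz (s k))

theorem isIndZariski_BT : EtPBC.IsIndZariski A (BT g) :=
  IndZar.isIndZariski_of_criterion (coveredByLocalIso_BT g) (killsRelations_BT g)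

end Crit

end Groth.Agent.Lib.Helper82.BT
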