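import Groth.Agent.Lib.Helper82.IndZarIdem

set_option autoImplicit false
universe u

namespace Groth.Agent.Lib.Helper82.BT

open TopologicalSpace PrimeSpectrum

section Pre

variable {X : Type*} [TopologicalSpace X]

theorem preimage_image_mk_of_isClopen {U : Set X} (hU : IsClopen U) :
    (ConnectedComponents.mk : X → ConnectedComponents X) ⁻¹' (ConnectedComponents.mk '' U) = U :=
  (connectedComponents_preimage_image U).symm ▸ hU.biUnion_connectedComponent_eq

theorem isClopen_image_mk {U : Set X} (hU : IsClopen U) :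
    IsClopen ((ConnectedComponents.mk : X → ConnectedComponents X) '' U) := by
  rw [← ConnectedComponents.isQuotientMap_coe.isClopen_preimage]
  have := preimage_image_mk_of_isClopen hU
  rw [this]
  exact hU

/-- the fibre of `mk` over a component. -/
def fibre (c : ConnectedComponents X) : Set X := ConnectedComponents.mk ⁻¹' {c}

theorem fibre_nonempty (c : ConnectedComponents X) : (fibre c).Nonempty := by
  obtain ⟨x, rfl⟩ := ConnectedComponents.surjective_coe c
  exact ⟨x, rfl⟩

theorem fibre_subset_or_disjoint {U : Set X} (hU : IsClopen U) (c : ConnectedComponents X) :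
    fibre c ⊆ U ∨ fibre c ⊆ Uᶜ := by
  obtain ⟨x, rfl⟩ := ConnectedComponents.surjective_coe c
  have hf : fibre (ConnectedComponents.mk x) = connectedComponent x :=
    connectedComponents_preimage_singleton
  rw [hf]
  by_cases hx : x ∈ U
  · exact Or.inl (hU.connectedComponent_subset hx)
  · exact Or.inr (hU.compl.connectedComponent_subset hx)

theorem mem_image_mk_iff {U : Set X} (hU : IsClopen U) (c : ConnectedComponents X) :
    c ∈ (ConnectedComponents.mk : X → ConnectedComponents X) '' U ↔ fibre c ⊆ U := by
  constructor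
  · rintro ⟨x, hx, rfl⟩
    have hf : fibre (ConnectedComponents.mk x) = connectedComponent x :=
      connectedComponents_preimage_singleton
    rw [hf]
    exact hU.connectedComponent_subset hx
  · intro h
    obtain ⟨x, hx⟩ := fibre_nonempty c
    exact ⟨x, h hx, hx⟩

theorem not_mem_image_mk_iff {U : Set X} (hU : IsClopen U) (c : ConnectedComponents X) :
    c ∉ (ConnectedComponents.mk : X → ConnectedComponents X) '' U ↔ fibre c ⊆ Uᶜ := by
  rw [mem_image_mk_iff hU]
  constructor
  · intro h
    exact (fibre_subset_or_disjoint hU c).resolve_left h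
  · intro h h'
    obtain ⟨x, hx⟩ := fibre_nonempty c
    exact h hx (h' hx)

end Pre

section G

variable {A : Type u} [CommRing A] {T : Type u} [TopologicalSpace T]
  (g : C(T, ConnectedComponents (PrimeSpectrum A)))

/-- the clopen subset of `T` attached to an idempotent of `A`. -/
def G (a : {a : A // IsIdempotentElem a}) : Clopens T :=
  ⟨g ⁻¹' (ConnectedComponents.mk '' (basicOpen a.1 : Set (PrimeSpectrum A))),
    (isClopen_image_mk (PrimeSpectrum.isClopen_iff.2 ⟨a.1, a.2, rfl⟩)).preimage g.continuous⟩

theorem mem_G_iff (a : {a : A // IsIdempotentElem a}) (t : T) :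
    t ∈ G g a ↔ fibre (g t) ⊆ (basicOpen a.1 : Set (PrimeSpectrum A)) :=
  mem_image_mk_iff (PrimeSpectrum.isClopen_iff.2 ⟨a.1, a.2, rfl⟩) (g t)

theorem not_mem_G_iff (a : {a : A // IsIdempotentElem a}) (t : T) :
    t ∉ G g a ↔ fibre (g t) ⊆ (basicOpen (1 - a.1) : Set (PrimeSpectrum A)) := by
  have h1 : t ∉ G g a ↔ fibre (g t) ⊆ (basicOpen a.1 : Set (PrimeSpectrum A))ᶜ :=
    not_mem_image_mk_iff (PrimeSpectrum.isClopen_iff.2 ⟨a.1, a.2, rfl⟩) (g t)
  rw [h1]
  have h2 : ((basicOpen a.1 : Set (PrimeSpectrum A)))ᶜ = (basicOpen (1 - a.1) : Set _) := by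
    rw [basicOpen_eq_zeroLocus_of_isIdempotentElem _ a.2,
      basicOpen_eq_zeroLocus_of_isIdempotentElem _ a.2.one_sub, sub_sub_cancel]
    ext x
    simp only [Set.mem_compl_iff, mem_zeroLocus, Set.singleton_subset_iff, SetLike.mem_coe]
    constructor
    · intro h
      have h0 : a.1 * (1 - a.1) ∈ x.asIdeal := by
        rw [mul_sub, mul_one, a.2.eq, sub_self]
        exact Ideal.zero_mem _
      exact (x.2.mem_or_mem h0).resolve_right h
    · intro h h'
      have := Ideal.add_mem _ h h'
      rw [add_sub_cancel] at this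
      exact x.2.ne_top ((Ideal.eq_top_iff_one _).2 this)
  rw [h2]

end G

end Groth.Agent.Lib.Helper82.BT
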