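import Groth.Agent.Lib.Helper82.BTFibre
import Mathlib.Topology.Separation.Profinite

set_option autoImplicit false
universe u

namespace Groth.Agent.Lib.Helper82.BT

open TopologicalSpace PrimeSpectrum Classical

section Prime

variable {A : Type u} [CommRing A] {T : Type u} [TopologicalSpace T]
  {g : C(T, ConnectedComponents (PrimeSpectrum A))}
  (𝔮 : Ideal (BT g)) [h𝔮 : 𝔮.IsPrime]

include h𝔮 in
lemma e_compl_mem_iff (U : Clopens T) : e g Uᶜ ∈ 𝔮 ↔ e g U ∉ 𝔮 := by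
  constructor
  · intro h1 h2
    have := 𝔮.add_mem h1 h2
    rw [e_compl, sub_add_cancel] at this
    exact h𝔮.ne_top ((Ideal.eq_top_iff_one _).2 this)
  · intro h
    have h0 : e g U * e g Uᶜ ∈ 𝔮 := by
      rw [e_mul_compl]
      exact 𝔮.zero_mem
    exact (h𝔮.mem_or_mem h0).resolve_left h

include h𝔮 in
lemma e_finsetInf_notMem (s : Finset (Clopens T)) (hs : ∀ U ∈ s, e g U ∉ 𝔮) :
    e g (s.inf id) ∉ 𝔮 := by
  induction s using Finset.induction_on with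
  | empty =>
    rw [Finset.inf_empty, e_top]
    exact (Ideal.ne_top_iff_one 𝔮).1 h𝔮.ne_top
  | insert U s _ ih =>
    rw [Finset.inf_insert, id, e_inf]
    exact h𝔮.mul_notMem (hs U (Finset.mem_insert_self U s))
      (ih fun V hV => hs V (Finset.mem_insert_of_mem hV))

variable [CompactSpace T] [T2Space T] [TotallyDisconnectedSpace T]

include h𝔮 in
theorem exists_point : ∃ t : T, ∀ U : Clopens T, t ∈ U ↔ e g U ∉ 𝔮 := by
  let F := {U : Clopens T // e g U ∉ 𝔮}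
  have hne : (Set.univ ∩ ⋂ U : F, (U.1 : Set T)).Nonempty := by
    refine isCompact_univ.inter_iInter_nonempty (fun U : F => (U.1 : Set T))
      (fun U => U.1.isClopen.1) fun s => ?_
    have h1 : e g ((s.image Subtype.val).inf id) ∉ 𝔮 := by
      refine e_finsetInf_notMem 𝔮 _ fun U hU => ?_
      obtain ⟨V, -, rfl⟩ := Finset.mem_image.1 hU
      exact V.2
    have h2 : ((s.image Subtype.val).inf id : Clopens T) ≠ ⊥ := by
      intro h
      rw [h, e_bot] at h1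
      exact h1 𝔮.zero_mem
    have h3 : (((s.image Subtype.val).inf id : Clopens T) : Set T).Nonempty := by
      rw [Set.nonempty_iff_ne_empty]
      intro h
      exact h2 (SetLike.coe_injective (by rw [h]; rfl))
    obtain ⟨t, ht⟩ := h3
    refine ⟨t, Set.mem_univ t, ?_⟩
    rw [Set.mem_iInter₂]
    intro U hU
    have hle : ((s.image Subtype.val).inf id : Clopens T) ≤ U.1 :=
      Finset.inf_le (f := id) (Finset.mem_image_of_mem Subtype.val hU)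
    exact hle ht
  obtain ⟨t, -, ht⟩ := hne
  rw [Set.mem_iInter] at ht
  refine ⟨t, fun U => ⟨fun hU hmem => ?_, fun hU => ht ⟨U, hU⟩⟩⟩
  have h1 : e g Uᶜ ∉ 𝔮 := fun h => (e_compl_mem_iff 𝔮 U).1 h hmem
  have h2 : t ∈ ((Uᶜ : Clopens T) : Set T) := ht ⟨Uᶜ, h1⟩
  exact h2 hU

omit h𝔮 in
theorem point_unique {t t' : T} (h : ∀ U : Clopens T, t ∈ U ↔ t' ∈ U) : t = t' := by
  by_contra hne
  obtain ⟨U, hU, htU, ht'U⟩ := exists_isClopen_of_totally_separated hne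
  exact ht'U ((h ⟨U, hU⟩).1 htU)

/-- the point of `T` attached to a prime. -/
noncomputable def tOf : T := (exists_point 𝔮).choose

lemma mem_iff_e_notMem (U : Clopens T) : tOf 𝔮 ∈ U ↔ e g U ∉ 𝔮 :=
  (exists_point 𝔮).choose_spec U

lemma tOf_eq {t : T} (h : ∀ U : Clopens T, t ∈ U ↔ e g U ∉ 𝔮) : tOf 𝔮 = t :=
  point_unique fun U => (mem_iff_e_notMem 𝔮 U).trans (h U).symm

/-- the contraction to `A`. -/
noncomputable def yOf : Ideal A := 𝔮.comap (algebraMap A (BT g))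

omit h𝔮 [CompactSpace T] [T2Space T] [TotallyDisconnectedSpace T] in
lemma mem_yOf {a : A} : a ∈ yOf 𝔮 ↔ algebraMap A (BT g) a ∈ 𝔮 := Iff.rfl

instance : (yOf 𝔮).IsPrime := Ideal.comap_isPrime _ _

lemma K_tOf_le : K g (tOf 𝔮) ≤ 𝔮 := by
  unfold K
  rw [Ideal.span_le]
  rintro _ ⟨U, rfl⟩
  show e g U - chi (tOf 𝔮) (BT g) U ∈ 𝔮
  by_cases hU : tOf 𝔮 ∈ U
  · rw [chi_of_mem _ hU, ← neg_sub, neg_mem_iff, ← e_compl]
    exact (e_compl_mem_iff 𝔮 U).2 ((mem_iff_e_notMem 𝔮 U).1 hU)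
  · rw [chi_of_notMem _ hU, sub_zero]
    by_contra h
    exact hU ((mem_iff_e_notMem 𝔮 U).2 h)

lemma mem_iff_of_rep {z : BT g} {a : A} (h : z - algebraMap A (BT g) a ∈ K g (tOf 𝔮)) :
    z ∈ 𝔮 ↔ a ∈ yOf 𝔮 := by
  have h1 : z - algebraMap A (BT g) a ∈ 𝔮 := K_tOf_le 𝔮 h
  constructor
  · intro hz
    have := 𝔮.sub_mem hz h1
    rwa [sub_sub_cancel] at this
  · intro ha
    have := 𝔮.add_mem h1 ha
    rwa [sub_add_cancel] at this

theorem le_of_tOf_eq_of_yOf_le (𝔮' : Ideal (BT g)) [𝔮'.IsPrime]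
    (ht : tOf 𝔮 = tOf 𝔮') (hy : yOf 𝔮 ≤ yOf 𝔮') : 𝔮 ≤ 𝔮' := by
  intro z hz
  obtain ⟨a, h⟩ := exists_rep g (tOf 𝔮) z
  have ha := (mem_iff_of_rep 𝔮 h).1 hz
  have h' : z - algebraMap A (BT g) a ∈ K g (tOf 𝔮') := ht ▸ h
  exact (mem_iff_of_rep 𝔮' h').2 (hy ha)

theorem eq_of_tOf_eq_of_yOf_eq (𝔮' : Ideal (BT g)) [𝔮'.IsPrime]
    (ht : tOf 𝔮 = tOf 𝔮') (hy : yOf 𝔮 = yOf 𝔮') : 𝔮 = 𝔮' :=
  le_antisymm (le_of_tOf_eq_of_yOf_le 𝔮 𝔮' ht hy.le) (le_of_tOf_eq_of_yOf_le 𝔮' 𝔮 ht.symm hy.ge)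

lemma Ic_le_yOf : Ic (g (tOf 𝔮)) ≤ yOf 𝔮 := by
  intro r hr
  rw [mem_yOf]
  have h1 : algebraMap A (BT g ⧸ K g (tOf 𝔮)) r = 0 := Ic_le_ker_quot g (tOf 𝔮) r hr
  have h2 : algebraMap A (BT g) r ∈ K g (tOf 𝔮) := Ideal.Quotient.eq_zero_iff_mem.1 h1
  exact K_tOf_le 𝔮 h2

lemma mk_yOf_eq : ConnectedComponents.mk (⟨yOf 𝔮, inferInstance⟩ : PrimeSpectrum A) = g (tOf 𝔮) :=
  (Ic_le_iff (g (tOf 𝔮)) ⟨yOf 𝔮, inferInstance⟩).1 (Ic_le_yOf 𝔮)

end Prime

section Exists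

variable {A : Type u} [CommRing A] {T : Type u} [TopologicalSpace T]
  [CompactSpace T] [T2Space T] [TotallyDisconnectedSpace T]
  (g : C(T, ConnectedComponents (PrimeSpectrum A)))
  (y : PrimeSpectrum A) (t : T) (h : ConnectedComponents.mk y = g t)

/-- the point map to `A ⧸ y`. -/
noncomputable def rho : BT g →ₐ[A] A ⧸ y.asIdeal :=
  pt g t (S := A ⧸ y.asIdeal) (fun r hr =>
    Ideal.Quotient.eq_zero_iff_mem.2 ((Ic_le_iff (g t) y).2 h hr))

/-- the prime attached to a point of the fibre product. -/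
noncomputable def qOf : Ideal (BT g) := RingHom.ker (rho g y t h).toRingHom

instance : (qOf g y t h).IsPrime := RingHom.ker_isPrime _

lemma tOf_qOf : tOf (qOf g y t h) = t := by
  apply tOf_eq
  intro U
  show t ∈ U ↔ ¬ (rho g y t h (e g U) = 0)
  unfold rho
  rw [pt_e]
  by_cases hU : t ∈ U
  · rw [chi_of_mem t hU]
    exact ⟨fun _ => one_ne_zero, fun _ => hU⟩
  · rw [chi_of_notMem t hU]
    exact ⟨fun h' => (hU h').elim, fun h' => (h' rfl).elim⟩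

lemma yOf_qOf : yOf (qOf g y t h) = y.asIdeal := by
  ext a
  rw [mem_yOf]
  show rho g y t h (algebraMap A (BT g) a) = 0 ↔ a ∈ y.asIdeal
  rw [AlgHom.commutes]
  exact Ideal.Quotient.eq_zero_iff_mem

end Exists

end Groth.Agent.Lib.Helper82.BT
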