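import Groth.Agent.Lib.Helper82.BTPrime

set_option autoImplicit false
universe u

namespace Groth.Agent.Lib.Helper82.BT

open TopologicalSpace PrimeSpectrum Classical Topology

section Top

variable {A : Type u} [CommRing A] {T : Type u} [TopologicalSpace T]
  [CompactSpace T] [T2Space T] [TotallyDisconnectedSpace T]
  (g : C(T, ConnectedComponents (PrimeSpectrum A)))

/-- the map to `T`. -/
noncomputable def tau (𝔮 : PrimeSpectrum (BT g)) : T := tOf 𝔮.asIdeal

lemma tau_preimage (U : Clopens T) :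
    tau g ⁻¹' (U : Set T) = (basicOpen (e g U) : Set (PrimeSpectrum (BT g))) := by
  ext 𝔮
  exact mem_iff_e_notMem 𝔮.asIdeal U

lemma continuous_tau : Continuous (tau g) := by
  rw [(isTopologicalBasis_isClopen (X := T)).continuous_iff]
  intro U hU
  have := tau_preimage g ⟨U, hU⟩
  rw [show ((⟨U, hU⟩ : Clopens T) : Set T) = U from rfl] at this
  rw [this]
  exact (basicOpen _).2

/-- the map to the product. -/
noncomputable def Phi (𝔮 : PrimeSpectrum (BT g)) : PrimeSpectrum A × T :=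
  (PrimeSpectrum.comap (algebraMap A (BT g)) 𝔮, tau g 𝔮)

lemma continuous_Phi : Continuous (Phi g) :=
  (PrimeSpectrum.continuous_comap _).prodMk (continuous_tau g)

lemma Phi_injective : Function.Injective (Phi g) := by
  intro 𝔮 𝔮' h
  have h1 : yOf 𝔮.asIdeal = yOf 𝔮'.asIdeal := congrArg (fun p => p.1.asIdeal) h
  have h2 : tOf 𝔮.asIdeal = tOf 𝔮'.asIdeal := congrArg Prod.snd h
  exact PrimeSpectrum.ext (eq_of_tOf_eq_of_yOf_eq _ _ h2 h1)

lemma range_Phi :
    Set.range (Phi g) = {p : PrimeSpectrum A × T | ConnectedComponents.mk p.1 = g p.2} := by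
  ext ⟨y, t⟩
  constructor
  · rintro ⟨𝔮, h⟩
    have h1 := mk_yOf_eq 𝔮.asIdeal
    have h2 : PrimeSpectrum.comap (algebraMap A (BT g)) 𝔮 = y := congrArg Prod.fst h
    have h3 : tOf 𝔮.asIdeal = t := congrArg Prod.snd h
    show ConnectedComponents.mk y = g t
    rw [← h2, ← h3]
    exact h1
  · intro h
    refine ⟨⟨qOf g y t h, inferInstance⟩, ?_⟩
    refine Prod.ext (PrimeSpectrum.ext (yOf_qOf g y t h)) (tOf_qOf g y t h)

/-- elements of `K t` are killed by the idempotent of a clopen neighbourhood of `t`. -/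
lemma exists_clopen_mul_eq_zero (t : T) {z : BT g} (hz : z ∈ K g t) :
    ∃ U : Clopens T, t ∈ U ∧ e g U * z = 0 := by
  unfold K at hz
  induction hz using Submodule.span_induction with
  | mem z hz =>
    obtain ⟨V, rfl⟩ := hz
    by_cases hV : t ∈ V
    · refine ⟨V, hV, ?_⟩
      show e g V * (e g V - chi t (BT g) V) = 0
      rw [chi_of_mem t hV, mul_sub, e_idem, mul_one, sub_self]
    · refine ⟨Vᶜ, (mem_compl_iff' t).2 hV, ?_⟩
      show e g Vᶜ * (e g V - chi t (BT g) V) = 0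
      rw [chi_of_notMem t hV, sub_zero, mul_comm, e_mul_compl]
  | zero => exact ⟨⊤, Set.mem_univ t, mul_zero _⟩
  | add z z' _ _ hz hz' =>
    obtain ⟨U, hU, hUz⟩ := hz
    obtain ⟨U', hU', hUz'⟩ := hz'
    refine ⟨U ⊓ U', (mem_inf_iff' t).2 ⟨hU, hU'⟩, ?_⟩
    rw [e_inf, mul_add, mul_right_comm, hUz, zero_mul, mul_assoc, hUz', mul_zero, add_zero]
  | smul r z _ hz =>
    obtain ⟨U, hU, hUz⟩ := hz
    refine ⟨U, hU, ?_⟩
    rw [smul_eq_mul, mul_left_comm, hUz, mul_zero]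

lemma isInducing_Phi : IsInducing (Phi g) := by
  rw [isInducing_iff_nhds]
  intro 𝔮
  apply le_antisymm ((continuous_Phi g).tendsto 𝔮).le_comap
  intro s hs
  obtain ⟨_, ⟨b, rfl⟩, hb, hbs⟩ :=
    (isTopologicalBasis_basic_opens (R := BT g)).mem_nhds_iff.1 hs
  obtain ⟨a, ha⟩ := exists_rep g (tau g 𝔮) b
  obtain ⟨U, hU, hUz⟩ := exists_clopen_mul_eq_zero g (tau g 𝔮) ha
  rw [Filter.mem_comap]
  refine ⟨(basicOpen a : Set (PrimeSpectrum A)) ×ˢ (U : Set T), ?_, ?_⟩
  · refine prod_mem_nhds ((basicOpen a).2.mem_nhds ?_) (U.isClopen.2.mem_nhds hU)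
    show algebraMap A (BT g) a ∉ 𝔮.asIdeal
    intro hmem
    apply hb
    have := (mem_iff_of_rep 𝔮.asIdeal ha).2 hmem
    exact this
  · rintro 𝔮' ⟨h1, h2⟩
    apply hbs
    show b ∉ 𝔮'.asIdeal
    intro hmem
    have h3 : e g U ∉ 𝔮'.asIdeal := (mem_iff_e_notMem 𝔮'.asIdeal U).1 h2
    have h4 : e g U * (b - algebraMap A (BT g) a) ∈ 𝔮'.asIdeal := by
      rw [hUz]
      exact Ideal.zero_mem _
    have h5 : b - algebraMap A (BT g) a ∈ 𝔮'.asIdeal := (𝔮'.2.mem_or_mem h4).resolve_left h3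
    have h6 : algebraMap A (BT g) a ∈ 𝔮'.asIdeal := by
      have := Ideal.sub_mem _ hmem h5
      rwa [sub_sub_cancel] at this
    exact h1 h6

theorem isEmbedding_Phi : IsEmbedding (Phi g) := ⟨isInducing_Phi g, Phi_injective g⟩

end Top

end Groth.Agent.Lib.Helper82.BT
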