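import Mathlib
import Groth.Prelude.Def_BigSite

set_option autoImplicit false
open CategoryTheory CategoryTheory.Limits AlgebraicGeometry Opposite
universe u

namespace Groth.Agent.Lib.Helper82.BigClosed

/-- local lifting of `P`-morphisms along closed immersions -/
def LiftProp (P : MorphismProperty Scheme.{u}) : Prop :=
  ∀ {Z V : Scheme.{u}} (i : Z ⟶ V) [IsClosedImmersion i] {U : Scheme.{u}} (g : U ⟶ Z), P g →
    ∀ x : U, ∃ (V' : Scheme.{u}) (v : V' ⟶ V) (_ : P v) (h : pullback v i ⟶ U),
      h ≫ g = pullback.snd v i ∧ x ∈ Set.range h.base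

variable {X Y : Scheme.{u}} (f : X ⟶ Y)

theorem pullback_map_left {V V' : Over Y} (g : V' ⟶ V) :
    ((Over.pullback f).map g).left = pullback.lift (pullback.fst V'.hom f ≫ g.left)
      (pullback.snd V'.hom f) (by simp [pullback.condition]) := rfl

/-- the key factorization -/
theorem map_homMk_left (V : Over Y) {V' : Scheme.{u}} (v : V' ⟶ V.left) :
    ((Over.pullback f).map (Over.homMk v : Over.mk (v ≫ V.hom) ⟶ V)).left =
      (pullbackRightPullbackFstIso V.hom f v).inv ≫ pullback.snd v (pullback.fst V.hom f) := by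
  rw [pullback_map_left]
  apply pullback.hom_ext
  · rw [pullback.lift_fst, Category.assoc, ← pullback.condition,
      pullbackRightPullbackFstIso_inv_fst_assoc]
    rfl
  · rw [pullback.lift_snd, Category.assoc, pullbackRightPullbackFstIso_inv_snd_snd]
    rfl


theorem isEmpty_pullback_compl (V : Over Y) [IsClosedImmersion f]
    (W : V.left.Opens) (hW : (W : Set V.left) = (Set.range (pullback.fst V.hom f).base)ᶜ) :
    IsEmpty ↥(pullback (W.ι ≫ V.hom) f) := by
  refine ⟨fun p => ?_⟩
  let q : pullback (W.ι ≫ V.hom) f ⟶ pullback V.hom f :=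
    pullback.lift (pullback.fst _ _ ≫ W.ι) (pullback.snd _ _)
      (by rw [Category.assoc, pullback.condition])
  have hq : q ≫ pullback.fst V.hom f = pullback.fst _ _ ≫ W.ι := pullback.lift_fst _ _ _
  have h1 : (W.ι.base ((pullback.fst (W.ι ≫ V.hom) f).base p)) ∈ (W : Set V.left) :=
    ((pullback.fst (W.ι ≫ V.hom) f).base p).2
  rw [hW] at h1
  apply h1
  refine ⟨q.base p, ?_⟩
  rw [← Scheme.Hom.comp_apply, hq]
  rfl

variable (P : MorphismProperty Scheme.{u}) [P.IsStableUnderBaseChange] [P.IsMultiplicative]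

theorem bot_mem_of_isEmpty (V'' : Over Y) (hempty : IsEmpty ↥(pullback V''.hom f)) :
    (⊥ : Sieve ((Over.pullback f).obj V'')) ∈
      QuotSh.J (Scheme.precoverage P) X ((Over.pullback f).obj V'') := by
  rw [GrothendieckTopology.mem_over_iff]
  haveI : IsEmpty ↥((Over.pullback f).obj V'').left := hempty
  have := Scheme.bot_mem_grothendieckTopology (P := P) ((Over.pullback f).obj V'').left
  have e : Sieve.overEquiv ((Over.pullback f).obj V'') ⊥ = ⊥ :=
    (Sieve.overEquiv ((Over.pullback f).obj V'')).map_bot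
  rw [e]
  exact this

theorem isAlmostCocontinuous_of_liftProp [IsClosedImmersion f]
    (hopen : ∀ {A B : Scheme.{u}} (j : A ⟶ B) [IsOpenImmersion j], P j) (hL : LiftProp P) :
    BigSite.IsAlmostCocontinuous (Over.pullback f) (QuotSh.J (Scheme.precoverage P) Y)
      (QuotSh.J (Scheme.precoverage P) X) := by
  intro V R hR
  let R' : Sieve V :=
    { arrows := fun V' g => (⊥ : Sieve ((Over.pullback f).obj V')) ∈
          QuotSh.J (Scheme.precoverage P) X ((Over.pullback f).obj V') ∨ R ((Over.pullback f).map g)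
      downward_closed := by
        rintro V' V'' g (h | h) k
        · left
          have := (QuotSh.J (Scheme.precoverage P) X).pullback_stable ((Over.pullback f).map k) h
          refine (QuotSh.J (Scheme.precoverage P) X).superset_covering ?_ this
          intro W m hm
          exact hm
        · right
          rw [Functor.map_comp]
          exact R.downward_closed h _ }
  refine ⟨R', ?_, fun V' g hg => hg⟩
  rw [GrothendieckTopology.mem_over_iff] at hR ⊢
  obtain ⟨𝒰, h𝒰⟩ := Scheme.mem_grothendieckTopology_iff.mp hR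
  rw [Scheme.mem_grothendieckTopology_iff]
  let i : pullback V.hom f ⟶ V.left := pullback.fst V.hom f
  have hicl : IsClosed (Set.range i.base) := i.isClosedEmbedding.isClosed_range
  let W : V.left.Opens := ⟨(Set.range i.base)ᶜ, hicl.isOpen_compl⟩
  have hch : ∀ (a : 𝒰.I₀) (x : 𝒰.X a), ∃ (V' : Scheme.{u}) (v : V' ⟶ V.left) (_ : P v)
      (h : pullback v i ⟶ 𝒰.X a), h ≫ 𝒰.f a = pullback.snd v i ∧ x ∈ Set.range h.base :=
    fun a x => hL i (𝒰.f a) (𝒰.map_prop a) x
  choose V' v hv h hh hx using hch
  let ι := Option (Σ a : 𝒰.I₀, (𝒰.X a : Type u))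
  let obj : ι → Scheme.{u} := fun j => match j with
    | none => (W : Scheme.{u})
    | some ⟨a, x⟩ => V' a x
  let mp : ∀ j : ι, obj j ⟶ V.left := fun j => match j with
    | none => W.ι
    | some ⟨a, x⟩ => v a x
  have hcov : ∀ y : V.left, ∃ (j : ι) (z : obj j), (mp j).base z = y := by
    intro y
    by_cases hy : y ∈ Set.range i.base
    · obtain ⟨z, rfl⟩ := hy
      obtain ⟨a, x, hxz⟩ := 𝒰.exists_eq z
      obtain ⟨w, hw⟩ := hx a x
      refine ⟨some ⟨a, x⟩, (pullback.fst (v a x) i).base w, ?_⟩
      change (v a x).base ((pullback.fst (v a x) i).base w) = _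
      have e1 : (v a x).base ((pullback.fst (v a x) i).base w) =
          i.base ((pullback.snd (v a x) i).base w) := by
        rw [← Scheme.Hom.comp_apply, ← Scheme.Hom.comp_apply, pullback.condition]
      have e2 : (pullback.snd (v a x) i).base w = (𝒰.f a).base ((h a x).base w) := by
        rw [← hh a x]
        rfl
      rw [e1, e2, hw, hxz]
    · exact ⟨none, ⟨y, hy⟩, rfl⟩
  have hmp : ∀ j, P (mp j) := by
    rintro (_ | ⟨a, x⟩)
    · exact hopen W.ι
    · exact hv a x
  refine ⟨Scheme.Cover.mkOfCovers ι obj mp hcov hmp, ?_⟩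
  rintro _ _ ⟨j⟩
  rw [Sieve.overEquiv_iff]
  rcases j with _ | ⟨a, x⟩
  · exact Or.inl (bot_mem_of_isEmpty f P (Over.mk (W.ι ≫ V.hom))
      (isEmpty_pullback_compl f V W rfl))
  · right
    change R ((Over.pullback f).map (Over.homMk (v a x) : Over.mk (v a x ≫ V.hom) ⟶ V))
    have h1 : (Sieve.overEquiv _ R).arrows (𝒰.f a) := h𝒰 _ _ (Presieve.ofArrows.mk a)
    rw [Sieve.overEquiv_iff] at h1
    let k : (Over.pullback f).obj (Over.mk (v a x ≫ V.hom)) ⟶
        Over.mk (𝒰.f a ≫ ((Over.pullback f).obj V).hom) :=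
      Over.homMk ((pullbackRightPullbackFstIso V.hom f (v a x)).inv ≫ h a x) (by
        change ((pullbackRightPullbackFstIso V.hom f (v a x)).inv ≫ h a x) ≫
          𝒰.f a ≫ pullback.snd V.hom f = pullback.snd (v a x ≫ V.hom) f
        rw [Category.assoc, reassoc_of% (hh a x), pullbackRightPullbackFstIso_inv_snd_snd])
    have h2 := R.downward_closed h1 k
    convert h2 using 1
    apply Over.OverMorphism.ext
    rw [map_homMk_left]
    change _ = ((pullbackRightPullbackFstIso V.hom f (v a x)).inv ≫ h a x) ≫ 𝒰.f a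
    rw [Category.assoc, hh a x]

end Groth.Agent.Lib.Helper82.BigClosed
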