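import Mathlib
import Groth.Agent.S9436

set_option autoImplicit false
universe u

namespace Groth.Agent.Lib.Helper82.SmoothLift

open TensorProduct MvPolynomial Algebra Groth.Agent.S9436

theorem exists_standardSmooth_lift (R : Type u) [CommRing R] (I : Ideal R) (Sb : Type u)
    [CommRing Sb] [Algebra (R ⧸ I) Sb] [Algebra.IsStandardSmooth (R ⧸ I) Sb] :
    ∃ (S : Type u) (_ : CommRing S) (_ : Algebra R S), Algebra.IsStandardSmooth R S ∧
      Nonempty (((R ⧸ I) ⊗[R] S) ≃ₐ[R ⧸ I] Sb) := by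
  classical
  have h0 : Algebra.IsStandardSmooth (R ⧸ I) Sb := inferInstance
  obtain ⟨ι, σ, _, _, ⟨P⟩⟩ := h0.out
  have hsurj : Function.Surjective (MvPolynomial.map (σ := ι) (Ideal.Quotient.mk I)) :=
    MvPolynomial.map_surjective _ Ideal.Quotient.mk_surjective
  choose v hv using fun j : σ => hsurj (P.relation j)
  let S₀ := MvPolynomial ι R ⧸ Ideal.span (Set.range v)
  let Q₀ : PreSubmersivePresentation R S₀ ι σ :=
    PreSubmersivePresentation.naive (v := v) P.map P.map_inj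
  let Δ : S₀ := Q₀.jacobian
  let S := Localization.Away Δ
  let Q₁ : PreSubmersivePresentation S₀ S Unit Unit :=
    PreSubmersivePresentation.localizationAway S Δ
  let Q : PreSubmersivePresentation R S (Unit ⊕ ι) (Unit ⊕ σ) := Q₁.comp Q₀
  have hQjac : IsUnit Q.jacobian := by
    rw [PreSubmersivePresentation.comp_jacobian_eq_jacobian_smul_jacobian,
      PreSubmersivePresentation.localizationAway_jacobian, Algebra.smul_def]
    exact (IsLocalization.Away.algebraMap_isUnit Δ).mul (IsLocalization.Away.algebraMap_isUnit Δ)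
  let Q' : SubmersivePresentation R S (Unit ⊕ ι) (Unit ⊕ σ) := ⟨Q, hQjac⟩
  have hst : IsStandardSmooth R S := Q'.isStandardSmooth
  have hrel : ((Q₀.baseChange (R ⧸ I)).toPresentation).relation = P.toPresentation.relation := by
    funext j
    exact hv j
  let e₀ : (R ⧸ I) ⊗[R] S₀ ≃ₐ[R ⧸ I] Sb :=
    equivOfRelationEq ((Q₀.baseChange (R ⧸ I)).toPresentation) P.toPresentation hrel
  have he₀ : e₀ (1 ⊗ₜ Δ) = P.jacobian := by
    rw [← PreSubmersivePresentation.baseChange_jacobian]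
    exact jacobian_eq_of_relation_eq (Q₀.baseChange (R ⧸ I)) P.toPreSubmersivePresentation hrel rfl
  have hunit : IsUnit ((1 : R ⧸ I) ⊗ₜ[R] Δ) := by
    have := P.jacobian_isUnit
    rw [← he₀] at this
    have h2 := this.map e₀.symm
    rwa [AlgEquiv.symm_apply_apply] at h2
  let e₁ : (R ⧸ I) ⊗[R] S ≃ₐ[R ⧸ I] Localization.Away ((1 : R ⧸ I) ⊗ₜ[R] Δ) :=
    IsLocalization.Away.tensorProductEquivTMulRight R (R ⧸ I) Δ S
  let e₂ : (R ⧸ I) ⊗[R] S₀ ≃ₐ[(R ⧸ I) ⊗[R] S₀] Localization.Away ((1 : R ⧸ I) ⊗ₜ[R] Δ) :=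
    IsLocalization.atUnit _ _ _ hunit
  exact ⟨S, _, _, hst, ⟨e₁.trans ((e₂.restrictScalars (R ⧸ I)).symm.trans e₀)⟩⟩

/-- local version for smooth algebras -/
theorem exists_smooth_lift_at (R : Type u) [CommRing R] (I : Ideal R) (C : Type u)
    [CommRing C] [Algebra (R ⧸ I) C] [Algebra.Smooth (R ⧸ I) C] (q : Ideal C) [q.IsPrime] :
    ∃ g : C, g ∉ q ∧ ∃ (S : Type u) (_ : CommRing S) (_ : Algebra R S), Algebra.Smooth R S ∧
      Nonempty (((R ⧸ I) ⊗[R] S) ≃ₐ[R ⧸ I] Localization.Away g) := by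
  obtain ⟨g, hg, hst⟩ := Algebra.IsSmoothAt.exists_notMem_isStandardSmooth (R ⧸ I) q
  obtain ⟨S, _, _, hS, e⟩ := exists_standardSmooth_lift R I (Localization.Away g)
  exact ⟨g, hg, S, _, _, inferInstance, e⟩

end Groth.Agent.Lib.Helper82.SmoothLift
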