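import Mathlib
import Groth.Agent.Lib.Helper82.SmoothLift
import Groth.Agent.Lib.Helper82.BigClosed1

set_option autoImplicit false
open CategoryTheory CategoryTheory.Limits AlgebraicGeometry Opposite TensorProduct
universe u

namespace Groth.Agent.Lib.Helper82.BigClosed

/-- affine core, quotient form, smooth case -/
theorem core_quot_smooth (R : CommRingCat.{u}) (I : Ideal R) (C : CommRingCat.{u})
    (ψ : CommRingCat.of (R ⧸ I) ⟶ C) (hψ : ψ.hom.Smooth) (x : Spec C) :
    ∃ (g : C), x ∈ PrimeSpectrum.basicOpen g ∧ ∃ (S : CommRingCat.{u}) (v : R ⟶ S)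
      (b : S ⟶ CommRingCat.of (Localization.Away g)), v.hom.Smooth ∧
      IsPullback (Spec.map (ψ ≫ CommRingCat.ofHom (algebraMap C (Localization.Away g))))
        (Spec.map b) (Spec.map (CommRingCat.ofHom (Ideal.Quotient.mk I))) (Spec.map v) := by
  let _ : Algebra (R ⧸ I) C := ψ.hom.toAlgebra
  have : Algebra.Smooth (R ⧸ I) C := hψ
  haveI : (PrimeSpectrum.asIdeal (R := C) x).IsPrime := PrimeSpectrum.isPrime (R := C) x
  obtain ⟨g, hg, S, _, _, hS, ⟨e⟩⟩ := SmoothLift.exists_smooth_lift_at R I C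
    (PrimeSpectrum.asIdeal (R := C) x)
  refine ⟨g, hg, ?_⟩
  have P1 := CommRingCat.isPushout_tensorProduct R (R ⧸ I) S
  have P2 := isPullback_SpecMap_of_isPushout _ _ _ _ P1
  let E : CommRingCat.of ((R ⧸ I) ⊗[R] S) ≅ CommRingCat.of (Localization.Away g) :=
    e.toRingEquiv.toCommRingCatIso
  refine ⟨CommRingCat.of S, CommRingCat.ofHom (algebraMap R S),
    CommRingCat.ofHom (Algebra.TensorProduct.includeRight.toRingHom) ≫ E.hom, ?_, ?_⟩
  · exact RingHom.smooth_algebraMap.mpr hS
  · have h1 : ψ ≫ CommRingCat.ofHom (algebraMap C (Localization.Away g)) =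
        CommRingCat.ofHom (Algebra.TensorProduct.includeLeftRingHom) ≫ E.hom := by
      ext y
      change algebraMap C (Localization.Away g) (ψ.hom y) = e (y ⊗ₜ 1)
      have := e.commutes y
      rw [Algebra.TensorProduct.algebraMap_apply] at this
      rw [IsScalarTower.algebraMap_apply (R ⧸ I) C (Localization.Away g)] at this
      exact this.symm
    rw [h1, Spec.map_comp, Spec.map_comp]
    refine IsPullback.of_iso P2 (Scheme.Spec.mapIso E.op).symm (Iso.refl _) (Iso.refl _)
      (Iso.refl _) ?_ ?_ (by simp) (by simp)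
    · simp only [Iso.refl_hom, Category.comp_id, Iso.symm_hom, Functor.mapIso_inv, Iso.op_inv,
        Scheme.Spec_map, Quiver.Hom.unop_op]
      rw [← Spec.map_comp, ← Spec.map_comp, Category.assoc, Iso.hom_inv_id, Category.comp_id]
    · simp only [Iso.refl_hom, Category.comp_id, Iso.symm_hom, Functor.mapIso_inv, Iso.op_inv,
        Scheme.Spec_map, Quiver.Hom.unop_op]
      rw [← Spec.map_comp, ← Spec.map_comp, Category.assoc, Iso.hom_inv_id, Category.comp_id]


theorem core_affine_smooth (R : CommRingCat.{u}) {X₀ : Scheme.{u}} (ι₀ : X₀ ⟶ Spec R)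
    [IsClosedImmersion ι₀] (C : CommRingCat.{u}) (a : Spec C ⟶ X₀) [Smooth a] (x : Spec C) :
    ∃ (C' : CommRingCat.{u}) (j : Spec C' ⟶ Spec C), IsOpenImmersion j ∧ x ∈ Set.range j.base ∧
      ∃ (S : CommRingCat.{u}) (v : Spec S ⟶ Spec R) (b : Spec C' ⟶ Spec S), Smooth v ∧
      IsPullback (j ≫ a) b ι₀ v := by
  obtain ⟨I, e₀, hι⟩ := IsClosedImmersion.Spec_iff.1 (inferInstance : IsClosedImmersion ι₀)
  let ψ : CommRingCat.of (R ⧸ I) ⟶ C := Spec.preimage (a ≫ e₀.hom)
  have hψ' : Spec.map ψ = a ≫ e₀.hom := Spec.map_preimage _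
  have hψ : ψ.hom.Smooth := by
    have : Smooth (Spec.map ψ) := by rw [hψ']; infer_instance
    exact (HasRingHomProperty.Spec_iff (P := @Smooth)).1 this
  obtain ⟨g, hx, S, v, b, hv, hP⟩ := core_quot_smooth R I C ψ hψ x
  refine ⟨CommRingCat.of (Localization.Away g),
    Spec.map (CommRingCat.ofHom (algebraMap C (Localization.Away g))),
    IsOpenImmersion.of_isLocalization g, ?_, S, Spec.map v, Spec.map b,
    (HasRingHomProperty.Spec_iff (P := @Smooth)).2 hv, ?_⟩
  · have := PrimeSpectrum.localization_away_comap_range (Localization.Away g) g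
    change x ∈ Set.range (PrimeSpectrum.comap (algebraMap C (Localization.Away g)))
    rw [this]
    exact hx
  · refine IsPullback.of_iso hP (Iso.refl _) e₀.symm (Iso.refl _) (Iso.refl _) ?_ (by simp) ?_
      (by simp)
    · rw [Spec.map_comp, hψ']
      simp
    · rw [hι]
      simp

theorem liftProp_smooth : LiftProp.{u} (@Smooth) := by
  intro Z V i _ U g hg x
  haveI : Smooth g := hg
  obtain ⟨R, jY, hjY, hy, -⟩ := Scheme.exists_affine_mem_range_and_range_subset
    (X := V) (x := i.base (g.base x)) (U := ⊤) (by trivial)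
  let p₀ := pullback.fst i jY
  let ι₀ := pullback.snd i jY
  have hxO : x ∈ g ⁻¹ᵁ p₀.opensRange := by
    change g.base x ∈ Set.range p₀.base
    rw [Scheme.Pullback.range_fst]
    exact hy
  obtain ⟨C, jU, hjU, hx, hsub⟩ := Scheme.exists_affine_mem_range_and_range_subset
    (X := U) (x := x) (U := g ⁻¹ᵁ p₀.opensRange) hxO
  have hr : Set.range (jU ≫ g).base ⊆ Set.range p₀.base := by
    rintro _ ⟨c, rfl⟩
    exact hsub ⟨c, rfl⟩
  let a : Spec C ⟶ pullback i jY := IsOpenImmersion.lift p₀ (jU ≫ g) hr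
  have ha : a ≫ p₀ = jU ≫ g := IsOpenImmersion.lift_fac _ _ _
  have : Smooth a := by
    have h1 : Smooth (a ≫ p₀) := by rw [ha]; infer_instance
    haveI := AlgebraicGeometry.instHasOfPostcompPropertySchemeIsOpenImmersionOfIsStableUnderBaseChange
      (@Smooth.{u})
    exact MorphismProperty.of_postcomp (W := @Smooth) (W' := @IsOpenImmersion) a p₀
      inferInstance h1
  obtain ⟨c, rfl⟩ := hx
  obtain ⟨C', j, hj, hcj, S, v, b, hv, hP⟩ := core_affine_smooth R ι₀ C a c
  have big := (hP.paste_horiz (IsPullback.of_hasPullback i jY)).flip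
  let iso : Spec C' ≅ pullback (v ≫ jY) i := big.isoPullback
  refine ⟨Spec S, v ≫ jY, inferInstance, iso.inv ≫ j ≫ jU, ?_, ?_⟩
  · have e : (iso.inv ≫ j ≫ jU) ≫ g = iso.inv ≫ ((j ≫ a) ≫ p₀) := by
      simp only [Category.assoc, ha]
    rw [e]
    exact big.isoPullback_inv_snd
  · obtain ⟨c', rfl⟩ := hcj
    exact ⟨iso.hom.base c', by
      change (iso.hom ≫ iso.inv ≫ j ≫ jU).base c' = _
      rw [Iso.hom_inv_id_assoc]
      rfl⟩

end Groth.Agent.Lib.Helper82.BigClosed
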