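import Groth.Agent.Lib.Helper82.BigClosed1
import Groth.Agent.Lib.Helper4.ClosedLift

set_option autoImplicit false
open CategoryTheory CategoryTheory.Limits AlgebraicGeometry Opposite
universe u

namespace Groth.Agent.Lib.Helper82.BigClosed

theorem liftProp_etale : LiftProp.{u} (@Etale) := by
  intro Z V i _ U g hg x
  haveI : Etale g := hg
  obtain ⟨V', h, hh, -, hx⟩ := Groth.Agent.Lib.Helper4.ClosedLift.exists_lift_at i
    (Scheme.Etale.mk g) x
  exact ⟨V'.left, V'.hom, V'.prop, h, hh, hx⟩

end Groth.Agent.Lib.Helper82.BigClosed
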