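import Mathlib
import Groth.Prelude.Def_BigSite
import Groth.Agent.Lib.Helper82.AlmostCocontU

set_option autoImplicit false
open CategoryTheory CategoryTheory.Limits AlgebraicGeometry Opposite
universe u w v₁ u₁ v₂ u₂

namespace Groth.Agent.Lib.Helper82.BigClosedPush

section General

variable {C : Type u₁} [Category.{v₁} C] {D : Type u₂} [Category.{v₂} D]
  (J : GrothendieckTopology C) (K : GrothendieckTopology D) (a : C ⥤ D) [a.IsContinuous J K]

theorem subsingleton_of_bot_mem (G : Sheaf K AddCommGrpCat.{w}) (V : D)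
    (hV : (⊥ : Sieve V) ∈ K V) : Subsingleton (G.obj.obj (op V)) := by
  have hG : Presieve.IsSheaf K (G.obj ⋙ coyoneda.obj (op (G.obj.obj (op V)))) :=
    G.property (G.obj.obj (op V))
  have h := hG _ hV
  let x : Presieve.FamilyOfElements (G.obj ⋙ coyoneda.obj (op (G.obj.obj (op V))))
    (⊥ : Sieve V).arrows := fun _ _ h => h.elim
  have hx : x.Compatible := fun _ _ _ _ _ _ _ h => h.elim
  obtain ⟨t, -, ht⟩ := h x hx
  have h0 : (𝟙 (G.obj.obj (op V)) : G.obj.obj (op V) ⟶ G.obj.obj (op V)) = 0 :=
    (ht (𝟙 (G.obj.obj (op V)) : G.obj.obj (op V) ⟶ G.obj.obj (op V))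
      (fun _ _ h => h.elim)).trans
      (ht (0 : G.obj.obj (op V) ⟶ G.obj.obj (op V)) (fun _ _ h => h.elim)).symm
  refine ⟨fun x y => ?_⟩
  have hx : x = 0 := by
    have := ConcreteCategory.congr_hom h0 x
    simpa using this
  have hy : y = 0 := by
    have := ConcreteCategory.congr_hom h0 y
    simpa using this
  rw [hx, hy]

theorem isLocallySurjective_pushforward (hu : BigSite.IsAlmostCocontinuous a J K)
    {F G : Sheaf K AddCommGrpCat.{w}} (φ : F ⟶ G) [Sheaf.IsLocallySurjective φ] :
    Sheaf.IsLocallySurjective ((a.sheafPushforwardContinuous AddCommGrpCat.{w} J K).map φ) := by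
  refine ⟨fun {U} s => ?_⟩
  have h1 := Presheaf.imageSieve_mem K φ.hom (U := op (a.obj U)) s
  obtain ⟨R', hR', hR'2⟩ := hu U _ h1
  refine J.superset_covering ?_ hR'
  intro V g hg
  rcases hR'2 g hg with h | h
  · have hs := subsingleton_of_bot_mem K G (a.obj V) h
    exact ⟨0, @Subsingleton.elim _ hs _ _⟩
  · exact h

end General


theorem main {X Y : Scheme.{u}} (f : X ⟶ Y) (K : Precoverage Scheme.{u})
    (hac : BigSite.IsAlmostCocontinuous (Over.pullback f) (QuotSh.J K Y) (QuotSh.J K X)) :
    PreservesColimitsOfShape WalkingParallelPair (BigSite.pushBig K f (Type (u + 1))) ∧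
      PreservesColimitsOfShape WalkingSpan (BigSite.pushBig K f (Type (u + 1))) ∧
      PreservesFiniteColimits (BigSite.pushBig K f AddCommGrpCat.{u + 1}) := by
  refine ⟨?_, ?_, ?_⟩
  · exact AlmostCocontU.preservesColimitsOfShape_sheafPushforwardContinuous
      (QuotSh.J K Y) (QuotSh.J K X) (Over.pullback f) hac WalkingParallelPair
  · exact AlmostCocontU.preservesColimitsOfShape_sheafPushforwardContinuous
      (QuotSh.J K Y) (QuotSh.J K X) (Over.pullback f) hac WalkingSpan
  · haveI hlim : PreservesFiniteLimits (BigSite.pushBig K f AddCommGrpCat.{u + 1}) := by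
      haveI := (BigSite.bigAdj K f AddCommGrpCat.{u + 1}).rightAdjoint_preservesLimits
      infer_instance
    rw [Functor.preservesFiniteColimits_iff_forall_exact_map_and_epi]
    intro S hS
    refine ⟨(((BigSite.pushBig K f AddCommGrpCat.{u + 1}).preservesFiniteLimits_iff_forall_exact_map_and_mono).mp
      hlim S hS).1, ?_⟩
    haveI := hS.epi_g
    haveI : Sheaf.IsLocallySurjective S.g := (Sheaf.isLocallySurjective_iff_epi' _ S.g).2 inferInstance
    have := isLocallySurjective_pushforward (QuotSh.J K Y) (QuotSh.J K X) (Over.pullback f) hac S.g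
    exact (Sheaf.isLocallySurjective_iff_epi' _ _).1 this

end Groth.Agent.Lib.Helper82.BigClosedPush
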