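import Groth.Agent.Lib.Helper82.HComp
import Groth.Agent.Lib.Helper45.ResInj

set_option autoImplicit false
open CategoryTheory CategoryTheory.Limits AlgebraicGeometry Opposite
universe u

namespace Groth.Agent.Lib.Helper82.BigEt

noncomputable def isTerminal_top (X : Scheme.{u}) : IsTerminal (EtCoh.top X) :=
  MorphismProperty.Over.mkIdTerminal EtCoh.etaleMP X

theorem main (X : Scheme.{u})
    (F : BigSite.Ab Scheme.etalePrecoverage X) (p : ℕ) :
    Nonempty (EtCoh.H X ((BigSite.resEt Scheme.etalePrecoverage X).obj F) p ≃+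
      BigSite.H Scheme.etalePrecoverage X F p) := by
  haveI : PreservesFiniteLimits (BigSite.resEt Scheme.etalePrecoverage X) := by
    haveI := (BigSite.piEtAdj Scheme.etalePrecoverage X).rightAdjoint_preservesLimits
    infer_instance
  haveI : PreservesFiniteColimits (BigSite.resEt Scheme.etalePrecoverage X) := by
    haveI := (BigSite.iEtAdj Scheme.etalePrecoverage X).leftAdjoint_preservesColimits
    infer_instance
  obtain ⟨e⟩ := HComp.nonempty_H_equiv (QuotSh.J Scheme.etalePrecoverage X) X.smallEtaleTopology
    (EtFppf.a X) (isTerminal_top X) Over.mkIdTerminal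
    (fun I hI => (Groth.Agent.Lib.Helper45.ResInj.main X I (𝟙 X)).1) F
    (fun n => HComp.isZero_rightDerived_of_exact _ n F) p
  exact ⟨e.symm⟩

end Groth.Agent.Lib.Helper82.BigEt
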