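import Mathlib
import Groth.Prelude.Def_ProEtS

set_option autoImplicit false
open CategoryTheory CategoryTheory.Limits AlgebraicGeometry Opposite
universe u
open ProEtS

namespace Groth.Agent.Lib.Helper82.BigSmall

/-- Right derived functors of an exact functor vanish in positive degrees. -/
theorem isZero_rightDerived_of_exact {C D : Type*} [Category C] [Category D] [Abelian C]
    [Abelian D] [HasInjectiveResolutions C] (F : C ⥤ D) [F.Additive] [PreservesFiniteLimits F]
    [PreservesFiniteColimits F] (n : ℕ) (X : C) : IsZero ((F.rightDerived (n + 1)).obj X) := by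
  let I : InjectiveResolution X := (HasInjectiveResolution.out (Z := X)).some
  refine IsZero.of_iso ?_ (I.isoRightDerivedObj F (n + 1))
  erw [← HomologicalComplex.exactAt_iff_isZero_homology]
  have h := I.cocomplex_exactAt_succ n
  rw [HomologicalComplex.exactAt_iff] at h ⊢
  exact h.map F

variable (S : Scheme.{u})

set_option backward.isDefEq.respectTransparency.types false in
theorem topology_eq_restrictedTopology : Scheme.ProEt.topology S =
    (Scheme.ProEt.forget S).restrictedTopology (Scheme.proetaleTopology.over S) :=
  MorphismProperty.toGrothendieck_comap_forget_eq_restrictedTopology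
    _ Scheme.proetalePrecoverage_le_precoverage_weaklyEtale

set_option backward.isDefEq.respectTransparency.types false in
instance isCocontinuous_forget : (Scheme.ProEt.forget S).IsCocontinuous (Scheme.ProEt.topology S)
    (Scheme.proetaleTopology.over S) := by
  rw [topology_eq_restrictedTopology]
  infer_instance

instance : HasLimitsOfSize.{u, u + 1} AddCommGrpCat.{u + 1} :=
  hasLimitsOfSizeShrink.{u, u + 1, u + 1, u + 1} _

set_option backward.isDefEq.respectTransparency.types false in
instance (F : (S.ProEt)ᵒᵖ ⥤ AddCommGrpCat.{u + 1}) :
    (Scheme.ProEt.forget S).op.HasPointwiseRightKanExtension F := by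
  intro Y
  infer_instance

/-- restriction from the big to the small pro-etale site -/
noncomputable abbrev res : Sheaf (Scheme.proetaleTopology.over S) AddCommGrpCat.{u + 1} ⥤ AbP S :=
  (Scheme.ProEt.forget S).sheafPushforwardContinuous AddCommGrpCat.{u + 1}
      (Scheme.ProEt.topology S) (Scheme.proetaleTopology.over S)

set_option backward.isDefEq.respectTransparency.types false in
noncomputable def adj2 : res S ⊣
    (Scheme.ProEt.forget S).sheafPushforwardCocontinuous AddCommGrpCat.{u + 1}
      (Scheme.ProEt.topology S) (Scheme.proetaleTopology.over S) :=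
  (Scheme.ProEt.forget S).sheafAdjunctionCocontinuous AddCommGrpCat.{u + 1}
      (Scheme.ProEt.topology S) (Scheme.proetaleTopology.over S)

set_option backward.isDefEq.respectTransparency.types false in
theorem isIso_counit_adj2 : IsIso (adj2 S).counit := by
  haveI : ∀ F, IsIso ((adj2 S).counit.app F) := by
    intro F
    haveI : IsIso ((sheafToPresheaf _ _).map ((adj2 S).counit.app F)) := by
      show IsIso ((adj2 S).counit.app F).hom
      rw [adj2, Functor.sheafAdjunctionCocontinuous_counit_app_hom]
      haveI : (Scheme.ProEt.forget S).op.Full := inferInstance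
      haveI : (Scheme.ProEt.forget S).op.Faithful := inferInstance
      have h1 : IsIso ((Scheme.ProEt.forget S).op.ranAdjunction AddCommGrpCat.{u + 1}).counit :=
        Functor.reflective' _
      exact @NatIso.isIso_app_of_isIso _ _ _ _ _ _ _ h1 F.obj
    exact isIso_of_reflects_iso _ (sheafToPresheaf _ _)
  exact NatIso.isIso_of_isIso_app _

set_option backward.isDefEq.respectTransparency.types false in
theorem isIso_unit : IsIso ((Scheme.ProEt.forget S).sheafAdjunctionContinuous AddCommGrpCat.{u + 1}
      (Scheme.ProEt.topology S) (Scheme.proetaleTopology.over S)).unit := by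
  let t : Adjunction.Triple _ (res S) _ :=
    ⟨(Scheme.ProEt.forget S).sheafAdjunctionContinuous AddCommGrpCat.{u + 1}
      (Scheme.ProEt.topology S) (Scheme.proetaleTopology.over S), adj2 S⟩
  exact t.isIso_unit_iff_isIso_counit.mpr (isIso_counit_adj2 S)

set_option backward.isDefEq.respectTransparency.types false in
theorem bigSmall_main (S : Scheme.{u})
    [((Scheme.ProEt.forget S).sheafPushforwardContinuous AddCommGrpCat.{u + 1} (Scheme.ProEt.topology S)
      (Scheme.proetaleTopology.over S)).Additive]
    [HasInjectiveResolutions (Sheaf (Scheme.proetaleTopology.over S) AddCommGrpCat.{u + 1})]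
    (F : ProEtS.AbP S) :
    IsIso (((Scheme.ProEt.forget S).sheafAdjunctionContinuous AddCommGrpCat.{u + 1}
      (Scheme.ProEt.topology S) (Scheme.proetaleTopology.over S)).unit.app F) ∧
    ∀ q : ℕ, 0 < q →
      IsZero ((((Scheme.ProEt.forget S).sheafPushforwardContinuous AddCommGrpCat.{u + 1}
        (Scheme.ProEt.topology S) (Scheme.proetaleTopology.over S)).rightDerived q).obj
        (((Scheme.ProEt.forget S).sheafPullback AddCommGrpCat.{u + 1} (Scheme.ProEt.topology S)
          (Scheme.proetaleTopology.over S)).obj F)) := by
  constructor
  · haveI := isIso_unit S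
    infer_instance
  · intro q hq
    obtain ⟨n, rfl⟩ := Nat.exists_eq_succ_of_ne_zero hq.ne'
    haveI : PreservesFiniteLimits (res S) := by
      haveI := ((Scheme.ProEt.forget S).sheafAdjunctionContinuous AddCommGrpCat.{u + 1}
        (Scheme.ProEt.topology S) (Scheme.proetaleTopology.over S)).rightAdjoint_preservesLimits
      infer_instance
    haveI : PreservesFiniteColimits (res S) := by
      haveI := (adj2 S).leftAdjoint_preservesColimits
      infer_instance
    exact isZero_rightDerived_of_exact (res S) n _

end Groth.Agent.Lib.Helper82.BigSmall
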