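import Mathlib
import Groth.Agent.Lib.Helper53.ExtRes

set_option autoImplicit false
open CategoryTheory CategoryTheory.Limits Opposite Abelian

namespace Groth.Agent.Lib.Helper82.HComp

universe w w' w'' v₁ v₂ u₁ u₂

variable {C : Type u₁} [Category.{v₁} C] {D : Type u₂} [Category.{v₂} D]
  (J : GrothendieckTopology C) (K : GrothendieckTopology D) (a : D ⥤ C) [a.IsContinuous K J]
  [HasSheafify J AddCommGrpCat.{w}] [HasSheafify K AddCommGrpCat.{w}]

/-- the pushforward -/
noncomputable abbrev Φ : Sheaf J AddCommGrpCat.{w} ⥤ Sheaf K AddCommGrpCat.{w} :=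
  a.sheafPushforwardContinuous AddCommGrpCat.{w} K J

variable {T : D} (hT : IsTerminal T) (hT' : IsTerminal (a.obj T))

/-- sections of the pushforward over `T` are sections over `a T` -/
def sectEquiv (M : AddCommGrpCat.{w}) (G : Sheaf J AddCommGrpCat.{w}) :
    (M ⟶ G.obj.obj (op (a.obj T))) ≃+ (M ⟶ ((Φ.{w} J K a).obj G).obj.obj (op T)) :=
  AddEquiv.refl _

noncomputable def θ (M : AddCommGrpCat.{w}) (G : Sheaf J AddCommGrpCat.{w}) :
    ((constantSheaf J AddCommGrpCat.{w}).obj M ⟶ G) ≃+
      ((constantSheaf K AddCommGrpCat.{w}).obj M ⟶ (Φ.{w} J K a).obj G) :=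
  ((constantSheafAdj J AddCommGrpCat.{w} hT').homAddEquiv M G).trans
    ((sectEquiv J K a M G).trans
      ((constantSheafAdj K AddCommGrpCat.{w} hT).homAddEquiv M ((Φ.{w} J K a).obj G)).symm)


theorem θ_naturality (M : AddCommGrpCat.{w}) {G G' : Sheaf J AddCommGrpCat.{w}} (φ : G ⟶ G')
    (g : (constantSheaf J AddCommGrpCat.{w}).obj M ⟶ G) :
    θ J K a hT hT' M G' (g ≫ φ) = θ J K a hT hT' M G g ≫ (Φ.{w} J K a).map φ := by
  have h1 := Adjunction.homEquiv_naturality_right (constantSheafAdj J AddCommGrpCat.{w} hT') g φ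
  have h2 := Adjunction.homEquiv_naturality_right_symm (constantSheafAdj K AddCommGrpCat.{w} hT)
    ((constantSheafAdj J AddCommGrpCat.{w} hT').homEquiv M G g) ((Φ.{w} J K a).map φ)
  refine Eq.trans ?_ h2
  exact congrArg ((constantSheafAdj K AddCommGrpCat.{w} hT).homEquiv M ((Φ.{w} J K a).obj G')).symm h1


/-- Right derived functors of an exact functor vanish in positive degrees. -/
theorem isZero_rightDerived_of_exact {C D : Type*} [Category C] [Category D] [Abelian C]
    [Abelian D] [HasInjectiveResolutions C] (F : C ⥤ D) [F.Additive] [PreservesFiniteLimits F]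
    [PreservesFiniteColimits F] (n : ℕ) (X : C) : IsZero ((F.rightDerived (n + 1)).obj X) := by
  let I : InjectiveResolution X := (HasInjectiveResolution.out (Z := X)).some
  refine IsZero.of_iso ?_ (I.isoRightDerivedObj F (n + 1))
  erw [← HomologicalComplex.exactAt_iff_isZero_homology]
  have h := I.cocomplex_exactAt_succ n
  rw [HomologicalComplex.exactAt_iff] at h ⊢
  exact h.map F

variable [HasExt.{w'} (Sheaf J AddCommGrpCat.{w})] [HasExt.{w''} (Sheaf K AddCommGrpCat.{w})]
  [HasInjectiveResolutions (Sheaf J AddCommGrpCat.{w})]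

include hT hT' in
/-- comparison of sheaf cohomology along a continuous functor preserving the terminal object whose
pushforward preserves injectives, for acyclic sheaves -/
theorem nonempty_H_equiv [(Φ.{w} J K a).Additive] [PreservesFiniteLimits (Φ.{w} J K a)]
    (hinj : ∀ I : Sheaf J AddCommGrpCat.{w}, Injective I → Injective ((Φ.{w} J K a).obj I))
    (Y : Sheaf J AddCommGrpCat.{w})
    (hacyc : ∀ n, IsZero (((Φ.{w} J K a).rightDerived (n + 1)).obj Y)) (n : ℕ) :
    Nonempty (Sheaf.H Y n ≃+ Sheaf.H ((Φ.{w} J K a).obj Y) n) :=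
  Groth.Agent.Lib.Helper53.ExtRes.nonempty_ext_equiv_of_acyclic (Φ.{w} J K a) hinj
    ((constantSheaf J AddCommGrpCat.{w}).obj (AddCommGrpCat.of (ULift ℤ)))
    ((constantSheaf K AddCommGrpCat.{w}).obj (AddCommGrpCat.of (ULift ℤ)))
    (fun G => θ J K a hT hT' _ G) (fun φ g => θ_naturality J K a hT hT' _ φ g) Y hacyc n

end Groth.Agent.Lib.Helper82.HComp
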