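import Mathlib
import Groth.Prelude.Def_BigSite
import Groth.Agent.Lib.Helper82.HComp
import Groth.Agent.Lib.Helper4.ZarEt
import Groth.Agent.Lib.Helper19.LanFlat

set_option autoImplicit false
open CategoryTheory CategoryTheory.Limits AlgebraicGeometry Opposite
universe u

namespace Groth.Agent.Lib.Helper82.BigZar

variable (S : Scheme.{u})

theorem zarIncl_map_left {U V : S.Opens} (h : U ⟶ V) :
    ((BigSite.zarIncl S).map h).left = S.homOfLE h.le := rfl

theorem zarIncl_obj_left (U : S.Opens) : ((BigSite.zarIncl S).obj U).left = (U : Scheme.{u}) := rfl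

theorem zarIncl_obj_hom (U : S.Opens) : ((BigSite.zarIncl S).obj U).hom = U.ι := rfl

theorem key {U : S.Opens} (R : Sieve ((BigSite.zarIncl S).obj U)) {V : Scheme.{u}}
    (f : V ⟶ (U : Scheme.{u})) [IsOpenImmersion f]
    (h1 : R.arrows (Over.homMk f : Over.mk (f ≫ U.ι) ⟶ (BigSite.zarIncl S).obj U))
    (hWU : (f ≫ U.ι).opensRange ≤ U) :
    R.arrows ((BigSite.zarIncl S).map (homOfLE hWU)) := by
  let e := (f ≫ U.ι).isoOpensRange
  have h2 : e.inv ≫ (f ≫ U.ι) = (f ≫ U.ι).opensRange.ι :=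
    Scheme.Hom.isoOpensRange_inv_comp _
  let g : (BigSite.zarIncl S).obj (f ≫ U.ι).opensRange ⟶ Over.mk (f ≫ U.ι) :=
    Over.homMk e.inv h2
  have h3 := R.downward_closed h1 g
  convert h3 using 1
  apply Over.OverMorphism.ext
  rw [zarIncl_map_left]
  change S.homOfLE hWU = e.inv ≫ f
  rw [← cancel_mono U.ι]
  simp only [Scheme.homOfLE_ι, Category.assoc]
  exact h2.symm

instance isCocontinuous_zarIncl : (BigSite.zarIncl S).IsCocontinuous
    (Opens.grothendieckTopology S) (QuotSh.J Scheme.zariskiPrecoverage S) where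
  cover_lift := by
    intro U R hR
    rw [GrothendieckTopology.mem_over_iff] at hR
    obtain ⟨𝒰, h𝒰⟩ := Scheme.mem_grothendieckTopology_iff.mp hR
    intro x hx
    obtain ⟨i, y, hy⟩ := 𝒰.exists_eq (⟨x, hx⟩ : (U : Scheme.{u}))
    let f : 𝒰.X i ⟶ (U : Scheme.{u}) := 𝒰.f i
    haveI : IsOpenImmersion f := 𝒰.map_prop i
    have hWU : (f ≫ U.ι).opensRange ≤ U := by
      rintro _ ⟨z, rfl⟩
      exact (f z).2
    refine ⟨(f ≫ U.ι).opensRange, homOfLE hWU, ?_, ?_⟩
    · have h1 : (Sieve.overEquiv _ R).arrows (𝒰.f i) := h𝒰 _ _ (Presieve.ofArrows.mk i)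
      rw [Sieve.overEquiv_iff] at h1
      exact key S R f h1 hWU
    · refine ⟨y, ?_⟩
      have := congrArg Subtype.val hy
      exact this

end Groth.Agent.Lib.Helper82.BigZar
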