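import Mathlib
import Groth.Prelude.Def_BigSite
import Groth.Agent.Lib.Helper82.HComp
import Groth.Agent.Lib.Helper4.ZarEt
import Groth.Agent.Lib.Helper19.LanFlat
import Groth.Agent.Lib.Helper82.BigZar1

set_option autoImplicit false
open CategoryTheory CategoryTheory.Limits AlgebraicGeometry Opposite
universe u

namespace Groth.Agent.Lib.Helper82.BigZar
open Groth.Agent.Lib.Helper19

variable (S : Scheme.{u})

instance : HasLimitsOfSize.{u, u} AddCommGrpCat.{u + 1} :=
  hasLimitsOfSizeShrink.{u, u, u + 1, u + 1} _

instance (F : (S.Opens)ᵒᵖ ⥤ AddCommGrpCat.{u + 1}) :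
    (BigSite.zarIncl S).op.HasPointwiseRightKanExtension F := by
  intro Y
  infer_instance

variable [BigSite.ZarCont Scheme.zariskiPrecoverage S]

noncomputable def adj2 : BigSite.resZar Scheme.zariskiPrecoverage S ⊣
    (BigSite.zarIncl S).sheafPushforwardCocontinuous AddCommGrpCat.{u + 1}
      (Opens.grothendieckTopology S) (QuotSh.J Scheme.zariskiPrecoverage S) :=
  (BigSite.zarIncl S).sheafAdjunctionCocontinuous AddCommGrpCat.{u + 1}
      (Opens.grothendieckTopology S) (QuotSh.J Scheme.zariskiPrecoverage S)

theorem preservesFiniteColimits_resZar :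
    PreservesFiniteColimits (BigSite.resZar Scheme.zariskiPrecoverage S) := by
  haveI := (adj2 S).leftAdjoint_preservesColimits
  infer_instance

theorem preservesFiniteLimits_resZar :
    PreservesFiniteLimits (BigSite.resZar Scheme.zariskiPrecoverage S) := by
  haveI := (BigSite.piZarAdj Scheme.zariskiPrecoverage S).rightAdjoint_preservesLimits
  infer_instance

attribute [local instance] reflectsLimitsOfShape_of_reflectsIsomorphisms in
theorem lan_zarIncl_preservesFiniteLimits :
    PreservesFiniteLimits ((BigSite.zarIncl S).op.lan :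
      ((S.Opens)ᵒᵖ ⥤ AddCommGrpCat.{u+1}) ⥤ ((Over S)ᵒᵖ ⥤ AddCommGrpCat.{u+1})) := by
  haveI : PreservesFiniteLimits (EtFppf.a S) :=
    inferInstanceAs (PreservesFiniteLimits (Scheme.Etale.forget S))
  haveI : RepresentablyFlat (EtFppf.a S) := flat_of_preservesFiniteLimits _
  haveI : RepresentablyFlat (BigSite.zarIncl S) :=
    inferInstanceAs (RepresentablyFlat (EtZar.zarToEt S ⋙ EtFppf.a S))
  exact LanFlat.lan_preservesFiniteLimits_of_flat AddCommGrpCat.{u+1} (BigSite.zarIncl S)
    (fun K J _ _ => by
    haveI : IsFiltered (CostructuredArrow (BigSite.zarIncl S).op K) :=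
      IsFiltered.of_equivalence (structuredArrowOpEquivalence (BigSite.zarIncl S) (Opposite.unop K))
    haveI : PreservesFilteredColimitsOfSize.{u, u} (forget AddCommGrpCat.{u+1}) :=
      preservesFilteredColimitsOfSize_shrink.{u, u+1, u, u+1} _
    exact filtered_colim_preservesFiniteLimits)

theorem piZarPull_preservesFiniteLimits :
    PreservesFiniteLimits (BigSite.piZarPull Scheme.zariskiPrecoverage S) := by
  haveI := lan_zarIncl_preservesFiniteLimits S
  exact Functor.sheafPullbackConstruction.preservesFiniteLimits (BigSite.zarIncl S)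
    AddCommGrpCat.{u+1} (Opens.grothendieckTopology S) (QuotSh.J Scheme.zariskiPrecoverage S)

theorem injective_resZar (I : BigSite.Ab Scheme.zariskiPrecoverage S) (hI : Injective I) :
    Injective ((BigSite.resZar Scheme.zariskiPrecoverage S).obj I) := by
  haveI := piZarPull_preservesFiniteLimits S
  exact Injective.injective_of_adjoint (BigSite.piZarAdj Scheme.zariskiPrecoverage S) I

noncomputable def isTerminal_top : IsTerminal (⊤ : S.Opens) := isTerminalTop

noncomputable def isTerminal_zarIncl_top : IsTerminal ((BigSite.zarIncl S).obj ⊤) := by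
  refine IsTerminal.ofIso Over.mkIdTerminal ?_
  exact (Over.isoMk (S.topIso).symm (S.toIso_inv_ι))

end Groth.Agent.Lib.Helper82.BigZar
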