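import Groth.Agent.Lib.Helper82.WLocalTop
import Mathlib.Order.Disjointed

set_option autoImplicit false
open Topology Set
universe u

namespace Groth.Agent.Lib.Helper82

section Refine

variable {X : Type u} [TopologicalSpace X] [SpectralSpace X]

theorem exists_clopen_refinement_of_bijective
    (hbij : Function.Bijective
      (fun x : {x : X // IsClosed ({x} : Set X)} => ConnectedComponents.mk x.1))
    (ι : Type u) (U : ι → Set X) (hU : ∀ i, IsOpen (U i)) (hcov : (⋃ i, U i) = Set.univ) :
    ∃ (n : ℕ) (V : Fin n → Set X), (∀ k, IsClopen (V k)) ∧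
      Pairwise (fun k l => Disjoint (V k) (V l)) ∧ (⋃ k, V k) = Set.univ ∧ ∀ k, ∃ i, V k ⊆ U i := by
  have key : ∀ x : X, ∃ Z : Set X, IsClopen Z ∧ x ∈ Z ∧ ∃ i, Z ⊆ U i := by
    intro x
    obtain ⟨z, hz, hxz⟩ := exists_isClosed_singleton_specializes x
    have hzU : z ∈ ⋃ i, U i := hcov ▸ mem_univ z
    obtain ⟨i, hi⟩ := mem_iUnion.1 hzU
    have hsub : connectedComponent x ⊆ U i := by
      intro y hy
      obtain ⟨w, hw, hyw⟩ := exists_isClosed_singleton_specializes y
      have h1 : ConnectedComponents.mk w = ConnectedComponents.mk z := by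
        rw [← connectedComponents_mk_eq_of_specializes hyw,
          ← connectedComponents_mk_eq_of_specializes hxz, ConnectedComponents.coe_eq_coe']
        exact hy
      have h2 : (⟨w, hw⟩ : {x : X // IsClosed ({x} : Set X)}) = ⟨z, hz⟩ := hbij.1 h1
      have h3 : w = z := congrArg Subtype.val h2
      exact (h3 ▸ hyw).mem_open (hU i) hi
    rw [connectedComponent_eq_sInter_isClopen] at hsub
    obtain ⟨Z, hZ, hxZ, hZd⟩ := exists_isClopen_mem_disjoint_of_isCompact x
      (hU i).isClosed_compl.isCompact (disjoint_compl_left_iff_subset.2 hsub)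
    exact ⟨Z, hZ, hxZ, i, disjoint_compl_left_iff_subset.1 hZd⟩
  choose Z hZ hxZ hZU using key
  obtain ⟨t, ht⟩ := isCompact_univ.elim_finite_subcover Z (fun x => (hZ x).2)
    (fun x _ => mem_iUnion.2 ⟨x, hxZ x⟩)
  let n := t.card
  let e : Fin n ≃ t := t.equivFin.symm
  let W : Fin n → Set X := fun k => Z (e k)
  refine ⟨n, disjointed W, fun k => ?_, disjoint_disjointed W, ?_, fun k => ?_⟩
  · exact disjointedRec (p := IsClopen) (fun s i hs => hs.diff (hZ _)) (hZ _)
  · rw [iUnion_disjointed, eq_univ_iff_forall]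
    intro x
    obtain ⟨y, hy⟩ := mem_iUnion.1 (ht (mem_univ x))
    obtain ⟨hyt, hxy⟩ := mem_iUnion.1 hy
    exact mem_iUnion.2 ⟨e.symm ⟨y, hyt⟩, by simpa [W] using hxy⟩
  · obtain ⟨i, hi⟩ := hZU (e k)
    exact ⟨i, (disjointed_subset W k).trans hi⟩

theorem bijective_of_clopen_refinement
    (h : ∀ (ι : Type u) (U : ι → Set X), (∀ i, IsOpen (U i)) → (⋃ i, U i) = Set.univ →
      ∃ (n : ℕ) (V : Fin n → Set X), (∀ k, IsClopen (V k)) ∧
        Pairwise (fun k l => Disjoint (V k) (V l)) ∧ (⋃ k, V k) = Set.univ ∧ ∀ k, ∃ i, V k ⊆ U i) :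
    Function.Bijective
      (fun x : {x : X // IsClosed ({x} : Set X)} => ConnectedComponents.mk x.1) := by
  constructor
  · intro x y hxy
    by_contra hne
    have hne' : (x : X) ≠ y := fun h => hne (Subtype.ext h)
    let U : ULift.{u} Bool → Set X := fun b => if b.down then {(x : X)}ᶜ else {(y : X)}ᶜ
    obtain ⟨n, V, hV, -, hcov, hVU⟩ := h (ULift.{u} Bool) U
      (fun b => by
        rcases b with ⟨b⟩
        cases b
        · exact y.2.isOpen_compl
        · exact x.2.isOpen_compl)
      (by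
        rw [eq_univ_iff_forall]
        intro z
        by_cases hz : z = x
        · exact mem_iUnion.2 ⟨⟨false⟩, by simpa [U, hz] using hne'⟩
        · exact mem_iUnion.2 ⟨⟨true⟩, by simpa [U] using hz⟩)
    obtain ⟨k, hk⟩ := mem_iUnion.1 (hcov ▸ mem_univ (x : X))
    have hyk : (y : X) ∈ V k := by
      have h1 : connectedComponent (x : X) ⊆ V k := (hV k).connectedComponent_subset hk
      apply h1
      have h2 : ConnectedComponents.mk (y : X) = ConnectedComponents.mk (x : X) := hxy.symm
      rwa [ConnectedComponents.coe_eq_coe'] at h2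
    obtain ⟨⟨b⟩, hb⟩ := hVU k
    cases b
    · exact hb hyk rfl
    · exact hb hk rfl
  · intro c
    obtain ⟨x, rfl⟩ := ConnectedComponents.surjective_coe c
    obtain ⟨z, hz, hxz⟩ := exists_isClosed_singleton_specializes x
    exact ⟨⟨z, hz⟩, (connectedComponents_mk_eq_of_specializes hxz).symm⟩

end Refine

end Groth.Agent.Lib.Helper82
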