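import Mathlib
import Groth.Agent.Lib.Helper82.FinWC2

open IsLocalRing PrimeSpectrum TensorProduct

namespace Groth.Agent.Lib.Helper82.ClosedWC

universe u

noncomputable def homeoConnectedComponents {X Y : Type*} [TopologicalSpace X] [TopologicalSpace Y]
    (e : X ≃ₜ Y) : ConnectedComponents X ≃ₜ ConnectedComponents Y :=
  Topology.IsCoinducing.connectedComponentsHomeomorph (f := e) e.isQuotientMap.isCoinducing
    (fun y => by
      have : (e ⁻¹' {y}) = {e.symm y} := by
        ext x
        simp only [Set.mem_preimage, Set.mem_singleton_iff]
        constructor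
        · intro h; rw [← h, e.symm_apply_apply]
        · intro h; rw [h, e.apply_symm_apply]
      rw [this]
      exact isConnected_singleton)

variable (A B : Type u) [CommRing A] [CommRing B] [Algebra A B]

/-- two surjective quotients of `A` with the same zero locus have homeomorphic spectra -/
theorem nonempty_homeo_of_surjective (C : Type u) [CommRing C] [Algebra A C]
    (hB : Function.Surjective (algebraMap A B)) (hC : Function.Surjective (algebraMap A C))
    (h : zeroLocus (RingHom.ker (algebraMap A B) : Set A) =
      zeroLocus (RingHom.ker (algebraMap A C) : Set A)) :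
    Nonempty (PrimeSpectrum B ≃ₜ PrimeSpectrum C) := by
  have eB := (isClosedEmbedding_comap_of_surjective B (algebraMap A B) hB).isEmbedding.toHomeomorph
  have eC := (isClosedEmbedding_comap_of_surjective C (algebraMap A C) hC).isEmbedding.toHomeomorph
  have hr : Set.range (comap (algebraMap A B)) = Set.range (comap (algebraMap A C)) := by
    rw [range_comap_of_surjective _ _ hB, range_comap_of_surjective _ _ hC, h]
  exact ⟨eB.trans ((Homeomorph.setCongr hr).trans eC.symm)⟩

theorem isWContractible_of_surjective (hsurj : Function.Surjective (algebraMap A B))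
    (s : Finset A) (hs : zeroLocus (RingHom.ker (algebraMap A B) : Set A) = zeroLocus (s : Set A))
    (h : EtPBC.IsWContractible A) : EtPBC.IsWContractible B := by
  obtain ⟨hW, hED, hsh⟩ := WContr.wLocal_extrDisc_strictlyHenselian_of_hasIndEtaleRetractions
    (WContr.hasIndEtaleRetractions_of_isWContractible h)
  haveI : Module.Finite A B := Module.Finite.of_surjective (Algebra.linearMap A B) hsurj
  -- the finitely presented model
  let J : Ideal A := Ideal.span (s : Set A)
  haveI : Algebra.FinitePresentation A (A ⧸ J) :=
    Algebra.FinitePresentation.quotient ⟨s, rfl⟩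
  have hEDJ := FinWC.extremallyDisconnected_of_finite A (A ⧸ J) hW hED hsh
  have hker : RingHom.ker (algebraMap A (A ⧸ J)) = J := by
    rw [Ideal.Quotient.algebraMap_eq]; exact Ideal.mk_ker
  obtain ⟨e⟩ := nonempty_homeo_of_surjective A B (A ⧸ J) hsurj Ideal.Quotient.mk_surjective (by
    rw [hker, hs, zeroLocus_span])
  have hEDB : ExtremallyDisconnected (ConnectedComponents (PrimeSpectrum B)) :=
    extremallyDisconnected_of_homeo (homeoConnectedComponents e).symm
  exact WContr.isWContractible_of_hasIndEtaleRetractions
    (WContr.hasIndEtaleRetractions_of_wLocal_extrDisc_strictlyHenselian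
      (FinWC.isWLocal_of_finite A B hW hsh) hEDB
      (fun n _ => FinWC.isStrictlyHenselian_of_finite A B hsh n))

end Groth.Agent.Lib.Helper82.ClosedWC
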