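import Groth.Agent.Lib.Helper82.FinPush
import Groth.Agent.Lib.Helper82.ClosedWC

set_option autoImplicit false
open CategoryTheory CategoryTheory.Limits AlgebraicGeometry Opposite
universe u w
open ProEtS

namespace Groth.Agent.Lib.Helper82.ClosedPush

open Groth.Agent.Lib.Helper82.ProEtWC

/-- preimage of a retrocompact open under a morphism from an affine scheme factoring through an
affine open -/
theorem isCompact_preimage_of_isRetrocompact {X V Y : Scheme.{u}} [IsAffine V] [IsAffine Y]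
    (j : Y ⟶ X) [IsOpenImmersion j] (a : V ⟶ Y) (S : Set X) (hS : IsOpen S)
    (hr : IsRetrocompact S) : IsCompact ((a ≫ j).base ⁻¹' S) := by
  have hK : IsCompact (j.base ⁻¹' S) := by
    have h1 : j.base ⁻¹' S = j.base ⁻¹' (S ∩ Set.range j.base) := by
      ext y; simp
    rw [h1, j.isOpenEmbedding.isInducing.isCompact_preimage_iff Set.inter_subset_right]
    exact hr (isCompact_range j.base.hom.continuous) j.isOpenEmbedding.isOpen_range
  have := QuasiCompact.isCompact_preimage (f := a) _ (hS.preimage j.base.hom.continuous) hK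
  exact this

/-- a closed immersion of affine schemes whose complement is compact: the kernel has the zero locus
of a finite set -/
theorem exists_finset_zeroLocus {P V : Scheme.{u}} [IsAffine P] [IsAffine V] (p : P ⟶ V)
    [IsClosedImmersion p]
    (hc : IsCompact (Set.range p.base)ᶜ) (ho : IsOpen (Set.range p.base)ᶜ) :
    Function.Surjective p.appTop.hom ∧
    ∃ s : Finset ↥(Γ(V, ⊤)), PrimeSpectrum.zeroLocus (RingHom.ker p.appTop.hom : Set ↥(Γ(V, ⊤))) =
      PrimeSpectrum.zeroLocus (s : Set ↥(Γ(V, ⊤))) := by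
  have hsurj : Function.Surjective p.appTop.hom :=
    (IsClosedImmersion.isAffine_surjective_of_isAffine (f := p)).2
  refine ⟨hsurj, ?_⟩
  let e : V ≃ₜ PrimeSpectrum ↥(Γ(V, ⊤)) := Scheme.homeoOfIso V.isoSpec
  have hS : IsCompact (e '' (Set.range p.base)ᶜ) ∧ IsOpen (e '' (Set.range p.base)ᶜ) :=
    ⟨hc.image e.continuous, e.isOpenMap _ ho⟩
  obtain ⟨s, hs⟩ := PrimeSpectrum.isCompact_isOpen_iff.mp hS
  refine ⟨s, ?_⟩
  have h1 : PrimeSpectrum.zeroLocus (s : Set ↥(Γ(V, ⊤))) = e '' (Set.range p.base) := by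
    rw [← compl_inj_iff, hs, Set.image_compl_eq e.bijective]
  rw [h1, ← _root_.range_comap_of_surjective _ _ hsurj]
  have hnat := Scheme.isoSpec_hom_naturality p
  have hnat' : ∀ z : P, (Spec.map p.appTop).base (P.isoSpec.hom.base z) =
      V.isoSpec.hom.base (p.base z) := fun z => by
    rw [← Scheme.Hom.comp_apply, ← Scheme.Hom.comp_apply, hnat]
  ext x
  constructor
  · rintro ⟨y, rfl⟩
    obtain ⟨z, rfl⟩ := (Scheme.homeoOfIso P.isoSpec).surjective y
    exact ⟨p.base z, ⟨z, rfl⟩, (hnat' z).symm⟩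
  · rintro ⟨_, ⟨z, rfl⟩, rfl⟩
    exact ⟨P.isoSpec.hom.base z, hnat' z⟩

set_option backward.isDefEq.respectTransparency.types false in
theorem exists_affine_wc_family_of_cover {X : Scheme.{u}} (U : X.ProEt)
    (𝒰 : Scheme.OpenCover.{u} U.left) [∀ i, IsAffine (𝒰.X i)] :
    ∃ (V : (Σ _ : 𝒰.I₀, PUnit.{u+1}) → X.ProEt) (g : ∀ p, V p ⟶ U),
      Sieve.generate (Presieve.ofArrows V g) ∈ Scheme.ProEt.topology X U ∧
      ∀ p, ∃ (_ : IsAffine (V p).left), EtPBC.IsWContractible ↥(Γ((V p).left, ⊤)) ∧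
        ∃ h : (V p).left ⟶ 𝒰.X p.1, (V p).hom = (h ≫ 𝒰.f p.1) ≫ U.hom := by
  choose W h hWaff hwe hsurj hqc hwc using
    fun i : 𝒰.I₀ => ProEtCov.exists_wContractible_cover_affine (𝒰.X i)
  let V' : 𝒰.I₀ → X.ProEt := fun i => Scheme.ProEt.mk ((h i ≫ 𝒰.f i) ≫ U.hom)
  let V'' : (Σ _ : 𝒰.I₀, PUnit.{u+1}) → X.ProEt := fun p => V' p.1
  let g'' : ∀ p, V'' p ⟶ U := fun p => MorphismProperty.Over.homMk (h p.1 ≫ 𝒰.f p.1)
  refine ⟨V'', g'', ?_, fun p => ⟨hWaff p.1, hwc p.1, h p.1, rfl⟩⟩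
  apply Precoverage.generate_mem_toGrothendieck
  show (Presieve.ofArrows V'' g'').map (Scheme.ProEt.forget X ⋙ Over.forget X) ∈
    Scheme.proetalePrecoverage U.left
  rw [Presieve.map_ofArrows]
  have hf : Presieve.ofArrows 𝒰.X 𝒰.f ∈ Scheme.proetalePrecoverage U.left :=
    Scheme.zariskiPrecoverage_le_propQCPrecoverage _ 𝒰.mem₀
  have hg : ∀ i : 𝒰.I₀, Presieve.ofArrows (fun _ : PUnit.{u+1} => W i) (fun _ => h i) ∈
      Scheme.proetalePrecoverage (𝒰.X i) := by
    intro i
    rw [Presieve.ofArrows_pUnit]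
    refine ⟨?_, ?_⟩
    · haveI := hsurj i
      haveI := hqc i
      exact Scheme.Hom.singleton_mem_qcPrecoverage (h i)
    · rw [Scheme.singleton_mem_precoverage_iff]
      exact ⟨(hsurj i).surj, hwe i⟩
  exact Precoverage.comp_mem_coverings 𝒰.f hf (fun i _ => h i) hg

set_option backward.isDefEq.respectTransparency.types false in
theorem exists_affine_wc_family_factor {X : Scheme.{u}} (U : X.ProEt) :
    ∃ (ι : Type u) (V : ι → X.ProEt) (g : ∀ i, V i ⟶ U),
      Sieve.generate (Presieve.ofArrows V g) ∈ Scheme.ProEt.topology X U ∧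
      ∀ i, ∃ (_ : IsAffine (V i).left), EtPBC.IsWContractible ↥(Γ((V i).left, ⊤)) ∧
        ∃ (Y : Scheme.{u}) (_ : IsAffine Y) (j : Y ⟶ X) (_ : IsOpenImmersion j)
          (a : (V i).left ⟶ Y), a ≫ j = (V i).hom := by
  let 𝒰 : Scheme.OpenCover.{u} U.left :=
    (X.affineCover.pullback₁ U.hom).bind (fun j => Scheme.affineCover _)
  haveI : ∀ i, IsAffine (𝒰.X i) := fun i => by
    show IsAffine ((Scheme.affineCover _).X i.2)
    infer_instance
  obtain ⟨V, g, hcov, hV⟩ := exists_affine_wc_family_of_cover U 𝒰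
  refine ⟨_, V, g, hcov, fun p => ?_⟩
  obtain ⟨haff, hwc, h, hh⟩ := hV p
  refine ⟨haff, hwc, X.affineCover.X p.1.1, inferInstance, X.affineCover.f p.1.1, inferInstance,
    h ≫ (Scheme.affineCover _).f p.1.2 ≫ pullback.snd U.hom (X.affineCover.f p.1.1), ?_⟩
  rw [hh]
  have : 𝒰.f p.1 = (Scheme.affineCover _).f p.1.2 ≫ pullback.fst U.hom (X.affineCover.f p.1.1) :=
    rfl
  rw [this]
  have hc : pullback.snd U.hom (X.affineCover.f p.1.1) ≫ X.affineCover.f p.1.1 =
      pullback.fst U.hom (X.affineCover.f p.1.1) ≫ U.hom := pullback.condition.symm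
  simp only [Category.assoc]
  exact congrArg (fun t => h ≫ (Scheme.affineCover _).f p.1.2 ≫ t) hc


set_option backward.isDefEq.respectTransparency.types false in
theorem isWC_bcP_of_closedImmersion {Z X : Scheme.{u}} (i : Z ⟶ X) [IsClosedImmersion i]
    (hr : IsRetrocompact (Set.range i.base)ᶜ) (V : X.ProEt) [IsAffine V.left]
    (hV : EtPBC.IsWContractible ↥(Γ(V.left, ⊤))) (Y : Scheme.{u}) [IsAffine Y] (j : Y ⟶ X)
    [IsOpenImmersion j] (a : V.left ⟶ Y) (ha : a ≫ j = V.hom) :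
    ProEtS.IsWC ((bcP i).obj V) := by
  let p : pullback V.hom i ⟶ V.left := pullback.fst V.hom i
  haveI : IsClosedImmersion p := inferInstance
  haveI haff : IsAffine (pullback V.hom i) := isAffine_of_isAffineHom p
  haveI : IsAffine ((bcP i).obj V).left := haff
  apply isWC_of_wContractible
  show EtPBC.IsWContractible ↥(Γ(pullback V.hom i, ⊤))
  have hrange : Set.range p.base = V.hom.base ⁻¹' Set.range i.base :=
    Scheme.Pullback.range_fst V.hom i
  have hopen : IsOpen (Set.range i.base)ᶜ := i.isClosedEmbedding.isClosed_range.isOpen_compl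
  have hc : IsCompact (Set.range p.base)ᶜ := by
    rw [hrange, ← Set.preimage_compl, ← ha]
    exact isCompact_preimage_of_isRetrocompact j a _ hopen hr
  have ho : IsOpen (Set.range p.base)ᶜ := p.isClosedEmbedding.isClosed_range.isOpen_compl
  obtain ⟨hsurj, s, hs⟩ := exists_finset_zeroLocus p hc ho
  letI : Algebra ↥(Γ(V.left, ⊤)) ↥(Γ(pullback V.hom i, ⊤)) := (p.appTop).hom.toAlgebra
  exact ClosedWC.isWContractible_of_surjective _ _ hsurj s hs hV

set_option backward.isDefEq.respectTransparency.types false in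
theorem epi_pushP_map {Z X : Scheme.{u}} (i : Z ⟶ X) [IsClosedImmersion i]
    (hr : IsRetrocompact (Set.range i.base)ᶜ) [ProEtS.PCont i] {F G : AbP Z} (φ : F ⟶ G)
    [Epi φ] : Epi ((pushP i).map φ) := by
  rw [← Sheaf.isLocallySurjective_iff_epi' _ ((pushP i).map φ)]
  refine ⟨fun {U} s => ?_⟩
  obtain ⟨ι, V, g, hcov, hV⟩ := exists_affine_wc_family_factor U
  refine (Scheme.ProEt.topology X).superset_covering ?_ hcov
  rw [Sieve.generate_le_iff]
  rintro Y h ⟨k⟩
  obtain ⟨haff, hwc, Y', hY', j, hj, a, ha⟩ := hV k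
  have hWC := isWC_bcP_of_closedImmersion i hr (V k) hwc Y' j a ha
  obtain ⟨t, ht⟩ := FinPush.surjective_of_isWC _ hWC φ (G.obj.map ((bcP i).map (g k)).op s)
  exact ⟨t, ht⟩

set_option backward.isDefEq.respectTransparency.types false in
theorem pushP_exact_of_closedImmersion {Z X : Scheme.{u}} (i : Z ⟶ X) [IsClosedImmersion i]
    (hr : IsRetrocompact (Set.range i.base)ᶜ) [ProEtS.PCont i] :
    PreservesFiniteLimits (ProEtS.pushP i) ∧ PreservesFiniteColimits (ProEtS.pushP i) := by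
  haveI hlim : PreservesFiniteLimits (ProEtS.pushP i) := by
    haveI := (pullPushAdjP i).rightAdjoint_preservesLimits
    infer_instance
  refine ⟨hlim, ?_⟩
  rw [Functor.preservesFiniteColimits_iff_forall_exact_map_and_epi]
  intro S hS
  refine ⟨(((pushP i).preservesFiniteLimits_iff_forall_exact_map_and_mono).mp hlim S hS).1, ?_⟩
  haveI := hS.epi_g
  exact epi_pushP_map i hr S.g

end Groth.Agent.Lib.Helper82.ClosedPush
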