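import Mathlib
import Groth.Agent.Lib.Helper58.AdicFunct

/-!
# Completion of `A_{q ∩ A}` along `I` equals the completion of `(A^)_q` along `I`
-/

set_option autoImplicit false
universe u

namespace Groth.Agent.Lib.Helper82.CplLocIso

open Groth.Agent.Lib.Helper58.AdicFunct

variable {A : Type u} [CommRing A]

/-- every element of the `I`-adic completion is congruent to an element of `A` modulo `I^n`. -/
theorem exists_sub_mem_map_pow (I : Ideal A) (hI : I.FG) (n : ℕ) (x : AdicCompletion I A) :
    ∃ a : A, x - algebraMap A (AdicCompletion I A) a ∈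
      (I ^ n).map (algebraMap A (AdicCompletion I A)) := by
  obtain ⟨a, ha⟩ := Ideal.Quotient.mk_surjective (AdicCompletion.evalₐ I n x)
  refine ⟨a, ?_⟩
  have h1 : AdicCompletion.evalₐ I n (x - algebraMap A (AdicCompletion I A) a) = 0 := by
    rw [map_sub, AlgHom.commutes, ← ha, Ideal.Quotient.algebraMap_eq, sub_self]
  have h2 : (x - algebraMap A (AdicCompletion I A) a) ∈
      LinearMap.ker (AdicCompletion.eval I A n) := by
    rw [LinearMap.mem_ker,
      ← AdicCompletion.factor_evalₐ_eq_eval I _ (by rw [smul_eq_mul, Ideal.mul_top]), h1, map_zero]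
  rw [← AdicCompletion.pow_smul_top_eq_ker_eval hI, Ideal.smul_top_eq_map] at h2
  exact h2

/-- the easy inclusion `I^n A^ ∩ A ⊆ I^n`. -/
theorem mem_pow_of_algebraMap_mem (I : Ideal A) (n : ℕ) (a : A)
    (h : algebraMap A (AdicCompletion I A) a ∈
      (I ^ n).map (algebraMap A (AdicCompletion I A))) : a ∈ I ^ n := by
  have hle : (I ^ n).map (algebraMap A (AdicCompletion I A)) ≤
      RingHom.ker (AdicCompletion.evalₐ I n : AdicCompletion I A →+* A ⧸ I ^ n) := by
    rw [Ideal.map_le_iff_le_comap]
    intro i hi
    rw [Ideal.mem_comap, RingHom.mem_ker]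
    show AdicCompletion.evalₐ I n (algebraMap A (AdicCompletion I A) i) = 0
    rw [AlgHom.commutes, Ideal.Quotient.algebraMap_eq, Ideal.Quotient.eq_zero_iff_mem]
    exact hi
  have h2 : AdicCompletion.evalₐ I n (algebraMap A (AdicCompletion I A) a) = 0 := hle h
  rw [AlgHom.commutes, Ideal.Quotient.algebraMap_eq, Ideal.Quotient.eq_zero_iff_mem] at h2
  exact h2


section main

variable [IsNoetherianRing A] (I : Ideal A) (q : Ideal (AdicCompletion I A)) [q.IsPrime]
  (hq : I.map (algebraMap A (AdicCompletion I A)) ≤ q) (qA : Ideal A) [qA.IsPrime]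
  (hqA : qA = q.comap (algebraMap A (AdicCompletion I A)))

include hq hqA in
/-- approximation of an element outside `q` by an element of `A` outside `qA`. -/
theorem exists_approx_notMem (n : ℕ) (hn : n ≠ 0) (w : AdicCompletion I A) (hw : w ∉ q) :
    ∃ b : A, b ∉ qA ∧ w - algebraMap A (AdicCompletion I A) b ∈
      (I ^ n).map (algebraMap A (AdicCompletion I A)) := by
  obtain ⟨b, hb⟩ := exists_sub_mem_map_pow I (IsNoetherian.noetherian I) n w
  refine ⟨b, ?_, hb⟩
  intro hbq
  rw [hqA, Ideal.mem_comap] at hbq
  have hle : (I ^ n).map (algebraMap A (AdicCompletion I A)) ≤ q :=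
    (Ideal.map_mono (Ideal.pow_le_self hn)).trans hq
  have : w = (w - algebraMap A (AdicCompletion I A) b) + algebraMap A (AdicCompletion I A) b := by
    ring
  apply hw
  rw [this]
  exact q.add_mem (hle hb) hbq

theorem map_pow_eq (n : ℕ) :
    ((I.map (algebraMap A (AdicCompletion I A))).map
      (algebraMap (AdicCompletion I A) (Localization.AtPrime q))) ^ n =
    ((I ^ n).map (algebraMap A (AdicCompletion I A))).map
      (algebraMap (AdicCompletion I A) (Localization.AtPrime q)) := by
  rw [← Ideal.map_pow, ← Ideal.map_pow]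

theorem map_pow_eq' (n : ℕ) :
    (I.map (algebraMap A (Localization.AtPrime qA))) ^ n =
      (I ^ n).map (algebraMap A (Localization.AtPrime qA)) := by
  rw [← Ideal.map_pow]

include hq hqA in
theorem comap_le (n : ℕ) :
    (((I.map (algebraMap A (AdicCompletion I A))).map
      (algebraMap (AdicCompletion I A) (Localization.AtPrime q))) ^ n).comap
      (Localization.localRingHom qA q (algebraMap A (AdicCompletion I A)) hqA) ≤
    (I.map (algebraMap A (Localization.AtPrime qA))) ^ n := by
  rcases Nat.eq_zero_or_pos n with rfl | hn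
  · simp
  intro b' hb'
  rw [Ideal.mem_comap, map_pow_eq] at hb'
  rw [map_pow_eq']
  obtain ⟨a, s, rfl⟩ := IsLocalization.exists_mk'_eq qA.primeCompl b'
  -- φ (algebraMap a) ∈ K^n
  have h1 : algebraMap (AdicCompletion I A) (Localization.AtPrime q)
      (algebraMap A (AdicCompletion I A) a) ∈
      ((I ^ n).map (algebraMap A (AdicCompletion I A))).map
      (algebraMap (AdicCompletion I A) (Localization.AtPrime q)) := by
    rw [← Localization.localRingHom_to_map qA q (algebraMap A (AdicCompletion I A)) hqA a,
      ← IsLocalization.mk'_spec (Localization.AtPrime qA) a s, map_mul]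
    exact Ideal.mul_mem_right _ _ hb'
  rw [IsLocalization.mem_map_algebraMap_iff q.primeCompl] at h1
  obtain ⟨⟨i, w⟩, hiw⟩ := h1
  rw [← map_mul, IsLocalization.eq_iff_exists q.primeCompl] at hiw
  obtain ⟨w', hw'⟩ := hiw
  -- v := w' * w ∉ q, v * ι a ∈ M_n
  have hv : (w' : AdicCompletion I A) * w ∉ q := (w' * w).2
  have hva : ((w' : AdicCompletion I A) * w) * algebraMap A (AdicCompletion I A) a ∈
      (I ^ n).map (algebraMap A (AdicCompletion I A)) := by
    have : ((w' : AdicCompletion I A) * w) * algebraMap A (AdicCompletion I A) a =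
        w' * (i : AdicCompletion I A) := by
      rw [← hw']; ring
    rw [this]
    exact Ideal.mul_mem_left _ _ i.2
  obtain ⟨b, hbq, hb⟩ := exists_approx_notMem I q hq qA hqA n hn.ne' _ hv
  have hba : b * a ∈ I ^ n := by
    apply mem_pow_of_algebraMap_mem
    have : algebraMap A (AdicCompletion I A) (b * a) =
        ((w' : AdicCompletion I A) * w) * algebraMap A (AdicCompletion I A) a -
        ((w' : AdicCompletion I A) * w - algebraMap A (AdicCompletion I A) b) *
          algebraMap A (AdicCompletion I A) a := by
      rw [map_mul]; ring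
    rw [this]
    exact Ideal.sub_mem _ hva (Ideal.mul_mem_right _ _ hb)
  rw [IsLocalization.mem_map_algebraMap_iff qA.primeCompl]
  refine ⟨⟨⟨b * a, hba⟩, s * ⟨b, hbq⟩⟩, ?_⟩
  simp only [Submonoid.coe_mul, map_mul]
  rw [← mul_assoc, IsLocalization.mk'_spec]
  ring

include hq hqA in
theorem exists_sub_mem (n : ℕ) (c : Localization.AtPrime q) :
    ∃ b' : Localization.AtPrime qA,
      c - Localization.localRingHom qA q (algebraMap A (AdicCompletion I A)) hqA b' ∈
      ((I.map (algebraMap A (AdicCompletion I A))).map
      (algebraMap (AdicCompletion I A) (Localization.AtPrime q))) ^ n := by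
  rcases Nat.eq_zero_or_pos n with rfl | hn
  · exact ⟨0, by simp⟩
  rw [map_pow_eq]
  obtain ⟨x, w, rfl⟩ := IsLocalization.exists_mk'_eq q.primeCompl c
  obtain ⟨a, ha⟩ := exists_sub_mem_map_pow I (IsNoetherian.noetherian I) n x
  obtain ⟨b, hbq, hb⟩ := exists_approx_notMem I q hq qA hqA n hn.ne' _ w.2
  have hιb : algebraMap A (AdicCompletion I A) b ∈ q.primeCompl := by
    intro h
    apply hbq
    rw [hqA, Ideal.mem_comap]; exact h
  refine ⟨IsLocalization.mk' _ a (⟨b, hbq⟩ : qA.primeCompl), ?_⟩
  rw [Localization.localRingHom_mk']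
  have hu : IsUnit (algebraMap (AdicCompletion I A) (Localization.AtPrime q) (w : AdicCompletion I A) *
      algebraMap (AdicCompletion I A) (Localization.AtPrime q)
        (algebraMap A (AdicCompletion I A) b)) :=
    (IsLocalization.map_units _ w).mul
      (IsLocalization.map_units _ (⟨_, hιb⟩ : q.primeCompl))
  rw [← Ideal.mul_unit_mem_iff_mem _ hu]
  have key : (IsLocalization.mk' (Localization.AtPrime q) x w -
      IsLocalization.mk' (Localization.AtPrime q) (algebraMap A (AdicCompletion I A) a)
        (⟨algebraMap A (AdicCompletion I A) b, hιb⟩ : q.primeCompl)) *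
      (algebraMap (AdicCompletion I A) (Localization.AtPrime q) (w : AdicCompletion I A) *
      algebraMap (AdicCompletion I A) (Localization.AtPrime q)
        (algebraMap A (AdicCompletion I A) b)) =
      algebraMap (AdicCompletion I A) (Localization.AtPrime q)
        ((x - algebraMap A (AdicCompletion I A) a) * algebraMap A (AdicCompletion I A) b -
          algebraMap A (AdicCompletion I A) a * (w - algebraMap A (AdicCompletion I A) b)) := by
    have e1 := IsLocalization.mk'_spec (Localization.AtPrime q) x w
    have e2 := IsLocalization.mk'_spec (Localization.AtPrime q)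
      (algebraMap A (AdicCompletion I A) a)
      (⟨algebraMap A (AdicCompletion I A) b, hιb⟩ : q.primeCompl)
    simp only at e2
    simp only [map_sub, map_mul]
    linear_combination
      (algebraMap (AdicCompletion I A) (Localization.AtPrime q)
        (algebraMap A (AdicCompletion I A) b)) * e1 -
      (algebraMap (AdicCompletion I A) (Localization.AtPrime q) (w : AdicCompletion I A)) * e2
  rw [key]
  apply Ideal.mem_map_of_mem
  exact Ideal.sub_mem _ (Ideal.mul_mem_right _ _ ha) (Ideal.mul_mem_left _ _ hb)

end main


/-- completion of `A_{q ∩ A}` along `I` = completion of `(A^)_q` along `I`, for `q ⊇ I A^`. -/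
theorem exists_ringEquiv_cpl {A : Type u} [CommRing A] [IsNoetherianRing A] (I : Ideal A)
    (q : Ideal (AdicCompletion I A)) [q.IsPrime]
    (hq : I.map (algebraMap A (AdicCompletion I A)) ≤ q) (qA : Ideal A) [qA.IsPrime]
    (hqA : qA = q.comap (algebraMap A (AdicCompletion I A))) :
    ∃ σ : AdicCompletion (I.map (algebraMap A (Localization.AtPrime qA)))
        (Localization.AtPrime qA) ≃+*
        AdicCompletion ((I.map (algebraMap A (AdicCompletion I A))).map
          (algebraMap (AdicCompletion I A) (Localization.AtPrime q))) (Localization.AtPrime q),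
      ∀ a : A, σ (algebraMap A _ a) = algebraMap A _ a := by
  have h : I.map (algebraMap A (Localization.AtPrime qA)) ≤
      (((I.map (algebraMap A (AdicCompletion I A))).map
        (algebraMap (AdicCompletion I A) (Localization.AtPrime q)))).comap
      (Localization.localRingHom qA q (algebraMap A (AdicCompletion I A)) hqA) := by
    rw [Ideal.map_le_iff_le_comap]
    intro i hi
    rw [Ideal.mem_comap, Ideal.mem_comap, Localization.localRingHom_to_map]
    exact Ideal.mem_map_of_mem _ (Ideal.mem_map_of_mem _ hi)
  have hb : ∀ n, Function.Bijective (Ideal.quotientMap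
      ((((I.map (algebraMap A (AdicCompletion I A))).map
        (algebraMap (AdicCompletion I A) (Localization.AtPrime q)))) ^ n)
      (Localization.localRingHom qA q (algebraMap A (AdicCompletion I A)) hqA)
      (pow_le_comap_pow _ _ _ h n)) := by
    intro n
    constructor
    · exact Ideal.quotientMap_injective' (comap_le I q hq qA hqA n)
    · intro y
      obtain ⟨c, rfl⟩ := Ideal.Quotient.mk_surjective y
      obtain ⟨b', hb'⟩ := exists_sub_mem I q hq qA hqA n c
      refine ⟨Ideal.Quotient.mk _ b', ?_⟩
      rw [Ideal.quotientMap_mk, eq_comm, Ideal.Quotient.eq]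
      exact hb'
  refine ⟨RingEquiv.ofBijective (adicMap _ _ _ h) (adicMap_bijective _ _ _ h hb), ?_⟩
  intro a
  rw [RingEquiv.ofBijective_apply]
  have e1 : algebraMap A (AdicCompletion (I.map (algebraMap A (Localization.AtPrime qA)))
      (Localization.AtPrime qA)) a =
      AdicCompletion.of _ _ (algebraMap A (Localization.AtPrime qA) a) := rfl
  have e2 : algebraMap A (AdicCompletion ((I.map (algebraMap A (AdicCompletion I A))).map
      (algebraMap (AdicCompletion I A) (Localization.AtPrime q))) (Localization.AtPrime q)) a =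
      AdicCompletion.of _ _ (algebraMap A (Localization.AtPrime q) a) := rfl
  rw [e1, e2, adicMap_of, Localization.localRingHom_to_map,
    ← IsScalarTower.algebraMap_apply A (AdicCompletion I A) (Localization.AtPrime q)]

end Groth.Agent.Lib.Helper82.CplLocIso
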