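import Mathlib

set_option autoImplicit false
open CategoryTheory CategoryTheory.Limits Opposite

namespace Groth.Agent.Lib.Helper82.DC1

universe w v u

variable {C : Type u} [Category.{v} C] [Abelian C] [HasExt.{w} C]

open Abelian

/-- the class of objects right-orthogonal to `E` in all degrees -/
def Orth (E F : C) : Prop := ∀ n : ℕ, Subsingleton (Abelian.Ext.{w} E F n)

theorem orth_of_iso {E F F' : C} (e : F ≅ F') (h : Orth.{w} E F) : Orth.{w} E F' := by
  intro n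
  have := h n
  refine ⟨fun x y => ?_⟩
  have hx : ∀ z : Abelian.Ext.{w} E F' n, z = (z.comp (Ext.mk₀ e.inv) (add_zero n)).comp (Ext.mk₀ e.hom)
      (add_zero n) := by
    intro z
    rw [Ext.comp_assoc_of_third_deg_zero, Ext.mk₀_comp_mk₀, e.inv_hom_id, Ext.comp_mk₀_id]
  rw [hx x, hx y, Subsingleton.elim (x.comp (Ext.mk₀ e.inv) (add_zero n))
    (y.comp (Ext.mk₀ e.inv) (add_zero n))]

theorem orth_of_iso_left {E E' F : C} (e : E ≅ E') (h : Orth.{w} E F) : Orth.{w} E' F := by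
  intro n
  have := h n
  refine ⟨fun x y => ?_⟩
  have hx : ∀ z : Abelian.Ext.{w} E' F n, z = (Ext.mk₀ e.inv).comp ((Ext.mk₀ e.hom).comp z (zero_add n))
      (zero_add n) := by
    intro z
    rw [Ext.mk₀_comp_mk₀_assoc, e.inv_hom_id, Ext.mk₀_id_comp]
  rw [hx x, hx y, Subsingleton.elim ((Ext.mk₀ e.hom).comp x (zero_add n))
    ((Ext.mk₀ e.hom).comp y (zero_add n))]

/-- two out of three: kernel -/
theorem orth_X₁ {E : C} {S : ShortComplex C} (hS : S.ShortExact) (h₂ : Orth.{w} E S.X₂)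
    (h₃ : Orth.{w} E S.X₃) : Orth.{w} E S.X₁ := by
  intro n
  refine subsingleton_of_forall_eq 0 (fun x => ?_)
  have h0 : x.comp (Ext.mk₀ S.f) (add_zero n) = 0 := (h₂ n).elim _ _
  cases n with
  | zero =>
    haveI := hS.mono_f
    exact Ext.postcomp_mk₀_injective_of_mono E S.f (by
      show x.comp (Ext.mk₀ S.f) (add_zero 0) = (0 : Ext E S.X₁ 0).comp (Ext.mk₀ S.f) (add_zero 0)
      rw [h0, Ext.zero_comp])
  | succ m =>
    obtain ⟨x₃, hx₃⟩ := Ext.covariant_sequence_exact₁ E hS x h0 rfl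
    rw [← hx₃, (h₃ m).elim x₃ 0, Ext.zero_comp]

/-- two out of three: extension -/
theorem orth_X₂ {E : C} {S : ShortComplex C} (hS : S.ShortExact) (h₁ : Orth.{w} E S.X₁)
    (h₃ : Orth.{w} E S.X₃) : Orth.{w} E S.X₂ := by
  intro n
  refine subsingleton_of_forall_eq 0 (fun x => ?_)
  have h0 : x.comp (Ext.mk₀ S.g) (add_zero n) = 0 := (h₃ n).elim _ _
  obtain ⟨x₁, hx₁⟩ := Ext.covariant_sequence_exact₂ E hS x h0
  rw [← hx₁, (h₁ n).elim x₁ 0, Ext.zero_comp]

/-- two out of three: cokernel -/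
theorem orth_X₃ {E : C} {S : ShortComplex C} (hS : S.ShortExact) (h₁ : Orth.{w} E S.X₁)
    (h₂ : Orth.{w} E S.X₂) : Orth.{w} E S.X₃ := by
  intro n
  refine subsingleton_of_forall_eq 0 (fun x => ?_)
  have h0 : x.comp hS.extClass rfl = 0 := (h₁ (n + 1)).elim _ _
  obtain ⟨x₂, hx₂⟩ := Ext.covariant_sequence_exact₃ E hS x rfl h0
  rw [← hx₂, (h₂ n).elim x₂ 0, Ext.zero_comp]

section Products

variable [HasProductsOfShape ℕ C] [EnoughInjectives C]

/-- the comparison map `Ext(E, ∏ F) → ∏ Ext(E, F k)` -/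
noncomputable def cmp (E : C) (F : ℕ → C) (n : ℕ) (ξ : Abelian.Ext.{w} E (∏ᶜ F) n) (k : ℕ) :
    Abelian.Ext.{w} E (F k) n :=
  ξ.comp (Ext.mk₀ (Pi.π F k)) (add_zero n)

/-- countable products are exact -/
def ProdExact (C : Type u) [Category.{v} C] [Abelian C] [HasProductsOfShape ℕ C] :
    Prop :=
  ∀ (S : ℕ → ShortComplex C), (∀ k, (S k).ShortExact) →
    (ShortComplex.mk (Limits.Pi.map fun k => (S k).f) (Limits.Pi.map fun k => (S k).g) (by
      ext k
      simp)).ShortExact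

theorem cmp_sub (E : C) (F : ℕ → C) (n : ℕ) (ξ ξ' : Abelian.Ext.{w} E (∏ᶜ F) n) (k : ℕ) :
    cmp E F n (ξ - ξ') k = cmp E F n ξ k - cmp E F n ξ' k := by
  unfold cmp
  rw [sub_eq_add_neg, Ext.add_comp, Ext.neg_comp, ← sub_eq_add_neg]

theorem cmp_zero_bij (E : C) (F : ℕ → C) : Function.Bijective (cmp.{w} E F 0) := by
  constructor
  · intro ξ ξ' h
    obtain ⟨a, rfl⟩ := (Ext.mk₀_bijective E (∏ᶜ F)).2 ξ
    obtain ⟨a', rfl⟩ := (Ext.mk₀_bijective E (∏ᶜ F)).2 ξ'
    congr 1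
    apply Pi.hom_ext
    intro k
    have hk := congrFun h k
    unfold cmp at hk
    rw [Ext.mk₀_comp_mk₀, Ext.mk₀_comp_mk₀] at hk
    exact (Ext.mk₀_bijective E (F k)).1 hk
  · intro ξ
    have hs := fun k => (Ext.mk₀_bijective E (F k)).2 (ξ k)
    choose a ha using hs
    refine ⟨Ext.mk₀ (Pi.lift a), ?_⟩
    funext k
    unfold cmp
    rw [Ext.mk₀_comp_mk₀, Pi.lift_π, ha]

theorem cmp_bij (hC : ProdExact C) (E : C) :
    ∀ (n : ℕ) (F : ℕ → C), Function.Bijective (cmp.{w} E F n) := by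
  intro n
  induction n with
  | zero => exact cmp_zero_bij E
  | succ n ih =>
    intro F
    let I : ℕ → C := fun k => Injective.under (F k)
    let Q : ℕ → C := fun k => cokernel (Injective.ι (F k))
    let S : ℕ → ShortComplex C := fun k =>
      ShortComplex.mk (Injective.ι (F k)) (cokernel.π (Injective.ι (F k))) (cokernel.condition _)
    have hS : ∀ k, (S k).ShortExact := fun k =>
      { exact := ShortComplex.exact_cokernel _
        mono_f := (inferInstance : Mono (Injective.ι (F k)))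
        epi_g := (inferInstance : Epi (cokernel.π (Injective.ι (F k)))) }
    have hSP := hC S hS
    let SP : ShortComplex C := ShortComplex.mk (Limits.Pi.map fun k => (S k).f)
      (Limits.Pi.map fun k => (S k).g) (by ext k; simp)
    let pr : ∀ k, SP ⟶ S k := fun k =>
      { τ₁ := Pi.π F k
        τ₂ := Pi.π I k
        τ₃ := Pi.π Q k
        comm₁₂ := by simp [SP, S, I]
        comm₂₃ := by simp [SP, S, I, Q] }
    have hnat : ∀ k, hSP.extClass.comp (Ext.mk₀ (Pi.π F k)) (add_zero 1) =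
        (Ext.mk₀ (Pi.π Q k)).comp (hS k).extClass (zero_add 1) :=
      fun k => ShortComplex.ShortExact.extClass_naturality hSP (hS k) (pr k)
    have hkey : ∀ (η : Abelian.Ext.{w} E (∏ᶜ Q) n) (k : ℕ),
        cmp E F (n + 1) (η.comp hSP.extClass rfl) k =
          (cmp E Q n η k).comp (hS k).extClass rfl := by
      intro η k
      unfold cmp
      rw [Ext.comp_assoc_of_third_deg_zero, hnat k, Ext.comp_assoc_of_second_deg_zero]
    have hinjI : ∀ k, Subsingleton (Abelian.Ext.{w} E (I k) (n + 1)) :=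
      fun k => Ext.subsingleton_of_injective E (I k) n
    have hinjP : Subsingleton (Abelian.Ext.{w} E (∏ᶜ I) (n + 1)) :=
      Ext.subsingleton_of_injective E (∏ᶜ I) n
    have hzero : ∀ ξ : Abelian.Ext.{w} E (∏ᶜ F) (n + 1), (∀ k, cmp E F (n + 1) ξ k = 0) → ξ = 0 := by
      intro ξ hξ
      have h0 : ξ.comp (Ext.mk₀ SP.f) (add_zero (n + 1)) = 0 := hinjP.elim _ _
      obtain ⟨η, hη⟩ := Ext.covariant_sequence_exact₁ E hSP ξ h0 rfl
      have hη' : ∀ k, (cmp E Q n η k).comp (hS k).extClass rfl = 0 := by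
        intro k
        rw [← hkey, hη]
        exact hξ k
      have hζ := fun k => Ext.covariant_sequence_exact₃ E (hS k) (cmp E Q n η k) rfl (hη' k)
      choose ζk hζk using hζ
      obtain ⟨ζ, hζ⟩ := (ih I).2 ζk
      have hη0 : η - ζ.comp (Ext.mk₀ SP.g) (add_zero n) = 0 := by
        apply (ih Q).1
        funext k
        rw [cmp_sub]
        have e1 : cmp E Q n (ζ.comp (Ext.mk₀ SP.g) (add_zero n)) k =
            (cmp E I n ζ k).comp (Ext.mk₀ (S k).g) (add_zero n) := by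
          unfold cmp
          rw [Ext.comp_assoc_of_third_deg_zero, Ext.comp_assoc_of_third_deg_zero,
            Ext.mk₀_comp_mk₀, Ext.mk₀_comp_mk₀]
          congr 2
          exact Limits.Pi.map_π (fun k => (S k).g) k
        rw [e1, hζ, hζk k, sub_self]
        unfold cmp
        rw [Ext.zero_comp]
      rw [sub_eq_zero] at hη0
      rw [← hη, hη0, Ext.comp_assoc_of_second_deg_zero, hSP.comp_extClass, Ext.comp_zero]
    constructor
    · intro ξ ξ' h
      rw [← sub_eq_zero]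
      apply hzero
      intro k
      rw [cmp_sub, congrFun h k, sub_self]
    · intro ξ
      have hη := fun k => Ext.covariant_sequence_exact₁ E (hS k) (ξ k) ((hinjI k).elim _ _) rfl
      choose ηk hηk using hη
      obtain ⟨η, hη⟩ := (ih Q).2 ηk
      refine ⟨η.comp hSP.extClass rfl, ?_⟩
      funext k
      rw [hkey, hη, hηk]

theorem orth_pi (hC : ProdExact C) (E : C) (F : ℕ → C) (h : ∀ k, Orth.{w} E (F k)) :
    Orth.{w} E (∏ᶜ F) := by
  intro n
  refine ⟨fun x y => ?_⟩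
  apply (cmp_bij hC E n F).1
  funext k
  exact (h k n).elim _ _

end Products

section Linear

variable {R : Type*} [CommRing R] [Linear R C]

theorem smul_eq_mk₀_comp {E F : C} {n : ℕ} (r : R) (x : Abelian.Ext.{w} E F n) :
    r • x = (Ext.mk₀ (r • 𝟙 E)).comp x (zero_add n) := by
  rw [Ext.mk₀_smul, Ext.smul_comp, Ext.mk₀_id_comp]

theorem eq_zero_of_smul_eq_zero {E F : C} {n : ℕ} (f : R) [IsIso (f • 𝟙 E)]
    (x : Abelian.Ext.{w} E F n) (h : f • x = 0) : x = 0 := by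
  have h1 : x = (Ext.mk₀ (inv (f • 𝟙 E))).comp ((Ext.mk₀ (f • 𝟙 E)).comp x (zero_add n))
      (zero_add n) := by
    rw [Ext.mk₀_comp_mk₀_assoc, IsIso.inv_hom_id, Ext.mk₀_id_comp]
  rw [h1, ← smul_eq_mk₀_comp, h, Ext.comp_zero]

/-- `f` invertible on `E` and nilpotent on `F` implies all `Ext` vanish -/
theorem orth_of_nilpotent {E F : C} (f : R) [IsIso (f • 𝟙 E)] (N : ℕ)
    (hF : f ^ N • 𝟙 F = 0) : Orth.{w} E F := by
  intro n
  refine subsingleton_of_forall_eq 0 (fun x => ?_)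
  have h0 : f ^ N • x = 0 := by
    rw [Ext.smul_eq_comp_mk₀, hF, Ext.mk₀_zero, Ext.comp_zero]
  clear hF
  induction N with
  | zero => simpa using h0
  | succ N ih =>
    apply ih
    apply eq_zero_of_smul_eq_zero f
    rw [smul_smul, ← pow_succ']
    exact h0

variable [HasProductsOfShape ℕ C]

/-- the shift endomorphism of `∏_ℕ F` -/
noncomputable def shiftPi (F : C) : (∏ᶜ fun _ : ℕ => F) ⟶ ∏ᶜ fun _ : ℕ => F :=
  Pi.lift (fun k => Pi.π (fun _ : ℕ => F) (k + 1))

/-- `θ = 1 - f • shift` on `∏_ℕ F` -/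
noncomputable def theta (f : R) (F : C) : (∏ᶜ fun _ : ℕ => F) ⟶ ∏ᶜ fun _ : ℕ => F :=
  𝟙 _ - f • shiftPi F

theorem theta_π (f : R) (F : C) (k : ℕ) :
    theta f F ≫ Pi.π (fun _ : ℕ => F) k =
      Pi.π (fun _ : ℕ => F) k - f • Pi.π (fun _ : ℕ => F) (k + 1) := by
  unfold theta shiftPi
  rw [Preadditive.sub_comp, Category.id_comp, Linear.smul_comp, Pi.lift_π]

/-- iterated inverse of `f` on `E` -/
noncomputable def upow {E : C} (f : R) [IsIso (f • 𝟙 E)] : ℕ → (E ⟶ E)
  | 0 => 𝟙 E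
  | k + 1 => inv (f • 𝟙 E) ≫ upow f k

theorem smul_upow_succ {E : C} (f : R) [IsIso (f • 𝟙 E)] (k : ℕ) :
    f • upow (E := E) f (k + 1) = upow f k := by
  show f • (inv (f • 𝟙 E) ≫ upow f k) = upow f k
  rw [← Linear.smul_comp]
  have : f • inv (f • 𝟙 E) = (f • 𝟙 E) ≫ inv (f • 𝟙 E) := by
    rw [Linear.smul_comp, Category.id_comp]
  rw [this, IsIso.hom_inv_id, Category.id_comp]

variable [EnoughInjectives C]

/-- `f` invertible on `E` and `θ_F` an isomorphism implies all `Ext` vanish -/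
theorem orth_of_theta (hC : ProdExact C) {E F : C} (f : R) [IsIso (f • 𝟙 E)]
    [IsIso (theta f F)] : Orth.{w} E F := by
  intro n
  refine subsingleton_of_forall_eq 0 (fun x => ?_)
  let y : ∀ k : ℕ, Abelian.Ext.{w} E F n := fun k => (Ext.mk₀ (upow f k)).comp x (zero_add n)
  have hy : ∀ k, f • y (k + 1) = y k := by
    intro k
    show f • (Ext.mk₀ (upow f (k + 1))).comp x (zero_add n) = _
    rw [← Ext.smul_comp, ← Ext.mk₀_smul, smul_upow_succ]
  obtain ⟨ξ, hξ⟩ := (cmp_bij hC E n (fun _ : ℕ => F)).2 y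
  have h1 : ξ.comp (Ext.mk₀ (theta f F)) (add_zero n) = 0 := by
    apply (cmp_bij hC E n (fun _ : ℕ => F)).1
    funext k
    have e1 : cmp E (fun _ : ℕ => F) n (ξ.comp (Ext.mk₀ (theta f F)) (add_zero n)) k =
        cmp E (fun _ : ℕ => F) n ξ k - f • cmp E (fun _ : ℕ => F) n ξ (k + 1) := by
      unfold cmp
      rw [Ext.comp_assoc_of_third_deg_zero, Ext.mk₀_comp_mk₀, theta_π]
      have e2 : Ext.mk₀ (Pi.π (fun _ : ℕ => F) k - f • Pi.π (fun _ : ℕ => F) (k + 1)) =
          Ext.mk₀ (Pi.π (fun _ : ℕ => F) k) - f • Ext.mk₀ (Pi.π (fun _ : ℕ => F) (k + 1)) := by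
        rw [← Ext.mk₀_smul]
        exact (Ext.addEquiv₀ (X := ∏ᶜ fun _ : ℕ => F) (Y := F)).symm.map_sub _ _
      rw [e2, sub_eq_add_neg, Ext.comp_add, Ext.comp_neg, Ext.comp_smul, ← sub_eq_add_neg]
    rw [e1, hξ, hy, sub_self]
    unfold cmp
    rw [Ext.zero_comp]
  have h2 : ξ = 0 := by
    have : ξ = (ξ.comp (Ext.mk₀ (theta f F)) (add_zero n)).comp (Ext.mk₀ (inv (theta f F)))
        (add_zero n) := by
      rw [Ext.comp_assoc_of_third_deg_zero, Ext.mk₀_comp_mk₀, IsIso.hom_inv_id, Ext.comp_mk₀_id]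
    rw [this, h1, Ext.zero_comp]
  have h3 : y 0 = 0 := by
    rw [← hξ, h2]
    unfold cmp
    rw [Ext.zero_comp]
  have h4 : y 0 = x := Ext.mk₀_id_comp x
  rw [← h4, h3]

end Linear

end Groth.Agent.Lib.Helper82.DC1
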