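import Groth.Agent.Lib.Helper82.AdicEpi
import Groth.Agent.Lib.Helper82.DC1
import Groth.Prelude.Def_ProEtDC

set_option autoImplicit false
set_option linter.style.haveILetI false
set_option linter.unusedSectionVars false
open CategoryTheory CategoryTheory.Limits AlgebraicGeometry Opposite
universe u
open ProEtS

namespace Groth.Agent.Lib.Helper82.DC2

open AdicLim AdicEpi

variable {Λ : Type (u + 1)} [CommRing Λ] {X : Scheme.{u}}

/-- components of a section of a countable product -/
noncomputable def comps (F : ℕ → EtModW.ModP Λ X) (W : X.ProEt)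
    (x : (∏ᶜ F).obj.obj (op W)) (k : ℕ) : (F k).obj.obj (op W) :=
  ((Pi.π F k).hom.app (op W)).hom x

theorem comps_bijective (F : ℕ → EtModW.ModP Λ X) (W : X.ProEt) :
    Function.Bijective (comps F W) := by
  have hc := isLimitOfPreserves (ModWC.Γ (Λ := Λ) W) (limit.isLimit (Discrete.functor F))
  constructor
  · intro x y h
    apply Concrete.isLimit_ext _ hc
    rintro ⟨k⟩
    exact congrFun h k
  · intro z
    let s : ((Discrete.functor F ⋙ ModWC.Γ (Λ := Λ) W) ⋙ forget (ModuleCat.{u+1} Λ)).sections :=
      ⟨fun j => z j.as, by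
        rintro ⟨j⟩ ⟨j'⟩ f
        have hjj : j = j' := Discrete.eq_of_hom f
        subst hjj
        have : f = 𝟙 _ := Subsingleton.elim _ _
        subst this
        simp⟩
    refine ⟨(Types.isLimitEquivSections (isLimitOfPreserves (forget _) hc)).symm s, ?_⟩
    funext k
    exact Types.isLimitEquivSections_symm_apply (isLimitOfPreserves (forget _) hc) s ⟨k⟩

/-- monomorphisms are injective on sections -/
theorem injective_of_mono {A B : EtModW.ModP Λ X} (φ : A ⟶ B) [Mono φ] (W : X.ProEt) :
    Function.Injective (φ.hom.app (op W)).hom := by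
  have : Mono ((ModWC.Γ (Λ := Λ) W).map φ) := inferInstance
  exact (ModuleCat.mono_iff_injective _).1 this

/-- mono detection on weakly contractible objects -/
theorem mono_of_wc {A B : EtModW.ModP Λ X} (ψ : A ⟶ B)
    (h : ∀ W : X.ProEt, ProEtS.IsWC W → Function.Injective (ψ.hom.app (op W)).hom) : Mono ψ := by
  apply Preadditive.mono_of_cancel_zero
  intro Z g hg
  apply hom_eq_zero_of_wc
  intro W hW
  ext s
  apply h W hW
  have h1 := congrArg (fun m : Z ⟶ B => (m.hom.app (op W)).hom s) hg
  refine Eq.trans h1 ?_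
  exact (map_zero _).symm

/-- short exactness can be checked on weakly contractible objects -/
theorem shortExact_of_wc (T : ShortComplex (EtModW.ModP Λ X))
    (h1 : ∀ W : X.ProEt, ProEtS.IsWC W → Function.Injective (T.f.hom.app (op W)).hom)
    (h2 : ∀ W : X.ProEt, ProEtS.IsWC W → Function.Surjective (T.g.hom.app (op W)).hom)
    (h3 : ∀ W : X.ProEt, ProEtS.IsWC W → ∀ x : T.X₂.obj.obj (op W),
      (T.g.hom.app (op W)).hom x = 0 → ∃ y, (T.f.hom.app (op W)).hom y = x) :
    T.ShortExact := by
  haveI := mono_of_wc T.f h1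
  haveI := epi_of_wc T.g h2
  refine ShortComplex.ShortExact.mk ?_
  rw [ShortComplex.exact_iff_epi_kernel_lift]
  apply epi_of_wc
  intro W hW κ
  have hκ : (T.g.hom.app (op W)).hom (((kernel.ι T.g).hom.app (op W)).hom κ) = 0 := by
    have h0 := kernel.condition T.g
    exact congrArg (fun m : kernel T.g ⟶ T.X₃ => (m.hom.app (op W)).hom κ) h0
  obtain ⟨y, hy⟩ := h3 W hW _ hκ
  refine ⟨y, ?_⟩
  apply injective_of_mono (kernel.ι T.g) W
  refine Eq.trans ?_ hy
  have h0 := kernel.lift_ι T.g T.f T.zero
  exact congrArg (fun m : T.X₁ ⟶ T.X₂ => (m.hom.app (op W)).hom y) h0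

/-- sections of a short exact sequence over a weakly contractible object -/
theorem sections_of_shortExact {T : ShortComplex (EtModW.ModP Λ X)} (hT : T.ShortExact)
    (W : X.ProEt) (hW : ProEtS.IsWC W) :
    Function.Injective (T.f.hom.app (op W)).hom ∧ Function.Surjective (T.g.hom.app (op W)).hom ∧
      ∀ x : T.X₂.obj.obj (op W), (T.g.hom.app (op W)).hom x = 0 →
        ∃ y, (T.f.hom.app (op W)).hom y = x := by
  haveI := hT.mono_f
  haveI := hT.epi_g
  exact ⟨injective_of_mono T.f W, ModWC.surjective_of_isWC W hW T.g,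
    fun x hx => exact_sections hT.exact W hW x hx⟩

theorem comps_map {F G : ℕ → EtModW.ModP Λ X} (φ : ∀ k, F k ⟶ G k) (W : X.ProEt)
    (x : (∏ᶜ F).obj.obj (op W)) (k : ℕ) :
    comps G W (((Limits.Pi.map φ).hom.app (op W)).hom x) k =
      ((φ k).hom.app (op W)).hom (comps F W x k) := by
  have h0 := Limits.Pi.map_π φ k
  exact congrArg (fun m : ∏ᶜ F ⟶ G k => (m.hom.app (op W)).hom x) h0

/-- countable products are exact on the pro-étale site -/
theorem prodExact : DC1.ProdExact (EtModW.ModP Λ X) := by
  intro S hS
  apply shortExact_of_wc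
  · intro W hW x y hxy
    apply (comps_bijective _ W).1
    funext k
    apply (sections_of_shortExact (hS k) W hW).1
    have := congrFun (congrArg (comps _ W) hxy) k
    rw [comps_map, comps_map] at this
    exact this
  · intro W hW z
    have hz := fun k => (sections_of_shortExact (hS k) W hW).2.1 (comps _ W z k)
    choose y hy using hz
    obtain ⟨x, hx⟩ := (comps_bijective (fun k => (S k).X₂) W).2 y
    refine ⟨x, ?_⟩
    apply (comps_bijective _ W).1
    funext k
    show comps _ W (((Limits.Pi.map fun k => (S k).g).hom.app (op W)).hom x) k = _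
    rw [comps_map, hx, hy]
  · intro W hW x hx
    have hz : ∀ k, ∃ y, ((S k).f.hom.app (op W)).hom y = comps _ W x k := by
      intro k
      apply (sections_of_shortExact (hS k) W hW).2.2
      have := congrFun (congrArg (comps _ W) hx) k
      rw [comps_map] at this
      refine this.trans ?_
      exact map_zero ((Pi.π (fun k => (S k).X₃) k).hom.app (op W)).hom
    choose y hy using hz
    obtain ⟨x', hx'⟩ := (comps_bijective (fun k => (S k).X₁) W).2 y
    refine ⟨x', ?_⟩
    apply (comps_bijective _ W).1
    funext k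
    show comps _ W (((Limits.Pi.map fun k => (S k).f).hom.app (op W)).hom x') k = _
    rw [comps_map, hx', hy]

end Groth.Agent.Lib.Helper82.DC2
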