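import Groth.Agent.Lib.Helper82.DC2

set_option autoImplicit false
set_option linter.style.haveILetI false
set_option linter.unusedSectionVars false
open CategoryTheory CategoryTheory.Limits AlgebraicGeometry Opposite
universe u
open ProEtS

namespace Groth.Agent.Lib.Helper82.DC3

open AdicLim AdicEpi DC2

variable {Λ : Type (u + 1)} [CommRing Λ] {X : Scheme.{u}}

variable (Λ) in
/-- `M ↦ j_{U!} M_U` -/
noncomputable abbrev TT (U : X.ProEt) : ModuleCat.{u+1} Λ ⥤ EtModW.ModP Λ X :=
  constantSheaf ((Scheme.ProEt.topology X).over U) (ModuleCat.{u+1} Λ) ⋙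
    ProEtDC.extZeroModP Λ U

variable (Λ) in
/-- sections over `U` -/
noncomputable abbrev RR (U : X.ProEt) : EtModW.ModP Λ X ⥤ ModuleCat.{u+1} Λ :=
  (Over.forget U).sheafPushforwardContinuous (ModuleCat.{u+1} Λ)
      ((Scheme.ProEt.topology X).over U) (Scheme.ProEt.topology X) ⋙
    (sheafSections ((Scheme.ProEt.topology X).over U) (ModuleCat.{u+1} Λ)).obj
      (op (Over.mk (𝟙 U)))

variable (Λ) in
noncomputable def adjT (U : X.ProEt) : TT Λ U ⊣ RR Λ U :=
  (constantSheafAdj ((Scheme.ProEt.topology X).over U) (ModuleCat.{u+1} Λ)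
    Over.mkIdTerminal).comp
    ((Over.forget U).sheafAdjunctionContinuous (ModuleCat.{u+1} Λ)
      ((Scheme.ProEt.topology X).over U) (Scheme.ProEt.topology X))

example (U : X.ProEt) (f : Λ) :
    ProEtDC.locExt Λ U f = (TT Λ U).obj (ModuleCat.of Λ (Localization.Away f)) := rfl

example (U : X.ProEt) (G : EtModW.ModP Λ X) : (RR Λ U).obj G = G.obj.obj (op U) := rfl

theorem RR_smul (U : X.ProEt) (a : Λ) {F G : EtModW.ModP Λ X} (φ : F ⟶ G) :
    (RR Λ U).map (a • φ) = a • (RR Λ U).map φ := rfl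

theorem TT_smul (U : X.ProEt) (a : Λ) {M N : ModuleCat.{u+1} Λ} (φ : M ⟶ N) :
    (TT Λ U).map (a • φ) = a • (TT Λ U).map φ :=
  left_linear (adjT Λ U) (fun a _ _ φ => RR_smul U a φ) a φ

theorem isIso_smul_away (f : Λ) :
    IsIso (f • 𝟙 (ModuleCat.of Λ (Localization.Away f))) := by
  refine ⟨ModuleCat.ofHom (LinearMap.mulLeft Λ (IsLocalization.Away.invSelf (S := Localization.Away f) f)), ?_, ?_⟩
  · ext x
    show IsLocalization.Away.invSelf (S := Localization.Away f) f * (f • x) = x
    rw [Algebra.smul_def, ← mul_assoc, mul_comm (IsLocalization.Away.invSelf f),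
      IsLocalization.Away.mul_invSelf, one_mul]
  · ext x
    show f • (IsLocalization.Away.invSelf (S := Localization.Away f) f * x) = x
    rw [Algebra.smul_def, ← mul_assoc, IsLocalization.Away.mul_invSelf, one_mul]

instance isIso_smul_locExt (U : X.ProEt) (f : Λ) : IsIso (f • 𝟙 (ProEtDC.locExt Λ U f)) := by
  have h : f • 𝟙 (ProEtDC.locExt Λ U f) =
      (TT Λ U).map (f • 𝟙 (ModuleCat.of Λ (Localization.Away f))) := by
    rw [TT_smul, (TT Λ U).map_id]
    rfl
  rw [h]
  haveI := isIso_smul_away f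
  infer_instance

/-- a compatible sequence gives a linear map out of the localization -/
theorem exists_away_map {N : Type*} [AddCommGroup N] [Module Λ N] (f : Λ) (x : ℕ → N)
    (hx : ∀ k, x k = f • x (k + 1)) :
    ∃ φ : Localization.Away f →ₗ[Λ] N, φ 1 = x 0 := by
  let N' : Submodule Λ (ℕ → N) :=
    { carrier := {y | ∀ k, y k = f • y (k + 1)}
      add_mem' := fun {a b} ha hb k => by
        show a k + b k = f • (a (k + 1) + b (k + 1))
        rw [smul_add, ← ha k, ← hb k]
      zero_mem' := fun k => by simp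
      smul_mem' := fun c a ha k => by
        show c • a k = f • (c • a (k + 1))
        rw [smul_comm, ← ha k] }
  let x' : N' := ⟨x, hx⟩
  have hunit : ∀ s : Submonoid.powers f, IsUnit ((algebraMap Λ (Module.End Λ N')) s) := by
    rintro ⟨s, n, rfl⟩
    rw [map_pow]
    apply IsUnit.pow
    rw [Module.End.isUnit_iff]
    constructor
    · intro a b hab
      have hab' : f • a = f • b := hab
      apply Subtype.ext
      funext k
      have h1 := congrArg (fun z : N' => z.1 (k + 1)) hab'
      have h2 : f • a.1 (k + 1) = f • b.1 (k + 1) := h1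
      rw [a.2 k, b.2 k, h2]
    · intro a
      refine ⟨⟨fun k => a.1 (k + 1), fun k => a.2 (k + 1)⟩, ?_⟩
      apply Subtype.ext
      funext k
      show f • a.1 (k + 1) = a.1 k
      exact (a.2 k).symm
  let g : Λ →ₗ[Λ] N' := LinearMap.toSpanSingleton Λ N' x'
  let φ' : Localization.Away f →ₗ[Λ] N' :=
    IsLocalizedModule.lift (Submonoid.powers f) (Algebra.linearMap Λ (Localization.Away f)) g hunit
  refine ⟨(LinearMap.proj 0).comp (N'.subtype.comp φ'), ?_⟩
  have h1 : φ' (Algebra.linearMap Λ (Localization.Away f) 1) = g 1 :=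
    IsLocalizedModule.lift_apply _ _ g hunit 1
  have h2 : φ' 1 = x' := by
    have : (Algebra.linearMap Λ (Localization.Away f) 1) = 1 := by simp
    rw [this] at h1
    rw [h1]
    simp [g]
  show (φ' 1).1 0 = x 0
  rw [h2]

/-- vanishing of `Hom(j_{U!} Λ_f, G)` kills compatible sequences of sections over `U` -/
theorem compat_zero (U : X.ProEt) (f : Λ) (G : EtModW.ModP Λ X)
    (h : Subsingleton (Abelian.Ext.{u + 1} (ProEtDC.locExt Λ U f) G 0))
    (x : ℕ → G.obj.obj (op U)) (hx : ∀ k, x k = f • x (k + 1)) : x 0 = 0 := by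
  obtain ⟨φ, hφ⟩ := exists_away_map f x hx
  let φ' : ModuleCat.of Λ (Localization.Away f) ⟶ (RR Λ U).obj G := ModuleCat.ofHom φ
  let ψ : ProEtDC.locExt Λ U f ⟶ G := ((adjT Λ U).homEquiv _ _).symm φ'
  have hψ : ψ = 0 := (Abelian.Ext.mk₀_bijective _ _).1 (h.elim _ _)
  have hφ' : φ' = 0 := by
    have h1 := congrArg ((adjT Λ U).homEquiv _ _) hψ
    rw [Equiv.apply_symm_apply] at h1
    rw [h1, Adjunction.homEquiv_unit]
    have : (RR Λ U).map (0 : ProEtDC.locExt Λ U f ⟶ G) = 0 :=
      map_zero_of_linear (fun a _ _ φ => RR_smul U a φ) _ _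
    refine Eq.trans (congrArg _ this) ?_
    exact comp_zero
  rw [← hφ]
  have h2 := congrArg (fun m : ModuleCat.of Λ (Localization.Away f) ⟶ (RR Λ U).obj G =>
    m.hom (1 : Localization.Away f)) hφ'
  exact h2

/-- all terms of a compatible sequence vanish -/
theorem compat_zero' (U : X.ProEt) (f : Λ) (G : EtModW.ModP Λ X)
    (h : Subsingleton (Abelian.Ext.{u + 1} (ProEtDC.locExt Λ U f) G 0))
    (x : ℕ → G.obj.obj (op U)) (hx : ∀ k, x k = f • x (k + 1)) (j : ℕ) : x j = 0 :=
  compat_zero U f G h (fun k => x (j + k)) (fun k => hx (j + k))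

end Groth.Agent.Lib.Helper82.DC3
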