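import Mathlib

set_option autoImplicit false

namespace Groth.Agent.Lib.Helper82.DC5

variable {Λ : Type*} [CommRing Λ]

/-- module-level `θ` -/
def thetaM (f : Λ) (N : Type*) [AddCommGroup N] [Module Λ N] (x : ℕ → N) (k : ℕ) : N :=
  x k - f • x (k + 1)

/-- derived `f`-completeness of a module, elementwise -/
def DCmod (f : Λ) (N : Type*) [AddCommGroup N] [Module Λ N] : Prop :=
  Function.Bijective (thetaM f N)

section

variable {M N : Type*} [AddCommGroup M] [Module Λ M] [AddCommGroup N] [Module Λ N]

theorem thetaM_map (f : Λ) (φ : M →ₗ[Λ] N) (x : ℕ → M) :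
    thetaM f N (fun k => φ (x k)) = fun k => φ (thetaM f M x k) := by
  funext k
  simp [thetaM]

theorem thetaM_sub (f : Λ) (x y : ℕ → M) :
    thetaM f M (x - y) = thetaM f M x - thetaM f M y := by
  funext k
  simp only [thetaM, Pi.sub_apply, smul_sub]
  abel

theorem thetaM_zero (f : Λ) : thetaM f M 0 = 0 := by
  funext k
  simp [thetaM]

theorem thetaM_inj_iff (f : Λ) :
    Function.Injective (thetaM f M) ↔ ∀ x : ℕ → M, thetaM f M x = 0 → x = 0 := by
  constructor
  · intro h x hx
    exact h (hx.trans (thetaM_zero f).symm)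
  · intro h x y hxy
    have := h (x - y) (by rw [thetaM_sub, hxy, sub_self])
    exact sub_eq_zero.1 this

end

section Kernel

variable {M0 M1 M2 : Type*} [AddCommGroup M0] [Module Λ M0] [AddCommGroup M1] [Module Λ M1]
  [AddCommGroup M2] [Module Λ M2]

/-- derived complete modules are closed under kernels -/
theorem dcmod_kernel (f : Λ) (ι : M0 →ₗ[Λ] M1) (φ : M1 →ₗ[Λ] M2) (hι : Function.Injective ι)
    (hex : ∀ x, φ x = 0 → ∃ y, ι y = x) (hcomp : ∀ y, φ (ι y) = 0)
    (h1 : DCmod f M1) (h2 : DCmod f M2) : DCmod f M0 := by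
  constructor
  · rw [thetaM_inj_iff]
    intro x hx
    have : (fun k => ι (x k)) = 0 := by
      apply (thetaM_inj_iff f).1 h1.1
      rw [thetaM_map, hx]
      funext k
      simp
    funext k
    apply hι
    refine (congrFun this k).trans ?_
    exact (map_zero ι).symm
  · intro y
    obtain ⟨x, hx⟩ := h1.2 (fun k => ι (y k))
    have hφx : (fun k => φ (x k)) = 0 := by
      apply (thetaM_inj_iff f).1 h2.1
      rw [thetaM_map, hx]
      funext k
      simp [hcomp]
    have hx0 : ∀ k, ∃ z, ι z = x k := fun k => hex _ (congrFun hφx k)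
    choose x0 hx0 using hx0
    refine ⟨x0, ?_⟩
    funext k
    apply hι
    have h3 := congrFun (thetaM_map f ι x0) k
    rw [← h3]
    have : (fun k => ι (x0 k)) = x := funext hx0
    rw [this, hx]

/-- derived complete modules are closed under cokernels -/
theorem dcmod_cokernel (f : Λ) (φ : M0 →ₗ[Λ] M1) (π : M1 →ₗ[Λ] M2) (hπ : Function.Surjective π)
    (hex : ∀ x, π x = 0 → ∃ y, φ y = x) (hcomp : ∀ y, π (φ y) = 0)
    (h0 : DCmod f M0) (h1 : DCmod f M1) : DCmod f M2 := by
  constructor
  · rw [thetaM_inj_iff]
    intro c hc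
    have hm : ∀ k, ∃ m, π m = c k := fun k => hπ (c k)
    choose m hm using hm
    have h3 : ∀ k, π (thetaM f M1 m k) = 0 := by
      intro k
      have := congrFun (thetaM_map f π m) k
      rw [← this]
      have e : (fun k => π (m k)) = c := funext hm
      rw [e, hc]
      rfl
    have hn : ∀ k, ∃ n, φ n = thetaM f M1 m k := fun k => hex _ (h3 k)
    choose n hn using hn
    obtain ⟨n', hn'⟩ := h0.2 n
    have h4 : thetaM f M1 (m - fun k => φ (n' k)) = 0 := by
      rw [thetaM_sub, thetaM_map, hn']
      funext k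
      simp [hn]
    have h5 := (thetaM_inj_iff f).1 h1.1 _ h4
    funext k
    have h6 := congrFun h5 k
    simp only [Pi.sub_apply, Pi.zero_apply, sub_eq_zero] at h6
    rw [← hm k, h6, hcomp]
    rfl
  · intro c
    have hm : ∀ k, ∃ m, π m = c k := fun k => hπ (c k)
    choose m hm using hm
    obtain ⟨x, hx⟩ := h1.2 m
    refine ⟨fun k => π (x k), ?_⟩
    rw [thetaM_map, hx]
    exact funext hm

end Kernel

section Limit

variable {M : Type*} [AddCommGroup M] [Module Λ M] {Mn : ℕ → Type*}
  [∀ n, AddCommGroup (Mn n)] [∀ n, Module Λ (Mn n)]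

/-- derived complete modules are closed under sequential limits -/
theorem dcmod_limit (f : Λ) (p : ∀ n, M →ₗ[Λ] Mn n) (t : ∀ n, Mn (n + 1) →ₗ[Λ] Mn n)
    (hpt : ∀ n x, t n (p (n + 1) x) = p n x)
    (hext : ∀ x : M, (∀ n, p n x = 0) → x = 0)
    (hexist : ∀ b : ∀ n, Mn n, (∀ n, t n (b (n + 1)) = b n) → ∃ x : M, ∀ n, p n x = b n)
    (h : ∀ n, DCmod f (Mn n)) : DCmod f M := by
  constructor
  · rw [thetaM_inj_iff]
    intro x hx
    funext k
    apply hext
    intro n
    have : (fun k => p n (x k)) = 0 := by
      apply (thetaM_inj_iff f).1 (h n).1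
      rw [thetaM_map, hx]
      funext k
      simp
    exact congrFun this k
  · intro y
    have hz := fun n => (h n).2 (fun k => p n (y k))
    choose z hz using hz
    have hcompat : ∀ n, (fun k => t n (z (n + 1) k)) = z n := by
      intro n
      apply (h n).1
      rw [thetaM_map, hz (n + 1), hz n]
      funext k
      exact hpt n (y k)
    have hx := fun k => hexist (fun n => z n k) (fun n => congrFun (hcompat n) k)
    choose x hx using hx
    refine ⟨x, ?_⟩
    funext k
    rw [← sub_eq_zero]
    apply hext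
    intro n
    rw [map_sub, sub_eq_zero]
    have h1 := congrFun (thetaM_map f (p n) x) k
    rw [← h1]
    have : (fun k => p n (x k)) = z n := funext (fun k => hx k n)
    rw [this, hz n]

end Limit

section Nakayama

theorem dcmod_pi {ι : Type*} (f : Λ) (M : Type*) [AddCommGroup M] [Module Λ M]
    (h : DCmod f M) : DCmod f (ι → M) := by
  constructor
  · intro x y hxy
    funext k i
    have : (fun k => x k i) = fun k => y k i := by
      apply h.1
      funext k
      exact congrFun (congrFun hxy k) i
    exact congrFun this k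
  · intro y
    have hx := fun i => h.2 (fun k => y k i)
    choose x hx using hx
    refine ⟨fun k i => x i k, ?_⟩
    funext k i
    exact congrFun (hx i) k

/-- a surjective-`f` derived `f`-complete module vanishes -/
theorem eq_zero_of_surjective (f : Λ) {M : Type*} [AddCommGroup M] [Module Λ M]
    (h : DCmod f M) (hs : ∀ m : M, ∃ m', m = f • m') (m : M) : m = 0 := by
  let seq : ℕ → M := fun k => Nat.rec m (fun _ y => (hs y).choose) k
  have hseq : ∀ k, seq k = f • seq (k + 1) := fun k => (hs (seq k)).choose_spec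
  have : seq = 0 := by
    apply (thetaM_inj_iff f).1 h.1
    funext k
    show seq k - f • seq (k + 1) = 0
    rw [← hseq k, sub_self]
  exact congrFun this 0

universe v

/-- derived Nakayama for finitely many elements -/
theorem nakayama (r : ℕ) : ∀ (M : Type v) [AddCommGroup M] [Module Λ M] (a : Fin r → Λ),
    (∀ k, DCmod (a k) M) → (∀ m : M, ∃ t : Fin r → M, m = ∑ k, a k • t k) → ∀ m : M, m = 0 := by
  induction r with
  | zero =>
    intro M _ _ a _ h m
    obtain ⟨t, ht⟩ := h m
    simpa using ht
  | succ r ih =>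
    intro M _ _ a hdc h
    let a' : Fin r → Λ := fun k => a k.castSucc
    let ψ : (Fin r → M) →ₗ[Λ] M :=
      { toFun := fun t => ∑ k, a' k • t k
        map_add' := fun t t' => by simp [smul_add, Finset.sum_add_distrib]
        map_smul' := fun c t => by
          simp only [Pi.smul_apply, RingHom.id_apply, Finset.smul_sum]
          refine Finset.sum_congr rfl (fun k _ => ?_)
          rw [smul_comm] }
    let S : Submodule Λ M := LinearMap.range ψ
    have hq : DCmod (a (Fin.last r)) (M ⧸ S) := by
      refine dcmod_cokernel (a (Fin.last r)) ψ S.mkQ (Submodule.mkQ_surjective S) ?_ ?_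
        (dcmod_pi _ M (hdc _)) (hdc _)
      · intro x hx
        have : x ∈ S := (Submodule.Quotient.mk_eq_zero S).1 hx
        exact this
      · intro y
        exact (Submodule.Quotient.mk_eq_zero S).2 ⟨y, rfl⟩
    have hsurj : ∀ c : M ⧸ S, ∃ c', c = a (Fin.last r) • c' := by
      intro c
      obtain ⟨m, rfl⟩ := Submodule.mkQ_surjective S c
      obtain ⟨t, ht⟩ := h m
      refine ⟨S.mkQ (t (Fin.last r)), ?_⟩
      rw [← map_smul, ← sub_eq_zero, ← map_sub]
      apply (Submodule.Quotient.mk_eq_zero S).2
      refine ⟨fun k => t k.castSucc, ?_⟩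
      show ∑ k, a' k • t k.castSucc = _
      rw [ht, Fin.sum_univ_castSucc]
      simp [a']
    have hzero := eq_zero_of_surjective (a (Fin.last r)) hq hsurj
    apply ih M a' (fun k => hdc _)
    intro m
    have hm : S.mkQ m = 0 := hzero _
    have hm' : m ∈ S := (Submodule.Quotient.mk_eq_zero S).1 hm
    obtain ⟨t, ht⟩ := hm'
    exact ⟨t, ht.symm⟩

end Nakayama

end Groth.Agent.Lib.Helper82.DC5
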