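import Groth.Agent.Lib.Helper82.DC3
import Groth.Agent.Lib.Helper82.DC5

set_option autoImplicit false
set_option linter.style.haveILetI false
set_option linter.unusedSectionVars false
open CategoryTheory CategoryTheory.Limits AlgebraicGeometry Opposite
universe u
open ProEtS

namespace Groth.Agent.Lib.Helper82.DC4

open AdicLim AdicEpi DC1 DC2 DC3 DC5

variable {Λ : Type (u + 1)} [CommRing Λ] {X : Scheme.{u}}

theorem comps_theta (f : Λ) (G : EtModW.ModP Λ X) (W : X.ProEt)
    (x : (∏ᶜ fun _ : ℕ => G).obj.obj (op W)) :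
    comps (fun _ : ℕ => G) W (((theta f G).hom.app (op W)).hom x) =
      thetaM f _ (comps (fun _ : ℕ => G) W x) := by
  funext k
  have h0 := theta_π f G k
  exact congrArg (fun m : (∏ᶜ fun _ : ℕ => G) ⟶ G => (m.hom.app (op W)).hom x) h0

theorem comps_zero (G : EtModW.ModP Λ X) (W : X.ProEt) :
    comps (fun _ : ℕ => G) W 0 = 0 := by
  funext k
  exact map_zero ((Pi.π (fun _ : ℕ => G) k).hom.app (op W)).hom

/-- bijectivity of `θ` on sections in terms of the module-level map -/
theorem bijective_theta_iff (f : Λ) (G : EtModW.ModP Λ X) (W : X.ProEt) :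
    Function.Bijective ((theta f G).hom.app (op W)).hom ↔ DCmod f (G.obj.obj (op W)) := by
  have hc := comps_bijective (fun _ : ℕ => G) W
  have h : thetaM f _ ∘ comps (fun _ : ℕ => G) W =
      comps (fun _ : ℕ => G) W ∘ ((theta f G).hom.app (op W)).hom := by
    funext x
    exact (comps_theta f G W x).symm
  constructor
  · intro hb
    have h1 : Function.Bijective (thetaM f _ ∘ comps (fun _ : ℕ => G) W) := by
      rw [h]
      exact hc.comp hb
    exact (Function.Bijective.of_comp_iff _ hc).1 h1
  · intro hb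
    have h1 : Function.Bijective (comps (fun _ : ℕ => G) W ∘ ((theta f G).hom.app (op W)).hom) := by
      rw [← h]
      exact hb.comp hc
    exact (Function.Bijective.of_comp_iff' hc _).1 h1

/-- isomorphisms of sheaves are bijective on sections -/
theorem bijective_of_isIso {A B : EtModW.ModP Λ X} (φ : A ⟶ B) [IsIso φ] (W : X.ProEt) :
    Function.Bijective (φ.hom.app (op W)).hom := by
  have : IsIso ((ModWC.Γ (Λ := Λ) W).map φ) := inferInstance
  exact ConcreteCategory.bijective_of_isIso ((ModWC.Γ (Λ := Λ) W).map φ)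

theorem isIso_of_wc {A B : EtModW.ModP Λ X} (φ : A ⟶ B)
    (h : ∀ W : X.ProEt, ProEtS.IsWC W → Function.Bijective (φ.hom.app (op W)).hom) : IsIso φ := by
  haveI := mono_of_wc φ (fun W hW => (h W hW).1)
  haveI := epi_of_wc φ (fun W hW => (h W hW).2)
  exact isIso_of_mono_of_epi φ

theorem isIso_theta_iff (f : Λ) (G : EtModW.ModP Λ X) :
    IsIso (theta f G) ↔ ∀ W : X.ProEt, ProEtS.IsWC W → DCmod f (G.obj.obj (op W)) := by
  constructor
  · intro h W _
    exact (bijective_theta_iff f G W).1 (bijective_of_isIso _ W)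
  · intro h
    exact isIso_of_wc _ (fun W hW => (bijective_theta_iff f G W).2 (h W hW))

/-- derived completeness with respect to a single element -/
def DCf (f : Λ) (G : EtModW.ModP Λ X) : Prop :=
  ∀ U : X.ProEt, Orth.{u + 1} (ProEtDC.locExt Λ U f) G

theorem isDCSheaf_iff (I : Ideal Λ) (G : EtModW.ModP Λ X) :
    ProEtDC.IsDCSheaf Λ I G ↔ ∀ f ∈ I, DCf f G :=
  ⟨fun h f hf U n => h U f hf n, fun h U f hf n => h f hf U n⟩

theorem dcf_of_isIso_theta (f : Λ) (G : EtModW.ModP Λ X) [IsIso (theta f G)] : DCf f G :=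
  fun _ => orth_of_theta prodExact f

theorem isIso_theta_of_dcf (f : Λ) (G : EtModW.ModP Λ X) (h : DCf f G) : IsIso (theta f G) := by
  haveI hmono : Mono (theta f G) := by
    apply mono_of_wc
    intro W hW
    rw [injective_iff_map_eq_zero]
    intro x hx
    apply (comps_bijective _ W).1
    have hc : ∀ k, comps (fun _ : ℕ => G) W x k = f • comps (fun _ : ℕ => G) W x (k + 1) := by
      intro k
      have h1 := congrFun (congrArg (comps (fun _ : ℕ => G) W) hx) k
      rw [comps_theta, comps_zero] at h1
      exact sub_eq_zero.1 h1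
    funext k
    rw [compat_zero' W f G (h W 0) _ hc k, comps_zero]
    rfl
  have hSES : (ShortComplex.mk (theta f G) (cokernel.π (theta f G))
      (cokernel.condition _)).ShortExact :=
    { exact := ShortComplex.exact_cokernel _
      mono_f := hmono
      epi_g := (inferInstance : Epi (cokernel.π (theta f G))) }
  have hC : ∀ U : X.ProEt, Orth.{u + 1} (ProEtDC.locExt Λ U f) (cokernel (theta f G)) :=
    fun U => orth_X₃ hSES (orth_pi prodExact _ _ (fun _ => h U))
      (orth_pi prodExact _ _ (fun _ => h U))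
  have hfac : cokernel.π (theta f G) =
      (shiftPi G ≫ cokernel.π (theta f G)) ≫ (f • 𝟙 (cokernel (theta f G))) := by
    have h0 := cokernel.condition (theta f G)
    unfold theta at h0
    rw [Preadditive.sub_comp, Category.id_comp, sub_eq_zero] at h0
    rw [Linear.comp_smul, Category.comp_id, ← Linear.smul_comp]
    exact h0
  haveI hepi : Epi (f • 𝟙 (cokernel (theta f G))) := by
    haveI : Epi ((shiftPi G ≫ cokernel.π (theta f G)) ≫ (f • 𝟙 (cokernel (theta f G)))) := by
      rw [← hfac]
      infer_instance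
    exact epi_of_epi (shiftPi G ≫ cokernel.π (theta f G)) _
  have hzero : 𝟙 (cokernel (theta f G)) = 0 := by
    apply hom_eq_zero_of_wc
    intro W hW
    ext c
    have hsurj := ModWC.surjective_of_isWC W hW (f • 𝟙 (cokernel (theta f G)))
    let seq : ℕ → (cokernel (theta f G)).obj.obj (op W) :=
      fun k => Nat.rec c (fun _ y => (hsurj y).choose) k
    have hseq : ∀ k, seq k = f • seq (k + 1) := fun k => ((hsurj (seq k)).choose_spec).symm
    exact compat_zero W f _ (hC W 0) seq hseq
  haveI : Epi (theta f G) := by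
    apply Abelian.epi_of_cokernel_π_eq_zero
    rw [← Category.comp_id (cokernel.π (theta f G)), hzero, comp_zero]
  exact isIso_of_mono_of_epi _

theorem dcf_iff (f : Λ) (G : EtModW.ModP Λ X) :
    DCf f G ↔ ∀ W : X.ProEt, ProEtS.IsWC W → DCmod f (G.obj.obj (op W)) := by
  rw [← isIso_theta_iff]
  exact ⟨isIso_theta_of_dcf f G, fun h => by haveI := h; exact dcf_of_isIso_theta f G⟩

end Groth.Agent.Lib.Helper82.DC4
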