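import Groth.Agent.Lib.Helper82.DC4

set_option autoImplicit false
set_option linter.style.haveILetI false
set_option linter.unusedSectionVars false
open CategoryTheory CategoryTheory.Limits AlgebraicGeometry Opposite
universe u
open ProEtS

namespace Groth.Agent.Lib.Helper82.DC6

open AdicLim AdicEpi DC1 DC2 DC3 DC4 DC5

variable {Λ : Type (u + 1)} [CommRing Λ] {X : Scheme.{u}}

theorem isDCSheaf_iff_mod (I : Ideal Λ) (G : EtModW.ModP Λ X) :
    ProEtDC.IsDCSheaf Λ I G ↔
      ∀ f ∈ I, ∀ W : X.ProEt, ProEtS.IsWC W → DCmod f (G.obj.obj (op W)) := by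
  rw [isDCSheaf_iff]
  exact forall₂_congr (fun f _ => dcf_iff f G)

theorem kernel_cokernel (I : Ideal Λ) {F G : EtModW.ModP Λ X} (φ : F ⟶ G)
    (hF : ProEtDC.IsDCSheaf Λ I F) (hG : ProEtDC.IsDCSheaf Λ I G) :
    ProEtDC.IsDCSheaf Λ I (kernel φ) ∧ ProEtDC.IsDCSheaf Λ I (cokernel φ) := by
  rw [isDCSheaf_iff_mod] at hF hG ⊢
  rw [isDCSheaf_iff_mod]
  constructor
  · intro f hf W hW
    refine dcmod_kernel f ((kernel.ι φ).hom.app (op W)).hom (φ.hom.app (op W)).hom
      (injective_of_mono _ W) ?_ ?_ (hF f hf W hW) (hG f hf W hW)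
    · exact exact_sections (T := ShortComplex.mk (kernel.ι φ) φ (kernel.condition φ))
        (ShortComplex.exact_kernel φ) W hW
    · intro y
      have h0 := kernel.condition φ
      exact congrArg (fun m : kernel φ ⟶ G => (m.hom.app (op W)).hom y) h0
  · intro f hf W hW
    refine dcmod_cokernel f (φ.hom.app (op W)).hom ((cokernel.π φ).hom.app (op W)).hom
      (ModWC.surjective_of_isWC W hW (cokernel.π φ)) ?_ ?_ (hF f hf W hW) (hG f hf W hW)
    · exact exact_sections (T := ShortComplex.mk φ (cokernel.π φ) (cokernel.condition φ))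
        (ShortComplex.exact_cokernel φ) W hW
    · intro y
      have h0 := cokernel.condition φ
      exact congrArg (fun m : F ⟶ cokernel φ => (m.hom.app (op W)).hom y) h0

theorem extension (I : Ideal Λ) (S : ShortComplex (EtModW.ModP Λ X)) (hS : S.ShortExact)
    (h₁ : ProEtDC.IsDCSheaf Λ I S.X₁) (h₃ : ProEtDC.IsDCSheaf Λ I S.X₃) :
    ProEtDC.IsDCSheaf Λ I S.X₂ :=
  fun U f hf n => orth_X₂ hS (h₁ U f hf) (h₃ U f hf) n

end Groth.Agent.Lib.Helper82.DC6
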