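import Groth.Agent.Lib.Helper82.DC6

set_option autoImplicit false
set_option linter.style.haveILetI false
set_option linter.unusedSectionVars false
open CategoryTheory CategoryTheory.Limits AlgebraicGeometry Opposite
universe u
open ProEtS

namespace Groth.Agent.Lib.Helper82.DC7

open AdicLim AdicEpi DC1 DC2 DC3 DC4 DC5 DC6

variable {Λ : Type (u + 1)} [CommRing Λ] {X : Scheme.{u}}

theorem limit_isDC (I : Ideal Λ) (D : ℕᵒᵖ ⥤ EtModW.ModP Λ X)
    (hD : ∀ n : ℕ, ProEtDC.IsDCSheaf Λ I (D.obj (op n))) :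
    ProEtDC.IsDCSheaf Λ I (limit D) := by
  rw [isDCSheaf_iff_mod]
  intro f hf W hW
  have hc := isLimitOfPreserves (ModWC.Γ (Λ := Λ) W) (limit.isLimit D)
  refine dcmod_limit (Mn := fun n => (D.obj (op n)).obj.obj (op W)) f
    (fun n => ((limit.π D (op n)).hom.app (op W)).hom)
    (fun n => ((D.map (homOfLE (Nat.le_succ n)).op).hom.app (op W)).hom) ?_ ?_ ?_ ?_
  · intro n x
    have h0 := limit.w D (homOfLE (Nat.le_succ n)).op
    exact congrArg (fun m : limit D ⟶ D.obj (op n) => (m.hom.app (op W)).hom x) h0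
  · intro x hx
    apply Concrete.isLimit_ext (D ⋙ ModWC.Γ (Λ := Λ) W) hc
    rintro ⟨n⟩
    refine (hx n).trans ?_
    exact (map_zero ((limit.π D (op n)).hom.app (op W)).hom).symm
  · intro b hb
    exact MLTower.exists_of_compatible (T := D ⋙ ModWC.Γ (Λ := Λ) W) hc b hb
  · intro n
    exact (isDCSheaf_iff_mod I _).1 (hD n) f hf W hW

end Groth.Agent.Lib.Helper82.DC7
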