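import Groth.Agent.Lib.Helper82.DC7

set_option autoImplicit false
set_option linter.style.haveILetI false
set_option linter.unusedSectionVars false
open CategoryTheory CategoryTheory.Limits AlgebraicGeometry Opposite
universe u
open ProEtS

namespace Groth.Agent.Lib.Helper82.DC8

open AdicLim AdicEpi DC1 DC2 DC3 DC4 DC5 DC6 DC7

variable {Λ : Type (u + 1)} [CommRing Λ] {X : Scheme.{u}}

theorem presheafToSheaf_smul (a : Λ) {P Q : X.ProEtᵒᵖ ⥤ ModuleCat.{u+1} Λ} (φ : P ⟶ Q) :
    (presheafToSheaf (Scheme.ProEt.topology X) (ModuleCat.{u+1} Λ)).map (a • φ) =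
      a • (presheafToSheaf (Scheme.ProEt.topology X) (ModuleCat.{u+1} Λ)).map φ :=
  left_linear (sheafificationAdjunction (Scheme.ProEt.topology X) (ModuleCat.{u+1} Λ))
    (fun _ _ _ _ => rfl) a φ

theorem constantSheaf_smul (a : Λ) {M N : ModuleCat.{u+1} Λ} (φ : M ⟶ N) :
    (constantSheaf (Scheme.ProEt.topology X) (ModuleCat.{u+1} Λ)).map (a • φ) =
      a • (constantSheaf (Scheme.ProEt.topology X) (ModuleCat.{u+1} Λ)).map φ := by
  show (presheafToSheaf _ _).map ((Functor.const _).map (a • φ)) = _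
  have : (Functor.const X.ProEtᵒᵖ).map (a • φ) = a • (Functor.const X.ProEtᵒᵖ).map φ := rfl
  rw [this, presheafToSheaf_smul]
  rfl

theorem quot_isDC (I : Ideal Λ) (n : ℕ) :
    ProEtDC.IsDCSheaf Λ I ((ProEtDC.quotTower Λ I ⋙
      constantSheaf (Scheme.ProEt.topology X) (ModuleCat.{u + 1} Λ)).obj (op n)) := by
  intro U f hf
  apply orth_of_nilpotent f n
  show f ^ n • 𝟙 ((constantSheaf (Scheme.ProEt.topology X) (ModuleCat.{u + 1} Λ)).obj
    ((ProEtDC.quotTower Λ I).obj (op n))) = 0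
  rw [← (constantSheaf (Scheme.ProEt.topology X) (ModuleCat.{u + 1} Λ)).map_id,
    ← constantSheaf_smul]
  have h0 : f ^ n • 𝟙 ((ProEtDC.quotTower Λ I).obj (op n)) = 0 := by
    ext x
    have key : ∀ z : Λ ⧸ (I ^ n • ⊤ : Submodule Λ Λ), f ^ n • z = 0 := by
      intro z
      obtain ⟨y, rfl⟩ := Submodule.mkQ_surjective _ z
      rw [← map_smul]
      apply (Submodule.Quotient.mk_eq_zero _).2
      exact Submodule.smul_mem_smul (Ideal.pow_mem_pow hf n) trivial
    exact key x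
  rw [h0]
  exact map_zero_of_linear (fun a _ _ φ => constantSheaf_smul a φ) _ _

theorem lambdaHat_isDC (I : Ideal Λ) : ProEtDC.IsDCSheaf Λ I (ProEtDC.lambdaHat Λ X I) :=
  limit_isDC I _ (fun n => quot_isDC I n)

end Groth.Agent.Lib.Helper82.DC8
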