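import Groth.Agent.Lib.Helper82.DC8

set_option autoImplicit false
set_option linter.style.haveILetI false
set_option linter.unusedSectionVars false
open CategoryTheory CategoryTheory.Limits AlgebraicGeometry Opposite
universe u
open ProEtS

namespace Groth.Agent.Lib.Helper82.DC9

open AdicLim AdicEpi DC1 DC2 DC3 DC4 DC5 DC6 DC7

variable {Λ : Type (u + 1)} [CommRing Λ] {X : Scheme.{u}}

theorem isZero_of_gens {r : ℕ} (a : Fin r → Λ) (F : EtModW.ModP Λ X)
    (hF : ProEtDC.IsDCSheaf Λ (Ideal.span (Set.range a)) F)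
    (h0 : ProEtDC.ModGensIsZero Λ a F) : IsZero F := by
  rw [IsZero.iff_id_eq_zero]
  apply hom_eq_zero_of_wc
  intro W hW
  ext m
  show m = 0
  apply nakayama r (F.obj.obj (op W)) a
    (fun k => (isDCSheaf_iff_mod _ F).1 hF (a k) (Ideal.subset_span ⟨k, rfl⟩) W hW)
  intro m
  haveI : Epi (biproduct.desc (fun k : Fin r => ProEtDC.smulHom Λ F (a k))) := h0
  obtain ⟨t, ht⟩ := ModWC.surjective_of_isWC W hW
    (biproduct.desc (fun k : Fin r => ProEtDC.smulHom Λ F (a k))) m
  refine ⟨fun k => ((biproduct.π (fun _ : Fin r => F) k).hom.app (op W)).hom t, ?_⟩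
  rw [← ht, biproduct.desc_eq, ModWC.sum_app]
  rfl

end Groth.Agent.Lib.Helper82.DC9
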