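import Groth.Agent.Lib.Helper84.DCompAlg

/-!
# Abstract one-step extension for derived complete modules (helper82)

`Step g ι`: an `A`-linear map `ι : B → P` looking like `B → B[[x]]/(x - g)`.
For `N` with bijective sequence operator `(m_k) ↦ (g m_{k+1} - m_k)`, every `A`-linear
`θ : B → N` extends uniquely along `ι`.
-/

set_option autoImplicit false
universe u

namespace Groth.Agent.Lib.Helper82.DCExt1

open Groth.Agent.Lib.Helper84.AwayRes Groth.Agent.Lib.Helper84.DCompAlg

variable {A : Type u} [CommRing A]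

/-- abstract one-step data: `ι : B → P` behaves like `B → B[[x]]/(x - g)` -/
structure Step (g : A) {B P : Type u} [AddCommGroup B] [Module A B] [AddCommGroup P] [Module A P]
    (ι : B →ₗ[A] P) : Prop where
  decomp : ∀ p : P, ∃ (b : B) (p' : P), p = ι b + g • p'
  ker : ∀ b : B, ι b = 0 → ∃ q : ℕ → B, b = g • q 0 ∧ ∀ k, q k = g • q (k + 1)
  tors : ∀ (p : P) (b : B), g • p = ι b → ∃ b' : B, p = ι b'

section

variable {g : A} {B P N : Type u} [AddCommGroup B] [Module A B] [AddCommGroup P] [Module A P]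
  [AddCommGroup N] [Module A N] {ι : B →ₗ[A] P}

/-- a `g`-compatible sequence in `N` vanishes -/
lemma compat_zero (hN : Function.Injective (seqMap N g)) (y : ℕ → N)
    (hy : ∀ k, g • y (k + 1) = y k) (k : ℕ) : y k = 0 :=
  congrFun (eq_zero_of_seqMap_eq_zero hN y hy) k

/-- uniqueness of extensions -/
theorem ext_unique (hS : Step g ι) (hN : Function.Injective (seqMap N g)) (ψ : P →ₗ[A] N)
    (h : ∀ b, ψ (ι b) = 0) : ψ = 0 := by
  choose bb pp hpp using hS.decomp
  ext p
  let s : ℕ → P := fun k => pp^[k] p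
  have hs : ∀ k, g • ψ (s (k + 1)) = ψ (s k) := by
    intro k
    have h1 : s k = ι (bb (s k)) + g • s (k + 1) := by
      have := hpp (s k)
      simpa [s, Function.iterate_succ_apply'] using this
    conv_rhs => rw [h1]
    rw [map_add, h, zero_add, map_smul]
  simpa [s] using compat_zero hN (fun k => ψ (s k)) hs 0

/-- `θ` kills the kernel of `ι` -/
lemma theta_ker (hS : Step g ι) (hN : Function.Injective (seqMap N g)) (θ : B →ₗ[A] N) (b : B)
    (hb : ι b = 0) : θ b = 0 := by
  obtain ⟨q, hq0, hq⟩ := hS.ker b hb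
  have h1 := compat_zero hN (fun k => θ (q k)) (fun k => by
    show g • θ (q (k + 1)) = θ (q k)
    rw [← map_smul, ← hq k]) 0
  rw [hq0, map_smul]
  have h1' : θ (q 0) = 0 := h1
  rw [h1', smul_zero]

/-- the graph of the extension -/
def Rel (θ : B →ₗ[A] N) (p : P) (n : N) : Prop :=
  ∃ (b : ℕ → B) (pp : ℕ → P) (y : ℕ → N), pp 0 = p ∧ (∀ k, pp k = ι (b k) + g • pp (k + 1)) ∧
    (∀ k, g • y (k + 1) - y k = θ (b k)) ∧ n = - y 0

lemma rel_exists (hS : Step g ι) (hN : Function.Surjective (seqMap N g)) (θ : B →ₗ[A] N) (p : P) :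
    ∃ n, Rel (ι := ι) (g := g) θ p n := by
  choose bb pp hpp using hS.decomp
  let s : ℕ → P := fun k => pp^[k] p
  obtain ⟨y, hy⟩ := hN (fun k => θ (bb (s k)))
  refine ⟨- y 0, fun k => bb (s k), s, y, rfl, ?_, ?_, rfl⟩
  · intro k
    have := hpp (s k)
    simpa [s, Function.iterate_succ_apply'] using this
  · intro k
    have := congrFun hy k
    simpa [seqMap_apply] using this

lemma rel_add (θ : B →ₗ[A] N) {p p' : P} {n n' : N} (h : Rel (ι := ι) (g := g) θ p n)
    (h' : Rel (ι := ι) (g := g) θ p' n') : Rel (ι := ι) (g := g) θ (p + p') (n + n') := by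
  obtain ⟨b, pp, y, h0, h1, h2, h3⟩ := h
  obtain ⟨b', pp', y', h0', h1', h2', h3'⟩ := h'
  refine ⟨fun k => b k + b' k, fun k => pp k + pp' k, fun k => y k + y' k, ?_, ?_, ?_, ?_⟩
  · simp [h0, h0']
  · intro k
    simp only
    rw [h1 k, h1' k, map_add, smul_add]
    abel
  · intro k
    simp only
    rw [map_add, ← h2 k, ← h2' k, smul_add]
    abel
  · rw [h3, h3']
    simp only
    abel

lemma rel_smul (θ : B →ₗ[A] N) (a : A) {p : P} {n : N} (h : Rel (ι := ι) (g := g) θ p n) :
    Rel (ι := ι) (g := g) θ (a • p) (a • n) := by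
  obtain ⟨b, pp, y, h0, h1, h2, h3⟩ := h
  refine ⟨fun k => a • b k, fun k => a • pp k, fun k => a • y k, ?_, ?_, ?_, ?_⟩
  · simp [h0]
  · intro k
    simp only
    rw [h1 k, map_smul, smul_add, smul_comm a g]
  · intro k
    simp only
    rw [map_smul, ← h2 k, smul_sub, smul_comm a g]
  · rw [h3]
    simp

/-- the key well-definedness statement -/
lemma rel_zero (hS : Step g ι) (hN : Function.Injective (seqMap N g)) (θ : B →ₗ[A] N) {n : N}
    (h : Rel (ι := ι) (g := g) θ 0 n) : n = 0 := by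
  obtain ⟨b, pp, y, h0, h1, h2, h3⟩ := h
  -- all `pp k` lie in the range of `ι`
  have hβ : ∀ k, ∃ β : B, pp k = ι β := by
    intro k
    induction k with
    | zero => exact ⟨0, by rw [h0, map_zero]⟩
    | succ k ih =>
      obtain ⟨β, hβ⟩ := ih
      apply hS.tors (pp (k + 1)) (β - b k)
      rw [map_sub, ← hβ, h1 k]
      abel
  choose β hβ using hβ
  have hθ : ∀ k, θ (b k) = θ (β k) - g • θ (β (k + 1)) := by
    intro k
    have hz : ι (β k - b k - g • β (k + 1)) = 0 := by
      rw [map_sub, map_sub, map_smul, ← hβ k, ← hβ (k + 1), h1 k]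
      abel
    have := theta_ker hS hN θ _ hz
    rw [map_sub, map_sub, map_smul] at this
    rw [sub_sub, sub_eq_zero] at this
    rw [this]
    abel
  have hz := compat_zero hN (fun k => y k + θ (β k)) (fun k => by
    show g • (y (k + 1) + θ (β (k + 1))) = y k + θ (β k)
    have := h2 k
    rw [hθ k] at this
    rw [smul_add]
    rw [sub_eq_iff_eq_add] at this
    rw [this]
    abel) 0
  have h00 : θ (β 0) = 0 := theta_ker hS hN θ _ (by rw [← hβ 0, h0])
  have hz' : y 0 + θ (β 0) = 0 := hz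
  rw [h00, add_zero] at hz'
  rw [h3, hz', neg_zero]

lemma rel_unique (hS : Step g ι) (hN : Function.Injective (seqMap N g)) (θ : B →ₗ[A] N) {p : P}
    {n n' : N} (h : Rel (ι := ι) (g := g) θ p n) (h' : Rel (ι := ι) (g := g) θ p n') : n = n' := by
  have h1 := rel_add θ h (rel_smul θ (-1 : A) h')
  have h2 : p + (-1 : A) • p = 0 := by simp
  rw [h2] at h1
  have := rel_zero hS hN θ h1
  rw [neg_smul, one_smul, add_neg_eq_zero] at this
  exact this

lemma rel_ι (θ : B →ₗ[A] N) (b : B) : Rel (ι := ι) (g := g) θ (ι b) (θ b) := by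
  refine ⟨fun k => if k = 0 then b else 0, fun k => if k = 0 then ι b else 0,
    fun k => if k = 0 then - θ b else 0, by simp, ?_, ?_, by simp⟩
  · intro k
    by_cases hk : k = 0
    · subst hk; simp
    · simp [hk]
  · intro k
    by_cases hk : k = 0
    · subst hk; simp
    · simp [hk]

/-- existence of extensions -/
theorem ext_exists (hS : Step g ι) (hN : SeqBij g N) (θ : B →ₗ[A] N) :
    ∃ ψ : P →ₗ[A] N, ∀ b, ψ (ι b) = θ b := by
  choose f hf using rel_exists (ι := ι) (g := g) hS hN.2 θ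
  refine ⟨{ toFun := f, map_add' := ?_, map_smul' := ?_ }, ?_⟩
  · intro p p'
    exact rel_unique hS hN.1 θ (hf (p + p')) (rel_add θ (hf p) (hf p'))
  · intro a p
    exact rel_unique hS hN.1 θ (hf (a • p)) (rel_smul θ a (hf p))
  · intro b
    exact rel_unique hS hN.1 θ (hf (ι b)) (rel_ι θ b)

end

end Groth.Agent.Lib.Helper82.DCExt1
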