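import Groth.Agent.Lib.Helper82.DCExt1
import Mathlib.RingTheory.PowerSeries.Ideal
import Mathlib.RingTheory.PowerSeries.Basic

/-!
# The ring `B[[X]]/(X - f)` as a one-step extension (helper82)
-/

set_option autoImplicit false
universe u

namespace Groth.Agent.Lib.Helper82.DCExt2

open Groth.Agent.Lib.Helper84.AwayRes Groth.Agent.Lib.Helper84.DCompAlg
open Groth.Agent.Lib.Helper82.DCExt1 PowerSeries

variable {A : Type u} [CommRing A] (B : Type u) [CommRing B] [Algebra A B] (g : A)

/-- the ideal `(X - f)` of `B[[X]]`, `f` the image of `g` -/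
noncomputable def J : Ideal B⟦X⟧ := Ideal.span {X - C (algebraMap A B g)}

/-- the ring `B[[X]]/(X - f)` -/
abbrev PP : Type u := B⟦X⟧ ⧸ J B g

noncomputable instance : CommRing (PP B g) := inferInstance
noncomputable instance : Algebra A (PP B g) := inferInstance
noncomputable instance : Algebra B (PP B g) := inferInstance
noncomputable instance : Module A (PP B g) := inferInstance

instance [IsNoetherianRing B] : IsNoetherianRing (PP B g) := inferInstance

/-- the quotient map as an `A`-linear map -/
noncomputable def mkL : B⟦X⟧ →ₗ[A] PP B g := (Ideal.Quotient.mkₐ A (J B g)).toLinearMap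

lemma mkL_apply (φ : B⟦X⟧) : mkL B g φ = Ideal.Quotient.mk (J B g) φ := rfl

lemma mkL_surjective : Function.Surjective (mkL B g) := Ideal.Quotient.mk_surjective

lemma mkL_eq_zero_iff (φ : B⟦X⟧) : mkL B g φ = 0 ↔ ∃ q : B⟦X⟧, φ = (X - C (algebraMap A B g)) * q := by
  rw [mkL_apply, Ideal.Quotient.eq_zero_iff_mem, J, Ideal.mem_span_singleton']
  constructor
  · rintro ⟨q, hq⟩; exact ⟨q, by rw [← hq, mul_comm]⟩
  · rintro ⟨q, hq⟩; exact ⟨q, by rw [hq, mul_comm]⟩

/-- the `A`-linear map `C : B → B[[X]]` -/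
noncomputable def CL : B →ₗ[A] B⟦X⟧ where
  toFun b := C b
  map_add' := by simp
  map_smul' a b := by
    simp only [RingHom.id_apply]
    rw [Algebra.smul_def, map_mul, Algebra.smul_def, PowerSeries.algebraMap_apply]

/-- the structure map `B → B[[X]]/(X - f)` -/
noncomputable def ι : B →ₗ[A] PP B g := (mkL B g).comp (CL B)

lemma ι_apply (b : B) : ι B g b = Ideal.Quotient.mk (J B g) (C b) := rfl

lemma ι_one : ι B g 1 = 1 := by rw [ι_apply, map_one, map_one]

/-- multiplication by `g` on the quotient is multiplication by `X` -/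
lemma smul_mkL (φ : B⟦X⟧) : g • mkL B g φ = mkL B g (X * φ) := by
  rw [← map_smul, ← sub_eq_zero, ← map_sub, mkL_eq_zero_iff]
  refine ⟨-φ, ?_⟩
  rw [Algebra.smul_def]
  rw [PowerSeries.algebraMap_apply]
  ring

/-- the shift of a power series -/
noncomputable def sh (φ : B⟦X⟧) : B⟦X⟧ := PowerSeries.mk fun n => coeff (n + 1) φ

lemma eq_C_add (φ : B⟦X⟧) : φ = C (coeff 0 φ) + X * sh B φ := by
  ext n
  cases n with
  | zero => simp [sh]
  | succ n => simp [sh, coeff_succ_X_mul]

theorem step : Step g (ι B g) where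
  decomp := by
    intro p
    obtain ⟨φ, rfl⟩ := mkL_surjective B g p
    refine ⟨coeff 0 φ, mkL B g (sh B φ), ?_⟩
    rw [smul_mkL, ι, LinearMap.comp_apply, ← map_add]
    congr 1
    exact eq_C_add B φ
  ker := by
    intro b hb
    have hb' : mkL B g (C b) = 0 := hb
    obtain ⟨q, hq⟩ := (mkL_eq_zero_iff B g _).1 hb'
    refine ⟨fun k => - coeff k q, ?_, ?_⟩
    · have := congrArg (coeff 0) hq
      rw [sub_mul, map_sub, coeff_zero_X_mul, coeff_C_mul, coeff_zero_C, zero_sub] at this
      rw [Algebra.smul_def, this]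
      ring
    · intro k
      have := congrArg (coeff (k + 1)) hq
      rw [sub_mul, map_sub, coeff_succ_X_mul, coeff_C_mul, coeff_C, if_neg (Nat.succ_ne_zero k)] at this
      rw [Algebra.smul_def]
      have h2 : coeff k q = algebraMap A B g * coeff (k + 1) q := (sub_eq_zero.1 this.symm)
      show - coeff k q = algebraMap A B g * (- coeff (k + 1) q)
      rw [h2]
      ring
  tors := by
    intro p b h
    obtain ⟨φ, rfl⟩ := mkL_surjective B g p
    rw [smul_mkL] at h
    have h' : mkL B g (X * φ - C b) = 0 := by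
      rw [map_sub, h]
      exact sub_self _
    obtain ⟨q, hq⟩ := (mkL_eq_zero_iff B g _).1 h'
    refine ⟨coeff 0 q, ?_⟩
    have key : φ = C (coeff 0 q) + (X - C (algebraMap A B g)) * sh B q := by
      ext n
      have := congrArg (coeff (n + 1)) hq
      rw [map_sub, coeff_succ_X_mul, coeff_C, if_neg (Nat.succ_ne_zero n), sub_zero, sub_mul,
        map_sub, coeff_succ_X_mul, coeff_C_mul] at this
      rw [this, map_add, sub_mul, map_sub, coeff_C_mul]
      cases n with
      | zero => simp [sh, sub_eq_add_neg]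
      | succ n => simp [sh, coeff_succ_X_mul]
    have : mkL B g ((X - C (algebraMap A B g)) * sh B q) = 0 :=
      (mkL_eq_zero_iff B g _).2 ⟨_, rfl⟩
    conv_lhs => rw [key]
    rw [map_add, this, add_zero]
    rfl

/-- the formal sum `∑_j X^j c_{k+j}` -/
noncomputable def SS (c : ℕ → B⟦X⟧) (k : ℕ) : B⟦X⟧ :=
  PowerSeries.mk fun n => ∑ j ∈ Finset.range (n + 1), coeff (n - j) (c (k + j))

lemma SS_eq (c : ℕ → B⟦X⟧) (k : ℕ) : SS B c k = c k + X * SS B c (k + 1) := by
  ext n
  cases n with
  | zero => simp [SS]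
  | succ n =>
    rw [map_add, coeff_succ_X_mul]
    simp only [SS, coeff_mk]
    rw [Finset.sum_range_succ']
    simp only [Nat.sub_zero, add_zero, Nat.add_sub_add_right]
    rw [add_comm]
    congr 1
    apply Finset.sum_congr rfl
    intro j _
    congr 2
    ring

lemma eq_zero_of_forall_eq_X_mul (W : ℕ → B⟦X⟧) (h : ∀ k, W k = X * W (k + 1)) : W 0 = 0 := by
  have h1 : ∀ n, W 0 = X ^ n * W n := by
    intro n
    induction n with
    | zero => simp
    | succ n ih => rw [ih, h n, pow_succ, mul_assoc]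
  ext n
  rw [h1 (n + 1), map_zero, coeff_X_pow_mul']
  simp

theorem seqBij_self : SeqBij g (PP B g) := by
  constructor
  · rw [← LinearMap.ker_eq_bot, LinearMap.ker_eq_bot']
    intro y hy
    have hy' : ∀ k, g • y (k + 1) - y k = 0 := fun k => congrFun hy k
    choose yt hyt using fun k => mkL_surjective B g (y k)
    have h1 : ∀ k, ∃ q : B⟦X⟧, X * yt (k + 1) - yt k = (X - C (algebraMap A B g)) * q := by
      intro k
      apply (mkL_eq_zero_iff B g _).1
      rw [map_sub, ← smul_mkL, hyt, hyt]
      exact hy' k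
    choose q hq using h1
    have key : ∀ j, yt j + (X - C (algebraMap A B g)) * SS B q j = 0 := by
      intro j
      apply eq_zero_of_forall_eq_X_mul B (fun k => yt (j + k) + (X - C (algebraMap A B g)) * SS B q (j + k))
      intro k
      show yt (j + k) + (X - C (algebraMap A B g)) * SS B q (j + k) =
        X * (yt (j + (k + 1)) + (X - C (algebraMap A B g)) * SS B q (j + (k + 1)))
      have e1 := SS_eq B q (j + k)
      have e2 := hq (j + k)
      rw [e1]
      have e3 : yt (j + k) = X * yt (j + k + 1) - (X - C (algebraMap A B g)) * q (j + k) := by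
        rw [← e2]; ring
      rw [e3]
      rw [add_assoc j k 1]
      ring
    ext k
    rw [← hyt k]
    show mkL B g (yt k) = 0
    rw [mkL_eq_zero_iff]
    exact ⟨- SS B q k, by have := key k; rw [mul_neg]; exact eq_neg_of_add_eq_zero_left this⟩
  · intro c
    choose ct hct using fun k => mkL_surjective B g (c k)
    refine ⟨fun k => mkL B g (- SS B ct k), ?_⟩
    ext k
    rw [seqMap_apply]
    show g • mkL B g (- SS B ct (k + 1)) - mkL B g (- SS B ct k) = c k
    rw [smul_mkL, ← map_sub, ← hct k]
    congr 1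
    have := SS_eq B ct k
    rw [this]
    ring

/-- multiplication by `X - f` as an `A`-linear map -/
noncomputable def mulL : B⟦X⟧ →ₗ[A] B⟦X⟧ := LinearMap.mulLeft A (X - C (algebraMap A B g))

lemma range_mulL : LinearMap.range (mulL B g) = LinearMap.ker (mkL B g) := by
  ext φ
  rw [LinearMap.mem_ker, mkL_eq_zero_iff, LinearMap.mem_range]
  constructor
  · rintro ⟨q, rfl⟩; exact ⟨q, rfl⟩
  · rintro ⟨q, rfl⟩; exact ⟨q, rfl⟩

theorem seqBij_of_seqBij (g' : A) (h : SeqBij g' B) : SeqBij g' (PP B g) := by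
  have h1 : SeqBij g' B⟦X⟧ := seqBij_pi (ι := Unit →₀ ℕ) B g' h
  have h2 := seqBij_coker (mulL B g) g' h1 h1
  exact seqBij_of_linearEquiv
    ((Submodule.quotEquivOfEq _ _ (range_mulL B g)).trans
      ((mkL B g).quotKerEquivOfSurjective (mkL_surjective B g))) g' h2

end Groth.Agent.Lib.Helper82.DCExt2
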