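import Groth.Agent.Lib.Helper82.DCExt2
import Mathlib.RingTheory.Filtration
import Mathlib.RingTheory.AdicCompletion.Basic

/-!
# Derived complete + finite mod `I` implies `I`-adically separated (helper82)
-/

set_option autoImplicit false
universe u

namespace Groth.Agent.Lib.Helper82.DCExt3

open Groth.Agent.Lib.Helper84.AwayRes Groth.Agent.Lib.Helper84.DCompAlg
open Groth.Agent.Lib.Helper82.DCExt1 Groth.Agent.Lib.Helper82.DCExt2

variable {A : Type u} [CommRing A]

/-- the unique extension property of an `A`-algebra `B` -/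
def ExtProp (l : List A) (B : Type u) [CommRing B] [Algebra A B] : Prop :=
  ∀ (N : Type u) [AddCommGroup N] [Module A N], (∀ g ∈ l, SeqBij g N) →
    ∀ n : N, ∃! ψ : B →ₗ[A] N, ψ 1 = n

theorem exists_ring [IsNoetherianRing A] (l : List A) :
    ∃ (B : Type u) (_ : CommRing B) (_ : Algebra A B), IsNoetherianRing B ∧
      (∀ g ∈ l, SeqBij g B) ∧ ExtProp l B := by
  induction l with
  | nil =>
    refine ⟨A, inferInstance, inferInstance, inferInstance, by simp, ?_⟩
    intro N _ _ _ n
    refine ⟨LinearMap.toSpanSingleton A N n, by simp, ?_⟩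
    intro ψ hψ
    apply LinearMap.ext_ring
    simp [hψ]
  | cons g l ih =>
    obtain ⟨B, iB, aB, hNoeth, hS, hE⟩ := ih
    refine ⟨PP B g, inferInstance, inferInstance, inferInstance, ?_, ?_⟩
    · intro g' hg'
      rcases List.mem_cons.1 hg' with rfl | h
      · exact seqBij_self B g'
      · exact seqBij_of_seqBij B g g' (hS g' h)
    · intro N _ _ hN n
      have hg : SeqBij g N := hN g List.mem_cons_self
      obtain ⟨θ, hθ1, hθu⟩ := hE N (fun g' h => hN g' (List.mem_cons_of_mem _ h)) n
      obtain ⟨ψ, hψ⟩ := ext_exists (step B g) hg θ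
      refine ⟨ψ, ?_, ?_⟩
      · show ψ 1 = n
        rw [← ι_one B g, hψ, hθ1]
      · intro ψ' h'
        have h1 : ψ'.comp (ι B g) = θ := hθu _ (by
          show ψ' (ι B g 1) = n
          rw [ι_one]; exact h')
        have h2 : ψ' - ψ = 0 := ext_unique (step B g) hg.1 (ψ' - ψ) (fun b => by
          rw [LinearMap.sub_apply, hψ, ← h1]
          simp)
        exact sub_eq_zero.1 h2

/-- `1 - g φ` is bijective on a module with bijective sequence operator -/
lemma bijective_sub_smul {N : Type u} [AddCommGroup N] [Module A N] (g : A) (hN : SeqBij g N)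
    (φ : N →ₗ[A] N) : Function.Bijective (fun y : N => y - g • φ y) := by
  constructor
  · intro y y' h
    have hd : y - y' = g • φ (y - y') := by
      simp only at h
      rw [map_sub, smul_sub]
      rw [sub_eq_sub_iff_add_eq_add] at h ⊢
      rw [h, add_comm]
    have := compat_zero hN.1 (fun k => (φ ^ k) (y - y')) (fun k => by
      show g • (φ ^ (k + 1)) (y - y') = (φ ^ k) (y - y')
      rw [pow_succ, Module.End.mul_apply, ← map_smul, ← hd]) 0
    simpa [sub_eq_zero] using this
  · intro z
    obtain ⟨y, hy⟩ := hN.2 (fun k => (φ ^ k) z)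
    have hy' : ∀ k, g • y (k + 1) - y k = (φ ^ k) z := fun k => congrFun hy k
    have h1 : (fun k => φ (y k)) = fun k => y (k + 1) := by
      apply hN.1
      rw [seqMap_comp φ g y, hy]
      ext k
      rw [seqMap_apply]
      show φ ((φ ^ k) z) = g • y (k + 1 + 1) - y (k + 1)
      rw [hy' (k + 1), pow_succ', Module.End.mul_apply]
    refine ⟨- y 0, ?_⟩
    show - y 0 - g • φ (- y 0) = z
    have h2 : φ (y 0) = y 1 := congrFun h1 0
    have h3 := hy' 0
    rw [pow_zero, Module.End.one_apply] at h3
    rw [map_neg, h2, smul_neg, ← h3]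
    abel

section

variable {B N : Type u} [CommRing B] [Algebra A B] [AddCommGroup N] [Module A N] [Module B N]
  [IsScalarTower A B N]

/-- multiplication by `c : B` as an `A`-linear map -/
noncomputable def smulB (c : B) : N →ₗ[A] N := (LinearMap.lsmul B N c).restrictScalars A

@[simp] lemma smulB_apply (c : B) (y : N) : smulB (A := A) c y = c • y := rfl

/-- elements of `I B` have no nonzero fixed vectors on derived complete modules -/
lemma eq_zero_of_smul_eq (I : Ideal A) (hN : ∀ g ∈ I, SeqBij g N) (r : B)
    (hr : r ∈ I.map (algebraMap A B)) (y : N) (h : r • y = y) : y = 0 := by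
  have key : ∀ a ∈ I.map (algebraMap A B), ∀ (c : B) (u : N →ₗ[A] N), Function.Bijective u →
      Function.Bijective (fun y : N => u y - (c * a) • y) := by
    intro a ha
    refine Submodule.span_induction (p := fun a _ => ∀ (c : B) (u : N →ₗ[A] N),
      Function.Bijective u → Function.Bijective (fun y : N => u y - (c * a) • y)) ?_ ?_ ?_ ?_ ha
    · rintro _ ⟨g, hg, rfl⟩ c u hu
      let e := LinearEquiv.ofBijective u hu
      let φ : N →ₗ[A] N := e.symm.toLinearMap ∘ₗ smulB (A := A) c
      have h1 := bijective_sub_smul g (hN g hg) φ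
      have h2 : (fun y : N => u y - (c * algebraMap A B g) • y) = u ∘ (fun y : N => y - g • φ y) := by
        ext y
        simp only [Function.comp_apply, map_sub, map_smul]
        have : u (φ y) = c • y := by
          show e (e.symm (c • y)) = c • y
          simp
        rw [this, mul_smul, algebraMap_smul, smul_comm]
      rw [h2]
      exact hu.comp h1
    · intro c u hu
      simpa using hu
    · intro a a' _ _ iha iha' c u hu
      have h1 := iha c u hu
      have h2 := iha' c (u - smulB (A := A) (c * a)) h1
      have h3 : (fun y : N => u y - (c * (a + a')) • y) =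
          fun y : N => (u - smulB (A := A) (c * a) : N →ₗ[A] N) y - (c * a') • y := by
        ext y
        simp only [LinearMap.sub_apply, smulB_apply, mul_add, add_smul]
        abel
      rw [h3]
      exact h2
    · intro b a _ iha c u hu
      have := iha (c * b) u hu
      simpa [mul_assoc] using this
  have := (key r hr 1 LinearMap.id Function.bijective_id).1
  apply this
  simp [h]

end

section Main

variable [IsNoetherianRing A] (I : Ideal A) (M : Type u) [AddCommGroup M] [Module A M]

theorem isHausdorff (hc : ∀ f ∈ I, SeqBij f M)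
    [Module.Finite A (M ⧸ I • (⊤ : Submodule A M))] : IsHausdorff I M := by
  classical
  obtain ⟨s, hs⟩ : I.FG := IsNoetherian.noetherian I
  obtain ⟨B, iB, aB, hNoeth, hSB, hE⟩ := exists_ring (A := A) s.toList
  have hmem : ∀ g ∈ s.toList, g ∈ I := fun g hg => by
    rw [← hs]; exact Ideal.subset_span (Finset.mem_toList.1 hg)
  have hcl : ∀ g ∈ s.toList, SeqBij g M := fun g hg => hc g (hmem g hg)
  obtain ⟨n, xb, hxb⟩ := Module.Finite.exists_fin (R := A) (M := M ⧸ I • (⊤ : Submodule A M))
  choose x hx using fun i => Submodule.mkQ_surjective _ (xb i)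
  choose ψ hψ using fun i => hE M hcl (x i)
  have hψ1 : ∀ i, ψ i 1 = x i := fun i => (hψ i).1
  -- the map `B^n → M`
  let q : (Fin n → B) →ₗ[A] M := ∑ i, (ψ i).comp (LinearMap.proj (R := A) (φ := fun _ => B) i)
  have q_apply : ∀ b : Fin n → B, q b = ∑ i, ψ i (b i) := fun b => by
    simp [q, LinearMap.sum_apply]
  -- zero extension is unique
  have hzero : ∀ ρ : B →ₗ[A] M, ρ 1 = 0 → ρ = 0 := fun ρ hρ =>
    (hE M hcl 0).unique hρ (by simp)
  -- surjectivity of `q`
  have hq : LinearMap.range q = ⊤ := by
    have hC : ∀ g ∈ s, SeqBij g (M ⧸ LinearMap.range q) := fun g hg =>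
      seqBij_coker q g (seqBij_pi (ι := Fin n) B g (hSB g (Finset.mem_toList.2 hg)))
        (hcl g (Finset.mem_toList.2 hg))
    have hsub : Subsingleton (M ⧸ LinearMap.range q) := by
      apply subsingleton_of_span_smul_top_eq_top s _ hC
      rw [hs, eq_top_iff]
      rintro c -
      obtain ⟨m, rfl⟩ := Submodule.mkQ_surjective _ c
      have h1 : (I • (⊤ : Submodule A M)).mkQ m ∈ Submodule.span A (Set.range xb) := by
        rw [hxb]; trivial
      obtain ⟨a, ha⟩ := (Submodule.mem_span_range_iff_exists_fun A).1 h1
      have h2 : q (fun i => algebraMap A B (a i)) = ∑ i, a i • x i := by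
        rw [q_apply]
        apply Finset.sum_congr rfl
        intro i _
        rw [Algebra.algebraMap_eq_smul_one, map_smul, hψ1]
      have h3 : m - ∑ i, a i • x i ∈ I • (⊤ : Submodule A M) := by
        rw [← Submodule.Quotient.mk_eq_zero, Submodule.Quotient.mk_sub, sub_eq_zero]
        rw [← Submodule.mkQ_apply, ← Submodule.mkQ_apply, ← ha, map_sum]
        apply Finset.sum_congr rfl
        intro i _
        rw [map_smul, hx]
      have h4 : (LinearMap.range q).mkQ m = (LinearMap.range q).mkQ (m - ∑ i, a i • x i) := by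
        rw [map_sub, ← h2]
        have : (LinearMap.range q).mkQ (q fun i => algebraMap A B (a i)) = 0 := by
          rw [Submodule.mkQ_apply, Submodule.Quotient.mk_eq_zero]
          exact ⟨_, rfl⟩
        rw [this, sub_zero]
      rw [h4]
      have := Submodule.mem_map_of_mem (f := (LinearMap.range q).mkQ) h3
      rw [Submodule.map_smul'', Submodule.map_top, Submodule.range_mkQ] at this
      exact this
    exact Submodule.Quotient.subsingleton_iff.1 hsub
  -- the kernel is a `B`-submodule
  let K' : Submodule B (Fin n → B) :=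
    { carrier := {b | q b = 0}
      add_mem' := fun {b b'} hb hb' => by
        show q (b + b') = 0
        rw [map_add, hb, hb', add_zero]
      zero_mem' := map_zero q
      smul_mem' := fun c b hb => by
        show q (c • b) = 0
        let ρ : B →ₗ[A] M := q ∘ₗ ((LinearMap.toSpanSingleton B (Fin n → B) b).restrictScalars A)
        have hρ : ρ = 0 := hzero ρ (by
          show q ((1 : B) • b) = 0
          rw [one_smul]; exact hb)
        have := LinearMap.congr_fun hρ c
        exact this }
  have hK' : K'.restrictScalars A = LinearMap.ker q := by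
    ext b; rfl
  -- the comparison isomorphism
  let e : ((Fin n → B) ⧸ K') ≃ₗ[A] M :=
    ((Submodule.Quotient.restrictScalarsEquiv A K').symm.trans
      (Submodule.quotEquivOfEq _ _ hK')).trans
      (q.quotKerEquivOfSurjective (LinearMap.range_eq_top.1 hq))
  have hN' : ∀ g ∈ I, SeqBij g ((Fin n → B) ⧸ K') := fun g hg =>
    seqBij_of_linearEquiv e.symm g (hc g hg)
  rw [isHausdorff_iff]
  intro z hz
  have hy : ∀ k, e.symm z ∈ (I ^ k • ⊤ : Submodule A ((Fin n → B) ⧸ K')) := by
    intro k
    have := Submodule.mem_map_of_mem (f := e.symm.toLinearMap) (SModEq.zero.1 (hz k))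
    rw [Submodule.map_smul'', Submodule.map_top, LinearEquiv.range] at this
    exact this
  have hy' : e.symm z ∈ (⨅ k : ℕ, (I.map (algebraMap A B)) ^ k • ⊤ :
      Submodule B ((Fin n → B) ⧸ K')) := by
    rw [Submodule.mem_iInf]
    intro k
    have hle : (I ^ k • ⊤ : Submodule A ((Fin n → B) ⧸ K')) ≤
        (((I.map (algebraMap A B)) ^ k • ⊤ : Submodule B ((Fin n → B) ⧸ K'))).restrictScalars A := by
      rw [Submodule.smul_le]
      intro a ha m _
      rw [Submodule.restrictScalars_mem, ← algebraMap_smul B a m]
      exact Submodule.smul_mem_smul (by rw [← Ideal.map_pow]; exact Ideal.mem_map_of_mem _ ha)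
        trivial
    exact hle (hy k)
  obtain ⟨r, hr⟩ := (Ideal.mem_iInf_smul_pow_eq_bot_iff (I.map (algebraMap A B)) (e.symm z)).1 hy'
  have h0 := eq_zero_of_smul_eq I hN' r.1 r.2 (e.symm z) hr
  have := congrArg e h0
  simpa using this

end Main

end Groth.Agent.Lib.Helper82.DCExt3
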