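import Groth.Agent.Lib.Helper82.DCExt3
import Groth.Agent.Lib.Helper83.InvLimFG
import Groth.Agent.Lib.Helper84.DComp

/-!
# Derived complete + finite mod `I` over a Noetherian ring: adically complete and finite over `A^`
-/

set_option autoImplicit false
universe u

namespace Groth.Agent.Lib.Helper82.DCExt4

open Groth.Agent.Lib.Helper84.AwayRes Groth.Agent.Lib.Helper84.DCompAlg

variable {A : Type u} [CommRing A] (I : Ideal A) (M : Type u) [AddCommGroup M] [Module A M]

/-- if `M/IM` is finite then so is every `M/I^k M` -/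
theorem finite_quot_pow [Module.Finite A (M ⧸ I • (⊤ : Submodule A M))] (k : ℕ) :
    Module.Finite A (M ⧸ (I ^ k • ⊤ : Submodule A M)) := by
  classical
  obtain ⟨n, xb, hxb⟩ := Module.Finite.exists_fin (R := A) (M := M ⧸ I • (⊤ : Submodule A M))
  choose x hx using fun i => Submodule.mkQ_surjective _ (xb i)
  set R : Submodule A M := Submodule.span A (Set.range x) with hR
  have h1 : R ⊔ I • ⊤ = ⊤ := by
    rw [eq_top_iff]
    intro m _
    have h1 : (I • (⊤ : Submodule A M)).mkQ m ∈ Submodule.span A (Set.range xb) := by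
      rw [hxb]; trivial
    obtain ⟨a, ha⟩ := (Submodule.mem_span_range_iff_exists_fun A).1 h1
    have h3 : m - ∑ i, a i • x i ∈ I • (⊤ : Submodule A M) := by
      rw [← Submodule.Quotient.mk_eq_zero, Submodule.Quotient.mk_sub, sub_eq_zero]
      rw [← Submodule.mkQ_apply, ← Submodule.mkQ_apply, ← ha, map_sum]
      apply Finset.sum_congr rfl
      intro i _
      rw [map_smul, hx]
    have h4 : ∑ i, a i • x i ∈ R :=
      Submodule.sum_mem _ fun i _ => Submodule.smul_mem _ _ (Submodule.subset_span ⟨i, rfl⟩)
    have : m = ∑ i, a i • x i + (m - ∑ i, a i • x i) := by abel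
    rw [this]
    exact Submodule.add_mem_sup h4 h3
  have h2 : ∀ k : ℕ, R ⊔ I ^ k • ⊤ = ⊤ := by
    intro k
    induction k with
    | zero => simp
    | succ k ih =>
      rw [eq_top_iff]
      intro m _
      have hm : m ∈ R ⊔ I • ⊤ := by rw [h1]; trivial
      obtain ⟨r, hr, j, hj, rfl⟩ := Submodule.mem_sup.1 hm
      refine Submodule.add_mem _ (Submodule.mem_sup_left hr) ?_
      refine Submodule.smul_induction_on hj (fun a ha m' _ => ?_)
        (fun x y hx hy => Submodule.add_mem _ hx hy)
      have hm' : m' ∈ R ⊔ I ^ k • ⊤ := by rw [ih]; trivial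
      obtain ⟨r', hr', j', hj', rfl⟩ := Submodule.mem_sup.1 hm'
      rw [smul_add]
      refine Submodule.add_mem _ (Submodule.mem_sup_left (Submodule.smul_mem _ _ hr'))
        (Submodule.mem_sup_right ?_)
      refine Submodule.smul_induction_on hj' (fun b hb m'' _ => ?_) (fun x y hx hy => ?_)
      · rw [← mul_smul]
        exact Submodule.smul_mem_smul (by rw [pow_succ']; exact Ideal.mul_mem_mul ha hb) trivial
      · rw [smul_add]
        exact Submodule.add_mem _ hx hy
  have : Module.Finite A R := Module.Finite.span_of_finite A (Set.finite_range x)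
  apply Module.Finite.of_surjective ((I ^ k • ⊤ : Submodule A M).mkQ.comp R.subtype)
  intro c
  obtain ⟨m, rfl⟩ := Submodule.mkQ_surjective _ c
  have hm : m ∈ R ⊔ I ^ k • ⊤ := by rw [h2 k]; trivial
  obtain ⟨r, hr, j, hj, rfl⟩ := Submodule.mem_sup.1 hm
  refine ⟨⟨r, hr⟩, ?_⟩
  simp only [LinearMap.comp_apply, Submodule.subtype_apply, map_add]
  rw [Submodule.mkQ_apply _ j, (Submodule.Quotient.mk_eq_zero _).2 hj, add_zero]

/-- finiteness of the adic completion over the completed ring -/
theorem finite_adicCompletion (hI : I.FG) [Module.Finite A (M ⧸ I • (⊤ : Submodule A M))] :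
    Module.Finite (AdicCompletion I A) (AdicCompletion I M) := by
  have : ∀ n, Module.Finite A (M ⧸ (I ^ (n + 1) • ⊤ : Submodule A M)) :=
    fun n => finite_quot_pow I M (n + 1)
  refine Groth.Agent.Lib.Helper83.InvLimFG.main (I := I)
    (M := fun n => M ⧸ (I ^ (n + 1) • ⊤ : Submodule A M))
    (f := fun n => AdicCompletion.transitionMap I M (Nat.le_succ (n + 1)))
    (π := fun n => AdicCompletion.eval I M (n + 1)) hI ?_ ?_ ?_ ?_ ?_ ?_
  · intro n
    exact Submodule.factor_surjective _
  · intro n
    ext c
    obtain ⟨m, rfl⟩ := Submodule.mkQ_surjective _ c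
    rw [LinearMap.mem_ker]
    show Submodule.factor _ (Submodule.mkQ _ m) = 0 ↔ _
    rw [Submodule.factor_mk, Submodule.mkQ_apply, Submodule.Quotient.mk_eq_zero]
    constructor
    · intro h
      have := Submodule.mem_map_of_mem (f := (I ^ (n + 1 + 1) • ⊤ : Submodule A M).mkQ) h
      rw [Submodule.map_smul'', Submodule.map_top, Submodule.range_mkQ] at this
      exact this
    · intro h
      have h' : (I ^ (n + 1 + 1) • ⊤ : Submodule A M).mkQ m ∈
          Submodule.map (I ^ (n + 1 + 1) • ⊤ : Submodule A M).mkQ (I ^ (n + 1) • ⊤) := by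
        rw [Submodule.map_smul'', Submodule.map_top, Submodule.range_mkQ]
        exact h
      obtain ⟨m', hm', hmm'⟩ := h'
      have h2 : m' - m ∈ (I ^ (n + 1 + 1) • ⊤ : Submodule A M) := by
        rw [← Submodule.Quotient.mk_eq_zero, Submodule.Quotient.mk_sub, sub_eq_zero]
        exact hmm'
      have h3 : m = m' - (m' - m) := by abel
      rw [h3]
      exact Submodule.sub_mem _ hm' (Submodule.pow_smul_top_le I M (Nat.le_succ (n + 1)) h2)
  · intro n
    rw [eq_bot_iff, Submodule.smul_le]
    intro a ha c _
    obtain ⟨m, rfl⟩ := Submodule.mkQ_surjective _ c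
    rw [Submodule.mem_bot, ← map_smul, Submodule.mkQ_apply, Submodule.Quotient.mk_eq_zero]
    exact Submodule.smul_mem_smul ha trivial
  · intro n
    exact AdicCompletion.transitionMap_comp_eval I M _
  · intro x hx
    ext k
    rw [AdicCompletion.val_zero_apply]
    have := hx k
    rw [AdicCompletion.eval_apply] at this
    rw [← x.property (Nat.le_succ k), this, map_zero]
  · intro y hy
    choose yt hyt using fun n => Submodule.mkQ_surjective _ (y n)
    have e1 : ∀ n, (I ^ (n + 1) • ⊤ : Submodule A M).mkQ (yt (n + 1)) = y n := by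
      intro n
      rw [← hy n, ← hyt (n + 1)]
      exact (Submodule.factor_mk (Submodule.pow_smul_top_le I M (Nat.le_succ (n + 1)))
        (yt (n + 1))).symm
    have hc : ∀ n, yt n ≡ yt (n + 1) [SMOD (I ^ n • ⊤ : Submodule A M)] := by
      intro n
      rw [SModEq.sub_mem]
      have h1 : yt n - yt (n + 1) ∈ (I ^ (n + 1) • ⊤ : Submodule A M) := by
        rw [← Submodule.Quotient.mk_eq_zero, Submodule.Quotient.mk_sub, sub_eq_zero]
        rw [← Submodule.mkQ_apply, ← Submodule.mkQ_apply, hyt n, e1 n]
      exact Submodule.pow_smul_top_le I M (Nat.le_succ n) h1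
    refine ⟨AdicCompletion.mk I M (AdicCompletion.AdicCauchySequence.mk I M yt hc), ?_⟩
    intro n
    rw [AdicCompletion.eval_apply, AdicCompletion.mk_apply_coe]
    exact e1 n

attribute [local instance] HasDerivedCategory.standard in
/-- Stacks 0G1T-type statement: derived complete with finite reduction mod `I`, Noetherian base -/
theorem main [IsNoetherianRing A] (hc : DRing.IsDerivedComplete I (Dual.inD A M))
    (hf : Module.Finite A (M ⧸ I • (⊤ : Submodule A M))) :
    IsAdicComplete I M ∧ Module.Finite (AdicCompletion I A) (AdicCompletion I M) := by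
  have hI : I.FG := IsNoetherian.noetherian I
  have h : ∀ f ∈ I, SeqBij f M := (Groth.Agent.Lib.Helper84.DComp.isDerivedComplete_module_iff I M).1 hc
  have h1 : IsHausdorff I M := Groth.Agent.Lib.Helper82.DCExt3.isHausdorff I M h
  have h2 : IsPrecomplete I M :=
    (AdicCompletion.of_surjective_iff).1 (adicCompletion_of_surjective I hI M h)
  exact ⟨{ toIsHausdorff := h1, toIsPrecomplete := h2 }, finite_adicCompletion I M hI⟩

end Groth.Agent.Lib.Helper82.DCExt4
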