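import Groth.Agent.Lib.Helper82.BlowUpPoints
import Mathlib.RingTheory.Ideal.KrullsHeightTheorem
import Mathlib.AlgebraicGeometry.Noetherian

universe u

open CategoryTheory AlgebraicGeometry CategoryTheory.Limits Opposite

namespace Groth.Agent.Lib.Helper82

open Scheme

theorem mem_primeIdealOf_iff_not_mem_basicOpen {X : Scheme.{u}} {W : X.Opens} (hW : IsAffineOpen W)
    (x : X) (hx : x ∈ W) (f : Γ(X, W)) :
    f ∈ (hW.primeIdealOf ⟨x, hx⟩).asIdeal ↔ x ∉ X.basicOpen f := by
  have hpx : hW.fromSpec (hW.primeIdealOf ⟨x, hx⟩) = x := hW.fromSpec_primeIdealOf ⟨x, hx⟩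
  have h1 : x ∈ X.basicOpen f ↔
      hW.primeIdealOf ⟨x, hx⟩ ∈ hW.fromSpec ⁻¹ᵁ X.basicOpen f := by
    conv_lhs => rw [← hpx]
    rfl
  rw [h1, hW.fromSpec_preimage_basicOpen]
  exact not_not.symm

theorem ringKrullDim_stalk_eq_one_of_maximal_in_support {X : Scheme.{u}} [IsLocallyNoetherian X]
    (D : X.IdealSheafData) (hD : BlowUp.IsEffCartierIdeal D) (ξ : X)
    (hξ : ξ ∈ (D.support : Set X)) (hgen : ∀ y ∈ (D.support : Set X), y ⤳ ξ → y = ξ) :
    ringKrullDim (X.presheaf.stalk ξ) = 1 := by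
  obtain ⟨W, hξW, f, hf, hfD⟩ := hD ξ
  have hW : IsAffineOpen W.1 := W.2
  have hnoeth : IsNoetherianRing Γ(X, W.1) := IsLocallyNoetherian.component_noetherian W
  set p := hW.primeIdealOf ⟨ξ, hξW⟩ with hp
  have hpξ : hW.fromSpec p = ξ := hW.fromSpec_primeIdealOf ⟨ξ, hξW⟩
  have hmem : ∀ y : X, ∀ hy : y ∈ W.1, (y ∈ D.support ↔ f ∈ (hW.primeIdealOf ⟨y, hy⟩).asIdeal) := by
    intro y hy
    rw [IdealSheafData.mem_support_iff_of_mem hy, hfD, Scheme.zeroLocus_span,
      mem_primeIdealOf_iff_not_mem_basicOpen]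
    simp
  have hfp : f ∈ p.asIdeal := (hmem ξ hξW).1 hξ
  let _ : Algebra Γ(X, W.1) (X.presheaf.stalk ξ) :=
    TopCat.Presheaf.algebra_section_stalk X.presheaf (⟨ξ, hξW⟩ : W.1)
  have hloc : IsLocalization.AtPrime (X.presheaf.stalk ξ) p.asIdeal :=
    hW.isLocalization_stalk ⟨ξ, hξW⟩
  rw [IsLocalization.AtPrime.ringKrullDim_eq_height p.asIdeal (X.presheaf.stalk ξ)]
  have hminf : p.asIdeal ∈ (Ideal.span {f}).minimalPrimes := by
    refine ⟨⟨p.isPrime, ?_⟩, ?_⟩
    · rw [Ideal.span_le]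
      simpa using hfp
    · rintro q ⟨hq, hfq⟩ hqp
      let q' : PrimeSpectrum Γ(X, W.1) := ⟨q, hq⟩
      have hspec : q' ⤳ p := by
        rw [← PrimeSpectrum.le_iff_specializes]
        exact hqp
      have h3 : hW.fromSpec q' ⤳ hW.fromSpec p := hspec.map hW.fromSpec.continuous
      rw [hpξ] at h3
      have hyW : hW.fromSpec q' ∈ W.1 := by
        have : hW.fromSpec q' ∈ hW.fromSpec.opensRange := ⟨q', rfl⟩
        rwa [hW.opensRange_fromSpec] at this
      have hq'eq : hW.primeIdealOf ⟨hW.fromSpec q', hyW⟩ = q' := by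
        have hinj : Function.Injective hW.fromSpec := hW.fromSpec.isOpenEmbedding.injective
        apply hinj
        exact hW.fromSpec_primeIdealOf ⟨hW.fromSpec q', hyW⟩
      have hysupp : hW.fromSpec q' ∈ (D.support : Set X) := by
        show hW.fromSpec q' ∈ D.support
        rw [hmem _ hyW, hq'eq]
        apply hfq
        exact Ideal.subset_span (Set.mem_singleton f)
      have h4 := hgen _ hysupp h3
      rw [← hpξ] at h4
      have hinj : Function.Injective hW.fromSpec := hW.fromSpec.isOpenEmbedding.injective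
      have h5 : q' = p := hinj h4
      have h6 : q = p.asIdeal := congrArg PrimeSpectrum.asIdeal h5
      rw [h6]
  have hle : p.asIdeal.height ≤ 1 :=
    Ideal.height_le_one_of_isPrincipal_of_mem_minimalPrimes (Ideal.span {f}) p.asIdeal hminf
  have hge : 1 ≤ p.asIdeal.height := by
    rw [Order.one_le_iff_ne_zero]
    intro h0
    rw [Ideal.height_eq_zero_iff] at h0
    exact notMem_nonZeroDivisors_of_mem_mem_minimalPrimes hfp h0 hf
  rw [le_antisymm hle hge]
  rfl

end Groth.Agent.Lib.Helper82
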