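import Groth.Agent.Lib.Helper82.TopDimPreimage
import Groth.Agent.Lib.Helper82.BlowUpPoints
import Groth.Prelude.Def_Flat
import Mathlib.AlgebraicGeometry.IdealSheaf.Subscheme

universe u

open CategoryTheory AlgebraicGeometry CategoryTheory.Limits Opposite TopologicalSpace Topology Order

namespace Groth.Agent.Lib.Helper82

theorem withBotENat_lt_of_add_one_le (a n : WithBot ℕ∞) (h0 : 0 ≤ a) (h1 : a + 1 ≤ n)
    (hn : n ≠ ⊤) : a < n := by
  induction a using WithBot.recBotCoe with
  | bot => simp at h0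
  | coe a =>
    induction n using WithBot.recBotCoe with
    | bot =>
      exfalso
      have : ((a + 1 : ℕ∞) : WithBot ℕ∞) ≤ ⊥ := by exact_mod_cast h1
      simp at this
    | coe n =>
      have h2 : a + 1 ≤ n := by exact_mod_cast h1
      have hn' : n ≠ ⊤ := by
        intro h; apply hn; rw [h]; rfl
      have ha : a ≠ ⊤ := by
        rintro rfl
        simp at h2
        exact hn' h2
      have h3 : a < a + 1 := (ENat.lt_add_one_iff ha).mpr le_rfl
      exact_mod_cast lt_of_lt_of_le h3 h2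

theorem localDim_subscheme_lt (S : Scheme.{u}) (I : S.IdealSheafData)
    (hI : BlowUp.IsEffCartierIdeal I) (d : I.subscheme)
    (hfin : FlatMor.localDim S (I.subschemeι d) ≠ ⊤) :
    FlatMor.localDim I.subscheme d < FlatMor.localDim S (I.subschemeι d) := by
  set s := I.subschemeι d with hs
  have hne : Nonempty {U : Opens S // s ∈ U} := ⟨⟨⊤, trivial⟩⟩
  obtain ⟨⟨U₀, hsU₀⟩, hU₀⟩ := ciInf_mem
    (fun U : {U : Opens S // s ∈ U} => topologicalKrullDim (U.1 : Set S))
  have hU₀' : topologicalKrullDim (U₀ : Set S) = FlatMor.localDim S s := hU₀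
  have hcont : Continuous I.subschemeι := I.subschemeι.continuous
  let V₀ : Opens I.subscheme := ⟨I.subschemeι ⁻¹' (U₀ : Set S), U₀.isOpen.preimage hcont⟩
  have hdV₀ : d ∈ V₀ := hsU₀
  have h1 : FlatMor.localDim I.subscheme d ≤ topologicalKrullDim (V₀ : Set I.subscheme) :=
    iInf_le (fun U : {U : Opens I.subscheme // d ∈ U} =>
      topologicalKrullDim (U.1 : Set I.subscheme)) ⟨V₀, hdV₀⟩
  have hind : IsInducing I.subschemeι := I.subschemeι.isEmbedding.isInducing
  have H : ∀ y : I.subscheme, I.subschemeι y ∈ (U₀ : Set S) →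
      ∃ x : S, x ⤳ I.subschemeι y ∧ ¬ I.subschemeι y ⤳ x := by
    intro y _
    have hysupp : I.subschemeι y ∈ I.support := by
      have : I.subschemeι y ∈ Set.range I.subschemeι := ⟨y, rfl⟩
      rwa [I.range_subschemeι] at this
    have hnm : ¬ ∀ z : S, z ⤳ I.subschemeι y → z = I.subschemeι y := fun hmax =>
      not_mem_support_of_isEffCartierIdeal_of_maximal I hI _ hmax hysupp
    push Not at hnm
    obtain ⟨z, hz1, hz2⟩ := hnm
    exact ⟨z, hz1, fun h => hz2 (hz1.antisymm h).eq⟩
  have h2 : topologicalKrullDim (V₀ : Set I.subscheme) + 1 ≤ topologicalKrullDim (U₀ : Set S) :=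
    topologicalKrullDim_preimage_add_one_le I.subschemeι hind (U₀ : Set S) U₀.isOpen H
  have h0 : 0 ≤ topologicalKrullDim (V₀ : Set I.subscheme) := by
    have : Nonempty (IrreducibleCloseds (V₀ : Set I.subscheme)) :=
      ⟨⟨closure {⟨d, hdV₀⟩}, isIrreducible_singleton.closure, isClosed_closure⟩⟩
    exact krullDim_nonneg
  rw [hU₀'] at h2
  exact lt_of_le_of_lt h1 (withBotENat_lt_of_add_one_le _ _ h0 h2 hfin)

end Groth.Agent.Lib.Helper82
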