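import Mathlib

set_option autoImplicit false
open CategoryTheory CategoryTheory.Limits AlgebraicGeometry Opposite
universe u

namespace Groth.Agent.Lib.Helper82.EpsGeo

variable {B : CommRingCat.{u}} {J : Type u} [SmallCategory J] [IsFiltered J]
  (D : J ⥤ Under B) (c : Cocone D) (hc : IsColimit c)

/-- the diagram of spectra -/
noncomputable def DS : Jᵒᵖ ⥤ Scheme.{u} := (D ⋙ Under.forget B).op ⋙ Scheme.Spec

/-- the cone of spectra -/
noncomputable def cS : Cone (DS D) := Scheme.Spec.mapCone ((Under.forget B).mapCocone c).op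

/-- the cone of spectra is a limit cone -/
noncomputable def hcS : IsLimit (cS D c) :=
  haveI := IsFiltered.isConnected J
  isLimitOfPreserves Scheme.Spec (isColimitOfPreserves (Under.forget B) hc).op

/-- structure maps -/
noncomputable def p (j : Jᵒᵖ) : (DS D).obj j ⟶ Spec B := Spec.map (D.obj j.unop).hom

/-- structure map of the limit -/
noncomputable def pInf : (cS D c).pt ⟶ Spec B := Spec.map c.pt.hom

theorem DS_map_p {k j : Jᵒᵖ} (f : k ⟶ j) : (DS D).map f ≫ p D j = p D k := by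
  show Spec.map (D.map f.unop).right ≫ Spec.map (D.obj j.unop).hom = Spec.map (D.obj k.unop).hom
  rw [← Spec.map_comp, Under.w]

theorem π_p (j : Jᵒᵖ) : (cS D c).π.app j ≫ p D j = pInf D c := by
  show Spec.map (c.ι.app j.unop).right ≫ Spec.map (D.obj j.unop).hom = Spec.map c.pt.hom
  rw [← Spec.map_comp, Under.w]
  rfl


/-- transition maps of self fibre products -/
noncomputable def map₂ {k j : Jᵒᵖ} (f : k ⟶ j) :
    pullback (p D k) (p D k) ⟶ pullback (p D j) (p D j) :=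
  pullback.lift (pullback.fst _ _ ≫ (DS D).map f) (pullback.snd _ _ ≫ (DS D).map f)
    (by rw [Category.assoc, Category.assoc, DS_map_p, pullback.condition])

theorem map₂_fst {k j : Jᵒᵖ} (f : k ⟶ j) :
    map₂ D f ≫ pullback.fst (p D j) (p D j) = pullback.fst (p D k) (p D k) ≫ (DS D).map f :=
  pullback.lift_fst _ _ _

theorem map₂_snd {k j : Jᵒᵖ} (f : k ⟶ j) :
    map₂ D f ≫ pullback.snd (p D j) (p D j) = pullback.snd (p D k) (p D k) ≫ (DS D).map f :=
  pullback.lift_snd _ _ _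

/-- the diagram of self fibre products -/
noncomputable def DS₂ : Jᵒᵖ ⥤ Scheme.{u} where
  obj j := pullback (p D j) (p D j)
  map {k j} f := map₂ D f
  map_id j := by
    apply pullback.hom_ext
    · rw [map₂_fst, CategoryTheory.Functor.map_id, Category.comp_id, Category.id_comp]
    · rw [map₂_snd, CategoryTheory.Functor.map_id, Category.comp_id, Category.id_comp]
  map_comp f g := by
    apply pullback.hom_ext
    · rw [map₂_fst, Category.assoc, map₂_fst, ← Category.assoc, map₂_fst, Category.assoc,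
        CategoryTheory.Functor.map_comp]
    · rw [map₂_snd, Category.assoc, map₂_snd, ← Category.assoc, map₂_snd, Category.assoc,
        CategoryTheory.Functor.map_comp]

/-- projection from the limit of self fibre products -/
noncomputable def π₂ (j : Jᵒᵖ) :
    pullback (pInf D c) (pInf D c) ⟶ pullback (p D j) (p D j) :=
  pullback.lift (pullback.fst _ _ ≫ (cS D c).π.app j) (pullback.snd _ _ ≫ (cS D c).π.app j)
    (by rw [Category.assoc, Category.assoc, π_p, pullback.condition])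

theorem π₂_fst (j : Jᵒᵖ) :
    π₂ D c j ≫ pullback.fst (p D j) (p D j) =
      pullback.fst (pInf D c) (pInf D c) ≫ (cS D c).π.app j :=
  pullback.lift_fst _ _ _

theorem π₂_snd (j : Jᵒᵖ) :
    π₂ D c j ≫ pullback.snd (p D j) (p D j) =
      pullback.snd (pInf D c) (pInf D c) ≫ (cS D c).π.app j :=
  pullback.lift_snd _ _ _

/-- the cone of self fibre products -/
noncomputable def cS₂ : Cone (DS₂ D) where
  pt := pullback (pInf D c) (pInf D c)
  π :=
    { app := fun j => π₂ D c j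
      naturality := fun k j f => by
        show 𝟙 _ ≫ π₂ D c j = π₂ D c k ≫ map₂ D f
        rw [Category.id_comp]
        apply pullback.hom_ext
        · rw [π₂_fst, Category.assoc, map₂_fst, ← Category.assoc, π₂_fst, Category.assoc,
            (cS D c).w f]
        · rw [π₂_snd, Category.assoc, map₂_snd, ← Category.assoc, π₂_snd, Category.assoc,
            (cS D c).w f] }

/-- typed projections -/
noncomputable def fst₂ (j : Jᵒᵖ) : (DS₂ D).obj j ⟶ (DS D).obj j := pullback.fst _ _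
/-- typed projections -/
noncomputable def snd₂ (j : Jᵒᵖ) : (DS₂ D).obj j ⟶ (DS D).obj j := pullback.snd _ _
/-- typed projections -/
noncomputable def fstInf : (cS₂ D c).pt ⟶ (cS D c).pt := pullback.fst _ _
/-- typed projections -/
noncomputable def sndInf : (cS₂ D c).pt ⟶ (cS D c).pt := pullback.snd _ _

theorem cond₂ (j : Jᵒᵖ) : fst₂ D j ≫ p D j = snd₂ D j ≫ p D j := pullback.condition

theorem condInf : fstInf D c ≫ pInf D c = sndInf D c ≫ pInf D c := pullback.condition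

theorem ext₂ {Z : Scheme.{u}} {j : Jᵒᵖ} (m m' : Z ⟶ (DS₂ D).obj j)
    (h₁ : m ≫ fst₂ D j = m' ≫ fst₂ D j) (h₂ : m ≫ snd₂ D j = m' ≫ snd₂ D j) : m = m' :=
  pullback.hom_ext h₁ h₂

theorem extInf {Z : Scheme.{u}} (m m' : Z ⟶ (cS₂ D c).pt)
    (h₁ : m ≫ fstInf D c = m' ≫ fstInf D c) (h₂ : m ≫ sndInf D c = m' ≫ sndInf D c) : m = m' :=
  pullback.hom_ext h₁ h₂

/-- lifting into the self fibre product -/
noncomputable def lift₂ {Z : Scheme.{u}} {j : Jᵒᵖ} (g₁ g₂ : Z ⟶ (DS D).obj j)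
    (h : g₁ ≫ p D j = g₂ ≫ p D j) : Z ⟶ (DS₂ D).obj j := pullback.lift g₁ g₂ h

theorem lift₂_fst {Z : Scheme.{u}} {j : Jᵒᵖ} (g₁ g₂ : Z ⟶ (DS D).obj j)
    (h : g₁ ≫ p D j = g₂ ≫ p D j) : lift₂ D g₁ g₂ h ≫ fst₂ D j = g₁ := pullback.lift_fst _ _ _

theorem lift₂_snd {Z : Scheme.{u}} {j : Jᵒᵖ} (g₁ g₂ : Z ⟶ (DS D).obj j)
    (h : g₁ ≫ p D j = g₂ ≫ p D j) : lift₂ D g₁ g₂ h ≫ snd₂ D j = g₂ := pullback.lift_snd _ _ _

/-- lifting into the limit self fibre product -/
noncomputable def liftInf {Z : Scheme.{u}} (g₁ g₂ : Z ⟶ (cS D c).pt)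
    (h : g₁ ≫ pInf D c = g₂ ≫ pInf D c) : Z ⟶ (cS₂ D c).pt := pullback.lift g₁ g₂ h

theorem liftInf_fst {Z : Scheme.{u}} (g₁ g₂ : Z ⟶ (cS D c).pt)
    (h : g₁ ≫ pInf D c = g₂ ≫ pInf D c) : liftInf D c g₁ g₂ h ≫ fstInf D c = g₁ :=
  pullback.lift_fst _ _ _

theorem liftInf_snd {Z : Scheme.{u}} (g₁ g₂ : Z ⟶ (cS D c).pt)
    (h : g₁ ≫ pInf D c = g₂ ≫ pInf D c) : liftInf D c g₁ g₂ h ≫ sndInf D c = g₂ :=
  pullback.lift_snd _ _ _

theorem DS₂_map_fst {k j : Jᵒᵖ} (f : k ⟶ j) :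
    (DS₂ D).map f ≫ fst₂ D j = fst₂ D k ≫ (DS D).map f := map₂_fst D f

theorem DS₂_map_snd {k j : Jᵒᵖ} (f : k ⟶ j) :
    (DS₂ D).map f ≫ snd₂ D j = snd₂ D k ≫ (DS D).map f := map₂_snd D f

theorem cS₂_π_fst (j : Jᵒᵖ) :
    (cS₂ D c).π.app j ≫ fst₂ D j = fstInf D c ≫ (cS D c).π.app j := π₂_fst D c j

theorem cS₂_π_snd (j : Jᵒᵖ) :
    (cS₂ D c).π.app j ≫ snd₂ D j = sndInf D c ≫ (cS D c).π.app j := π₂_snd D c j

/-- the cone of self fibre products is a limit cone -/
noncomputable def hcS₂ : IsLimit (cS₂ D c) := by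
  have hne : Nonempty Jᵒᵖ := IsCofiltered.nonempty
  let l₁ : ∀ s : Cone (DS₂ D), s.pt ⟶ (cS D c).pt := fun s => (hcS D c hc).lift
    { pt := s.pt
      π := { app := fun j => s.π.app j ≫ fst₂ D j
             naturality := fun k j f => by
              show 𝟙 _ ≫ s.π.app j ≫ fst₂ D j = (s.π.app k ≫ fst₂ D k) ≫ (DS D).map f
              rw [Category.id_comp, Category.assoc, ← DS₂_map_fst, ← Category.assoc, s.w f] } }
  let l₂ : ∀ s : Cone (DS₂ D), s.pt ⟶ (cS D c).pt := fun s => (hcS D c hc).lift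
    { pt := s.pt
      π := { app := fun j => s.π.app j ≫ snd₂ D j
             naturality := fun k j f => by
              show 𝟙 _ ≫ s.π.app j ≫ snd₂ D j = (s.π.app k ≫ snd₂ D k) ≫ (DS D).map f
              rw [Category.id_comp, Category.assoc, ← DS₂_map_snd, ← Category.assoc, s.w f] } }
  have hl₁ : ∀ s j, l₁ s ≫ (cS D c).π.app j = s.π.app j ≫ fst₂ D j :=
    fun s j => (hcS D c hc).fac _ j
  have hl₂ : ∀ s j, l₂ s ≫ (cS D c).π.app j = s.π.app j ≫ snd₂ D j :=
    fun s j => (hcS D c hc).fac _ j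
  have hcond : ∀ s, l₁ s ≫ pInf D c = l₂ s ≫ pInf D c := by
    intro s
    obtain ⟨j⟩ := hne
    rw [← π_p D c j, ← Category.assoc, ← Category.assoc, hl₁, hl₂, Category.assoc, Category.assoc,
      cond₂]
  refine
    { lift := fun s => liftInf D c (l₁ s) (l₂ s) (hcond s)
      fac := fun s j => ?_
      uniq := fun s m hm => ?_ }
  · apply ext₂
    · rw [Category.assoc, cS₂_π_fst, ← Category.assoc, liftInf_fst, hl₁]
    · rw [Category.assoc, cS₂_π_snd, ← Category.assoc, liftInf_snd, hl₂]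
  · apply extInf
    · rw [liftInf_fst]
      apply (hcS D c hc).hom_ext
      intro j
      rw [hl₁, Category.assoc, ← cS₂_π_fst, ← Category.assoc, hm]
    · rw [liftInf_snd]
      apply (hcS D c hc).hom_ext
      intro j
      rw [hl₂, Category.assoc, ← cS₂_π_snd, ← Category.assoc, hm]


instance (j : Jᵒᵖ) : IsAffine ((DS D).obj j) := by
  show IsAffine (Spec _)
  infer_instance

instance : IsAffine (cS D c).pt := by
  show IsAffine (Spec _)
  infer_instance

instance (j : Jᵒᵖ) : IsAffine ((DS₂ D).obj j) := by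
  show IsAffine (pullback (p D j) (p D j))
  infer_instance

instance : IsAffine (cS₂ D c).pt := by
  show IsAffine (pullback (pInf D c) (pInf D c))
  infer_instance

include hc in
theorem exists_factor {X V : Scheme.{u}} (ρ : Spec B ⟶ X) (v : V ⟶ X)
    [LocallyOfFinitePresentation v]
    (a' : (cS D c).pt ⟶ V) (ha' : a' ≫ v = pInf D c ≫ ρ) :
    ∃ (j : Jᵒᵖ) (g : (DS D).obj j ⟶ V), (cS D c).π.app j ≫ g = a' ∧ g ≫ v = p D j ≫ ρ := by
  let t : DS D ⟶ (Functor.const Jᵒᵖ).obj X :=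
    { app := fun j => p D j ≫ ρ
      naturality := fun k j f => by
        show (DS D).map f ≫ p D j ≫ ρ = (p D k ≫ ρ) ≫ 𝟙 _
        rw [Category.comp_id, ← Category.assoc, DS_map_p] }
  have ha : (cS D c).π ≫ t = (Functor.const Jᵒᵖ).map (a' ≫ v) := by
    ext j
    show (cS D c).π.app j ≫ p D j ≫ ρ = a' ≫ v
    rw [← Category.assoc, π_p, ha']
  exact Scheme.exists_π_app_comp_eq_of_locallyOfFinitePresentation (DS D) t v (cS D c)
    (hcS D c hc) a' ha

include hc in
theorem exists_lim (j : Jᵒᵖ) (O : ((DS₂ D).obj j).Opens)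
    (hO : ∀ z : (cS₂ D c).pt, (cS₂ D c).π.app j z ∈ O) :
    ∃ (k : Jᵒᵖ) (f : k ⟶ j), ∀ z : (DS₂ D).obj k, (DS₂ D).map f z ∈ O := by
  have hO' : (cS₂ D c).π.app j ⁻¹ᵁ O = ⊤ := by
    ext z
    simpa using hO z
  obtain ⟨k, f, hf⟩ := exists_map_eq_top (DS₂ D) (cS₂ D c) (hcS₂ D c hc) O hO'
  refine ⟨k, f, fun z => ?_⟩
  have : z ∈ (DS₂ D).map f ⁻¹ᵁ O := by rw [hf]; trivial
  exact this

end Groth.Agent.Lib.Helper82.EpsGeo
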