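import Groth.Agent.Lib.Helper82.EpsUnit

set_option autoImplicit false
open CategoryTheory CategoryTheory.Limits AlgebraicGeometry Opposite
universe u
open ProEtS

namespace Groth.Agent.Lib.Helper82.EpsMain

open EpsLan EpsH EpsUnit

variable {X : Scheme.{u}} [EpsCont X] (F : EtCoh.Ab X)

/-- the sheafified Kan extension -/
noncomputable abbrev Psh : X.ProEtᵒᵖ ⥤ AddCommGrpCat.{u + 1} :=
  sheafify (Scheme.ProEt.topology X) (EpsLan.P F.obj)

/-- the sheafification map -/
noncomputable abbrev θ : EpsLan.P F.obj ⟶ Psh F :=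
  toSheafify (Scheme.ProEt.topology X) (EpsLan.P F.obj)

theorem α_eq (U : X.Etale) (x : F.obj.obj (op U)) :
    α X F U x = (θ F).app (op ((eps X).obj U)) (mkElt F.obj U (𝟙 _) x) := by
  unfold α mkElt
  rw [op_id, CategoryTheory.Functor.map_id]
  rfl

theorem θ_mkElt {W : X.ProEt} (V : X.Etale) (a : W ⟶ (eps X).obj V) (x : F.obj.obj (op V)) :
    (θ F).app (op W) (mkElt F.obj V a x) = (Psh F).map a.op (α X F V x) := by
  unfold mkElt α
  exact NatTrans.naturality_apply (θ F) a.op _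

theorem α_natural {V V' : X.Etale} (p : V' ⟶ V) (x : F.obj.obj (op V)) :
    α X F V' (F.obj.map p.op x) = (Psh F).map ((eps X).map p).op (α X F V x) := by
  rw [α_eq, ← θ_mkElt, ← mkElt_comp, Category.id_comp]


omit [EpsCont X] in
set_option backward.isDefEq.respectTransparency.types false in
theorem exists_wc_family (T : X.ProEt) : ∃ (ι : Type u) (V : ι → X.ProEt) (g : ∀ i, V i ⟶ T),
    (∀ z : T.left, ∃ i, z ∈ Set.range (g i).left) ∧
      ∀ i, IsAffine (V i).left ∧ ProEtS.IsWC (V i) := by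
  let 𝒰 := T.left.affineCover
  choose W h hWaff hwe hsurj hqc hwc using
    fun i : 𝒰.I₀ => ProEtCov.exists_wContractible_cover_affine (𝒰.X i)
  let V : 𝒰.I₀ → X.ProEt := fun i => Scheme.ProEt.mk ((h i ≫ 𝒰.f i) ≫ T.hom)
  let g : ∀ i, V i ⟶ T := fun i => MorphismProperty.Over.homMk (h i ≫ 𝒰.f i)
  refine ⟨𝒰.I₀, V, g, ?_, fun i => ?_⟩
  · intro z
    obtain ⟨i, y, hy⟩ := 𝒰.exists_eq z
    obtain ⟨w, hw⟩ := (hsurj i).surj y
    refine ⟨i, w, ?_⟩
    show (h i ≫ 𝒰.f i) w = z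
    rw [Scheme.Hom.comp_apply, hw, hy]
  · haveI : IsAffine (V i).left := hWaff i
    exact ⟨hWaff i, ProEtWC.isWC_of_wContractible (V i) (hwc i)⟩

set_option backward.isDefEq.respectTransparency.types false in
theorem exists_vanishing_open (T : X.Etale) (x : F.obj.obj (op T)) (T' : X.ProEt)
    (b : T' ⟶ (eps X).obj T) (hx : (Psh F).map b.op (α X F T x) = 0) :
    ∃ O : T.left.Opens, (∀ z : T'.left, b.left z ∈ O) ∧
      F.obj.map (MorphismProperty.Over.homMk O.ι : Scheme.Etale.mk (O.ι ≫ T.hom) ⟶ T).op x = 0 := by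
  obtain ⟨ι, V, g, hcov, hV⟩ := exists_wc_family T'
  have key : ∀ i, ∃ (V'' : X.Etale) (a'' : V i ⟶ (eps X).obj V'') (p : V'' ⟶ T),
      a'' ≫ (eps X).map p = g i ≫ b ∧ F.obj.map p.op x = 0 := by
    intro i
    haveI := (hV i).1
    have h1 : (θ F).app (op (V i)) (mkElt F.obj T (g i ≫ b) x) = 0 := by
      rw [θ_mkElt, op_comp, CategoryTheory.Functor.map_comp, ConcreteCategory.comp_apply, hx,
        map_zero]
    have h2 : mkElt F.obj T (g i ≫ b) x = mkElt F.obj T (g i ≫ b) 0 := by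
      apply (theta_bijective F (V i) (hV i).2).1
      rw [h1, mkElt_zero, map_zero]
    obtain ⟨V'', a'', p, p', e1, -, e3⟩ := exists_of_mkElt_eq F.obj _ _ _ _ h2
    refine ⟨V'', a'', p, e1, ?_⟩
    rw [e3, map_zero]
  choose V'' a'' p hp hpx using key
  have hopen : ∀ i, IsOpen (Set.range (p i).left) := fun i => (p i).left.isOpenMap.isOpen_range
  let O : T.left.Opens := ⨆ i, ⟨Set.range (p i).left, hopen i⟩
  have hpO : ∀ i y, (p i).left y ∈ O := fun i y =>
    TopologicalSpace.Opens.mem_iSup.mpr ⟨i, ⟨y, rfl⟩⟩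
  refine ⟨O, ?_, ?_⟩
  · intro z
    obtain ⟨i, w, hw⟩ := hcov z
    have h3 : (a'' i).left ≫ (p i).left = (g i).left ≫ b.left :=
      congrArg (fun m => m.left) (hp i)
    have h4 : b.left z = (p i).left ((a'' i).left w) := by
      rw [← hw]
      exact (Scheme.Hom.comp_apply _ _ _).symm.trans
        ((congrArg (fun m => m w) h3).trans (Scheme.Hom.comp_apply _ _ _)) |>.symm
    rw [h4]
    exact hpO i _
  · haveI hOι : IsOpenImmersion O.ι := inferInstance
    let TO : X.Etale := Scheme.Etale.mk (O.ι ≫ T.hom)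
    let ιO : TO ⟶ T := MorphismProperty.Over.homMk O.ι
    have hrange : ∀ i, Set.range (p i).left ⊆ Set.range O.ι := by
      intro i
      rintro _ ⟨y, rfl⟩
      rw [Scheme.Opens.range_ι]
      exact hpO i y
    let l : ∀ i, (V'' i).left ⟶ (O : Scheme) := fun i =>
      IsOpenImmersion.lift O.ι (p i).left (hrange i)
    have hl : ∀ i, l i ≫ O.ι = (p i).left := fun i => IsOpenImmersion.lift_fac _ _ _
    let q : ∀ i, V'' i ⟶ TO := fun i =>
      MorphismProperty.Over.homMk (l i) (by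
        show l i ≫ O.ι ≫ T.hom = (V'' i).hom
        rw [reassoc_of% (hl i)]
        exact MorphismProperty.Over.w (p i))
    have hq : ∀ i, q i ≫ ιO = p i := by
      intro i
      apply MorphismProperty.Over.Hom.ext
      exact hl i
    have hqcov : Sieve.generate (Presieve.ofArrows V'' q) ∈ X.smallEtaleTopology TO := by
      apply ofArrows_mem_topology
      intro w
      have hw : O.ι w ∈ O := w.2
      obtain ⟨i, y, hy⟩ := TopologicalSpace.Opens.mem_iSup.mp hw
      refine ⟨i, y, ?_⟩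
      apply O.ι.isOpenEmbedding.injective
      have := congrArg (fun m => m.left y) (hq i)
      exact this.trans hy
    have hF := (isSheaf_iff_isSheaf_of_type _ _).mp (Fs F).property
    have hsep := (hF.isSheafFor _ hqcov).isSeparatedFor
    have : F.obj.map ιO.op x = (0 : F.obj.obj (op TO)) := by
      apply hsep.ext
      rintro Z f ⟨i⟩
      show F.obj.map (q i).op (F.obj.map ιO.op x) = F.obj.map (q i).op 0
      rw [map_zero, ← ConcreteCategory.comp_apply, ← CategoryTheory.Functor.map_comp, ← op_comp,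
        hq i, hpx i]
    exact this


/-- geometric presentation data of a w-contractible pro-etale cover of an etale object -/
structure Pres (U : X.Etale) where
  W : X.ProEt
  aff : IsAffine W.left
  wc : ProEtS.IsWC W
  a : W ⟶ (eps X).obj U
  surj : ∀ z : U.left, ∃ w : W.left, a.left w = z
  cov : Sieve.generate (Presieve.singleton a) ∈ Scheme.ProEt.topology X ((eps X).obj U)
  I : Type u
  [cat : SmallCategory I]
  [cof : IsCofiltered I]
  Wj : I → X.Etale
  π : ∀ j, Wj j ⟶ U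
  c : ∀ j, W ⟶ (eps X).obj (Wj j)
  c_π : ∀ j, c j ≫ (eps X).map (π j) = a
  τ : ∀ {k j : I}, (k ⟶ j) → (Wj k ⟶ Wj j)
  τ_π : ∀ {k j : I} (f : k ⟶ j), τ f ≫ π j = π k
  c_τ : ∀ {k j : I} (f : k ⟶ j), c k ≫ (eps X).map (τ f) = c j
  factor : ∀ (V : X.Etale) (a' : W ⟶ (eps X).obj V),
    ∃ (j : I) (g : Wj j ⟶ V), c j ≫ (eps X).map g = a'
  T' : X.ProEt
  q₁ : T' ⟶ W
  q₂ : T' ⟶ W
  q_a : q₁ ≫ a = q₂ ≫ a
  T : I → X.Etale
  pr₁ : ∀ j, T j ⟶ Wj j
  pr₂ : ∀ j, T j ⟶ Wj j
  pr_π : ∀ j, pr₁ j ≫ π j = pr₂ j ≫ π j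
  univ : ∀ (j : I) (Z : X.Etale) (g₁ g₂ : Z ⟶ Wj j), g₁ ≫ π j = g₂ ≫ π j →
    ∃ l : Z ⟶ T j, l ≫ pr₁ j = g₁ ∧ l ≫ pr₂ j = g₂
  b : ∀ j, T' ⟶ (eps X).obj (T j)
  b_pr₁ : ∀ j, b j ≫ (eps X).map (pr₁ j) = q₁ ≫ c j
  b_pr₂ : ∀ j, b j ≫ (eps X).map (pr₂ j) = q₂ ≫ c j
  σ : ∀ {k j : I}, (k ⟶ j) → (T k ⟶ T j)
  σ_pr₁ : ∀ {k j : I} (f : k ⟶ j), σ f ≫ pr₁ j = pr₁ k ≫ τ f
  σ_pr₂ : ∀ {k j : I} (f : k ⟶ j), σ f ≫ pr₂ j = pr₂ k ≫ τ f
  lim : ∀ (j : I) (O : (T j).left.Opens), (∀ z : T'.left, (b j).left z ∈ O) →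
    ∃ (k : I) (f : k ⟶ j), ∀ z : (T k).left, (σ f).left z ∈ O

attribute [instance] Pres.cat Pres.cof

set_option backward.isDefEq.respectTransparency.types false in
theorem injective_α {U : X.Etale} (d : Pres (X := X) U) : Function.Injective (α X F U) := by
  haveI := d.aff
  rw [injective_iff_map_eq_zero]
  intro x hx
  obtain ⟨O, hO, hxO⟩ := exists_vanishing_open F U x d.W d.a (by rw [hx, map_zero])
  let TO : X.Etale := Scheme.Etale.mk (O.ι ≫ U.hom)
  let ιO : TO ⟶ U := MorphismProperty.Over.homMk O.ι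
  have hcov : Sieve.generate (Presieve.ofArrows (fun _ : Unit => TO) (fun _ => ιO)) ∈
      X.smallEtaleTopology U := by
    apply ofArrows_mem_topology
    intro z
    obtain ⟨w, hw⟩ := d.surj z
    refine ⟨(), ⟨z, ?_⟩, rfl⟩
    rw [← hw]
    exact hO w
  have hF := (isSheaf_iff_isSheaf_of_type _ _).mp (Fs F).property
  have hsep := (hF.isSheafFor _ hcov).isSeparatedFor
  apply hsep.ext
  rintro Z f ⟨i⟩
  show F.obj.map ιO.op x = F.obj.map ιO.op 0
  rw [map_zero]
  exact hxO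


set_option backward.isDefEq.respectTransparency.types false in
set_option maxHeartbeats 800000 in
theorem surjective_α {U : X.Etale} (d : Pres (X := X) U) : Function.Surjective (α X F U) := by
  haveI := d.aff
  intro y
  obtain ⟨s, hs⟩ := (theta_bijective F d.W d.wc).2 ((Psh F).map d.a.op y)
  obtain ⟨V, a', t, rfl⟩ := mkElt_surjective F.obj s
  obtain ⟨j, g, hg⟩ := d.factor V a'
  let tj : F.obj.obj (op (d.Wj j)) := F.obj.map g.op t
  have h1 : mkElt F.obj V a' t = mkElt F.obj (d.Wj j) (d.c j) tj := by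
    rw [← hg]
    exact mkElt_comp F.obj _ _ _
  have h2 : (Psh F).map d.a.op y = (Psh F).map (d.c j).op (α X F (d.Wj j) tj) := by
    rw [← hs, h1, θ_mkElt]
  let x : F.obj.obj (op (d.T j)) := F.obj.map (d.pr₁ j).op tj - F.obj.map (d.pr₂ j).op tj
  have hx : (Psh F).map (d.b j).op (α X F (d.T j) x) = 0 := by
    have e1 : (Psh F).map (d.b j).op (α X F (d.T j) (F.obj.map (d.pr₁ j).op tj)) =
        (Psh F).map (d.q₁ ≫ d.a).op y := by
      rw [α_natural, ← ConcreteCategory.comp_apply, ← CategoryTheory.Functor.map_comp, ← op_comp,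
        d.b_pr₁, op_comp, CategoryTheory.Functor.map_comp, ConcreteCategory.comp_apply, ← h2,
        ← ConcreteCategory.comp_apply, ← CategoryTheory.Functor.map_comp, ← op_comp]
    have e2 : (Psh F).map (d.b j).op (α X F (d.T j) (F.obj.map (d.pr₂ j).op tj)) =
        (Psh F).map (d.q₂ ≫ d.a).op y := by
      rw [α_natural, ← ConcreteCategory.comp_apply, ← CategoryTheory.Functor.map_comp, ← op_comp,
        d.b_pr₂, op_comp, CategoryTheory.Functor.map_comp, ConcreteCategory.comp_apply, ← h2,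
        ← ConcreteCategory.comp_apply, ← CategoryTheory.Functor.map_comp, ← op_comp]
    show (Psh F).map (d.b j).op (α X F (d.T j)
      (F.obj.map (d.pr₁ j).op tj - F.obj.map (d.pr₂ j).op tj)) = 0
    rw [map_sub, map_sub, e1, e2, d.q_a, sub_self]
  obtain ⟨O, hO, hxO⟩ := exists_vanishing_open F (d.T j) x d.T' (d.b j) hx
  obtain ⟨k, f, hk⟩ := d.lim j O hO
  let tk : F.obj.obj (op (d.Wj k)) := F.obj.map (d.τ f).op tj
  have h3 : F.obj.map (d.σ f).op x = 0 := by
    haveI hOι : IsOpenImmersion O.ι := inferInstance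
    let TO : X.Etale := Scheme.Etale.mk (O.ι ≫ (d.T j).hom)
    let ιO : TO ⟶ d.T j := MorphismProperty.Over.homMk O.ι
    have hrange : Set.range (d.σ f).left ⊆ Set.range O.ι := by
      rintro _ ⟨z, rfl⟩
      rw [Scheme.Opens.range_ι]
      exact hk z
    let l : (d.T k).left ⟶ (O : Scheme) := IsOpenImmersion.lift O.ι (d.σ f).left hrange
    have hl : l ≫ O.ι = (d.σ f).left := IsOpenImmersion.lift_fac _ _ _
    let l' : d.T k ⟶ TO := MorphismProperty.Over.homMk l (by
      show l ≫ O.ι ≫ (d.T j).hom = (d.T k).hom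
      rw [reassoc_of% hl]
      exact MorphismProperty.Over.w (d.σ f))
    have hl' : l' ≫ ιO = d.σ f := by
      apply MorphismProperty.Over.Hom.ext
      exact hl
    rw [← hl', op_comp, CategoryTheory.Functor.map_comp, ConcreteCategory.comp_apply]
    have : F.obj.map ιO.op x = 0 := hxO
    rw [this, map_zero]
  have h4 : F.obj.map (d.pr₁ k).op tk = F.obj.map (d.pr₂ k).op tk := by
    have e1 : F.obj.map (d.pr₁ k).op tk = F.obj.map (d.σ f).op (F.obj.map (d.pr₁ j).op tj) := by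
      show F.obj.map (d.pr₁ k).op (F.obj.map (d.τ f).op tj) = _
      rw [← ConcreteCategory.comp_apply, ← CategoryTheory.Functor.map_comp, ← op_comp,
        ← d.σ_pr₁ f, op_comp, CategoryTheory.Functor.map_comp, ConcreteCategory.comp_apply]
    have e2 : F.obj.map (d.pr₂ k).op tk = F.obj.map (d.σ f).op (F.obj.map (d.pr₂ j).op tj) := by
      show F.obj.map (d.pr₂ k).op (F.obj.map (d.τ f).op tj) = _
      rw [← ConcreteCategory.comp_apply, ← CategoryTheory.Functor.map_comp, ← op_comp,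
        ← d.σ_pr₂ f, op_comp, CategoryTheory.Functor.map_comp, ConcreteCategory.comp_apply]
    rw [e1, e2, ← sub_eq_zero, ← map_sub]
    exact h3
  have hπsurj : ∀ z : U.left, ∃ w : (d.Wj k).left, (d.π k).left w = z := by
    intro z
    obtain ⟨w, hw⟩ := d.surj z
    refine ⟨(d.c k).left w, ?_⟩
    rw [← hw]
    have h5 : (d.c k).left ≫ (d.π k).left = d.a.left := congrArg (fun m => m.left) (d.c_π k)
    exact (Scheme.Hom.comp_apply _ _ _).symm.trans (congrArg (fun m => m w) h5)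
  have hcov : Sieve.generate (Presieve.ofArrows (fun _ : Unit => d.Wj k) (fun _ => d.π k)) ∈
      X.smallEtaleTopology U := by
    apply ofArrows_mem_topology
    intro z
    obtain ⟨w, hw⟩ := hπsurj z
    exact ⟨(), w, hw⟩
  have hF := (isSheaf_iff_isSheaf_of_type _ _).mp (Fs F).property
  have hsh := hF.isSheafFor _ hcov
  rw [Presieve.isSheafFor_arrows_iff] at hsh
  obtain ⟨x₀, hx₀, -⟩ := hsh (fun _ => tk) (by
    intro _ _ Z g₁ g₂ hg
    obtain ⟨l, hl₁, hl₂⟩ := d.univ k Z g₁ g₂ hg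
    show F.obj.map g₁.op tk = F.obj.map g₂.op tk
    rw [← hl₁, ← hl₂, op_comp, op_comp, CategoryTheory.Functor.map_comp,
      CategoryTheory.Functor.map_comp, ConcreteCategory.comp_apply, ConcreteCategory.comp_apply, h4])
  have hx₀' : F.obj.map (d.π k).op x₀ = tk := hx₀ ()
  refine ⟨x₀, ?_⟩
  have hG := (isSheaf_iff_isSheaf_of_type _ _).mp
    ((sheafCompose (Scheme.ProEt.topology X) (forget AddCommGrpCat.{u + 1})).obj
      ((presheafToSheaf (Scheme.ProEt.topology X) AddCommGrpCat.{u + 1}).obj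
        (EpsLan.P F.obj))).property
  have hsep := (hG.isSheafFor _ d.cov).isSeparatedFor
  apply hsep.ext
  rintro Y f' ⟨⟩
  show (Psh F).map d.a.op (α X F U x₀) = (Psh F).map d.a.op y
  rw [h2, ← θ_mkElt, ← θ_mkElt]
  congr 1
  calc mkElt F.obj U d.a x₀ = mkElt F.obj U (d.c k ≫ (eps X).map (d.π k)) x₀ := by rw [d.c_π]
    _ = mkElt F.obj (d.Wj k) (d.c k) (F.obj.map (d.π k).op x₀) := mkElt_comp F.obj _ _ _
    _ = mkElt F.obj (d.Wj k) (d.c k) (F.obj.map (d.τ f).op tj) := by rw [hx₀']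
    _ = mkElt F.obj (d.Wj j) (d.c k ≫ (eps X).map (d.τ f)) tj := (mkElt_comp F.obj _ _ _).symm
    _ = mkElt F.obj (d.Wj j) (d.c j) tj := by rw [d.c_τ]

theorem bijective_α {U : X.Etale} (d : Pres (X := X) U) : Function.Bijective (α X F U) :=
  ⟨injective_α F d, surjective_α F d⟩

end Groth.Agent.Lib.Helper82.EpsMain
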