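import Groth.Agent.Lib.Helper82.FibreProductTop
import Groth.Prelude.Def_ProEtW

set_option autoImplicit false
open Topology Set
universe u

namespace Groth.Agent.Lib.Helper82

section PullbackW

variable {X T : Type u} [TopologicalSpace X]
    [TopologicalSpace T] [T1Space T]
    (g : T → ConnectedComponents X)

theorem fibreProduct_specializes_iff
    (y y' : {p : X × T // ConnectedComponents.mk p.1 = g p.2}) :
    y ⤳ y' ↔ y.1.1 ⤳ y'.1.1 ∧ y.1.2 = y'.1.2 := by
  rw [subtype_specializes_iff, ← Prod.mk.eta (p := y.1), ← Prod.mk.eta (p := y'.1),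
    specializes_prod]
  constructor
  · rintro ⟨h1, h2⟩
    exact ⟨h1, h2.eq⟩
  · rintro ⟨h1, h2⟩
    exact ⟨h1, h2 ▸ specializes_rfl⟩

theorem fibreProduct_isClosed_singleton_iff
    (y : {p : X × T // ConnectedComponents.mk p.1 = g p.2}) :
    IsClosed ({y} : Set {p : X × T // ConnectedComponents.mk p.1 = g p.2}) ↔
      IsClosed ({y.1.1} : Set X) := by
  constructor
  · intro hy
    rw [← closure_subset_iff_isClosed]
    intro z hz
    have hxz : y.1.1 ⤳ z := specializes_iff_mem_closure.2 hz
    have hmem : ConnectedComponents.mk z = g y.1.2 := by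
      rw [← connectedComponents_mk_eq_of_specializes hxz, y.2]
    have h1 : y ⤳ (⟨(z, y.1.2), hmem⟩ : {p : X × T // ConnectedComponents.mk p.1 = g p.2}) := by
      rw [fibreProduct_specializes_iff]
      exact ⟨hxz, rfl⟩
    have h2 := specializes_iff_mem_closure.1 h1
    rw [hy.closure_eq, mem_singleton_iff] at h2
    have h3 : z = y.1.1 := congrArg (fun w => w.1.1) h2
    rw [h3]
    exact mem_singleton _
  · intro hx
    have h1 : IsClosed ({y.1} : Set (X × T)) := by
      have : ({y.1} : Set (X × T)) = {y.1.1} ×ˢ {y.1.2} := by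
        rw [Set.singleton_prod_singleton]
      rw [this]
      exact hx.prod isClosed_singleton
    have h2 : ({y} : Set {p : X × T // ConnectedComponents.mk p.1 = g p.2}) =
        Subtype.val ⁻¹' ({y.1} : Set (X × T)) := by
      ext w
      simp only [mem_singleton_iff, mem_preimage]
      exact Subtype.ext_iff
    rw [h2]
    exact h1.preimage continuous_subtype_val

end PullbackW

section PullbackW2

variable (X T : Type u) [TopologicalSpace X]
    [TopologicalSpace T] [CompactSpace T] [T2Space T] [TotallyDisconnectedSpace T]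
    (hX : ProEtW.IsWLocal X) (g : C(T, ConnectedComponents X))

include hX in
theorem isWLocal_fibreProduct :
    ProEtW.IsWLocal {p : X × T // ConnectedComponents.mk p.1 = g p.2} := by
  obtain ⟨hsp, h0, huniq⟩ := hX
  refine ⟨spectralSpace_fibreProduct X T g, ?_, ?_⟩
  · have h1 : {y : {p : X × T // ConnectedComponents.mk p.1 = g p.2} | IsClosed ({y} : Set _)} =
        (fun y : {p : X × T // ConnectedComponents.mk p.1 = g p.2} => y.1.1) ⁻¹'
          {x : X | IsClosed ({x} : Set X)} := by
      ext y
      exact fibreProduct_isClosed_singleton_iff (g := g) y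
    rw [h1]
    exact h0.preimage (continuous_fst.comp continuous_subtype_val)
  · intro y
    obtain ⟨z, ⟨hz, hxz⟩, hzuniq⟩ := huniq y.1.1
    have hmem : ConnectedComponents.mk z = g y.1.2 := by
      rw [← connectedComponents_mk_eq_of_specializes hxz, y.2]
    refine ⟨⟨(z, y.1.2), hmem⟩, ⟨?_, ?_⟩, ?_⟩
    · rw [fibreProduct_isClosed_singleton_iff]
      exact hz
    · rw [fibreProduct_specializes_iff]
      exact ⟨hxz, rfl⟩
    · rintro y' ⟨hy', hyy'⟩
      rw [fibreProduct_isClosed_singleton_iff] at hy'
      rw [fibreProduct_specializes_iff] at hyy'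
      have h1 := hzuniq y'.1.1 ⟨hy', hyy'.1⟩
      exact Subtype.ext (Prod.ext h1 hyy'.2.symm)

include hX in
theorem isWLocalMap_fibreProduct_fst :
    ProEtW.IsWLocalMap
      (fun y : {p : X × T // ConnectedComponents.mk p.1 = g p.2} => y.1.1) := by
  obtain ⟨hsp, h0, huniq⟩ := hX
  refine ⟨⟨continuous_fst.comp continuous_subtype_val, ?_⟩, ?_⟩
  · intro U hU hUc
    have h1 : (fun y : {p : X × T // ConnectedComponents.mk p.1 = g p.2} => y.1.1) ⁻¹' U =
        Subtype.val ⁻¹' (U ×ˢ (univ : Set T)) := by
      ext y
      simp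
    rw [h1]
    exact (isClosed_fibreProduct X T g).isClosedEmbedding_subtypeVal.isCompact_preimage
      (hUc.prod isCompact_univ)
  · intro y hy
    exact (fibreProduct_isClosed_singleton_iff (g := g) y).1 hy

theorem closedPoints_fibreProduct :
    ProEtW.closedPoints {p : X × T // ConnectedComponents.mk p.1 = g p.2} =
      (fun y : {p : X × T // ConnectedComponents.mk p.1 = g p.2} => y.1.1) ⁻¹'
        ProEtW.closedPoints X := by
  ext y
  exact fibreProduct_isClosed_singleton_iff (g := g) y

end PullbackW2

end Groth.Agent.Lib.Helper82
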