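import Mathlib
import Groth.Prelude.Def_PBC

set_option autoImplicit false
universe u

namespace Groth.Agent.Lib.Helper82.WLoc

section LemmaD

variable (A B : Type u) [CommRing A] [CommRing B] [Algebra A B] (I : Ideal A)

theorem bijective_quotientMap_of_identifiesLocalRings
    (h1 : EtPBC.IdentifiesLocalRings A B)
    (h2 : ∀ x : Ideal A, x.IsMaximal → I ≤ x → ∃ 𝔟 : PrimeSpectrum B,
      I.map (algebraMap A B) ≤ 𝔟.asIdeal ∧ 𝔟.asIdeal.comap (algebraMap A B) = x)
    (h3 : ∀ 𝔟 𝔶 : PrimeSpectrum B, I.map (algebraMap A B) ≤ 𝔟.asIdeal →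
      I.map (algebraMap A B) ≤ 𝔶.asIdeal →
      (𝔟.asIdeal.comap (algebraMap A B)).IsMaximal →
      𝔶.asIdeal.comap (algebraMap A B) ≤ 𝔟.asIdeal.comap (algebraMap A B) →
      𝔶.asIdeal ≤ 𝔟.asIdeal) :
    Function.Bijective (Ideal.quotientMap (I.map (algebraMap A B)) (algebraMap A B)
      Ideal.le_comap_map) := by
  constructor
  · rw [injective_iff_map_eq_zero]
    intro abar habar
    obtain ⟨a, rfl⟩ := Ideal.Quotient.mk_surjective abar
    rw [Ideal.quotientMap_mk, Ideal.Quotient.eq_zero_iff_mem] at habar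
    rw [Ideal.Quotient.eq_zero_iff_mem]
    suffices hone : (1 : A) ∈ (I : Submodule A A).colon {a} by
      rw [Submodule.mem_colon_singleton, one_smul] at hone
      exact hone
    by_contra hne
    have hne' : (I : Submodule A A).colon {a} ≠ ⊤ := fun h => hne (h ▸ Submodule.mem_top)
    obtain ⟨x, hx, hle⟩ := Ideal.exists_le_maximal _ hne'
    have hIx : I ≤ x := by
      intro s hs
      apply hle
      rw [Submodule.mem_colon_singleton]
      exact I.mul_mem_right _ hs
    obtain ⟨𝔟, h𝔟I, rfl⟩ := h2 x hx hIx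
    set ψ := Localization.localRingHom (𝔟.asIdeal.comap (algebraMap A B)) 𝔟.asIdeal
      (algebraMap A B) rfl with hψ
    have hcomp : ψ.comp (algebraMap A (Localization.AtPrime (𝔟.asIdeal.comap (algebraMap A B)))) =
        (algebraMap B (Localization.AtPrime 𝔟.asIdeal)).comp (algebraMap A B) :=
      RingHom.ext fun r => Localization.localRingHom_to_map _ _ _ rfl r
    have hmem : algebraMap B (Localization.AtPrime 𝔟.asIdeal) (algebraMap A B a) ∈
        (I.map (algebraMap A (Localization.AtPrime (𝔟.asIdeal.comap (algebraMap A B))))).map ψ := by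
      rw [Ideal.map_map, hcomp, ← Ideal.map_map]
      exact Ideal.mem_map_of_mem _ habar
    rw [Ideal.mem_map_iff_of_surjective ψ (h1 𝔟).2] at hmem
    obtain ⟨z, hz, hza⟩ := hmem
    have hza' : ψ z = ψ (algebraMap A _ a) := by
      rw [hza]
      exact (Localization.localRingHom_to_map _ _ _ rfl a).symm
    have hz' := (h1 𝔟).1 hza'
    rw [hz', IsLocalization.mem_map_algebraMap_iff (𝔟.asIdeal.comap (algebraMap A B)).primeCompl]
      at hz
    obtain ⟨⟨i, s⟩, his⟩ := hz
    rw [← map_mul, IsLocalization.eq_iff_exists (𝔟.asIdeal.comap (algebraMap A B)).primeCompl]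
      at his
    obtain ⟨t, ht⟩ := his
    have hmem2 : (t.1 * s.1) ∈ (I : Submodule A A).colon {a} := by
      rw [Submodule.mem_colon_singleton]
      show t.1 * s.1 * a ∈ I
      have : t.1 * s.1 * a = t.1 * i.1 := by
        simp only at ht
        linear_combination ht
      rw [this]
      exact I.mul_mem_left _ i.2
    rcases (Ideal.IsMaximal.isPrime hx).mem_or_mem (hle hmem2) with h | h
    · exact t.2 h
    · exact s.2 h
  · intro bbar
    obtain ⟨b, rfl⟩ := Ideal.Quotient.mk_surjective bbar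
    let N : Submodule A (B ⧸ I.map (algebraMap A B)) :=
      LinearMap.range (Algebra.linearMap A (B ⧸ I.map (algebraMap A B)))
    suffices hone : (1 : A) ∈ N.colon {Ideal.Quotient.mk (I.map (algebraMap A B)) b} by
      rw [Submodule.mem_colon_singleton, one_smul] at hone
      obtain ⟨a, ha⟩ := hone
      refine ⟨Ideal.Quotient.mk I a, ?_⟩
      rw [Ideal.quotientMap_mk]
      exact ha
    by_contra hne
    have hne' : N.colon {Ideal.Quotient.mk (I.map (algebraMap A B)) b} ≠ ⊤ :=
      fun h => hne (h ▸ Submodule.mem_top)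
    obtain ⟨x, hx, hle⟩ := Ideal.exists_le_maximal _ hne'
    have hIx : I ≤ x := by
      intro s hs
      apply hle
      rw [Submodule.mem_colon_singleton]
      refine ⟨0, ?_⟩
      rw [map_zero, Algebra.smul_def, eq_comm]
      show Ideal.Quotient.mk _ (algebraMap A B s) * Ideal.Quotient.mk _ b = 0
      rw [← map_mul, Ideal.Quotient.eq_zero_iff_mem]
      exact Ideal.mul_mem_right _ _ (Ideal.mem_map_of_mem _ hs)
    obtain ⟨𝔟, h𝔟I, rfl⟩ := h2 x hx hIx
    obtain ⟨z, hz⟩ := (h1 𝔟).2 (algebraMap B (Localization.AtPrime 𝔟.asIdeal) b)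
    obtain ⟨a, s, rfl⟩ := IsLocalization.exists_mk'_eq
      (𝔟.asIdeal.comap (algebraMap A B)).primeCompl z
    rw [Localization.localRingHom_mk', IsLocalization.mk'_eq_iff_eq_mul, ← map_mul,
      IsLocalization.eq_iff_exists 𝔟.asIdeal.primeCompl] at hz
    obtain ⟨t, ht⟩ := hz
    have hdvd : ∃ m : A, m ∉ 𝔟.asIdeal.comap (algebraMap A B) ∧ ∃ c j : B,
        j ∈ I.map (algebraMap A B) ∧ algebraMap A B m = c * t.1 + j := by
      by_contra hcon
      push Not at hcon
      have hdisj : Disjoint ((Ideal.span {t.1} ⊔ I.map (algebraMap A B) : Ideal B) : Set B)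
          (Algebra.algebraMapSubmonoid B (𝔟.asIdeal.comap (algebraMap A B)).primeCompl) := by
        rw [Set.disjoint_left]
        rintro y hy ⟨m, hm, rfl⟩
        rw [SetLike.mem_coe, Submodule.mem_sup] at hy
        obtain ⟨y1, hy1, j, hj, hyj⟩ := hy
        obtain ⟨c, rfl⟩ := Ideal.mem_span_singleton'.1 hy1
        exact hcon m hm c j hj hyj.symm
      obtain ⟨𝔶, h𝔶p, h𝔶le, h𝔶d⟩ := Ideal.exists_le_prime_disjoint _ _ hdisj
      have hle2 : (⟨𝔶, h𝔶p⟩ : PrimeSpectrum B).asIdeal.comap (algebraMap A B) ≤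
          𝔟.asIdeal.comap (algebraMap A B) := by
        intro r hr
        by_contra hr'
        exact Set.disjoint_left.1 h𝔶d hr ⟨r, hr', rfl⟩
      have := h3 𝔟 ⟨𝔶, h𝔶p⟩ h𝔟I (le_sup_right.trans h𝔶le) hx hle2
      exact t.2 (this (h𝔶le (Ideal.mem_sup_left (Ideal.mem_span_singleton_self _))))
    obtain ⟨m, hm, c, j, hj, hmcj⟩ := hdvd
    have hmem2 : m * s.1 ∈ N.colon {Ideal.Quotient.mk (I.map (algebraMap A B)) b} := by
      rw [Submodule.mem_colon_singleton]
      refine ⟨m * a, ?_⟩
      rw [Algebra.smul_def]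
      show Ideal.Quotient.mk _ (algebraMap A B (m * a)) =
        Ideal.Quotient.mk _ (algebraMap A B (m * s.1)) * Ideal.Quotient.mk _ b
      rw [← map_mul, Ideal.Quotient.eq]
      have : algebraMap A B (m * a) - algebraMap A B (m * s.1) * b =
          j * (algebraMap A B a - algebraMap A B s.1 * b) := by
        simp only [map_mul, hmcj]
        simp only at ht
        linear_combination c * ht
      rw [this]
      exact Ideal.mul_mem_right _ _ hj
    rcases (Ideal.IsMaximal.isPrime hx).mem_or_mem (hle hmem2) with h | h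
    · exact hm h
    · exact s.2 h

end LemmaD

end Groth.Agent.Lib.Helper82.WLoc
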