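import Groth.Agent.Lib.Helper82.WLocComp
import Groth.Agent.Lib.Helper82.QuotBijective

set_option autoImplicit false
universe u

namespace Groth.Agent.Lib.Helper82.WLoc

open PrimeSpectrum Topology

section ClosedEmb

variable {X Y : Type u} [TopologicalSpace X] [TopologicalSpace Y] {f : Y → X}

theorem isClosed_singleton_iff_of_isClosedEmbedding (hf : IsClosedEmbedding f) (y : Y) :
    IsClosed ({y} : Set Y) ↔ IsClosed ({f y} : Set X) := by
  constructor
  · intro h
    have := hf.isClosedMap _ h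
    rwa [Set.image_singleton] at this
  · intro h
    have := h.preimage hf.continuous
    convert this using 1
    ext z
    simp only [Set.mem_singleton_iff, Set.mem_preimage]
    exact ⟨fun h => h ▸ rfl, fun h => hf.injective h⟩

theorem isWLocal_of_isClosedEmbedding (hf : IsClosedEmbedding f) (hX : ProEtW.IsWLocal X) :
    ProEtW.IsWLocal Y := by
  obtain ⟨h1, h2, h3⟩ := hX
  refine ⟨spectralSpace_of_isClosedEmbedding hf, ?_, ?_⟩
  · have : {y : Y | IsClosed ({y} : Set Y)} = f ⁻¹' {x : X | IsClosed ({x} : Set X)} := by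
      ext y
      exact isClosed_singleton_iff_of_isClosedEmbedding hf y
    rw [this]
    exact h2.preimage hf.continuous
  · intro y
    obtain ⟨z, ⟨hz1, hz2⟩, hz3⟩ := h3 (f y)
    have hzY : z ∈ Set.range f := hf.isClosed_range.stableUnderSpecialization hz2 ⟨y, rfl⟩
    obtain ⟨w, rfl⟩ := hzY
    refine ⟨w, ⟨(isClosed_singleton_iff_of_isClosedEmbedding hf w).2 hz1, ?_⟩, ?_⟩
    · exact hf.isInducing.specializes_iff.1 hz2
    · rintro v ⟨hv1, hv2⟩
      apply hf.injective
      apply hz3
      exact ⟨(isClosed_singleton_iff_of_isClosedEmbedding hf v).1 hv1,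
        hf.isInducing.specializes_iff.2 hv2⟩

end ClosedEmb

section QuotIdem

variable {R : Type u} [CommRing R] (G : Set R)
  (hG : ∀ g ∈ G, ∃ s : R, s * g = 0 ∧ 1 - s ∈ Ideal.span G)

include hG in
theorem identifiesLocalRings_quotient_span : EtPBC.IdentifiesLocalRings R (R ⧸ Ideal.span G) := by
  intro q
  have hker : ∀ j ∈ Ideal.span G, ∃ s : R, s ∉ q.asIdeal.comap (algebraMap R (R ⧸ Ideal.span G)) ∧
      s * j = 0 := by
    intro j hj
    induction hj using Submodule.span_induction with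
    | mem g hg =>
      obtain ⟨s, hs, hs1⟩ := hG g hg
      refine ⟨s, ?_, hs⟩
      intro hmem
      have h1 : algebraMap R (R ⧸ Ideal.span G) (1 - s) = 0 :=
        Ideal.Quotient.eq_zero_iff_mem.2 hs1
      have h2 : algebraMap R (R ⧸ Ideal.span G) s ∈ q.asIdeal := hmem
      rw [map_sub, map_one, sub_eq_zero] at h1
      rw [← h1] at h2
      exact q.2.ne_top ((Ideal.eq_top_iff_one _).2 h2)
    | zero => exact ⟨1, (Ideal.ne_top_iff_one _).1 (Ideal.comap_isPrime _ _).ne_top, mul_zero _⟩
    | add j j' _ _ hj hj' =>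
      obtain ⟨s, hs, hsj⟩ := hj
      obtain ⟨s', hs', hsj'⟩ := hj'
      refine ⟨s * s', (Ideal.comap_isPrime _ _).mul_notMem hs hs', ?_⟩
      rw [mul_add, mul_right_comm, hsj, zero_mul, mul_assoc, hsj', mul_zero, add_zero]
    | smul r j _ hj =>
      obtain ⟨s, hs, hsj⟩ := hj
      refine ⟨s, hs, ?_⟩
      rw [smul_eq_mul, mul_left_comm, hsj, mul_zero]
  constructor
  · rw [injective_iff_map_eq_zero]
    intro z hz
    obtain ⟨r, t, rfl⟩ := IsLocalization.exists_mk'_eq
      (q.asIdeal.comap (algebraMap R (R ⧸ Ideal.span G))).primeCompl z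
    rw [Localization.localRingHom_mk', IsLocalization.mk'_eq_zero_iff] at hz
    obtain ⟨u, hu⟩ := hz
    obtain ⟨u', hu''⟩ := Ideal.Quotient.mk_surjective u.1
    have hu' : u' * r ∈ Ideal.span G := by
      rw [← Ideal.Quotient.eq_zero_iff_mem, map_mul, hu'']
      exact hu
    obtain ⟨s, hs, hsj⟩ := hker _ hu'
    rw [IsLocalization.mk'_eq_zero_iff]
    have hu3 : u' ∉ q.asIdeal.comap (algebraMap R (R ⧸ Ideal.span G)) := by
      show algebraMap R (R ⧸ Ideal.span G) u' ∉ q.asIdeal
      have : algebraMap R (R ⧸ Ideal.span G) u' = u.1 := hu''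
      rw [this]
      exact u.2
    refine ⟨⟨s * u', (Ideal.comap_isPrime _ _).mul_notMem hs hu3⟩, ?_⟩
    simp only
    rw [mul_assoc]
    exact hsj
  · intro z
    obtain ⟨r, t, rfl⟩ := IsLocalization.exists_mk'_eq q.asIdeal.primeCompl z
    obtain ⟨r', rfl⟩ := Ideal.Quotient.mk_surjective r
    obtain ⟨t', ht'⟩ := Ideal.Quotient.mk_surjective t.1
    have ht'' : t' ∈ (q.asIdeal.comap (algebraMap R (R ⧸ Ideal.span G))).primeCompl := by
      show algebraMap R (R ⧸ Ideal.span G) t' ∉ q.asIdeal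
      have : algebraMap R (R ⧸ Ideal.span G) t' = t.1 := ht'
      rw [this]
      exact t.2
    refine ⟨IsLocalization.mk' _ r' ⟨t', ht''⟩, ?_⟩
    rw [Localization.localRingHom_mk']
    congr 1
    exact Subtype.ext ht'

end QuotIdem

end Groth.Agent.Lib.Helper82.WLoc
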