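import Groth.Agent.Lib.Helper82.BTIndZar
import Groth.Agent.Lib.Helper82.WLocQuot
import Groth.Agent.Lib.Helper82.FibreProductWLocal
import Mathlib.Topology.ExtremallyDisconnected

set_option autoImplicit false
universe u

namespace Groth.Agent.Lib.Helper82.WLoc

open PrimeSpectrum Topology TopologicalSpace

section Discrete

/-- a type with the discrete topology. -/
structure Disc (X : Type u) : Type u where
  /-- the underlying point. -/
  val : X

instance (X : Type u) : TopologicalSpace (Disc X) := ⊥

instance (X : Type u) : DiscreteTopology (Disc X) := ⟨rfl⟩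

theorem exists_extremallyDisconnected_cover (C : Type u) [TopologicalSpace C] [CompactSpace C]
    [T2Space C] :
    ∃ (T : Type u) (_ : TopologicalSpace T) (_ : CompactSpace T) (_ : T2Space T)
      (_ : TotallyDisconnectedSpace T) (_ : ExtremallyDisconnected T) (g : C(T, C)),
      Function.Surjective g := by
  have hf : Continuous (fun x : Disc C => x.val) := continuous_of_discreteTopology
  have hED : ExtremallyDisconnected (StoneCech (Disc C)) :=
    CompactT2.Projective.extremallyDisconnected StoneCech.projective
  refine ⟨StoneCech (Disc C), inferInstance, inferInstance, inferInstance, inferInstance, hED,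
    ⟨stoneCechExtend hf, continuous_stoneCechExtend hf⟩, fun c => ?_⟩
  exact ⟨stoneCechUnit (⟨c⟩ : Disc C), stoneCechExtend_stoneCechUnit hf ⟨c⟩⟩

end Discrete

section Main

variable (A : Type u) [CommRing A]

theorem exists_wLocal_extrDisc :
    ∃ (B : Type u) (_ : CommRing B) (_ : Algebra A B),
      Module.FaithfullyFlat A B ∧ EtPBC.IsIndZariski A B ∧ ProEtW.IsWLocal (PrimeSpectrum B) ∧
        ExtremallyDisconnected (ConnectedComponents (PrimeSpectrum B)) := by
  classical
  have := t2Space_connectedComponents (X := PrimeSpectrum (Aw A))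
  obtain ⟨T, _, _, _, _, hED, g, hg⟩ :=
    exists_extremallyDisconnected_cover (ConnectedComponents (PrimeSpectrum (Aw A)))
  let B := BT.BT g
  let _ : Algebra A B := ((algebraMap (Aw A) B).comp (algebraMap A (Aw A))).toAlgebra
  have : IsScalarTower A (Aw A) B := IsScalarTower.of_algebraMap_eq (fun _ => rfl)
  obtain ⟨e, he⟩ := BT.exists_homeomorph g
  -- the homeomorphism with the fibre product
  let h₁ : PrimeSpectrum B ≃ₜ Set.range (BT.Phi g) := (BT.isEmbedding_Phi g).toHomeomorph
  let h₂ : Set.range (BT.Phi g) ≃ₜ
      {p : PrimeSpectrum (Aw A) × T // ConnectedComponents.mk p.1 = g p.2} :=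
    Homeomorph.setCongr (BT.range_Phi g)
  have hW : ProEtW.IsWLocal (PrimeSpectrum B) :=
    isWLocal_of_isClosedEmbedding (h₁.trans h₂).isClosedEmbedding
      (isWLocal_fibreProduct (PrimeSpectrum (Aw A)) T isWLocal_Aw g)
  have hid : EtPBC.IdentifiesLocalRings A B :=
    identifiesLocalRings_comp identifiesLocalRings_Aw (BT.identifiesLocalRings_BT (g := g))
  have hflat : Module.Flat (Aw A) B := flat_of_identifiesLocalRings (BT.identifiesLocalRings_BT (g := g))
  have hff : Module.FaithfullyFlat (Aw A) B := by
    apply Module.FaithfullyFlat.of_comap_surjective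
    intro y
    obtain ⟨t, ht⟩ := hg (ConnectedComponents.mk y)
    exact ⟨⟨BT.qOf g y t ht.symm, inferInstance⟩, PrimeSpectrum.ext (BT.yOf_qOf g y t ht.symm)⟩
  have := faithfullyFlat_Aw (A := A)
  refine ⟨B, inferInstance, inferInstance, Module.FaithfullyFlat.trans A (Aw A) B,
    IndZar.isIndZariski_of_identifiesLocalRings_wLocal A B hid hW, hW,
    extremallyDisconnected_of_homeo e.symm⟩

end Main

end Groth.Agent.Lib.Helper82.WLoc
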