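import Mathlib
import Groth.Agent.Lib.Helper82.WContr
import Groth.Agent.Lib.Helper82.WLocExtr
import Groth.Agent.S0692

open TensorProduct IsLocalRing PrimeSpectrum

namespace Groth.Agent.Lib.Helper82.WContr

universe u

/-- over a w-strictly-local ring there is a w-contractible ind-Zariski cover. -/
theorem exists_wContractible_of_wStrictlyLocal (C : Type u) [CommRing C]
    (hC : ProEtW.IsWLocal (PrimeSpectrum C))
    (hsh : ∀ (m : Ideal C) [m.IsMaximal],
      EtCoh.IsStrictlyHenselianLocalRing (Localization.AtPrime m)) :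
    ∃ (D : Type u) (_ : CommRing D) (_ : Algebra C D),
      Module.FaithfullyFlat C D ∧ EtPBC.IsIndZariski C D ∧ EtPBC.IsWContractible D := by
  classical
  have := t2Space_connectedComponents (X := PrimeSpectrum C)
  obtain ⟨T, _, _, _, _, hED, g, hg⟩ :=
    WLoc.exists_extremallyDisconnected_cover (ConnectedComponents (PrimeSpectrum C))
  let D := BT.BT g
  obtain ⟨e, he⟩ := BT.exists_homeomorph g
  let h₁ : PrimeSpectrum D ≃ₜ Set.range (BT.Phi g) := (BT.isEmbedding_Phi g).toHomeomorph
  let h₂ : Set.range (BT.Phi g) ≃ₜ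
      {p : PrimeSpectrum C × T // ConnectedComponents.mk p.1 = g p.2} :=
    Homeomorph.setCongr (BT.range_Phi g)
  let H := h₁.trans h₂
  have hH : ∀ 𝔮 : PrimeSpectrum D, (H 𝔮).1.1 = PrimeSpectrum.comap (algebraMap C D) 𝔮 :=
    fun _ => rfl
  have hW : ProEtW.IsWLocal (PrimeSpectrum D) :=
    WLoc.isWLocal_of_isClosedEmbedding H.isClosedEmbedding
      (isWLocal_fibreProduct (PrimeSpectrum C) T hC g)
  have hid : EtPBC.IdentifiesLocalRings C D := BT.identifiesLocalRings_BT (g := g)
  have hflat : Module.Flat C D := WLoc.flat_of_identifiesLocalRings hid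
  have hff : Module.FaithfullyFlat C D := by
    apply Module.FaithfullyFlat.of_comap_surjective
    intro y
    obtain ⟨t, ht⟩ := hg (ConnectedComponents.mk y)
    exact ⟨⟨BT.qOf g y t ht.symm, inferInstance⟩, PrimeSpectrum.ext (BT.yOf_qOf g y t ht.symm)⟩
  refine ⟨D, inferInstance, inferInstance, hff,
    IndZar.isIndZariski_of_identifiesLocalRings_wLocal C D hid hW, ?_⟩
  apply isWContractible_of_hasIndEtaleRetractions
  apply hasIndEtaleRetractions_of_wLocal_extrDisc_strictlyHenselian hW
    (extremallyDisconnected_of_homeo e.symm)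
  intro n hn
  -- the contraction is a closed point
  have hcl : IsClosed ({(⟨n, hn.isPrime⟩ : PrimeSpectrum D)} : Set (PrimeSpectrum D)) :=
    (PrimeSpectrum.isClosed_singleton_iff_isMaximal _).mpr hn
  have hcl2 : IsClosed ({H ⟨n, hn.isPrime⟩} : Set _) := by
    have := H.isClosedMap _ hcl
    rwa [Set.image_singleton] at this
  have hcl3 := (fibreProduct_isClosed_singleton_iff (g := g) _).mp hcl2
  rw [hH] at hcl3
  haveI hm : (n.comap (algebraMap C D)).IsMaximal :=
    (PrimeSpectrum.isClosed_singleton_iff_isMaximal _).mp hcl3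
  have hb := hid ⟨n, hn.isPrime⟩
  exact isStrictlyHenselianLocalRing_of_ringEquiv (RingEquiv.ofBijective _ hb) (hsh _)


theorem exists_wContractible_cover (A : Type u) [CommRing A] :
    ∃ (D : Type u) (_ : CommRing D) (_ : Algebra A D),
      Module.FaithfullyFlat A D ∧ EtPBC.IsIndEtale A D ∧ EtPBC.IsWContractible D := by
  haveI : Algebra.WeaklyEtale A A := inferInstance
  obtain ⟨C, D', _, _, _, _, _, _, _, _, hffC, hetC, -, -, hwC, -, -, -, -, -, hsh⟩ :=
    Groth.Agent.S0692.result A A (ThmW.algebraicResidueExtensions_of_weaklyEtale A A)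
  obtain ⟨D, _, _, hffD, hizD, hwc⟩ := exists_wContractible_of_wStrictlyLocal C hwC hsh
  letI : Algebra A D := ((algebraMap C D).comp (algebraMap A C)).toAlgebra
  haveI : IsScalarTower A C D := .of_algebraMap_eq (fun _ => rfl)
  exact ⟨D, inferInstance, inferInstance, .trans A C D,
    isIndEtale_trans A C D hetC (isIndEtale_of_isIndZariski hizD), hwc⟩

end Groth.Agent.Lib.Helper82.WContr
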