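import Groth.Agent.Lib.Helper82.EpsGeo1
import Groth.Agent.Lib.Helper82.EpsMain
import Groth.Agent.S0177

set_option autoImplicit false
open CategoryTheory CategoryTheory.Limits AlgebraicGeometry Opposite
universe u
open ProEtS

namespace Groth.Agent.Lib.Helper82.EpsGeo

open EpsMain

variable {X : Scheme.{u}} (U : X.Etale) [IsAffine U.left]
  {J : Type u} [SmallCategory J] [IsFiltered J]
  (D : J ⥤ Under Γ(U.left, ⊤)) (c : Cocone D) (hc : IsColimit c)
  [∀ j, Etale (p D j)] [WeaklyEtale (pInf D c)] [Surjective (pInf D c)]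

/-- the identification of `Spec Γ(U)` with `U` -/
noncomputable abbrev ψ : Spec Γ(U.left, ⊤) ⟶ U.left := U.left.isoSpec.inv

instance (j : Jᵒᵖ) : Etale (fst₂ D j) :=
  inferInstanceAs (Etale (pullback.fst (p D j) (p D j)))

instance : WeaklyEtale (fstInf D c) :=
  inferInstanceAs (WeaklyEtale (pullback.fst (pInf D c) (pInf D c)))

instance : WeaklyEtale (ψ U) :=
  haveI : IsOpenImmersion (ψ U) := inferInstance
  haveI : Etale (ψ U) := inferInstance
  inferInstance

instance : WeaklyEtale (pInf D c ≫ ψ U) := inferInstance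

instance : WeaklyEtale ((pInf D c ≫ ψ U) ≫ ((eps X).obj U).hom) :=
  haveI : MorphismProperty.IsStableUnderComposition @WeaklyEtale.{u} :=
    (inferInstance : MorphismProperty.IsMultiplicative @WeaklyEtale.{u}).toIsStableUnderComposition
  MorphismProperty.comp_mem (W := @WeaklyEtale.{u}) _ _
    (inferInstanceAs (WeaklyEtale (pInf D c ≫ ψ U))) ((eps X).obj U).prop

/-- the w-contractible cover -/
noncomputable def W : X.ProEt := Scheme.ProEt.mk ((pInf D c ≫ ψ U) ≫ ((eps X).obj U).hom)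

/-- the covering map -/
noncomputable def a : W U D c ⟶ (eps X).obj U := MorphismProperty.Over.homMk (pInf D c ≫ ψ U)

/-- the etale approximations -/
noncomputable def Wj (j : Jᵒᵖ) : X.Etale := Scheme.Etale.mk ((p D j ≫ ψ U) ≫ U.hom)

/-- structure maps -/
noncomputable def πj (j : Jᵒᵖ) : Wj U D j ⟶ U := MorphismProperty.Over.homMk (p D j ≫ ψ U)


/-- cone maps -/
noncomputable def cj (j : Jᵒᵖ) : W U D c ⟶ (eps X).obj (Wj U D j) :=
  MorphismProperty.Over.homMk ((cS D c).π.app j) (by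
    show (cS D c).π.app j ≫ (p D j ≫ ψ U) ≫ U.hom = (pInf D c ≫ ψ U) ≫ U.hom
    rw [← π_p D c j]
    simp only [Category.assoc])

/-- transition maps -/
noncomputable def τ {k j : Jᵒᵖ} (f : k ⟶ j) : Wj U D k ⟶ Wj U D j :=
  MorphismProperty.Over.homMk ((DS D).map f) (by
    show (DS D).map f ≫ (p D j ≫ ψ U) ≫ U.hom = (p D k ≫ ψ U) ≫ U.hom
    rw [← DS_map_p D f]
    simp only [Category.assoc])

instance : WeaklyEtale ((fstInf D c ≫ pInf D c ≫ ψ U) ≫ ((eps X).obj U).hom) :=
  haveI : MorphismProperty.IsStableUnderComposition @WeaklyEtale.{u} :=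
    (inferInstance : MorphismProperty.IsMultiplicative @WeaklyEtale.{u}).toIsStableUnderComposition
  MorphismProperty.comp_mem (W := @WeaklyEtale.{u}) _ _
    (inferInstanceAs (WeaklyEtale (fstInf D c ≫ pInf D c ≫ ψ U))) ((eps X).obj U).prop

/-- the self fibre product of the cover -/
noncomputable def T' : X.ProEt :=
  Scheme.ProEt.mk ((fstInf D c ≫ pInf D c ≫ ψ U) ≫ ((eps X).obj U).hom)

/-- projections -/
noncomputable def q₁ : T' U D c ⟶ W U D c :=
  MorphismProperty.Over.homMk (fstInf D c) (by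
    show fstInf D c ≫ (pInf D c ≫ ψ U) ≫ U.hom = (fstInf D c ≫ pInf D c ≫ ψ U) ≫ U.hom
    simp only [Category.assoc])

/-- projections -/
noncomputable def q₂ : T' U D c ⟶ W U D c :=
  MorphismProperty.Over.homMk (sndInf D c) (by
    show sndInf D c ≫ (pInf D c ≫ ψ U) ≫ U.hom = (fstInf D c ≫ pInf D c ≫ ψ U) ≫ U.hom
    rw [← Category.assoc, ← Category.assoc, ← condInf]
    simp only [Category.assoc])

/-- self fibre products of the approximations -/
noncomputable def Tj (j : Jᵒᵖ) : X.Etale :=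
  Scheme.Etale.mk ((fst₂ D j ≫ p D j ≫ ψ U) ≫ U.hom)

/-- projections -/
noncomputable def pr₁ (j : Jᵒᵖ) : Tj U D j ⟶ Wj U D j :=
  MorphismProperty.Over.homMk (fst₂ D j) (by
    show fst₂ D j ≫ (p D j ≫ ψ U) ≫ U.hom = (fst₂ D j ≫ p D j ≫ ψ U) ≫ U.hom
    simp only [Category.assoc])

/-- projections -/
noncomputable def pr₂ (j : Jᵒᵖ) : Tj U D j ⟶ Wj U D j :=
  MorphismProperty.Over.homMk (snd₂ D j) (by
    show snd₂ D j ≫ (p D j ≫ ψ U) ≫ U.hom = (fst₂ D j ≫ p D j ≫ ψ U) ≫ U.hom
    rw [← Category.assoc, ← Category.assoc, ← cond₂]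
    simp only [Category.assoc])

/-- cone maps of fibre products -/
noncomputable def bj (j : Jᵒᵖ) : T' U D c ⟶ (eps X).obj (Tj U D j) :=
  MorphismProperty.Over.homMk ((cS₂ D c).π.app j) (by
    show (cS₂ D c).π.app j ≫ (fst₂ D j ≫ p D j ≫ ψ U) ≫ U.hom =
      (fstInf D c ≫ pInf D c ≫ ψ U) ≫ U.hom
    rw [← π_p D c j]
    simp only [Category.assoc]
    rw [← Category.assoc, cS₂_π_fst, Category.assoc])

/-- transition maps of fibre products -/
noncomputable def σ {k j : Jᵒᵖ} (f : k ⟶ j) : Tj U D k ⟶ Tj U D j :=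
  MorphismProperty.Over.homMk ((DS₂ D).map f) (by
    show (DS₂ D).map f ≫ (fst₂ D j ≫ p D j ≫ ψ U) ≫ U.hom = (fst₂ D k ≫ p D k ≫ ψ U) ≫ U.hom
    rw [← DS_map_p D f]
    simp only [Category.assoc]
    rw [← Category.assoc, DS₂_map_fst, Category.assoc])


set_option backward.isDefEq.respectTransparency.types false in
/-- the presentation data -/
noncomputable def pres (hwc : EtPBC.IsWContractible c.pt.right) : Pres (X := X) U where
  W := W U D c
  aff := inferInstanceAs (IsAffine (cS D c).pt)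
  wc := by
    haveI : IsAffine (W U D c).left := inferInstanceAs (IsAffine (cS D c).pt)
    apply ProEtWC.isWC_of_wContractible
    exact ProEtCov.isWContractible_of_ringEquiv
      (Scheme.ΓSpecIso c.pt.right).commRingCatIsoToRingEquiv.symm hwc
  a := a U D c
  surj := by
    intro z
    obtain ⟨y, hy⟩ := (ψ U).surjective z
    obtain ⟨w, hw⟩ := (pInf D c).surjective y
    refine ⟨w, ?_⟩
    show (pInf D c ≫ ψ U) w = z
    rw [Scheme.Hom.comp_apply, hw, hy]
  cov := ProEtWC.singleton_mem_topology ((eps X).obj U) (pInf D c ≫ ψ U)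
  I := Jᵒᵖ
  Wj := Wj U D
  π := πj U D
  c := cj U D c
  c_π := fun j => by
    apply MorphismProperty.Over.Hom.ext
    show (cS D c).π.app j ≫ p D j ≫ ψ U = pInf D c ≫ ψ U
    rw [← Category.assoc, π_p]
  τ := fun f => τ U D f
  τ_π := fun {k j} f => by
    apply MorphismProperty.Over.Hom.ext
    show (DS D).map f ≫ p D j ≫ ψ U = p D k ≫ ψ U
    rw [← Category.assoc, DS_map_p]
  c_τ := fun {k j} f => by
    apply MorphismProperty.Over.Hom.ext
    show (cS D c).π.app k ≫ (DS D).map f = (cS D c).π.app j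
    exact (cS D c).w f
  factor := fun V a' => by
    haveI : LocallyOfFinitePresentation V.hom := inferInstance
    obtain ⟨j, g, hg1, hg2⟩ := exists_factor D c hc (ψ U ≫ U.hom) V.hom a'.left (by
      have := MorphismProperty.Over.w a'
      exact this.trans (Category.assoc _ _ _))
    refine ⟨j, MorphismProperty.Over.homMk g (by
      show g ≫ V.hom = (p D j ≫ ψ U) ≫ U.hom
      rw [hg2, Category.assoc]), ?_⟩
    apply MorphismProperty.Over.Hom.ext
    exact hg1
  T' := T' U D c
  q₁ := q₁ U D c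
  q₂ := q₂ U D c
  q_a := by
    apply MorphismProperty.Over.Hom.ext
    show fstInf D c ≫ pInf D c ≫ ψ U = sndInf D c ≫ pInf D c ≫ ψ U
    rw [← Category.assoc, condInf, Category.assoc]
  T := Tj U D
  pr₁ := pr₁ U D
  pr₂ := pr₂ U D
  pr_π := fun j => by
    apply MorphismProperty.Over.Hom.ext
    show fst₂ D j ≫ p D j ≫ ψ U = snd₂ D j ≫ p D j ≫ ψ U
    rw [← Category.assoc, cond₂, Category.assoc]
  univ := fun j Z g₁ g₂ hg => by
    have h1 : g₁.left ≫ p D j ≫ ψ U = g₂.left ≫ p D j ≫ ψ U := congrArg (fun m => m.left) hg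
    have h2 : g₁.left ≫ p D j = g₂.left ≫ p D j := by
      rw [← cancel_mono (ψ U), Category.assoc, Category.assoc, h1]
    refine ⟨MorphismProperty.Over.homMk (lift₂ D g₁.left g₂.left h2) (by
      show lift₂ D g₁.left g₂.left h2 ≫ (fst₂ D j ≫ p D j ≫ ψ U) ≫ U.hom = Z.hom
      simp only [Category.assoc]
      rw [← Category.assoc, lift₂_fst]
      have hw : g₁.left ≫ (p D j ≫ ψ U) ≫ U.hom = Z.hom := MorphismProperty.Over.w g₁
      rw [← hw]
      simp only [Category.assoc]
      rfl), ?_, ?_⟩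
    · apply MorphismProperty.Over.Hom.ext
      exact lift₂_fst D _ _ _
    · apply MorphismProperty.Over.Hom.ext
      exact lift₂_snd D _ _ _
  b := bj U D c
  b_pr₁ := fun j => by
    apply MorphismProperty.Over.Hom.ext
    exact cS₂_π_fst D c j
  b_pr₂ := fun j => by
    apply MorphismProperty.Over.Hom.ext
    exact cS₂_π_snd D c j
  σ := fun f => σ U D f
  σ_pr₁ := fun f => by
    apply MorphismProperty.Over.Hom.ext
    exact DS₂_map_fst D f
  σ_pr₂ := fun f => by
    apply MorphismProperty.Over.Hom.ext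
    exact DS₂_map_snd D f
  lim := fun j O hO => exists_lim D c hc j O hO


omit [IsFiltered J] [∀ j, Etale (p D j)] [WeaklyEtale (pInf D c)] [Surjective (pInf D c)] in
theorem etale_p_of (hD : ∀ j, letI := (D.obj j).hom.hom.toAlgebra;
    Algebra.Etale (Γ(U.left, ⊤)) (D.obj j).right) (j : Jᵒᵖ) : Etale (p D j) := by
  show Etale (Spec.map (D.obj j.unop).hom)
  rw [HasRingHomProperty.Spec_iff (P := @Etale)]
  exact hD j.unop

end Groth.Agent.Lib.Helper82.EpsGeo

namespace Groth.Agent.Lib.Helper82.EpsGeo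

open EpsMain

theorem nonempty_pres {X : Scheme.{u}} (U : X.Etale) [IsAffine U.left] :
    Nonempty (Pres (X := X) U) := by
  obtain ⟨D₀, _, _, hff, het, hwc⟩ := Groth.Agent.S0177.result (Γ(U.left, ⊤))
  haveI : Algebra.WeaklyEtale (Γ(U.left, ⊤)) D₀ :=
    Groth.Agent.Lib.Helper82.weaklyEtale_of_isIndEtale het
  obtain ⟨J, _, _, D, c, hc, hD, ⟨e⟩⟩ := het
  let D' : J ⥤ Under Γ(U.left, ⊤) := D
  let c' : Cocone D' :=
    { pt := Under.mk (CommRingCat.ofHom (algebraMap (Γ(U.left, ⊤)) D₀))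
      ι := c.ι ≫ (Functor.const J).map e.hom }
  have hc' : IsColimit c' := IsColimit.ofIsoColimit hc (Cocones.ext e (fun j => rfl))
  haveI : ∀ j, Etale (p D' j) := etale_p_of U D' hD
  haveI h1 : WeaklyEtale (pInf D' c') :=
    ProEtCov.weaklyEtale_SpecMap_of_weaklyEtale _ D₀
  have h2 : Flat (pInf D' c') ∧ Surjective (pInf D' c') := by
    show Flat (Spec.map (CommRingCat.ofHom (algebraMap (Γ(U.left, ⊤)) D₀))) ∧
      Surjective (Spec.map (CommRingCat.ofHom (algebraMap (Γ(U.left, ⊤)) D₀)))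
    rw [flat_and_surjective_SpecMap_iff]
    exact (RingHom.faithfullyFlat_algebraMap_iff).mpr hff
  haveI := h2.2
  exact ⟨pres U D' c' hc' hwc⟩

end Groth.Agent.Lib.Helper82.EpsGeo
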