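import Groth.Agent.Lib.Helper82.EpsLan
import Groth.Agent.Lib.Helper28.EtQc

set_option autoImplicit false
open CategoryTheory CategoryTheory.Limits AlgebraicGeometry Opposite
universe u
open ProEtS

namespace Groth.Agent.Lib.Helper82.EpsH

section Coprod

variable {X : Scheme.{u}} {n : ℕ} (V : Fin n → X.Etale)

instance isZariskiLocalAtSource_etale : IsZariskiLocalAtSource @Etale.{u} :=
  HasRingHomProperty.instIsZariskiLocalAtSource

instance : Etale (Sigma.desc (fun k => (V k).hom)) :=
  IsZariskiLocalAtSource.sigmaDesc (fun k => (V k).prop)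

/-- finite coproduct in the etale site -/
noncomputable def coprodObj : X.Etale := Scheme.Etale.mk (Sigma.desc (fun k => (V k).hom))

set_option backward.isDefEq.respectTransparency.types false in
noncomputable def inj (k : Fin n) : V k ⟶ coprodObj V :=
  MorphismProperty.Over.homMk (Sigma.ι (fun k => (V k).left) k) (by
    show Sigma.ι (fun k => (V k).left) k ≫ Sigma.desc (fun k => (V k).hom) = (V k).hom
    exact Sigma.ι_desc _ _)

set_option backward.isDefEq.respectTransparency.types false in
noncomputable def desc {T : X.Etale} (p : ∀ k, V k ⟶ T) : coprodObj V ⟶ T :=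
  MorphismProperty.Over.homMk (Sigma.desc (fun k => (p k).left)) (by
    show Sigma.desc (fun k => (p k).left) ≫ T.hom = Sigma.desc (fun k => (V k).hom)
    apply Sigma.hom_ext
    intro k
    rw [Sigma.ι_desc_assoc, Sigma.ι_desc]
    exact MorphismProperty.Over.w (p k))

set_option backward.isDefEq.respectTransparency.types false in
theorem inj_desc {T : X.Etale} (p : ∀ k, V k ⟶ T) (k : Fin n) : inj V k ≫ desc V p = p k := by
  apply MorphismProperty.Over.Hom.ext
  exact Sigma.ι_desc _ _

set_option backward.isDefEq.respectTransparency.types false in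
theorem inj_cover (y : (coprodObj V).left) : ∃ k, y ∈ Set.range (inj V k).left := by
  obtain ⟨k, x, hx⟩ := (sigmaOpenCover (fun k => (V k).left)).exists_eq y
  exact ⟨k, x, hx⟩

set_option backward.isDefEq.respectTransparency.types false in
instance (k : Fin n) : IsOpenImmersion (inj V k).left := by
  show IsOpenImmersion (Sigma.ι (fun k => (V k).left) k)
  infer_instance

set_option backward.isDefEq.respectTransparency.types false in
theorem inj_disjoint : Pairwise (fun k l =>
    Disjoint (Set.range (inj V k).left) (Set.range (inj V l).left)) := by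
  intro k l hkl
  show Disjoint (Set.range (Sigma.ι (fun k => (V k).left) k))
    (Set.range (Sigma.ι (fun k => (V k).left) l))
  have hd := disjoint_opensRange_sigmaι (fun k => (V k).left) k l hkl
  rw [Set.disjoint_left]
  intro y hk hl
  have hy : y ∈ ((Sigma.ι (fun k => (V k).left) k).opensRange ⊓
      (Sigma.ι (fun k => (V k).left) l).opensRange : (∐ fun k => (V k).left).Opens) := ⟨hk, hl⟩
  rw [disjoint_iff.mp hd] at hy
  exact hy

end Coprod

variable {X : Scheme.{u}}

/-- the underlying sheaf of sets -/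
noncomputable abbrev Fs (F : Sheaf X.smallEtaleTopology AddCommGrpCat.{u + 1}) :
    Sheaf X.smallEtaleTopology (Type (u + 1)) :=
  (sheafCompose X.smallEtaleTopology (forget AddCommGrpCat.{u + 1})).obj F

set_option backward.isDefEq.respectTransparency.types false in
theorem bot_mem_of_isEmpty (Z : X.Etale) [IsEmpty Z.left] : (⊥ : Sieve Z) ∈ X.smallEtaleTopology Z := by
  rw [Groth.Agent.Lib.Helper28.EtQc.mem_topology_iff]
  intro w
  exact (IsEmpty.false w).elim

theorem subsingleton_of_isEmpty (F : Sheaf X.smallEtaleTopology (Type (u + 1)))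
    (Z : X.Etale) [IsEmpty Z.left] : Subsingleton (F.obj.obj (op Z)) := by
  have hF := (isSheaf_iff_isSheaf_of_type _ _).mp F.property
  have h := (hF _ (bot_mem_of_isEmpty Z)).isSeparatedFor
  refine ⟨fun a b => ?_⟩
  exact h (fun _ _ h => h.elim) a b (fun _ _ h => h.elim) (fun _ _ h => h.elim)

set_option backward.isDefEq.respectTransparency.types false in
theorem ofArrows_mem_topology {U : X.Etale} {ι : Type*}
    (V : ι → X.Etale) (g : ∀ i, V i ⟶ U)
    (hcov : ∀ x : U.left, ∃ i, x ∈ Set.range (g i).left) :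
    Sieve.generate (Presieve.ofArrows V g) ∈ X.smallEtaleTopology U := by
  rw [Groth.Agent.Lib.Helper28.EtQc.mem_topology_iff]
  intro w
  obtain ⟨i, y, hy⟩ := hcov w
  exact ⟨V i, g i, y, ⟨_, 𝟙 _, g i, Presieve.ofArrows.mk i, Category.id_comp _⟩, hy⟩

set_option backward.isDefEq.respectTransparency.types false in
theorem exists_glue_sections (U : X.Etale)
    (F : Sheaf X.smallEtaleTopology (Type (u + 1))) {ι : Type*}
    (V : ι → X.Etale) (g : ∀ i, V i ⟶ U) [∀ i, IsOpenImmersion (g i).left]
    (hdisj : Pairwise (fun k l => Disjoint (Set.range (g k).left) (Set.range (g l).left)))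
    (hcov : ∀ x : U.left, ∃ i, x ∈ Set.range (g i).left)
    (t : ∀ k, F.obj.obj (op (V k))) :
    ∃ s : F.obj.obj (op U), ∀ k, F.obj.map (g k).op s = t k := by
  have hF := (isSheaf_iff_isSheaf_of_type _ _).mp F.property
  have h := hF.isSheafFor _ (ofArrows_mem_topology V g hcov)
  rw [Presieve.isSheafFor_arrows_iff] at h
  suffices hcomp : Presieve.Arrows.Compatible F.obj g t by
    obtain ⟨s, hs, -⟩ := h t hcomp
    exact ⟨s, hs⟩
  intro i j Z gi gj hij
  by_cases hij' : i = j
  · subst hij'
    have h1 : gi.left ≫ (g i).left = gj.left ≫ (g i).left := congrArg (fun m => m.left) hij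
    have h2 : gi.left = gj.left := (cancel_mono (g i).left).mp h1
    have h3 : gi = gj := MorphismProperty.Over.Hom.ext h2
    rw [h3]
  · haveI : IsEmpty Z.left := by
      refine ⟨fun z => ?_⟩
      have h1 : gi.left ≫ (g i).left = gj.left ≫ (g j).left := congrArg (fun m => m.left) hij
      have h2' : (gi.left ≫ (g i).left) z = (gj.left ≫ (g j).left) z := by rw [h1]
      have h2 : (g i).left (gi.left z) = (g j).left (gj.left z) := h2'
      have h3 : (g i).left (gi.left z) ∈ Set.range (g i).left := ⟨_, rfl⟩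
      have h4 : (g i).left (gi.left z) ∈ Set.range (g j).left := h2 ▸ ⟨_, rfl⟩
      exact Set.disjoint_left.mp (hdisj hij') h3 h4
    have := subsingleton_of_isEmpty F Z
    exact Subsingleton.elim _ _

/-- sections of a sheaf over a finite coproduct: existence -/
theorem exists_section_coprod {n : ℕ} (V : Fin n → X.Etale)
    (F : Sheaf X.smallEtaleTopology (Type (u + 1)))
    (x : ∀ k, F.obj.obj (op (V k))) :
    ∃ s : F.obj.obj (op (coprodObj V)), ∀ k, F.obj.map (inj V k).op s = x k :=
  exists_glue_sections (coprodObj V) F V (inj V) (inj_disjoint V) (inj_cover V) x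

/-- sections of a sheaf over a finite coproduct: uniqueness -/
theorem section_coprod_ext {n : ℕ} (V : Fin n → X.Etale)
    (F : Sheaf X.smallEtaleTopology (Type (u + 1)))
    (s s' : F.obj.obj (op (coprodObj V)))
    (h : ∀ k, F.obj.map (inj V k).op s = F.obj.map (inj V k).op s') : s = s' := by
  have hF := (isSheaf_iff_isSheaf_of_type _ _).mp F.property
  have hsep := (hF.isSheafFor _ (ofArrows_mem_topology V (inj V) (inj_cover V))).isSeparatedFor
  apply hsep.ext
  rintro Z g ⟨k⟩
  exact h k


open EpsLan in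
set_option backward.isDefEq.respectTransparency.types false in
theorem existsUnique_P (F : Sheaf X.smallEtaleTopology AddCommGrpCat.{u + 1}) (W : X.ProEt) {n : ℕ}
    (P : Fin n → W.left.Opens)
    (hdisj : Pairwise (fun k l => Disjoint (P k : Set ↥W.left) (P l)))
    (hcov : (⋃ k, (P k : Set ↥W.left)) = Set.univ)
    (t : ∀ k, (EpsLan.P F.obj).obj (op (Scheme.ProEt.mk ((P k).ι ≫ W.hom)))) :
    ∃! s : (EpsLan.P F.obj).obj (op W), ∀ k, (EpsLan.P F.obj).map (MorphismProperty.Over.homMk (P k).ι :
        Scheme.ProEt.mk ((P k).ι ≫ W.hom) ⟶ W).op s = t k := by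
  obtain ⟨hc⟩ := ProEtWC.nonempty_isColimit_cofan W P hdisj hcov
  choose V a x hx using fun k => mkElt_surjective F.obj (t k)
  obtain ⟨xx, hxx⟩ := exists_section_coprod V (Fs F) x
  let aa : W ⟶ (eps X).obj (coprodObj V) :=
    Cofan.IsColimit.desc hc (fun k => a k ≫ (eps X).map (inj V k))
  have haa : ∀ k, (MorphismProperty.Over.homMk (P k).ι :
      Scheme.ProEt.mk ((P k).ι ≫ W.hom) ⟶ W) ≫ aa = a k ≫ (eps X).map (inj V k) :=
    fun k => Cofan.IsColimit.fac hc _ k
  have hex : ∀ k, (EpsLan.P F.obj).map (MorphismProperty.Over.homMk (P k).ι :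
      Scheme.ProEt.mk ((P k).ι ≫ W.hom) ⟶ W).op (mkElt F.obj (coprodObj V) aa xx) = t k := by
    intro k
    refine (map_mkElt F.obj _ _ aa xx).trans ?_
    refine (congrArg (fun z => mkElt F.obj (coprodObj V) z xx) (haa k)).trans ?_
    refine (mkElt_comp F.obj (a k) (inj V k) xx).trans ?_
    exact (congrArg (mkElt F.obj (V k) (a k)) (hxx k)).trans (hx k)
  refine ⟨mkElt F.obj (coprodObj V) aa xx, hex, ?_⟩
  intro s' hs'
  obtain ⟨V', a', x', rfl⟩ := mkElt_surjective F.obj s'
  have hk : ∀ k, mkElt F.obj V' ((MorphismProperty.Over.homMk (P k).ι :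
      Scheme.ProEt.mk ((P k).ι ≫ W.hom) ⟶ W) ≫ a') x' =
      mkElt F.obj (coprodObj V) ((MorphismProperty.Over.homMk (P k).ι :
      Scheme.ProEt.mk ((P k).ι ≫ W.hom) ⟶ W) ≫ aa) xx := by
    intro k
    exact (map_mkElt F.obj _ V' a' x').symm.trans ((hs' k).trans ((hex k).symm.trans
      (map_mkElt F.obj _ _ aa xx)))
  choose V'' a'' p p' h1 h2 h3 using fun k => exists_of_mkElt_eq F.obj _ _ _ _ (hk k)
  let a3 : W ⟶ (eps X).obj (coprodObj V'') :=
    Cofan.IsColimit.desc hc (fun k => a'' k ≫ (eps X).map (inj V'' k))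
  have ha3 : ∀ k, (MorphismProperty.Over.homMk (P k).ι :
      Scheme.ProEt.mk ((P k).ι ≫ W.hom) ⟶ W) ≫ a3 = a'' k ≫ (eps X).map (inj V'' k) :=
    fun k => Cofan.IsColimit.fac hc _ k
  have e1 : a3 ≫ (eps X).map (desc V'' p) = a' := by
    refine Cofan.IsColimit.hom_ext hc _ _ (fun k => ?_)
    show (MorphismProperty.Over.homMk (P k).ι :
      Scheme.ProEt.mk ((P k).ι ≫ W.hom) ⟶ W) ≫ a3 ≫ (eps X).map (desc V'' p) = _ ≫ a'
    refine (Category.assoc _ _ _).symm.trans ?_
    refine (congrArg (· ≫ (eps X).map (desc V'' p)) (ha3 k)).trans ?_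
    refine (Category.assoc _ _ _).trans ?_
    refine (congrArg (a'' k ≫ ·) ((eps X).map_comp _ _).symm).trans ?_
    refine (congrArg (fun z => a'' k ≫ (eps X).map z) (inj_desc V'' p k)).trans ?_
    exact h1 k
  have e2 : a3 ≫ (eps X).map (desc V'' p') = aa := by
    refine Cofan.IsColimit.hom_ext hc _ _ (fun k => ?_)
    show (MorphismProperty.Over.homMk (P k).ι :
      Scheme.ProEt.mk ((P k).ι ≫ W.hom) ⟶ W) ≫ a3 ≫ (eps X).map (desc V'' p') = _ ≫ aa
    refine (Category.assoc _ _ _).symm.trans ?_
    refine (congrArg (· ≫ (eps X).map (desc V'' p')) (ha3 k)).trans ?_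
    refine (Category.assoc _ _ _).trans ?_
    refine (congrArg (a'' k ≫ ·) ((eps X).map_comp _ _).symm).trans ?_
    refine (congrArg (fun z => a'' k ≫ (eps X).map z) (inj_desc V'' p' k)).trans ?_
    exact h2 k
  have e3 : F.obj.map (desc V'' p).op x' = F.obj.map (desc V'' p').op xx := by
    apply section_coprod_ext V'' (Fs F)
    intro k
    show (Fs F).obj.map (inj V'' k).op ((Fs F).obj.map (desc V'' p).op x') =
      (Fs F).obj.map (inj V'' k).op ((Fs F).obj.map (desc V'' p').op xx)
    rw [← FunctorToTypes.map_comp_apply, ← FunctorToTypes.map_comp_apply, ← op_comp, ← op_comp,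
      inj_desc, inj_desc]
    exact h3 k
  calc mkElt F.obj V' a' x' = mkElt F.obj V' (a3 ≫ (eps X).map (desc V'' p)) x' := by rw [e1]
    _ = mkElt F.obj (coprodObj V'') a3 (F.obj.map (desc V'' p).op x') := mkElt_comp F.obj _ _ _
    _ = mkElt F.obj (coprodObj V'') a3 (F.obj.map (desc V'' p').op xx) := by rw [e3]
    _ = mkElt F.obj (coprodObj V) (a3 ≫ (eps X).map (desc V'' p')) xx :=
      (mkElt_comp F.obj _ _ _).symm
    _ = mkElt F.obj (coprodObj V) aa xx := by rw [e2]

set_option backward.isDefEq.respectTransparency.types false in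
theorem sheafify_bijective_ab (Q : X.ProEtᵒᵖ ⥤ AddCommGrpCat.{u + 1})
    (W : X.ProEt) [IsAffine W.left] (hW : ProEtS.IsWC W)
    (H : ∀ {n : ℕ} (P : Fin n → W.left.Opens),
      Pairwise (fun k l => Disjoint (P k : Set ↥W.left) (P l)) →
      (⋃ k, (P k : Set ↥W.left)) = Set.univ →
      ∀ (t : ∀ k, Q.obj (op (Scheme.ProEt.mk ((P k).ι ≫ W.hom)))),
      ∃! a : Q.obj (op W), ∀ k, Q.map (MorphismProperty.Over.homMk (P k).ι :
        Scheme.ProEt.mk ((P k).ι ≫ W.hom) ⟶ W).op a = t k) :
    Function.Bijective ((toSheafify (Scheme.ProEt.topology X) Q).app (op W)) := by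
  have hA := ProEtWC.wContractible_of_isWC W hW
  constructor
  · intro a b hab
    have hmem : Presheaf.equalizerSieve (F := Q) (X := op W) a b ∈ Scheme.ProEt.topology X W :=
      Presheaf.equalizerSieve_mem (Scheme.ProEt.topology X)
        (toSheafify (Scheme.ProEt.topology X) Q) (X := op W) a b hab
    obtain ⟨n, P, -, hdisj, hcov, hP⟩ := ProEtWC.exists_clopen_of_wContractible W hA _ hmem
    have hP' : ∀ k, Q.map (MorphismProperty.Over.homMk (P k).ι :
        Scheme.ProEt.mk ((P k).ι ≫ W.hom) ⟶ W).op a = Q.map (MorphismProperty.Over.homMk (P k).ι :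
        Scheme.ProEt.mk ((P k).ι ≫ W.hom) ⟶ W).op b := hP
    obtain ⟨c, hc, hu⟩ := H P hdisj hcov
      (fun k => Q.map (MorphismProperty.Over.homMk (P k).ι :
        Scheme.ProEt.mk ((P k).ι ≫ W.hom) ⟶ W).op a)
    exact (hu a (fun _ => rfl)).trans (hu b (fun k => (hP' k).symm)).symm
  · intro s
    have hmem : Presheaf.imageSieve (toSheafify (Scheme.ProEt.topology X) Q) s ∈
        Scheme.ProEt.topology X W :=
      Presheaf.imageSieve_mem _ (toSheafify (Scheme.ProEt.topology X) Q) s
    obtain ⟨n, P, -, hdisj, hcov, hP⟩ := ProEtWC.exists_clopen_of_wContractible W hA _ hmem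
    have hP' : ∀ k, ∃ t : Q.obj (op (Scheme.ProEt.mk ((P k).ι ≫ W.hom))),
        (toSheafify (Scheme.ProEt.topology X) Q).app _ t =
          (sheafify (Scheme.ProEt.topology X) Q).map (MorphismProperty.Over.homMk (P k).ι :
            Scheme.ProEt.mk ((P k).ι ≫ W.hom) ⟶ W).op s := hP
    choose t ht using hP'
    obtain ⟨a, ha, -⟩ := H P hdisj hcov t
    refine ⟨a, ?_⟩
    have hG := (isSheaf_iff_isSheaf_of_type _ _).mp
      ((sheafCompose (Scheme.ProEt.topology X) (forget AddCommGrpCat.{u + 1})).obj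
        ((presheafToSheaf (Scheme.ProEt.topology X) AddCommGrpCat.{u + 1}).obj Q)).property
    have h := (hG.isSheafFor _ (ProEtWC.ofArrows_opens_mem_topology W P hcov)).isSeparatedFor
    apply h.ext
    rintro Y f ⟨k⟩
    refine Eq.trans ?_ (ht k)
    refine Eq.trans ?_ (congrArg _ (ha k))
    exact (NatTrans.naturality_apply (toSheafify (Scheme.ProEt.topology X) Q) _ a).symm

theorem theta_bijective (F : Sheaf X.smallEtaleTopology AddCommGrpCat.{u + 1}) (W : X.ProEt)
    [IsAffine W.left] (hW : ProEtS.IsWC W) :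
    Function.Bijective
      ((toSheafify (Scheme.ProEt.topology X) (EpsLan.P F.obj)).app (op W)) :=
  sheafify_bijective_ab (EpsLan.P F.obj) W hW
    (fun P hdisj hcov t => existsUnique_P F W P hdisj hcov t)

end Groth.Agent.Lib.Helper82.EpsH
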