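import Groth.Agent.Lib.Helper82.LanWC

set_option autoImplicit false
open CategoryTheory CategoryTheory.Limits AlgebraicGeometry Opposite
universe u
open ProEtS

namespace Groth.Agent.Lib.Helper82.EpsLan

variable {X : Scheme.{u}} (F : X.Etaleᵒᵖ ⥤ AddCommGrpCat.{u + 1})

instance : PreservesFiniteLimits (eps X) := by
  unfold eps
  infer_instance

instance : RepresentablyFlat (eps X) := flat_of_preservesFiniteLimits _

/-- the left Kan extension presheaf -/
noncomputable abbrev P : X.ProEtᵒᵖ ⥤ AddCommGrpCat.{u + 1} := (eps X).op.lan.obj F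

/-- canonical elements of the Kan extension -/
noncomputable def mkElt {W : X.ProEt} (V : X.Etale) (a : W ⟶ (eps X).obj V) (x : F.obj (op V)) :
    (P F).obj (op W) :=
  (P F).map a.op ((((eps X).op.lanUnit.app F).app (op V)) x)

theorem map_mkElt {W W' : X.ProEt} (g : W' ⟶ W) (V : X.Etale) (a : W ⟶ (eps X).obj V)
    (x : F.obj (op V)) : (P F).map g.op (mkElt F V a x) = mkElt F V (g ≫ a) x := by
  unfold mkElt
  rw [op_comp, Functor.map_comp]
  rfl

theorem mkElt_comp {W : X.ProEt} {V V' : X.Etale} (a : W ⟶ (eps X).obj V') (p : V' ⟶ V)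
    (x : F.obj (op V)) :
    mkElt F V (a ≫ (eps X).map p) x = mkElt F V' a (F.map p.op x) := by
  unfold mkElt
  rw [op_comp, Functor.map_comp]
  have h := ((eps X).op.lanUnit.app F).naturality p.op
  have h2 := ConcreteCategory.congr_hom h x
  simp only [ConcreteCategory.comp_apply] at h2 ⊢
  exact congrArg _ h2.symm

theorem mkElt_add {W : X.ProEt} (V : X.Etale) (a : W ⟶ (eps X).obj V) (x y : F.obj (op V)) :
    mkElt F V a (x + y) = mkElt F V a x + mkElt F V a y := by
  unfold mkElt
  rw [map_add, map_add]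

theorem mkElt_zero {W : X.ProEt} (V : X.Etale) (a : W ⟶ (eps X).obj V) :
    mkElt F V a 0 = 0 := by
  unfold mkElt
  rw [map_zero, map_zero]

theorem mkElt_eq_inv {W : X.ProEt} (c : CostructuredArrow (eps X).op (op W))
    (x : F.obj c.left) :
    ((eps X).op.leftKanExtensionObjIsoColimit F (op W)).inv
      (colimit.ι (CostructuredArrow.proj (eps X).op (op W) ⋙ F) c x) =
      mkElt F c.left.unop c.hom.unop x :=
  ConcreteCategory.congr_hom ((eps X).op.ι_leftKanExtensionObjIsoColimit_inv F (op W) c) x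

instance : PreservesFilteredColimitsOfSize.{u, u + 1} (forget AddCommGrpCat.{u + 1}) :=
  have : PreservesFilteredColimitsOfSize.{u + 1, u + 1} (forget AddCommGrpCat.{u + 1}) :=
    inferInstance
  preservesFilteredColimitsOfSize_of_univLE.{u + 1, u + 1, u, u + 1} _

theorem mkElt_surjective {W : X.ProEt} (s : (P F).obj (op W)) :
    ∃ (V : X.Etale) (a : W ⟶ (eps X).obj V) (x : F.obj (op V)), mkElt F V a x = s := by
  obtain ⟨c, x, hx⟩ := Concrete.colimit_exists_rep
    (CostructuredArrow.proj (eps X).op (op W) ⋙ F)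
    (((eps X).op.leftKanExtensionObjIsoColimit F (op W)).hom s)
  refine ⟨c.left.unop, c.hom.unop, x, ?_⟩
  refine (mkElt_eq_inv F c x).symm.trans ?_
  refine (congrArg _ hx).trans ?_
  exact ConcreteCategory.congr_hom ((eps X).op.leftKanExtensionObjIsoColimit F (op W)).hom_inv_id s

theorem exists_of_mkElt_eq {W : X.ProEt} {V V' : X.Etale} (a : W ⟶ (eps X).obj V)
    (a' : W ⟶ (eps X).obj V') (x : F.obj (op V)) (x' : F.obj (op V'))
    (h : mkElt F V a x = mkElt F V' a' x') :
    ∃ (V'' : X.Etale) (a'' : W ⟶ (eps X).obj V'') (p : V'' ⟶ V) (p' : V'' ⟶ V'),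
      a'' ≫ (eps X).map p = a ∧ a'' ≫ (eps X).map p' = a' ∧ F.map p.op x = F.map p'.op x' := by
  let c : CostructuredArrow (eps X).op (op W) := CostructuredArrow.mk (Y := op V) a.op
  let c' : CostructuredArrow (eps X).op (op W) := CostructuredArrow.mk (Y := op V') a'.op
  have h1 : mkElt F V a x = ((eps X).op.leftKanExtensionObjIsoColimit F (op W)).inv
      (colimit.ι (CostructuredArrow.proj (eps X).op (op W) ⋙ F) c x) := (mkElt_eq_inv F c x).symm
  have h2 : mkElt F V' a' x' = ((eps X).op.leftKanExtensionObjIsoColimit F (op W)).inv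
      (colimit.ι (CostructuredArrow.proj (eps X).op (op W) ⋙ F) c' x') :=
    (mkElt_eq_inv F c' x').symm
  rw [h1, h2] at h
  have hinj : Function.Injective ((eps X).op.leftKanExtensionObjIsoColimit F (op W)).inv := by
    intro y y' hy
    have := congrArg ((eps X).op.leftKanExtensionObjIsoColimit F (op W)).hom hy
    simpa using this
  have h3 := hinj h
  obtain ⟨c'', u, u', huu⟩ := (Concrete.colimit_rep_eq_iff_exists
    (F := CostructuredArrow.proj (eps X).op (op W) ⋙ F) (i := c) (j := c') x x').mp h3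
  refine ⟨c''.left.unop, c''.hom.unop, u.left.unop, u'.left.unop, ?_, ?_, huu⟩
  · have := CostructuredArrow.w u
    exact congrArg Quiver.Hom.unop this
  · have := CostructuredArrow.w u'
    exact congrArg Quiver.Hom.unop this

end Groth.Agent.Lib.Helper82.EpsLan
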