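import Groth.Agent.Lib.Helper82.EpsH

set_option autoImplicit false
open CategoryTheory CategoryTheory.Limits AlgebraicGeometry Opposite
universe u
open ProEtS

namespace Groth.Agent.Lib.Helper82.EpsUnit

variable (X : Scheme.{u}) [EpsCont X] (F : EtCoh.Ab X)

/-- the constructed adjunction -/
noncomputable abbrev adj₂ :=
  Functor.sheafPullbackConstruction.sheafAdjunctionContinuous (eps X) AddCommGrpCat.{u + 1}
    X.smallEtaleTopology (Scheme.ProEt.topology X)

theorem unit_hom :
    ((adj₂ X).unit.app F).hom = (eps X).op.lanUnit.app F.obj ≫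
      Functor.whiskerLeft (eps X).op (toSheafify (Scheme.ProEt.topology X) (EpsLan.P F.obj)) := by
  have h := Adjunction.map_restrictFullyFaithful_unit_app
    (L := Functor.sheafPullbackConstruction.sheafPullback (eps X) AddCommGrpCat.{u + 1}
      X.smallEtaleTopology (Scheme.ProEt.topology X))
    (R := (eps X).sheafPushforwardContinuous AddCommGrpCat.{u + 1}
      X.smallEtaleTopology (Scheme.ProEt.topology X))
    (((eps X).op.lanAdjunction AddCommGrpCat.{u + 1}).comp
      (sheafificationAdjunction (Scheme.ProEt.topology X) AddCommGrpCat.{u + 1}))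
    (fullyFaithfulSheafToPresheaf X.smallEtaleTopology AddCommGrpCat.{u + 1})
    (Functor.FullyFaithful.id _) (Iso.refl _) (Iso.refl _) F
  refine h.trans ?_
  simp
  rfl


/-- the concrete unit map on sections -/
noncomputable def α (U : X.Etale) : F.obj.obj (op U) ⟶
    (sheafify (Scheme.ProEt.topology X) (EpsLan.P F.obj)).obj (op ((eps X).obj U)) :=
  ((eps X).op.lanUnit.app F.obj).app (op U) ≫
    (toSheafify (Scheme.ProEt.topology X) (EpsLan.P F.obj)).app (op ((eps X).obj U))

theorem unit_hom_app (U : X.Etale) : ((adj₂ X).unit.app F).hom.app (op U) = α X F U := by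
  rw [unit_hom]
  rfl

/-- affine open neighbourhoods as objects of the etale site -/
theorem exists_affine_nbhd (U : X.Etale) (w : U.left) :
    ∃ (V : X.Etale) (g : V ⟶ U) (y : V.left), IsAffine V.left ∧ g.left y = w := by
  obtain ⟨_, ⟨O', hO, rfl⟩, hw, -⟩ := U.left.isBasis_affineOpens.exists_subset_of_mem_open
    (Set.mem_univ w) isOpen_univ
  let O : U.left.Opens := O'
  have hO' : IsAffineOpen O := hO
  have : IsAffine O.toScheme := hO'
  exact ⟨Scheme.Etale.mk (O.ι ≫ U.hom), MorphismProperty.Over.homMk O.ι, ⟨w, hw⟩, ‹_›, rfl⟩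

set_option backward.isDefEq.respectTransparency.types false in
theorem isIso_unit₂ (h : ∀ U : X.Etale, IsAffine U.left → Function.Bijective (α X F U)) :
    IsIso ((adj₂ X).unit.app F) := by
  refine (Sheaf.isLocallyBijective_iff_isIso ((adj₂ X).unit.app F)).mp ⟨?_, ?_⟩
  · constructor
    intro U x y hxy
    rw [Groth.Agent.Lib.Helper28.EtQc.mem_topology_iff]
    intro w
    obtain ⟨V, g, y', hV, hy'⟩ := exists_affine_nbhd X U.unop w
    refine ⟨V, g, y', ?_, hy'⟩
    show F.obj.map g.op x = F.obj.map g.op y
    apply (h V hV).1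
    rw [← unit_hom_app]
    have h1 := NatTrans.naturality_apply ((adj₂ X).unit.app F).hom g.op x
    have h2 := NatTrans.naturality_apply ((adj₂ X).unit.app F).hom g.op y
    refine h1.trans ?_
    refine Eq.trans ?_ h2.symm
    exact congrArg _ hxy
  · constructor
    intro U s
    rw [Groth.Agent.Lib.Helper28.EtQc.mem_topology_iff]
    intro w
    obtain ⟨V, g, y', hV, hy'⟩ := exists_affine_nbhd X U w
    refine ⟨V, g, y', ?_, hy'⟩
    obtain ⟨t, ht⟩ := (h V hV).2 (((eps X).sheafPushforwardContinuous AddCommGrpCat.{u + 1}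
      X.smallEtaleTopology (Scheme.ProEt.topology X)).obj
        ((Functor.sheafPullbackConstruction.sheafPullback (eps X) AddCommGrpCat.{u + 1}
      X.smallEtaleTopology (Scheme.ProEt.topology X)).obj F) |>.obj.map g.op s)
    refine ⟨t, ?_⟩
    rw [unit_hom_app]
    exact ht

theorem isIso_unit (h : ∀ U : X.Etale, IsAffine U.left → Function.Bijective (α X F U)) :
    IsIso ((epsAdj X).unit.app F) := by
  haveI := isIso_unit₂ X F h
  have h1 := Adjunction.unit_leftAdjointUniq_hom_app (epsAdj X) (adj₂ X) F
  have h2 : (epsAdj X).unit.app F = (adj₂ X).unit.app F ≫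
      inv ((epsPush X).map (((epsAdj X).leftAdjointUniq (adj₂ X)).hom.app F)) := by
    rw [← h1, Category.assoc, IsIso.hom_inv_id, Category.comp_id]
  rw [h2]
  infer_instance

end Groth.Agent.Lib.Helper82.EpsUnit
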