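import Mathlib
import Groth.Prelude.Def_ProEtW
import Groth.Prelude.Def_EtBase

set_option autoImplicit false
universe u

namespace Groth.Agent.Lib.Helper82.EtRetr

open PrimeSpectrum Polynomial

section Fam

/-- a two-element family of types. -/
def Fam (B₁ B₂ : Type u) : Bool → Type u
  | true => B₁
  | false => B₂

variable (A : Type u) [CommRing A] (B₁ B₂ : Type u) [CommRing B₁] [CommRing B₂]
  [Algebra A B₁] [Algebra A B₂]

instance instCommRingFam : ∀ b, CommRing (Fam B₁ B₂ b)
  | true => inferInstanceAs (CommRing B₁)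
  | false => inferInstanceAs (CommRing B₂)

instance instAlgebraFam : ∀ b, Algebra A (Fam B₁ B₂ b)
  | true => inferInstanceAs (Algebra A B₁)
  | false => inferInstanceAs (Algebra A B₂)

instance instEtaleFam [Algebra.Etale A B₁] [Algebra.Etale A B₂] :
    ∀ b, Algebra.Etale A (Fam B₁ B₂ b)
  | true => inferInstanceAs (Algebra.Etale A B₁)
  | false => inferInstanceAs (Algebra.Etale A B₂)

/-- the product algebra. -/
abbrev PiFam : Type u := ∀ b, Fam B₁ B₂ b

variable {B₁ B₂}

/-- pairs. -/
def pair (x : B₁) (y : B₂) : PiFam B₁ B₂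
  | true => x
  | false => y

@[simp] lemma pair_true (x : B₁) (y : B₂) : pair x y true = x := rfl
@[simp] lemma pair_false (x : B₁) (y : B₂) : pair x y false = y := rfl

lemma pair_mul (x x' : B₁) (y y' : B₂) : pair x y * pair x' y' = pair (x * x') (y * y') := by
  funext b; cases b <;> rfl

lemma pair_add (x x' : B₁) (y y' : B₂) : pair x y + pair x' y' = pair (x + x') (y + y') := by
  funext b; cases b <;> rfl

lemma pair_one : pair (1 : B₁) (1 : B₂) = 1 := by
  funext b; cases b <;> rfl

lemma pair_zero : pair (0 : B₁) (0 : B₂) = 0 := by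
  funext b; cases b <;> rfl

lemma algebraMap_eq_pair (a : A) :
    algebraMap A (PiFam B₁ B₂) a = pair (algebraMap A B₁ a) (algebraMap A B₂ a) := by
  funext b; cases b <;> rfl

/-- first projection. -/
def fstHom : PiFam B₁ B₂ →ₐ[A] B₁ := Pi.evalAlgHom A (Fam B₁ B₂) true

/-- second projection. -/
def sndHom : PiFam B₁ B₂ →ₐ[A] B₂ := Pi.evalAlgHom A (Fam B₁ B₂) false

end Fam

section LocalIdem

lemma eq_zero_or_eq_one_of_isIdempotentElem {R : Type*} [CommRing R] [IsLocalRing R] {e : R}
    (he : IsIdempotentElem e) : e = 0 ∨ e = 1 := by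
  have h0 : e * (1 - e) = 0 := by rw [mul_sub, mul_one, he.eq, sub_self]
  rcases IsLocalRing.isUnit_or_isUnit_one_sub_self e with h | h
  · right
    have := h.mul_right_eq_zero.1 h0
    exact (sub_eq_zero.1 this).symm
  · left
    exact h.mul_left_eq_zero.1 h0

end LocalIdem

section Main

variable {A : Type u} [CommRing A] (h : ProEtW.HasEtaleRetractions A) (m : Ideal A) [hm : m.IsMaximal]

include h hm in
theorem exists_hasMap_localization (P : StandardEtalePair A) (L : Type u) [Field L] [Algebra A L]
    (hL : RingHom.ker (algebraMap A L) = m) (xL : L) (hx : P.HasMap xL) :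
    ∃ x : Localization.AtPrime m, P.HasMap x := by
  -- the point of `Spec P.Ring` over `m`
  let ρL : P.Ring →ₐ[A] L := P.lift xL hx
  have hopen : IsOpen (Set.range (PrimeSpectrum.comap (algebraMap A P.Ring))) :=
    (PrimeSpectrum.isOpenMap_comap_of_hasGoingDown_of_finitePresentation (R := A)
      (S := P.Ring)).isOpen_range
  have hmU : (⟨m, hm.isPrime⟩ : PrimeSpectrum A) ∈
      Set.range (PrimeSpectrum.comap (algebraMap A P.Ring)) := by
    refine ⟨⟨RingHom.ker ρL.toRingHom, RingHom.ker_isPrime _⟩, ?_⟩
    apply PrimeSpectrum.ext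
    ext a
    show ρL (algebraMap A P.Ring a) = 0 ↔ a ∈ m
    rw [ρL.commutes, ← hL, RingHom.mem_ker]
  obtain ⟨J, hJ⟩ := (PrimeSpectrum.isClosed_iff_zeroLocus_ideal _).1 hopen.isClosed_compl
  have hJm : ¬ J ≤ m := by
    intro hle
    have : (⟨m, hm.isPrime⟩ : PrimeSpectrum A) ∈ zeroLocus (J : Set A) := hle
    rw [← hJ] at this
    exact this hmU
  have hsup : m ⊔ J = ⊤ := by
    by_contra hne
    have h1 := hm.eq_of_le hne le_sup_left
    apply hJm
    rw [h1]
    exact le_sup_right
  obtain ⟨g, hg, j, hj, hgj⟩ := Submodule.mem_sup.1 (hsup ▸ Submodule.mem_top : (1 : A) ∈ m ⊔ J)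
  -- the covering algebra
  let B := PiFam P.Ring (Localization.Away g)
  have hff : Module.FaithfullyFlat A B := by
    apply Module.FaithfullyFlat.of_comap_surjective
    intro p
    by_cases hp : p ∈ Set.range (PrimeSpectrum.comap (algebraMap A P.Ring))
    · obtain ⟨q, rfl⟩ := hp
      refine ⟨PrimeSpectrum.comap (fstHom A (B₁ := P.Ring) (B₂ := Localization.Away g)).toRingHom q, ?_⟩
      apply PrimeSpectrum.ext
      ext a
      show fstHom A (algebraMap A B a) ∈ q.asIdeal ↔ algebraMap A P.Ring a ∈ q.asIdeal
      rw [AlgHom.commutes]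
    · have hpJ : p ∈ zeroLocus (J : Set A) := by
        rw [← hJ]
        exact hp
      have hgp : g ∉ p.asIdeal := by
        intro hgp
        have : (1 : A) ∈ p.asIdeal := by
          rw [← hgj]
          exact p.asIdeal.add_mem hgp (hpJ hj)
        exact p.2.ne_top ((Ideal.eq_top_iff_one _).2 this)
      have hdisj : Disjoint (Submonoid.powers g : Set A) (p.asIdeal : Set A) := by
        rw [Set.disjoint_left]
        rintro _ ⟨k, rfl⟩ hk
        exact hgp (p.2.mem_of_pow_mem k hk)
      have hprime := IsLocalization.isPrime_of_isPrime_disjoint (Submonoid.powers g)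
        (Localization.Away g) p.asIdeal p.2 hdisj
      refine ⟨PrimeSpectrum.comap (sndHom A (B₁ := P.Ring) (B₂ := Localization.Away g)).toRingHom
        ⟨_, hprime⟩, ?_⟩
      apply PrimeSpectrum.ext
      have hc := IsLocalization.comap_map_of_isPrime_disjoint (Submonoid.powers g)
        (Localization.Away g) p.2 hdisj
      ext a
      show sndHom A (algebraMap A B a) ∈ Ideal.map (algebraMap A (Localization.Away g)) p.asIdeal ↔ _
      rw [AlgHom.commutes]
      exact ⟨fun hmem => hc ▸ (show a ∈ Ideal.comap _ _ from hmem), fun hmem => Ideal.mem_map_of_mem _ hmem⟩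
  obtain ⟨r⟩ := h B hff inferInstance
  let ρ : B →ₐ[A] Localization.AtPrime m := (Algebra.ofId A (Localization.AtPrime m)).comp r
  have hidem : IsIdempotentElem (ρ (pair 1 0)) := by
    unfold IsIdempotentElem
    rw [← map_mul, pair_mul, mul_one, mul_zero]
  have hsum : ρ (pair 1 0) + ρ (pair 0 1) = 1 := by
    rw [← map_add, pair_add, add_zero, zero_add, pair_one, map_one]
  rcases eq_zero_or_eq_one_of_isIdempotentElem hidem with h0 | h1
  · exfalso
    rw [h0, zero_add] at hsum
    obtain ⟨w, hw⟩ := (IsLocalization.Away.algebraMap_isUnit (S := Localization.Away g) g).exists_right_inv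
    have h2 : ρ (pair (0 : P.Ring) (algebraMap A (Localization.Away g) g)) *
        ρ (pair (0 : P.Ring) w) = 1 := by
      rw [← map_mul, pair_mul, mul_zero, hw, hsum]
    have h3 : pair (0 : P.Ring) (algebraMap A (Localization.Away g) g) =
        pair (0 : P.Ring) (1 : Localization.Away g) * algebraMap A B g := by
      rw [algebraMap_eq_pair, pair_mul, zero_mul, one_mul]
    rw [h3, map_mul, hsum, one_mul, AlgHom.commutes] at h2
    have h4 : IsUnit (algebraMap A (Localization.AtPrime m) g) := IsUnit.of_mul_eq_one _ h2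
    have h5 : algebraMap A (Localization.AtPrime m) g ∈
        IsLocalRing.maximalIdeal (Localization.AtPrime m) :=
      (IsLocalization.AtPrime.to_map_mem_maximal_iff _ m g).2 hg
    exact h5 h4
  · let ρ₁ : P.Ring →ₐ[A] Localization.AtPrime m :=
      { toFun := fun b => ρ (pair b 0)
        map_one' := h1
        map_mul' := fun b b' => by
          rw [← map_mul, pair_mul, mul_zero]
        map_zero' := by
          rw [pair_zero, map_zero]
        map_add' := fun b b' => by
          rw [← map_add, pair_add, add_zero]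
        commutes' := fun a => by
          have : pair (algebraMap A P.Ring a) (0 : Localization.Away g) =
              pair (1 : P.Ring) (0 : Localization.Away g) * algebraMap A B a := by
            rw [algebraMap_eq_pair, pair_mul, one_mul, zero_mul]
          rw [this, map_mul, h1, one_mul, AlgHom.commutes] }
    exact ⟨ρ₁ P.X, StandardEtalePair.hasMap_X.map ρ₁⟩

end Main

end Groth.Agent.Lib.Helper82.EtRetr
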