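import Groth.Agent.Lib.Helper82.EtRetr
import Groth.Agent.Lib.Helper82.BTIndZar

set_option autoImplicit false
universe u

/-!
# Etale retractions pass to quotient rings
-/

namespace Groth.Agent.Lib.Helper82.EtRetr

open PrimeSpectrum Polynomial

section Chart

variable {A : Type u} [CommRing A] (I : Ideal A) (Bb : Type u) [CommRing Bb] [Algebra (A ⧸ I) Bb]

/-- a standard etale pair over `A` whose points in `A ⧸ I`-algebras give points of `Bb`. -/
def IsChart (P : StandardEtalePair A) : Prop :=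
  ∀ (S : Type u) [CommRing S] [Algebra (A ⧸ I) S] [Algebra A S] [IsScalarTower A (A ⧸ I) S]
    (x : S), P.HasMap x → Nonempty (Bb →ₐ[A ⧸ I] S)

variable [Algebra.Etale (A ⧸ I) Bb]

theorem exists_chart (hff : Module.FaithfullyFlat (A ⧸ I) Bb) (p : PrimeSpectrum A)
    (hp : I ≤ p.asIdeal) :
    ∃ P : StandardEtalePair A, IsChart I Bb P ∧
      p ∈ Set.range (PrimeSpectrum.comap (algebraMap A P.Ring)) := by
  -- the point of `Spec Bb`
  have hpr : p ∈ Set.range (PrimeSpectrum.comap (Ideal.Quotient.mk I)) := by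
    rw [range_comap_of_surjective _ _ Ideal.Quotient.mk_surjective, Ideal.mk_ker, mem_zeroLocus]
    exact hp
  obtain ⟨pb, hpb⟩ := hpr
  obtain ⟨qb, hqb⟩ := PrimeSpectrum.comap_surjective_of_faithfullyFlat (A := A ⧸ I) (B := Bb) pb
  obtain ⟨f, hf, hstd⟩ := Algebra.IsEtaleAt.exists_isStandardEtale (R := A ⧸ I) qb.asIdeal
  obtain ⟨Pr⟩ := hstd.nonempty_standardEtalePresentation
  obtain ⟨p₁b, p₂b, n, hcond⟩ := Pr.cond
  -- lifts
  have hsurj : Function.Surjective (Polynomial.map (Ideal.Quotient.mk I)) :=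
    map_surjective _ Ideal.Quotient.mk_surjective
  have hlift : Pr.f ∈ lifts (Ideal.Quotient.mk I) := by
    rw [mem_lifts]
    exact hsurj _
  have : Nontrivial (A ⧸ I) :=
    Ideal.Quotient.nontrivial_iff.2 (fun h => p.2.ne_top (top_le_iff.1 (h ▸ hp)))
  obtain ⟨F, hF, -, hFm⟩ := lifts_and_degree_eq_and_monic hlift Pr.monic_f
  obtain ⟨G₀, hG₀⟩ := hsurj Pr.g
  obtain ⟨p₁, hp₁⟩ := hsurj p₁b
  obtain ⟨p₂, hp₂⟩ := hsurj p₂b
  let G : A[X] := (derivative F * p₁ + F * p₂) * G₀
  let P : StandardEtalePair A := ⟨F, hFm, G, ⟨p₁ * G₀, p₂ * G₀, 1, by ring⟩⟩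
  have hGmap : G.map (algebraMap A (A ⧸ I)) = Pr.g ^ (n + 1) := by
    show ((derivative F * p₁ + F * p₂) * G₀).map (Ideal.Quotient.mk I) = Pr.g ^ (n + 1)
    rw [Polynomial.map_mul, Polynomial.map_add, Polynomial.map_mul, Polynomial.map_mul,
      ← derivative_map, hF, hG₀, hp₁, hp₂, hcond, pow_succ]
  have key : ∀ (S : Type u) [CommRing S] [Algebra (A ⧸ I) S] [Algebra A S]
      [IsScalarTower A (A ⧸ I) S] (x : S), P.HasMap x ↔ Pr.P.HasMap x := by
    intro S _ _ _ _ x
    have e1 : aeval x F = aeval x Pr.f := by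
      rw [← hF]
      exact (aeval_map_algebraMap (A ⧸ I) x F).symm
    have e2 : aeval x G = aeval x Pr.g ^ (n + 1) := by
      rw [← aeval_map_algebraMap (A ⧸ I) x G, hGmap, map_pow]
    constructor
    · intro hx
      refine ⟨?_, ?_⟩
      · rw [← e1]
        exact hx.1
      · have h2 : IsUnit (aeval x G) := hx.2
        rw [e2] at h2
        exact (isUnit_pow_succ_iff).1 h2
    · intro hx
      refine ⟨?_, ?_⟩
      · show aeval x F = 0
        rw [e1]
        exact hx.1
      · show IsUnit (aeval x G)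
        rw [e2]
        exact hx.2.pow _
  refine ⟨P, ?_, ?_⟩
  · intro S _ _ _ _ x hx
    have hx' := (key S x).1 hx
    exact ⟨(Pr.P.lift x hx').comp (Pr.equivRing.toAlgHom.comp
      (IsScalarTower.toAlgHom (A ⧸ I) Bb (Localization.Away f)))⟩
  · let _ : Algebra A (Localization.Away f) :=
      ((algebraMap (A ⧸ I) (Localization.Away f)).comp (Ideal.Quotient.mk I)).toAlgebra
    have : IsScalarTower A (A ⧸ I) (Localization.Away f) :=
      IsScalarTower.of_algebraMap_eq (fun _ => rfl)
    have hx₀ : P.HasMap Pr.x := (key (Localization.Away f) Pr.x).2 Pr.hasMap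
    let lam : P.Ring →ₐ[A] Localization.Away f := P.lift Pr.x hx₀
    have hdisj : Disjoint (Submonoid.powers f : Set Bb) (qb.asIdeal : Set Bb) := by
      rw [Set.disjoint_left]
      rintro _ ⟨k, rfl⟩ hk
      exact hf (qb.2.mem_of_pow_mem k hk)
    have hprime := IsLocalization.isPrime_of_isPrime_disjoint (Submonoid.powers f)
      (Localization.Away f) qb.asIdeal qb.2 hdisj
    have hc := IsLocalization.comap_map_of_isPrime_disjoint (Submonoid.powers f)
      (Localization.Away f) qb.2 hdisj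
    refine ⟨PrimeSpectrum.comap lam.toRingHom ⟨_, hprime⟩, ?_⟩
    apply PrimeSpectrum.ext
    ext a
    show lam (algebraMap A P.Ring a) ∈
      Ideal.map (algebraMap Bb (Localization.Away f)) qb.asIdeal ↔ a ∈ p.asIdeal
    rw [lam.commutes]
    have h3 : algebraMap A (Localization.Away f) a =
        algebraMap Bb (Localization.Away f) (algebraMap (A ⧸ I) Bb (Ideal.Quotient.mk I a)) := by
      rw [← IsScalarTower.algebraMap_apply (A ⧸ I) Bb (Localization.Away f)]
      rfl
    rw [h3]
    have h4 : algebraMap Bb (Localization.Away f) (algebraMap (A ⧸ I) Bb (Ideal.Quotient.mk I a)) ∈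
        Ideal.map (algebraMap Bb (Localization.Away f)) qb.asIdeal ↔
        algebraMap (A ⧸ I) Bb (Ideal.Quotient.mk I a) ∈ qb.asIdeal := by
      constructor
      · intro hmem
        have : algebraMap (A ⧸ I) Bb (Ideal.Quotient.mk I a) ∈
            Ideal.under Bb
              (Ideal.map (algebraMap Bb (Localization.Away f)) qb.asIdeal) := hmem
        rw [hc] at this
        exact this
      · intro hmem
        exact Ideal.mem_map_of_mem _ hmem
    rw [h4]
    have h5 : algebraMap (A ⧸ I) Bb (Ideal.Quotient.mk I a) ∈ qb.asIdeal ↔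
        Ideal.Quotient.mk I a ∈ pb.asIdeal := by
      rw [← hqb]
      rfl
    rw [h5, ← hpb]
    rfl

end Chart

section Cover

variable {A : Type u} [CommRing A] (h : ProEtW.HasEtaleRetractions A) (I : Ideal A)
  (Bb : Type u) [CommRing Bb] [Algebra (A ⧸ I) Bb] [Algebra.Etale (A ⧸ I) Bb]

include h in
theorem exists_retraction_quotient (hff : Module.FaithfullyFlat (A ⧸ I) Bb) :
    Nonempty (Bb →ₐ[A ⧸ I] A ⧸ I) := by
  classical
  -- charts
  let ι := {p : PrimeSpectrum A // I ≤ p.asIdeal}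
  choose P hchart hcov using fun p : ι => exists_chart I Bb hff p.1 p.2
  let U : ι → Set (PrimeSpectrum A) := fun p =>
    Set.range (PrimeSpectrum.comap (algebraMap A (P p).Ring))
  have hU : ∀ p, IsOpen (U p) := fun p =>
    (PrimeSpectrum.isOpenMap_comap_of_hasGoingDown_of_finitePresentation (R := A)
      (S := (P p).Ring)).isOpen_range
  have hVI : IsCompact (zeroLocus (I : Set A)) := (isClosed_zeroLocus _).isCompact
  obtain ⟨t, ht⟩ := hVI.elim_finite_subcover U hU (fun p hp => Set.mem_iUnion.2 ⟨⟨p, hp⟩, hcov ⟨p, hp⟩⟩)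
  let k := t.card
  let e : Fin k ≃ t := t.equivFin.symm
  let Pk : Fin k → StandardEtalePair A := fun i => P (e i).1
  have hcovk : ∀ p : PrimeSpectrum A, I ≤ p.asIdeal → ∃ i, p ∈ U (e i).1 := by
    intro p hp
    obtain ⟨q, hq⟩ := Set.mem_iUnion.1 (ht hp)
    obtain ⟨hqt, hpq⟩ := Set.mem_iUnion.1 hq
    exact ⟨e.symm ⟨q, hqt⟩, by simpa using hpq⟩
  -- the complement
  have hWo : IsOpen (⋃ i, U (e i).1) := isOpen_iUnion fun i => hU _
  obtain ⟨J, hJ⟩ := (PrimeSpectrum.isClosed_iff_zeroLocus_ideal _).1 hWo.isClosed_compl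
  have hsup : I ⊔ J = ⊤ := by
    by_contra hne
    obtain ⟨m, hm, hle⟩ := Ideal.exists_le_maximal _ hne
    have hmI : I ≤ m := le_sup_left.trans hle
    have hmJ : (⟨m, hm.isPrime⟩ : PrimeSpectrum A) ∈ zeroLocus (J : Set A) := le_sup_right.trans hle
    rw [← hJ] at hmJ
    obtain ⟨i, hi⟩ := hcovk ⟨m, hm.isPrime⟩ hmI
    exact hmJ (Set.mem_iUnion.2 ⟨i, hi⟩)
  obtain ⟨h₀, hh₀, j, hj, hh₀j⟩ := Submodule.mem_sup.1 (hsup ▸ Submodule.mem_top : (1 : A) ∈ I ⊔ J)
  -- the covering algebra
  let B₁ := ∀ i : Fin k, (Pk i).Ring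
  let B := PiFam B₁ (Localization.Away h₀)
  have hff' : Module.FaithfullyFlat A B := by
    apply Module.FaithfullyFlat.of_comap_surjective
    intro p
    by_cases hp : p ∈ ⋃ i, U (e i).1
    · obtain ⟨i, q, rfl⟩ := Set.mem_iUnion.1 hp
      refine ⟨PrimeSpectrum.comap ((Pi.evalAlgHom A (fun i => (Pk i).Ring) i).comp
        (fstHom A (B₁ := B₁) (B₂ := Localization.Away h₀))).toRingHom q, ?_⟩
      apply PrimeSpectrum.ext
      ext a
      show (Pi.evalAlgHom A (fun i => (Pk i).Ring) i).comp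
        (fstHom A (B₁ := B₁) (B₂ := Localization.Away h₀)) (algebraMap A B a) ∈ q.asIdeal ↔
          algebraMap A (Pk i).Ring a ∈ q.asIdeal
      rw [AlgHom.commutes]
    · have hpJ : p ∈ zeroLocus (J : Set A) := by
        rw [← hJ]
        exact hp
      have hgp : h₀ ∉ p.asIdeal := by
        intro hgp
        have : (1 : A) ∈ p.asIdeal := by
          rw [← hh₀j]
          exact p.asIdeal.add_mem hgp (hpJ hj)
        exact p.2.ne_top ((Ideal.eq_top_iff_one _).2 this)
      have hdisj : Disjoint (Submonoid.powers h₀ : Set A) (p.asIdeal : Set A) := by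
        rw [Set.disjoint_left]
        rintro _ ⟨k, rfl⟩ hk
        exact hgp (p.2.mem_of_pow_mem k hk)
      have hprime := IsLocalization.isPrime_of_isPrime_disjoint (Submonoid.powers h₀)
        (Localization.Away h₀) p.asIdeal p.2 hdisj
      refine ⟨PrimeSpectrum.comap (sndHom A (B₁ := B₁) (B₂ := Localization.Away h₀)).toRingHom
        ⟨_, hprime⟩, ?_⟩
      apply PrimeSpectrum.ext
      have hc := IsLocalization.comap_map_of_isPrime_disjoint (Submonoid.powers h₀)
        (Localization.Away h₀) p.2 hdisj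
      ext a
      show sndHom A (algebraMap A B a) ∈ Ideal.map (algebraMap A (Localization.Away h₀)) p.asIdeal ↔ _
      rw [AlgHom.commutes]
      exact ⟨fun hmem => hc ▸ (show a ∈ Ideal.under A _ from hmem),
        fun hmem => Ideal.mem_map_of_mem _ hmem⟩
  obtain ⟨r⟩ := h B hff' inferInstance
  let ρ : B →ₐ[A] A ⧸ I := (Ideal.Quotient.mkₐ A I).comp r
  let e₁ : Fin k → B := fun i => pair (Pi.single i (1 : (Pk i).Ring) : B₁) (0 : Localization.Away h₀)
  let ε : Fin k → A ⧸ I := fun i => ρ (e₁ i)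
  have hεh : ρ (pair (0 : B₁) (1 : Localization.Away h₀)) = 0 := by
    obtain ⟨w, hw⟩ :=
      (IsLocalization.Away.algebraMap_isUnit (S := Localization.Away h₀) h₀).exists_right_inv
    have h3 : pair (0 : B₁) (algebraMap A (Localization.Away h₀) h₀) =
        pair (0 : B₁) (1 : Localization.Away h₀) * algebraMap A B h₀ := by
      rw [algebraMap_eq_pair, pair_mul, zero_mul, one_mul]
    have h4 : ρ (pair (0 : B₁) (algebraMap A (Localization.Away h₀) h₀)) = 0 := by
      rw [h3, map_mul, AlgHom.commutes]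
      have : algebraMap A (A ⧸ I) h₀ = 0 := Ideal.Quotient.eq_zero_iff_mem.2 hh₀
      rw [this, mul_zero]
    have h5 : pair (0 : B₁) (1 : Localization.Away h₀) =
        pair (0 : B₁) (algebraMap A (Localization.Away h₀) h₀) * pair (0 : B₁) w := by
      rw [pair_mul, mul_zero, hw]
    rw [h5, map_mul, h4, zero_mul]
  have hsingle : ∀ i j : Fin k, i ≠ j →
      (Pi.single i (1 : (Pk i).Ring) : B₁) * Pi.single j (1 : (Pk j).Ring) = 0 := by
    intro i j hij
    funext l
    rw [Pi.mul_apply]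
    by_cases hl : l = i
    · subst hl
      rw [Pi.single_eq_of_ne hij, mul_zero]
      rfl
    · rw [Pi.single_eq_of_ne hl, zero_mul]
      rfl
  have hsum : ∑ i, e₁ i = pair (1 : B₁) (0 : Localization.Away h₀) := by
    funext b
    rw [Finset.sum_apply]
    cases b
    · show ∑ i : Fin k, (0 : Localization.Away h₀) = 0
      exact Finset.sum_const_zero
    · show ∑ i : Fin k, (Pi.single i (1 : (Pk i).Ring) : B₁) = 1
      exact Finset.univ_sum_single (1 : B₁)
  have hε : CompleteOrthogonalIdempotents ε := by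
    refine ⟨⟨fun i => ?_, fun i j hij => ?_⟩, ?_⟩
    · show ε i * ε i = ε i
      show ρ (e₁ i) * ρ (e₁ i) = ρ (e₁ i)
      rw [← map_mul, pair_mul, ← Pi.single_mul, mul_one, mul_zero]
    · show ρ (e₁ i) * ρ (e₁ j) = 0
      rw [← map_mul, pair_mul, mul_zero, hsingle i j hij, pair_zero, map_zero]
    · show ∑ i, ρ (e₁ i) = 1
      rw [← map_sum, hsum]
      have h6 : pair (1 : B₁) (0 : Localization.Away h₀) + pair (0 : B₁) (1 : Localization.Away h₀) = 1 := by
        rw [pair_add, add_zero, zero_add, pair_one]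
      have h7 := congrArg ρ h6
      rw [map_add, hεh, add_zero, map_one] at h7
      exact h7
  -- the maps out of the charts
  have hψ : ∀ i : Fin k, Nonempty (Bb →ₐ[A ⧸ I] (A ⧸ I) ⧸ Ideal.span {1 - ε i}) := by
    intro i
    have hone : Ideal.Quotient.mk (Ideal.span {1 - ε i}) (ε i) = 1 := by
      rw [← map_one (Ideal.Quotient.mk (Ideal.span {1 - ε i})), eq_comm, Ideal.Quotient.eq]
      exact Ideal.mem_span_singleton_self _
    let ψ : (Pk i).Ring →ₐ[A] (A ⧸ I) ⧸ Ideal.span {1 - ε i} :=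
      { toFun := fun b => Ideal.Quotient.mk _ (ρ (pair (Pi.single i b : B₁) (0 : Localization.Away h₀)))
        map_one' := hone
        map_mul' := fun b b' => by
          rw [← map_mul, ← map_mul, pair_mul, mul_zero, Pi.single_mul]
        map_zero' := by
          rw [Pi.single_zero, pair_zero, map_zero, map_zero]
        map_add' := fun b b' => by
          rw [← map_add, ← map_add, pair_add, add_zero, Pi.single_add]
        commutes' := fun a => by
          have h8 : pair (Pi.single i (algebraMap A (Pk i).Ring a) : B₁) (0 : Localization.Away h₀) =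
              e₁ i * algebraMap A B a := by
            rw [algebraMap_eq_pair, pair_mul, zero_mul]
            congr 1
            rw [← Pi.single_mul_left, one_mul]
            rfl
          rw [h8, map_mul, map_mul, AlgHom.commutes]
          show Ideal.Quotient.mk _ (ε i) * _ = _
          rw [hone, one_mul]
          rfl }
    have hx : (Pk i).HasMap (ψ (Pk i).X) := StandardEtalePair.hasMap_X.map ψ
    exact hchart (e i).1 ((A ⧸ I) ⧸ Ideal.span {1 - ε i}) (ψ (Pk i).X) hx
  let θ : ∀ i, Bb →ₐ[A ⧸ I] (A ⧸ I) ⧸ Ideal.span {1 - ε i} := fun i => (hψ i).some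
  obtain ⟨Ψ, -⟩ := BT.exists_glue (A := A ⧸ I) (B := A ⧸ I) ε hε (fun _ => Bb) θ
  exact ⟨Ψ.comp (AlgHom.pi (fun _ => AlgHom.id (A ⧸ I) Bb))⟩

end Cover

theorem hasEtaleRetractions_quotient {A : Type u} [CommRing A] (h : ProEtW.HasEtaleRetractions A)
    (I : Ideal A) : ProEtW.HasEtaleRetractions (A ⧸ I) := by
  intro Bb _ _ hff het
  exact exists_retraction_quotient h I Bb hff

end Groth.Agent.Lib.Helper82.EtRetr
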