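import Groth.Agent.Lib.Helper82.ProEtWC4
import Mathlib.CategoryTheory.Sites.LocallyBijective
import Mathlib.CategoryTheory.Functor.KanExtension.Adjunction

set_option autoImplicit false
open CategoryTheory CategoryTheory.Limits AlgebraicGeometry Opposite
universe u
open ProEtS

namespace Groth.Agent.Lib.Helper82.ExtZero

set_option backward.isDefEq.respectTransparency.types false in
/-- a sieve containing (the preimage of) a weakly etale map through which `t` factors contains
`t`. -/
theorem arrows_of_factor' {X : Scheme.{u}} (V : X.ProEt) (R : Sieve V) (P : Presieve V)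
    (hPR : P ≤ R.arrows) {Y : Scheme.{u}} (f : Y ⟶ V.left)
    (hf : (P.map (Scheme.ProEt.forget X ⋙ Over.forget X)) f) {T : Scheme.{u}} (t : T ⟶ V.left)
    [WeaklyEtale t] (σ : T ⟶ Y) (hσ : σ ≫ f = t) :
    R.arrows (MorphismProperty.Over.homMk t : Scheme.ProEt.mk (t ≫ V.hom) ⟶ V) := by
  obtain ⟨V', p, e, hp, hpf⟩ := ProEtWC.presieve_map_inv (Scheme.ProEt.forget X ⋙ Over.forget X) P f hf
  subst e
  simp only [eqToHom_refl, Category.id_comp] at hpf
  have hpR := hPR _ _ hp
  have hpf' : p.left = f := hpf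
  let a : Scheme.ProEt.mk (t ≫ V.hom) ⟶ V' :=
    MorphismProperty.Over.homMk σ (by
      have hw := MorphismProperty.Over.w p
      simp only [Scheme.ProEt.mk_hom]
      calc σ ≫ V'.hom = σ ≫ (p.left ≫ V.hom) := congrArg (σ ≫ ·) hw.symm
        _ = (σ ≫ p.left) ≫ V.hom := (Category.assoc _ _ _).symm
        _ = (σ ≫ f) ≫ V.hom := congrArg (fun z => (σ ≫ z) ≫ V.hom) hpf'
        _ = t ≫ V.hom := congrArg (· ≫ V.hom) hσ)
  have : (MorphismProperty.Over.homMk t : Scheme.ProEt.mk (t ≫ V.hom) ⟶ V) = a ≫ p := by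
    apply MorphismProperty.Over.Hom.ext
    show t = σ ≫ p.left
    exact hσ.symm.trans (congrArg (σ ≫ ·) hpf'.symm)
  rw [this]
  exact R.downward_closed hpR a

set_option backward.isDefEq.respectTransparency.types false in
theorem subsingleton_sheafify_of_bad {X : Scheme.{u}} (P : X.ProEtᵒᵖ ⥤ AddCommGrpCat.{u+1})
    (Bad : X.ProEt → Prop) (hP : ∀ W, ¬ Bad W → IsZero (P.obj (op W)))
    (ZX : Set X) (hBadZ : ∀ W, Bad W → ∀ w : W.left, W.hom w ∉ ZX)
    (V : X.ProEt) [IsAffine V.left] (hV : ∀ v : V.left, ∃ z : V.left, V.hom z ∈ ZX ∧ v ⤳ z) :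
    Subsingleton ((sheafify (Scheme.ProEt.topology X) P).obj (op V)) := by
  refine subsingleton_of_forall_eq 0 (fun s => ?_)
  let G : Sheaf (Scheme.ProEt.topology X) AddCommGrpCat.{u+1} :=
    (presheafToSheaf (Scheme.ProEt.topology X) _).obj P
  have hsep := Sheaf.isSeparated G
  suffices hR' : Presheaf.equalizerSieve (F := G.obj) (X := op V) s 0 ∈
      Scheme.ProEt.topology X V from hsep V _ hR' s 0 (fun Y f hf => hf)
  have hR₀ : Presheaf.imageSieve (toSheafify (Scheme.ProEt.topology X) P) s ∈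
      Scheme.ProEt.topology X V :=
    Presheaf.imageSieve_mem (Scheme.ProEt.topology X) (toSheafify (Scheme.ProEt.topology X) P) s
  have : (Scheme.ProEt.precoverage X).IsStableUnderComposition := by
    unfold Scheme.ProEt.precoverage; infer_instance
  have : (Scheme.ProEt.precoverage X).IsStableUnderBaseChange := by
    unfold Scheme.ProEt.precoverage; infer_instance
  have : (Scheme.ProEt.precoverage X).HasIsos := by
    unfold Scheme.ProEt.precoverage; infer_instance
  obtain ⟨P₀, hP₀, hP₀R⟩ := (Precoverage.mem_toGrothendieck_iff_of_isStableUnderComposition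
    (J := Scheme.ProEt.precoverage X)).mp hR₀
  have hP₀' : P₀.map (Scheme.ProEt.forget X ⋙ Over.forget X) ∈
      Scheme.proetalePrecoverage V.left := hP₀
  obtain ⟨E, hEqc, hE⟩ := Scheme.mem_propQCPrecoverage_iff_exists_quasiCompactCover.mp hP₀'
  obtain ⟨n, a, Vo, hVo, hcov⟩ := QuasiCompactCover.exists_isAffineOpen_of_isCompact
    E.toPreZeroHypercover (U := (⊤ : V.left.Opens)) (by simpa using isCompact_univ)
  haveI : ∀ i, WeaklyEtale (E.f i) := fun i => E.map_prop i
  let t : ∀ k : Fin n, (Vo k).toScheme ⟶ V.left := fun k => (Vo k).ι ≫ E.f (a k)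
  let W' : Fin n → X.ProEt := fun k => Scheme.ProEt.mk (t k ≫ V.hom)
  let g : ∀ k, W' k ⟶ V := fun k => MorphismProperty.Over.homMk (t k)
  have hgR₀ : ∀ k, (Presheaf.imageSieve (toSheafify (Scheme.ProEt.topology X) P) s) (g k) :=
    fun k => arrows_of_factor' V _ P₀ hP₀R (E.f (a k))
      (by rw [hE]; exact Presieve.ofArrows.mk (a k)) (t k) (Vo k).ι rfl
  have hgood : ∀ k, ¬ Bad (W' k) → G.obj.map (g k).op s = 0 := by
    intro k hk
    obtain ⟨x, hx⟩ := hgR₀ k
    haveI := AddCommGrpCat.subsingleton_of_isZero (hP _ hk)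
    have hx0 : x = 0 := Subsingleton.elim _ _
    rw [hx0, map_zero] at hx
    exact hx.symm
  have hcover : ∀ v : V.left, ∃ k, ¬ Bad (W' k) ∧ v ∈ Set.range (t k) := by
    intro v
    obtain ⟨z, hz, hvz⟩ := hV v
    have hz' : z ∈ ((⊤ : V.left.Opens) : Set V.left) := trivial
    rw [← hcov, Set.mem_iUnion] at hz'
    obtain ⟨k, y, hy, rfl⟩ := hz'
    refine ⟨k, fun hbad => hBadZ _ hbad ⟨y, hy⟩ hz, ?_⟩
    have hgen : GeneralizingMap (t k) := Flat.generalizingMap (t k)
    exact hgen.stableUnderGeneralization_range hvz ⟨⟨y, hy⟩, rfl⟩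
  let Tf : {k : Fin n // ¬ Bad (W' k)} → Scheme.{u} := fun k => (Vo k.1).toScheme
  haveI : ∀ k, IsAffine (Tf k) := fun k => hVo k.1
  let tt : (∐ Tf) ⟶ V.left := Sigma.desc (fun k => t k.1)
  haveI : WeaklyEtale tt := IsZariskiLocalAtSource.sigmaDesc (fun i => inferInstance)
  haveI : Surjective tt := ⟨fun v => by
    obtain ⟨k, hk, y, hy⟩ := hcover v
    refine ⟨(Sigma.ι Tf ⟨k, hk⟩) y, ?_⟩
    rw [← Scheme.Hom.comp_apply, Sigma.ι_desc]
    exact hy⟩
  have hcovT := ProEtWC.singleton_mem_topology V tt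
  let T' : X.ProEt := Scheme.ProEt.mk (tt ≫ V.hom)
  suffices h2 : (Presheaf.equalizerSieve (F := G.obj) (X := op V) s 0).pullback
      (MorphismProperty.Over.homMk tt : T' ⟶ V) ∈ Scheme.ProEt.topology X T' by
    refine (Scheme.ProEt.topology X).transitive hcovT _ ?_
    rintro Y f ⟨Z, c, d, ⟨⟩, rfl⟩
    have h3 := (Scheme.ProEt.topology X).pullback_stable c h2
    exact (Sieve.pullback_comp (Presheaf.equalizerSieve (F := G.obj) (X := op V) s 0)) ▸ h3
  let Wg : {k : Fin n // ¬ Bad (W' k)} → X.ProEt := fun k => W' k.1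
  let ι' : ∀ k, Wg k ⟶ T' := fun k => MorphismProperty.Over.homMk (Sigma.ι Tf k) (by
    show Sigma.ι Tf k ≫ tt ≫ V.hom = t k.1 ≫ V.hom
    rw [← Category.assoc, Sigma.ι_desc])
  haveI : ∀ k, IsOpenImmersion (ι' k).left := fun k => by
    show IsOpenImmersion (Sigma.ι Tf k)
    infer_instance
  have hz := ProEtWC.ofArrows_mem_topology_of_isOpenImmersion T' Wg ι' (fun y => by
    obtain ⟨k, x, hx⟩ := (sigmaOpenCover Tf).exists_eq y
    exact ⟨k, x, hx⟩)
  refine (Scheme.ProEt.topology X).superset_covering ?_ hz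
  rintro Z f ⟨Y, c, d, ⟨k⟩, rfl⟩
  apply Sieve.downward_closed
  have e : ι' k ≫ (MorphismProperty.Over.homMk tt : T' ⟶ V) = g k.1 := by
    apply MorphismProperty.Over.Hom.ext
    exact Sigma.ι_desc _ _
  show (Presheaf.equalizerSieve (F := G.obj) (X := op V) s 0)
    (ι' k ≫ (MorphismProperty.Over.homMk tt : T' ⟶ V))
  rw [e]
  show G.obj.map (g k.1).op s = G.obj.map (g k.1).op 0
  rw [map_zero]
  exact hgood k.1 k.2

set_option backward.isDefEq.respectTransparency.types false in
theorem isZero_lan_of_not_bad {U X : Scheme.{u}} (j : U ⟶ X) [WeaklyEtale j]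
    (F : U.ProEtᵒᵖ ⥤ AddCommGrpCat.{u+1}) (W : X.ProEt)
    (hW : ¬ ∃ φ : W.left ⟶ U, φ ≫ j = W.hom) :
    IsZero (((compP j).op.lan.obj F).obj (op W)) := by
  have : IsEmpty (CostructuredArrow (compP j).op (op W)) :=
    ⟨fun c => hW ⟨c.hom.unop.left ≫ c.left.unop.hom, by
      rw [Category.assoc]
      exact MorphismProperty.Over.w c.hom.unop⟩⟩
  have e := (compP j).op.leftKanExtensionObjIsoColimit F (op W)
  have hI : IsInitial (colimit (CostructuredArrow.proj (compP j).op (op W) ⋙ F)) :=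
    isColimitEquivIsInitialOfIsEmpty _ _ (colimit.isColimit _)
  have hz : IsZero (colimit (CostructuredArrow.proj (compP j).op (op W) ⋙ F)) :=
    (IsZero.iff_id_eq_zero _).mpr (hI.hom_ext _ _)
  exact hz.of_iso e

set_option backward.isDefEq.respectTransparency.types false in
theorem subsingleton_extZeroP {U X Z : Scheme.{u}} (j : U ⟶ X) [WeaklyEtale j] (i : Z ⟶ X)
    (hUZ : Disjoint (Set.range j.base) (Set.range i.base)) [JPCont j]
    (V : X.ProEt) [IsAffine V.left]
    (hV : ∀ v : ↥V.left, ∃ z : ↥V.left, V.hom.base z ∈ Set.range i.base ∧ v ⤳ z)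
    (F : AbP U) : Subsingleton (sectP ((extZeroP j).obj F) V) := by
  let P := (compP j).op.lan.obj F.obj
  have e : (extZeroP j).obj F ≅ (presheafToSheaf (Scheme.ProEt.topology X) _).obj P :=
    (Functor.sheafPullbackConstruction.sheafPullbackIso (compP j) AddCommGrpCat.{u+1}
      (Scheme.ProEt.topology U) (Scheme.ProEt.topology X)).app F
  have hsub : Subsingleton ((sheafify (Scheme.ProEt.topology X) P).obj (op V)) :=
    subsingleton_sheafify_of_bad P (fun W => ∃ φ : W.left ⟶ U, φ ≫ j = W.hom)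
      (fun W hW => isZero_lan_of_not_bad j F.obj W hW) (Set.range i.base)
      (fun W hW w hw => by
        obtain ⟨φ, hφ⟩ := hW
        refine Set.disjoint_left.mp hUZ ?_ hw
        refine ⟨φ w, ?_⟩
        have : (φ ≫ j) w = W.hom w := by rw [hφ]
        exact this) V hV
  let e' : ((extZeroP j).obj F).obj.obj (op V) ≅
      (sheafify (Scheme.ProEt.topology X) P).obj (op V) :=
    (sheafToPresheaf (Scheme.ProEt.topology X) _ ⋙ (evaluation _ _).obj (op V)).mapIso e
  exact e'.addCommGroupIsoToAddEquiv.toEquiv.subsingleton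

end Groth.Agent.Lib.Helper82.ExtZero
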