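import Groth.Agent.Lib.Helper82.IndSys

set_option autoImplicit false
open CategoryTheory CategoryTheory.Limits TensorProduct AlgebraicGeometry
universe u

/-!
# Descent of faithful flatness of an étale algebra to a finite stage of an ind-system.
-/

namespace Groth.Agent.Lib.Helper82

/-- the spectrum of a tensor product surjects onto the fibre product of the spectra. -/
theorem exists_prime_tensor (A B C : Type u) [CommRing A] [CommRing B] [CommRing C]
    [Algebra A B] [Algebra A C] (q : PrimeSpectrum B) (c : PrimeSpectrum C)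
    (h : PrimeSpectrum.comap (algebraMap A B) q = PrimeSpectrum.comap (algebraMap A C) c) :
    ∃ r : PrimeSpectrum (B ⊗[A] C),
      PrimeSpectrum.comap
        (Algebra.TensorProduct.includeLeftRingHom (R := A) (A := B) (B := C)) r = q ∧
      PrimeSpectrum.comap
        (Algebra.TensorProduct.includeRight (R := A) (A := B) (B := C)).toRingHom r = c := by
  have hpo := CommRingCat.isPushout_tensorProduct A B C
  have hpb := isPullback_SpecMap_of_isPushout _ _ _ _ hpo
  obtain ⟨p, hp1, hp2⟩ := Scheme.exists_preimage_of_isPullback hpb q c h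
  exact ⟨p, hp1, hp2⟩

/-- faithful flatness of a flat base change, from surjectivity on the relevant locus. -/
theorem faithfullyFlat_tensor_of_range (R R' S : Type u) [CommRing R] [CommRing R'] [CommRing S]
    [Algebra R R'] [Algebra R S] [Module.Flat R S]
    (h : ∀ P : PrimeSpectrum R', PrimeSpectrum.comap (algebraMap R R') P ∈
      Set.range (PrimeSpectrum.comap (algebraMap R S))) :
    Module.FaithfullyFlat R' (R' ⊗[R] S) := by
  refine Module.FaithfullyFlat.of_comap_surjective fun P => ?_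
  obtain ⟨q, hq⟩ := h P
  obtain ⟨r, hr1, -⟩ := exists_prime_tensor R R' S P q hq.symm
  exact ⟨r, hr1⟩

namespace IndSys

variable {A B : Type u} [CommRing A] [CommRing B] [Algebra A B] (d : IndSys A B)

lemma map_map_le {i j k : d.J} (t : i ⟶ j) (s : j ⟶ k) (a : Ideal (d.R i)) :
    (a.map (d.t t)).map (d.t s) ≤ a.map (d.t (t ≫ s)) := by
  rw [Ideal.map_le_iff_le_comap, Ideal.map_le_iff_le_comap]
  intro x hx
  rw [Ideal.mem_comap, Ideal.mem_comap, ← d.t_comp]
  exact Ideal.mem_map_of_mem _ hx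

theorem exists_map_eq_top {j : d.J} (a : Ideal (d.R j)) (h : a.map (d.φ j) = ⊤) :
    ∃ (k : d.J) (t : j ⟶ k), a.map (d.t t) = ⊤ := by
  have key : ∀ x ∈ a.map (d.φ j), ∃ (k : d.J) (t : j ⟶ k) (y : d.R k),
      y ∈ a.map (d.t t) ∧ d.φ k y = x := by
    intro x hx
    refine Submodule.span_induction ?_ ?_ ?_ ?_ hx
    · rintro _ ⟨a₀, ha₀, rfl⟩
      exact ⟨j, 𝟙 j, d.t (𝟙 j) a₀, Ideal.mem_map_of_mem _ ha₀, d.φ_t _ _⟩
    · exact ⟨j, 𝟙 j, 0, Ideal.zero_mem _, map_zero _⟩
    · rintro x₁ x₂ - - ⟨k₁, t₁, y₁, hy₁, rfl⟩ ⟨k₂, t₂, y₂, hy₂, rfl⟩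
      obtain ⟨k, s₁, s₂, hs⟩ := IsFiltered.span t₁ t₂
      refine ⟨k, t₁ ≫ s₁, d.t s₁ y₁ + d.t s₂ y₂, Ideal.add_mem _ ?_ ?_, ?_⟩
      · exact d.map_map_le t₁ s₁ a (Ideal.mem_map_of_mem _ hy₁)
      · rw [hs]
        exact d.map_map_le t₂ s₂ a (Ideal.mem_map_of_mem _ hy₂)
      · rw [map_add, d.φ_t, d.φ_t]
    · rintro c x - ⟨k₁, t₁, y₁, hy₁, rfl⟩
      obtain ⟨k', c', rfl⟩ := d.surj c
      refine ⟨IsFiltered.max k₁ k', t₁ ≫ IsFiltered.leftToMax k₁ k',
        d.t (IsFiltered.rightToMax k₁ k') c' * d.t (IsFiltered.leftToMax k₁ k') y₁,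
        Ideal.mul_mem_left _ _ ?_, ?_⟩
      · exact d.map_map_le t₁ _ a (Ideal.mem_map_of_mem _ hy₁)
      · rw [map_mul, d.φ_t, d.φ_t, smul_eq_mul]
  obtain ⟨k, t, y, hy, hy1⟩ := key 1 (h ▸ Submodule.mem_top)
  obtain ⟨k', s, hs⟩ := d.eq k y 1 (by rw [hy1, map_one])
  refine ⟨k', t ≫ s, (Ideal.eq_top_iff_one _).2 ?_⟩
  have := d.map_map_le t s a (Ideal.mem_map_of_mem _ hy)
  rwa [hs, map_one] at this

/-- descent of faithful flatness to a finite stage. -/
theorem exists_faithfullyFlat_descent (j₀ : d.J) (S₁ : Type u) [CommRing S₁]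
    [Algebra (d.R j₀) S₁] [Algebra.Etale (d.R j₀) S₁]
    (hff : letI := (d.φ j₀).toRingHom.toAlgebra
      Module.FaithfullyFlat B (B ⊗[d.R j₀] S₁)) :
    ∃ (j₁ : d.J) (t : j₀ ⟶ j₁), letI := (d.t t).toRingHom.toAlgebra
      Module.FaithfullyFlat (d.R j₁) (d.R j₁ ⊗[d.R j₀] S₁) := by
  let _ : Algebra (d.R j₀) B := (d.φ j₀).toRingHom.toAlgebra
  have hflat : Module.Flat (d.R j₀) S₁ := inferInstance
  set U : Set (PrimeSpectrum (d.R j₀)) :=
    Set.range (PrimeSpectrum.comap (algebraMap (d.R j₀) S₁)) with hU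
  have hUo : IsOpen U :=
    (PrimeSpectrum.isOpenMap_comap_of_hasGoingDown_of_finitePresentation
      (R := d.R j₀) (S := S₁)).isOpen_range
  set a : Ideal (d.R j₀) := PrimeSpectrum.vanishingIdeal Uᶜ with ha
  have hza : PrimeSpectrum.zeroLocus (a : Set (d.R j₀)) = Uᶜ := by
    rw [ha, PrimeSpectrum.zeroLocus_vanishingIdeal_eq_closure, hUo.isClosed_compl.closure_eq]
  have hmem : ∀ P : PrimeSpectrum B, PrimeSpectrum.comap (algebraMap (d.R j₀) B) P ∈ U := by
    intro P
    obtain ⟨Q, hQ⟩ := PrimeSpectrum.comap_surjective_of_faithfullyFlat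
      (A := B) (B := B ⊗[d.R j₀] S₁) P
    refine ⟨PrimeSpectrum.comap
      (Algebra.TensorProduct.includeRight (R := d.R j₀) (A := B) (B := S₁)).toRingHom Q, ?_⟩
    rw [← hQ, ← PrimeSpectrum.comap_comp_apply, ← PrimeSpectrum.comap_comp_apply]
    congr 1
    ext x
    simp only [RingHom.comp_apply, AlgHom.toRingHom_eq_coe, RingHom.coe_coe, AlgHom.commutes,
      Algebra.TensorProduct.algebraMap_apply]
    rfl
  have htop : a.map (d.φ j₀) = ⊤ := by
    rw [← PrimeSpectrum.zeroLocus_empty_iff_eq_top]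
    ext P
    simp only [Set.mem_empty_iff_false, iff_false]
    intro hP
    have h1 : PrimeSpectrum.comap (algebraMap (d.R j₀) B) P ∈
        PrimeSpectrum.zeroLocus (a : Set (d.R j₀)) := by
      rw [PrimeSpectrum.mem_zeroLocus] at hP ⊢
      intro x hx
      exact hP (Ideal.mem_map_of_mem _ hx)
    rw [hza] at h1
    exact h1 (hmem P)
  obtain ⟨j₁, t, ht⟩ := d.exists_map_eq_top a htop
  refine ⟨j₁, t, ?_⟩
  let _ : Algebra (d.R j₀) (d.R j₁) := (d.t t).toRingHom.toAlgebra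
  refine faithfullyFlat_tensor_of_range (d.R j₀) (d.R j₁) S₁ fun P => ?_
  by_contra hP
  have h1 : PrimeSpectrum.comap (algebraMap (d.R j₀) (d.R j₁)) P ∈
      PrimeSpectrum.zeroLocus (a : Set (d.R j₀)) := by
    rw [hza]
    exact hP
  have h2 : a.map (d.t t) ≤ P.asIdeal := by
    rw [Ideal.map_le_iff_le_comap]
    intro x hx
    exact h1 hx
  rw [ht] at h2
  exact P.isPrime.ne_top (top_le_iff.mp h2)

end IndSys

end Groth.Agent.Lib.Helper82
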