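import Groth.Agent.Lib.Helper82.WLocalTop

set_option autoImplicit false
open Topology Set
universe u

namespace Groth.Agent.Lib.Helper82

section Pullback

open Groth.Agent.Lib.Helper74

variable (X T : Type u) [TopologicalSpace X] [SpectralSpace X]
    [TopologicalSpace T] [CompactSpace T] [T2Space T] [TotallyDisconnectedSpace T]
    (g : C(T, ConnectedComponents X))

theorem isClosed_fibreProduct :
    IsClosed {p : X × T | ConnectedComponents.mk p.1 = g p.2} := by
  have := t2Space_connectedComponents (X := X)
  exact isClosed_eq (ConnectedComponents.continuous_coe.comp continuous_fst)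
    (g.continuous.comp continuous_snd)

theorem spectralSpace_fibreProduct :
    SpectralSpace {p : X × T // ConnectedComponents.mk p.1 = g p.2} := by
  have := spectralSpace_of_profinite T
  have := spectralSpace_prod X T
  exact spectralSpace_of_isClosedEmbedding (isClosed_fibreProduct X T g).isClosedEmbedding_subtypeVal

theorem exists_homeomorph_connectedComponents_fibreProduct :
    ∃ e : ConnectedComponents {p : X × T // ConnectedComponents.mk p.1 = g p.2} ≃ₜ T,
      ∀ y : {p : X × T // ConnectedComponents.mk p.1 = g p.2},
        e (ConnectedComponents.mk y) = y.1.2 := by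
  have hsp := spectralSpace_fibreProduct X T g
  let p₂ : {p : X × T // ConnectedComponents.mk p.1 = g p.2} → T := fun y => y.1.2
  have hp₂ : Continuous p₂ := continuous_snd.comp continuous_subtype_val
  have hinj : Function.Injective hp₂.connectedComponentsLift := by
    intro c₁ c₂ h
    obtain ⟨y₁, rfl⟩ := ConnectedComponents.surjective_coe c₁
    obtain ⟨y₂, rfl⟩ := ConnectedComponents.surjective_coe c₂
    rw [hp₂.connectedComponentsLift_apply_coe, hp₂.connectedComponentsLift_apply_coe] at h
    have ht : y₁.1.2 = y₂.1.2 := h
    have hmk : ConnectedComponents.mk y₂.1.1 = ConnectedComponents.mk y₁.1.1 := by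
      rw [y₁.2, y₂.2, ht]
    have hmem : y₂.1.1 ∈ connectedComponent y₁.1.1 := by
      rwa [ConnectedComponents.coe_eq_coe'] at hmk
    have := Subtype.preconnectedSpace (isPreconnected_connectedComponent (x := y₁.1.1))
    let j : connectedComponent y₁.1.1 → {p : X × T // ConnectedComponents.mk p.1 = g p.2} :=
      fun x => ⟨((x : X), y₁.1.2), by
        have h1 : ConnectedComponents.mk (x : X) = ConnectedComponents.mk y₁.1.1 := by
          rw [ConnectedComponents.coe_eq_coe']
          exact x.2
        rw [h1, y₁.2]⟩
    have hj : Continuous j := by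
      refine Continuous.subtype_mk ?_ _
      exact (continuous_subtype_val.prodMk continuous_const)
    have hr : IsPreconnected (Set.range j) := isPreconnected_range hj
    have h1 : y₁ ∈ Set.range j := ⟨⟨y₁.1.1, mem_connectedComponent⟩, Subtype.ext rfl⟩
    have h2 : y₂ ∈ Set.range j := ⟨⟨y₂.1.1, hmem⟩, Subtype.ext (Prod.ext rfl ht)⟩
    have h3 := hr.subset_connectedComponent h1 h2
    symm
    rw [ConnectedComponents.coe_eq_coe']
    exact h3
  have hsurj : Function.Surjective hp₂.connectedComponentsLift := by
    intro t
    obtain ⟨x, hx⟩ := ConnectedComponents.surjective_coe (g t)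
    refine ⟨ConnectedComponents.mk ⟨(x, t), hx⟩, ?_⟩
    rw [hp₂.connectedComponentsLift_apply_coe]
  let e₀ : ConnectedComponents {p : X × T // ConnectedComponents.mk p.1 = g p.2} ≃ T :=
    Equiv.ofBijective _ ⟨hinj, hsurj⟩
  refine ⟨Continuous.homeoOfEquivCompactToT2 (f := e₀) hp₂.connectedComponentsLift_continuous,
    fun y => ?_⟩
  exact hp₂.connectedComponentsLift_apply_coe y

end Pullback

end Groth.Agent.Lib.Helper82
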