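import Groth.Agent.Lib.Helper82.ProEtWC1
import Groth.Agent.Lib.Helper27.WeaklyEtaleField
import Groth.Agent.S1412

set_option autoImplicit false
open CategoryTheory CategoryTheory.Limits AlgebraicGeometry Opposite
universe u

namespace Groth.Agent.Lib.Helper82.GeomPt

theorem exists_retraction_of_weaklyEtale_sepClosed (k R : Type u) [Field k] [IsSepClosed k]
    [CommRing R] [Nontrivial R] [Algebra k R] [Algebra.WeaklyEtale k R] :
    Nonempty (R →ₐ[k] k) := by
  obtain ⟨m, hm⟩ := Ideal.exists_maximal R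
  letI : Field (R ⧸ m) := Ideal.Quotient.field m
  haveI : Algebra.IsSeparable k R :=
    Groth.Agent.Lib.Helper27.WeaklyEtaleField.algebra_isSeparable_of_weaklyEtale k R
  haveI : Algebra.IsSeparable k (R ⧸ m) :=
    Groth.Agent.Lib.Helper27.WeaklyEtaleField.isSeparable_of_surjective (Ideal.Quotient.mkₐ k m)
      (Ideal.Quotient.mkₐ_surjective k m)
  let e : k ≃ₐ[k] (R ⧸ m) := AlgEquiv.ofBijective (Algebra.ofId k (R ⧸ m))
    (IsSepClosed.algebraMap_bijective k (R ⧸ m))
  exact ⟨e.symm.toAlgHom.comp (Ideal.Quotient.mkₐ k m)⟩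

theorem exists_lift_geometric_point {V U : Scheme.{u}} (g : V ⟶ U) [WeaklyEtale g] {k : Type u}
    [Field k] [IsSepClosed k] (ξ : Spec (CommRingCat.of k) ⟶ U) (v : V) (hv : g v = ξ default) :
    ∃ ξ' : Spec (CommRingCat.of k) ⟶ V, ξ' ≫ g = ξ := by
  obtain ⟨t, ht1, ht2⟩ := Scheme.Pullback.exists_preimage_pullback (f := ξ) (g := g) default v hv.symm
  obtain ⟨R, j, _, hj, -⟩ := Scheme.exists_affine_mem_range_and_range_subset
    (x := t) (U := ⊤) (by simp)
  let φ : CommRingCat.of k ⟶ R := Spec.preimage (j ≫ pullback.fst ξ g)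
  have hφ : Spec.map φ = j ≫ pullback.fst ξ g := Spec.map_preimage _
  haveI : WeaklyEtale (Spec.map φ) := by
    rw [hφ]
    infer_instance
  obtain ⟨h1, h2⟩ := (Groth.Agent.S1412.weaklyEtale_SpecMap_iff φ).mp inferInstance
  letI : Algebra k R := φ.hom.toAlgebra
  haveI : Algebra.WeaklyEtale k R := ⟨h1, h2⟩
  haveI : Nontrivial R := by
    obtain ⟨y, hy⟩ := hj
    exact (PrimeSpectrum.nonempty_iff_nontrivial).mp ⟨y⟩
  obtain ⟨ρ⟩ := exists_retraction_of_weaklyEtale_sepClosed k R
  let ρ' : R ⟶ CommRingCat.of k := CommRingCat.ofHom ρ.toRingHom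
  have hρ : φ ≫ ρ' = 𝟙 _ := by
    ext a
    exact ρ.commutes a
  refine ⟨Spec.map ρ' ≫ j ≫ pullback.snd ξ g, ?_⟩
  rw [Category.assoc, Category.assoc, ← pullback.condition, ← Category.assoc j, ← hφ,
    ← Spec.map_comp_assoc, hρ, Spec.map_id, Category.id_comp]

set_option backward.isDefEq.respectTransparency.types false in
theorem exists_point_aux {X : Scheme.{u}} (U : X.ProEt) (R : Sieve U) (P : Presieve U)
    (hPR : P ≤ R.arrows) {Y : Scheme.{u}} (f : Y ⟶ U.left)
    (hf : (P.map (Scheme.ProEt.forget X ⋙ Over.forget X)) f) (v : Y) :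
    ∃ (V : X.ProEt) (g : V ⟶ U) (v' : V.left), R g ∧ g.left v' = f v := by
  obtain ⟨V', p, e, hp, hpf⟩ := ProEtWC.presieve_map_inv
    (Scheme.ProEt.forget X ⋙ Over.forget X) P f hf
  subst e
  simp only [eqToHom_refl, Category.id_comp] at hpf
  have hpf' : p.left = f := hpf
  exact ⟨V', p, v, hPR _ _ hp, congrArg (fun m => m v) hpf'⟩

set_option backward.isDefEq.respectTransparency.types false in
theorem exists_point_of_mem_topology {X : Scheme.{u}} (U : X.ProEt) (R : Sieve U)
    (hR : R ∈ Scheme.ProEt.topology X U) (x : U.left) :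
    ∃ (V : X.ProEt) (g : V ⟶ U) (v : V.left), R g ∧ g.left v = x := by
  have : (Scheme.ProEt.precoverage X).IsStableUnderComposition := by
    unfold Scheme.ProEt.precoverage; infer_instance
  have : (Scheme.ProEt.precoverage X).IsStableUnderBaseChange := by
    unfold Scheme.ProEt.precoverage; infer_instance
  have : (Scheme.ProEt.precoverage X).HasIsos := by
    unfold Scheme.ProEt.precoverage; infer_instance
  obtain ⟨P, hP, hPR⟩ := (Precoverage.mem_toGrothendieck_iff_of_isStableUnderComposition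
    (J := Scheme.ProEt.precoverage X)).mp hR
  have hP' : P.map (Scheme.ProEt.forget X ⋙ Over.forget X) ∈
      Scheme.proetalePrecoverage U.left := hP
  obtain ⟨E, hEqc, hE⟩ := Scheme.mem_propQCPrecoverage_iff_exists_quasiCompactCover.mp hP'
  obtain ⟨v, hv⟩ := E.covers x
  have hf : (P.map (Scheme.ProEt.forget X ⋙ Over.forget X)) (E.f (E.idx x)) := by
    rw [hE]
    exact Presieve.ofArrows.mk (E.idx x)
  obtain ⟨V', p, v', hp, hv'⟩ := exists_point_aux U R P hPR (E.f (E.idx x)) hf v
  exact ⟨V', p, v', hp, hv'.trans hv⟩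

set_option backward.isDefEq.respectTransparency.types false in
theorem exists_lift_of_mem_topology {X : Scheme.{u}} (U : X.ProEt) (R : Sieve U)
    (hR : R ∈ Scheme.ProEt.topology X U) {k : Type u} [Field k] [IsSepClosed k]
    (ξ : Spec (CommRingCat.of k) ⟶ U.left) :
    ∃ (V : X.ProEt) (g : V ⟶ U) (ξ' : Spec (CommRingCat.of k) ⟶ V.left), R g ∧ ξ' ≫ g.left = ξ := by
  obtain ⟨V, g, v, hg, hv⟩ := exists_point_of_mem_topology U R hR (ξ default)
  haveI : WeaklyEtale g.left := by
    have h1 : WeaklyEtale (g.left ≫ U.hom) := by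
      rw [MorphismProperty.Over.w g]
      exact V.prop
    haveI : WeaklyEtale U.hom := U.prop
    exact MorphismProperty.of_postcomp (W := @WeaklyEtale) (W' := @WeaklyEtale) g.left U.hom
      inferInstance h1
  obtain ⟨ξ', hξ'⟩ := exists_lift_geometric_point g.left ξ v hv
  exact ⟨V, g, ξ', hg, hξ'⟩

end Groth.Agent.Lib.Helper82.GeomPt
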