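import Groth.Prelude.Def_PBC
import Groth.Agent.Lib.Helper82.IndEtaleTrans

set_option autoImplicit false
open CategoryTheory CategoryTheory.Limits TensorProduct
universe u v

namespace Groth.Agent.Lib.Helper82

theorem exists_coeq_elem {A S Q : Type u} [CommRing A] [CommRing S] [CommRing Q] [Algebra A S]
    [Algebra A Q] [Algebra.FormallyUnramified A S] [Algebra.EssFiniteType A S] (α β : S →ₐ[A] Q) :
    ∃ ε : Q, (∀ s, (β s - α s) * ε = 0) ∧
      ∀ (C : Type u) [CommRing C] [Algebra A C] (q : Q →ₐ[A] C), q.comp α = q.comp β → q ε = 1 := by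
  obtain ⟨t, ht1, ht2⟩ := Algebra.FormallyUnramified.iff_exists_tensorProduct.mp
    (inferInstance : Algebra.FormallyUnramified A S)
  let m : S ⊗[A] S →ₐ[A] Q := Algebra.TensorProduct.lift α β (fun _ _ => Commute.all _ _)
  refine ⟨m t, fun s => ?_, fun C _ _ q hq => ?_⟩
  · have h1 : m ((1 : S) ⊗ₜ[A] s - s ⊗ₜ[A] (1 : S)) = β s - α s := by
      simp [m]
    rw [← h1, ← map_mul, ht1, map_zero]
  · have h2 : q.comp m = (q.comp α).comp (Algebra.TensorProduct.lmul' A) := by
      apply Algebra.TensorProduct.ext'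
      intro x y
      have := DFunLike.congr_fun hq y
      simp only [AlgHom.comp_apply] at this
      simp [m, this]
    have h3 := DFunLike.congr_fun h2 t
    simp only [AlgHom.comp_apply] at h3
    rw [h3, ht2, map_one, map_one]

open Groth.Agent.Lib.Helper87.IndEt in
theorem isIndEtale_cancel (A B C : Type u) [CommRing A] [CommRing B] [CommRing C] [Algebra A B]
    [Algebra B C] [Algebra A C] [IsScalarTower A B C]
    (hB : EtPBC.IsIndEtale A B) (hC : EtPBC.IsIndEtale A C) : EtPBC.IsIndEtale B C := by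
  apply exists_filtered_colimit
  · intro c
    obtain ⟨F, _, _, _, f', y, hy⟩ := HasPres.coveredByEtale hC c
    refine ⟨B ⊗[A] F, inferInstance, inferInstance, inferInstance,
      Algebra.TensorProduct.lift (Algebra.ofId B C) f' (fun _ _ => Commute.all _ _), 1 ⊗ₜ y, ?_⟩
    simpa using hy
  · intro E _ _ _ f a ha
    let _ : Algebra A E := ((algebraMap B E).comp (algebraMap A B)).toAlgebra
    have : IsScalarTower A B E := IsScalarTower.of_algebraMap_eq (fun _ => rfl)
    have hE : EtPBC.IsIndEtale A E := isIndEtale_of_isIndEtale_of_etale A B E hB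
    obtain ⟨E₁, _, _, _, u, a₁, ha₁⟩ := HasPres.coveredByEtale hE a
    have ha₁' : u a₁ = a := ha₁
    obtain ⟨F, _, _, _, g₁, f', hfg, hga⟩ := HasPres.killsRelations hC E₁
      ((f.restrictScalars A).comp u) a₁ (by
        rw [AlgHom.comp_apply, ha₁']
        exact ha)
    let q : E ⊗[A] F →ₐ[B] C := Algebra.TensorProduct.lift f f' (fun _ _ => Commute.all _ _)
    let α : E₁ →ₐ[A] E ⊗[A] F :=
      ((Algebra.TensorProduct.includeLeft : E →ₐ[A] E ⊗[A] F)).comp u
    let β : E₁ →ₐ[A] E ⊗[A] F := Algebra.TensorProduct.includeRight.comp g₁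
    obtain ⟨ε, hε1, hε2⟩ := exists_coeq_elem α β
    have hqε : q ε = 1 := hε2 C (q.restrictScalars A) (by
      ext x
      have := DFunLike.congr_fun hfg x
      simp only [AlgHom.comp_apply, AlgHom.restrictScalars_apply] at this
      simp [α, β, q, this])
    have hEt : Algebra.Etale B (E ⊗[A] F) := Algebra.Etale.comp B E _
    have hunit : ∀ y : Submonoid.powers ε, IsUnit (q y) := by
      rintro ⟨_, n, rfl⟩
      simp [hqε]
    refine ⟨Localization.Away ε, inferInstance, inferInstance, inferInstance,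
      (IsScalarTower.toAlgHom B (E ⊗[A] F) (Localization.Away ε)).comp
        Algebra.TensorProduct.includeLeft,
      IsLocalization.liftAlgHom (M := Submonoid.powers ε) (f := q) hunit, ?_, ?_⟩
    · ext x
      simp [q]
    · have h1 : algebraMap (E ⊗[A] F) (Localization.Away ε) ((β a₁ - α a₁) * ε) = 0 := by
        rw [hε1, map_zero]
      rw [map_mul] at h1
      have hu : IsUnit (algebraMap (E ⊗[A] F) (Localization.Away ε) ε) :=
        IsLocalization.Away.algebraMap_isUnit ε
      have h2 := hu.mul_left_eq_zero.mp h1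
      rw [map_sub, sub_eq_zero] at h2
      show algebraMap (E ⊗[A] F) (Localization.Away ε) (a ⊗ₜ 1) = 0
      have h3 : α a₁ = a ⊗ₜ 1 := by simp [α, ha₁']
      have h4 : β a₁ = 0 := by simp [β, hga]
      rw [← h3, ← h2, h4, map_zero]

end Groth.Agent.Lib.Helper82
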