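import Groth.Agent.Lib.Helper82.FFDescent
import Groth.Prelude.Def_ProEtW

set_option autoImplicit false
open CategoryTheory CategoryTheory.Limits TensorProduct
universe u

namespace Groth.Agent.Lib.Helper82.IndSys

lemma map_map_algebraMap {A R B : Type*} [CommRing A] [CommRing R] [CommRing B] [Algebra A R]
    [Algebra A B] (φ : R →ₐ[A] B) (m : Ideal A) :
    (m.map (algebraMap A R)).map φ = m.map (algebraMap A B) := by
  have : (m.map (algebraMap A R)).map φ.toRingHom = m.map (φ.toRingHom.comp (algebraMap A R)) :=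
    Ideal.map_map _ _
  rw [AlgHom.toRingHom_eq_coe, φ.comp_algebraMap] at this
  exact this

variable {A B : Type u} [CommRing A] [CommRing B] [Algebra A B] (d : IndSys A B)

/-- the colimit of an ind-system of faithfully flat algebras is faithfully flat (if flat). -/
theorem faithfullyFlat [Module.Flat A B] (h : ∀ j, Module.FaithfullyFlat A (d.R j)) :
    Module.FaithfullyFlat A B := by
  refine ⟨fun m hm heq => ?_⟩
  have h1 : m.map (algebraMap A B) = ⊤ := by
    rw [Ideal.smul_top_eq_map] at heq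
    have := congrArg (fun N : Submodule A B => (N : Set B)) heq
    exact SetLike.coe_injective this
  obtain ⟨j₀⟩ := IsFiltered.nonempty (C := d.J)
  have h2 : (m.map (algebraMap A (d.R j₀))).map (d.φ j₀) = ⊤ := by
    rw [map_map_algebraMap, h1]
  obtain ⟨k, t, ht⟩ := d.exists_map_eq_top _ h2
  have h3 : m.map (algebraMap A (d.R k)) = ⊤ := by
    rw [← ht, map_map_algebraMap]
  have := h k
  have h4 := Ideal.comap_map_eq_self_of_faithfullyFlat (B := d.R k) m
  rw [h3, Ideal.comap_top] at h4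
  exact hm.ne_top h4.symm

/-- if every faithfully flat étale algebra over a stage maps to the colimit, the colimit has
retractions of faithfully flat étale algebras. -/
theorem hasEtaleRetractions
    (H : ∀ (j : d.J) (S : Type u) [CommRing S] [Algebra (d.R j) S] [Algebra.Etale (d.R j) S]
      [Module.FaithfullyFlat (d.R j) S],
      ∃ ψ : S →+* B, ∀ r, ψ (algebraMap (d.R j) S r) = d.φ j r) :
    ProEtW.HasEtaleRetractions B := by
  intro S _ _ hff het
  obtain ⟨j₀, S₁, _, _, hS₁, ⟨e⟩⟩ := d.exists_etale_descent S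
  let _ : Algebra (d.R j₀) B := (d.φ j₀).toRingHom.toAlgebra
  have hff' : Module.FaithfullyFlat B (B ⊗[d.R j₀] S₁) :=
    Module.FaithfullyFlat.of_linearEquiv B S e.symm.toLinearEquiv
  obtain ⟨j₁, t, hff₁⟩ := d.exists_faithfullyFlat_descent j₀ S₁ hff'
  let _ : Algebra (d.R j₀) (d.R j₁) := (d.t t).toRingHom.toAlgebra
  obtain ⟨ψ₂, hψ₂⟩ := H j₁ (d.R j₁ ⊗[d.R j₀] S₁)
  let ψ : S₁ →ₐ[d.R j₀] B :=
    { ψ₂.comp (Algebra.TensorProduct.includeRight (R := d.R j₀) (A := d.R j₁) (B := S₁)).toRingHom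
        with
      commutes' := fun r => by
        show ψ₂ ((1 : d.R j₁) ⊗ₜ[d.R j₀] (algebraMap (d.R j₀) S₁ r)) = d.φ j₀ r
        rw [Algebra.algebraMap_eq_smul_one, ← TensorProduct.smul_tmul, ← d.φ_t t r, ← hψ₂]
        congr 1
        rw [Algebra.TensorProduct.algebraMap_apply, Algebra.smul_def, mul_one]
        rfl }
  let ρ : B ⊗[d.R j₀] S₁ →ₐ[B] B :=
    Algebra.TensorProduct.lift (AlgHom.id B B) ψ (fun _ _ => Commute.all _ _)
  exact ⟨ρ.comp e.toAlgHom⟩

end Groth.Agent.Lib.Helper82.IndSys
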