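import Mathlib
import Groth.Agent.Lib.Helper82.ClopenRefine
import Groth.Prelude.Def_ProEtW

set_option autoImplicit false
universe u

namespace Groth.Agent.Lib.Helper82.IndZar

open PrimeSpectrum

section Idem

variable {B : Type u} [CommRing B]

theorem idem_eq_zero_of_basicOpen_eq_bot {e : B} (he : IsIdempotentElem e)
    (h : ∀ x : PrimeSpectrum B, e ∈ x.asIdeal) : e = 0 := by
  refine basicOpen_injOn_isIdempotentElem he IsIdempotentElem.zero ?_
  ext x
  simp only [basicOpen_zero]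
  constructor
  · intro hx
    exact (hx (h x)).elim
  · intro hx
    exact hx.elim

theorem exists_completeOrthogonalIdempotents_of_clopen_partition {n : ℕ}
    (V : Fin n → Set (PrimeSpectrum B)) (hV : ∀ k, IsClopen (V k))
    (hdisj : Pairwise (fun k l => Disjoint (V k) (V l))) (hcov : (⋃ k, V k) = Set.univ) :
    ∃ ε : Fin n → B, CompleteOrthogonalIdempotents ε ∧
      ∀ k, V k = (basicOpen (ε k) : Set (PrimeSpectrum B)) := by
  choose ε hε hVε using fun k => PrimeSpectrum.isClopen_iff.1 (hV k)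
  refine ⟨ε, ?_, hVε⟩
  have hortho : OrthogonalIdempotents ε := by
    refine ⟨hε, fun k l hkl => ?_⟩
    refine idem_eq_zero_of_basicOpen_eq_bot ((hε k).mul (hε l)) fun x => ?_
    by_contra hx
    have h1 : x ∈ (basicOpen (ε k * ε l) : Set (PrimeSpectrum B)) := hx
    rw [basicOpen_mul] at h1
    have hk : x ∈ V k := (hVε k) ▸ h1.1
    have hl : x ∈ V l := (hVε l) ▸ h1.2
    exact Set.disjoint_left.1 (hdisj hkl) hk hl
  refine CompleteOrthogonalIdempotents.of_prod_one_sub hortho ?_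
  have hidem : IsIdempotentElem (∏ k, (1 - ε k)) := by
    unfold IsIdempotentElem
    rw [← Finset.prod_mul_distrib]
    exact Finset.prod_congr rfl fun k _ => (hε k).one_sub.eq
  refine idem_eq_zero_of_basicOpen_eq_bot hidem fun x => ?_
  have hx : x ∈ ⋃ k, V k := hcov ▸ Set.mem_univ x
  obtain ⟨k, hk⟩ := Set.mem_iUnion.1 hx
  rw [hVε k] at hk
  have hk' : ε k ∉ x.asIdeal := hk
  have h1 : ε k * (1 - ε k) ∈ x.asIdeal := by
    rw [mul_sub, mul_one, (hε k).eq, sub_self]
    exact zero_mem _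
  have h2 : 1 - ε k ∈ x.asIdeal := (x.2.mem_or_mem h1).resolve_left hk'
  exact Ideal.prod_mem _ (Finset.mem_univ k) h2

theorem isUnit_quotient_mk_of_basicOpen_le {ε t : B}
    (h : basicOpen ε ≤ basicOpen t) :
    IsUnit (Ideal.Quotient.mk (Ideal.span {1 - ε}) t) := by
  rw [basicOpen_le_basicOpen_iff] at h
  obtain ⟨m, hm⟩ := h
  obtain ⟨c, hc⟩ := Ideal.mem_span_singleton'.1 hm
  have h1 : Ideal.Quotient.mk (Ideal.span {1 - ε}) ε = 1 := by
    rw [← map_one (Ideal.Quotient.mk (Ideal.span {1 - ε})), eq_comm, Ideal.Quotient.eq]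
    exact Ideal.mem_span_singleton_self _
  refine IsUnit.of_mul_eq_one (Ideal.Quotient.mk _ c) ?_
  rw [mul_comm, ← map_mul, hc, map_pow, h1, one_pow]

end Idem

section Glue

variable {A E B : Type u} [CommRing A] [CommRing E] [CommRing B] [Algebra A E] [Algebra A B]

/-- data for gluing local factorizations along a clopen partition. -/
structure GlueData (φ : E →ₐ[A] B) where
  n : ℕ
  ε : Fin n → B
  hε : CompleteOrthogonalIdempotents ε
  u : Fin n → E
  hu : ∀ k, IsUnit (Ideal.Quotient.mk (Ideal.span {1 - ε k}) (φ (u k)))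

namespace GlueData

variable {φ : E →ₐ[A] B} (G : GlueData φ)

/-- the product decomposition. -/
noncomputable def e : B ≃+* (∀ k : Fin G.n, B ⧸ Ideal.span {1 - G.ε k}) :=
  RingEquiv.ofBijective _ G.hε.bijective_pi

lemma e_apply (b : B) (k : Fin G.n) : G.e b k = Ideal.Quotient.mk _ b := rfl

/-- the map from the product. -/
noncomputable def ψ₀ : (Fin G.n → E) →+* B :=
  G.e.symm.toRingHom.comp (RingHom.pi fun k =>
    (Ideal.Quotient.mk (Ideal.span {1 - G.ε k})).comp (φ.toRingHom.comp (Pi.evalRingHom _ k)))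

lemma e_ψ₀ (y : Fin G.n → E) (k : Fin G.n) : G.e (G.ψ₀ y) k = Ideal.Quotient.mk _ (φ (y k)) := by
  have : G.e (G.ψ₀ y) = fun k => Ideal.Quotient.mk (Ideal.span {1 - G.ε k}) (φ (y k)) := by
    show G.e (G.e.symm _) = _
    rw [RingEquiv.apply_symm_apply]
    rfl
  rw [this]

lemma ψ₀_const (y : E) : G.ψ₀ (fun _ => y) = φ y := by
  apply G.e.injective
  funext k
  rw [e_ψ₀, e_apply]

lemma isUnit_ψ₀_u : IsUnit (G.ψ₀ G.u) := by
  have h1 : IsUnit (G.e (G.ψ₀ G.u)) := by
    rw [Pi.isUnit_iff]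
    intro k
    rw [e_ψ₀]
    exact G.hu k
  have := h1.map G.e.symm
  rwa [RingEquiv.symm_apply_apply] at this

/-- the glued algebra. -/
abbrev E' : Type u := Localization.Away G.u

/-- the glued map. -/
noncomputable def ψr : G.E' →+* B := IsLocalization.Away.lift G.u G.isUnit_ψ₀_u

lemma ψr_algebraMap (y : Fin G.n → E) : G.ψr (algebraMap _ G.E' y) = G.ψ₀ y :=
  IsLocalization.Away.lift_eq _ _ _

/-- the glued map as an algebra map. -/
noncomputable def ψ : G.E' →ₐ[A] B where
  __ := G.ψr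
  commutes' a := by
    show G.ψr (algebraMap A G.E' a) = algebraMap A B a
    rw [IsScalarTower.algebraMap_apply A (Fin G.n → E) G.E', ψr_algebraMap]
    have : algebraMap A (Fin G.n → E) a = fun _ => algebraMap A E a := rfl
    rw [this, ψ₀_const, φ.commutes]

/-- the diagonal map. -/
noncomputable def δ : E →ₐ[A] G.E' :=
  (IsScalarTower.toAlgHom A (Fin G.n → E) G.E').comp (Pi.constAlgHom A (Fin G.n) E)

lemma δ_apply (y : E) : G.δ y = algebraMap (Fin G.n → E) G.E' (fun _ => y) := rfl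

lemma ψ_comp_δ : G.ψ.comp G.δ = φ := by
  ext y
  show G.ψr (G.δ y) = φ y
  rw [δ_apply, ψr_algebraMap, ψ₀_const]

lemma δ_eq_zero {x : E} (hx : ∀ k, G.u k * x = 0) : G.δ x = 0 := by
  rw [δ_apply, IsLocalization.map_eq_zero_iff (Submonoid.powers G.u)]
  refine ⟨⟨G.u, Submonoid.mem_powers _⟩, ?_⟩
  funext k
  exact hx k

lemma mem_range_ψ {b : B} (a : Fin G.n → E)
    (h : ∀ k, Ideal.Quotient.mk (Ideal.span {1 - G.ε k}) (φ (G.u k) * b) =
      Ideal.Quotient.mk (Ideal.span {1 - G.ε k}) (φ (a k))) :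
    b ∈ G.ψ.range := by
  refine ⟨IsLocalization.mk' G.E' a (⟨G.u, Submonoid.mem_powers _⟩ : Submonoid.powers G.u), ?_⟩
  show G.ψr _ = b
  have h1 : G.ψr (IsLocalization.mk' G.E' a
      (⟨G.u, Submonoid.mem_powers _⟩ : Submonoid.powers G.u)) * G.ψ₀ G.u = G.ψ₀ a := by
    rw [← ψr_algebraMap, ← ψr_algebraMap, ← map_mul]
    congr 1
    exact IsLocalization.mk'_spec _ _ _
  have h2 : b * G.ψ₀ G.u = G.ψ₀ a := by
    apply G.e.injective
    funext k
    rw [map_mul, Pi.mul_apply, e_ψ₀, e_ψ₀, e_apply, ← h k, mul_comm, map_mul]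
  exact G.isUnit_ψ₀_u.mul_left_injective (h1.trans h2.symm)

instance [Algebra.IsLocalIso A E] : Algebra.IsLocalIso A G.E' := by
  have : Algebra.IsLocalIso A (Fin G.n → E) := Algebra.IsLocalIso.pi_of_finite A fun _ => E
  exact Algebra.IsLocalIso.trans A (Fin G.n → E) G.E'

end GlueData

end Glue

end Groth.Agent.Lib.Helper82.IndZar

namespace Groth.Agent.Lib.Helper82.IndZar

open PrimeSpectrum

section Exists

variable {A E B : Type u} [CommRing A] [CommRing E] [CommRing B] [Algebra A E] [Algebra A B]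

theorem exists_glueData (hB : ProEtW.IsWLocal (PrimeSpectrum B)) (φ : E →ₐ[A] B)
    (u : {q : PrimeSpectrum B // IsClosed ({q} : Set (PrimeSpectrum B))} → E)
    (w : {q : PrimeSpectrum B // IsClosed ({q} : Set (PrimeSpectrum B))} → B)
    (hu : ∀ q, φ (u q) ∉ q.1.asIdeal) (hw : ∀ q, w q ∉ q.1.asIdeal) :
    ∃ (G : GlueData φ)
      (q : Fin G.n → {q : PrimeSpectrum B // IsClosed ({q} : Set (PrimeSpectrum B))}),
      (∀ k, G.u k = u (q k)) ∧
        ∀ k, IsUnit (Ideal.Quotient.mk (Ideal.span {1 - G.ε k}) (w (q k))) := by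
  obtain ⟨hsp, h0, huniq⟩ := hB
  let U : {q : PrimeSpectrum B // IsClosed ({q} : Set (PrimeSpectrum B))} → Set (PrimeSpectrum B) :=
    fun q => basicOpen (φ (u q) * w q)
  have hcov : (⋃ q, U q) = Set.univ := by
    rw [Set.eq_univ_iff_forall]
    intro y
    refine Set.mem_iUnion.2 ⟨closedSpec huniq y, ?_⟩
    have h1 : ((closedSpec huniq y : PrimeSpectrum B)) ∈ U (closedSpec huniq y) := by
      show _ ∉ _
      intro hmem
      rcases (closedSpec huniq y).1.2.mem_or_mem hmem with h | h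
      · exact hu _ h
      · exact hw _ h
    exact (specializes_closedSpec huniq y).mem_open (basicOpen _).2 h1
  obtain ⟨n, V, hV, hdisj, hVcov, hVU⟩ := exists_clopen_refinement_of_bijective
    (bijective_closedPts_connectedComponents h0 huniq) _ U (fun q => (basicOpen _).2) hcov
  choose q hq using hVU
  obtain ⟨ε, hε, hVε⟩ := exists_completeOrthogonalIdempotents_of_clopen_partition V hV hdisj hVcov
  have hle : ∀ k, basicOpen (ε k) ≤ basicOpen (φ (u (q k)) * w (q k)) := by
    intro k x hx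
    apply hq k
    rw [hVε k]
    exact hx
  refine ⟨⟨n, ε, hε, fun k => u (q k), fun k => ?_⟩, q, fun k => rfl, fun k => ?_⟩
  · refine isUnit_quotient_mk_of_basicOpen_le ((hle k).trans ?_)
    rw [basicOpen_mul]
    exact inf_le_left
  · refine isUnit_quotient_mk_of_basicOpen_le ((hle k).trans ?_)
    rw [basicOpen_mul]
    exact inf_le_right

end Exists

end Groth.Agent.Lib.Helper82.IndZar
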