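import Groth.Agent.Lib.Helper82.IndZarQuot
import Groth.Agent.Lib.Helper82.WLocalTop

set_option autoImplicit false
universe u

namespace Groth.Agent.Lib.Helper82.IndZar

open CategoryTheory Limits PrimeSpectrum

section Idem

variable (A : Type u) [CommRing A] (Z : Set (PrimeSpectrum A))

/-- idempotents equal to one on `Z`. -/
def IdemIdx : Type u := {e : A // IsIdempotentElem e ∧ Z ⊆ PrimeSpectrum.basicOpen e}

/-- the ideal attached to an idempotent. -/
def idemIdeal (e : IdemIdx A Z) : Ideal A := Ideal.span {1 - e.1}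

instance : Preorder (IdemIdx A Z) := Preorder.lift (idemIdeal A Z)

instance : Nonempty (IdemIdx A Z) := ⟨⟨1, IsIdempotentElem.one, by simp⟩⟩

lemma idemIdeal_mono : Monotone (idemIdeal A Z) := fun _ _ h => h

instance : IsDirected (IdemIdx A Z) (· ≤ ·) := by
  refine ⟨fun e₁ e₂ => ⟨⟨e₁.1 * e₂.1, e₁.2.1.mul e₂.2.1, ?_⟩, ?_, ?_⟩⟩
  · rw [PrimeSpectrum.basicOpen_mul]
    exact fun x hx => ⟨e₁.2.2 hx, e₂.2.2 hx⟩
  · show Ideal.span {1 - e₁.1} ≤ Ideal.span {1 - e₁.1 * e₂.1}
    rw [Ideal.span_singleton_le_span_singleton]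
    refine ⟨1 - e₁.1, ?_⟩
    have h := e₁.2.1.eq
    linear_combination (-e₂.1) * h
  · show Ideal.span {1 - e₂.1} ≤ Ideal.span {1 - e₁.1 * e₂.1}
    rw [Ideal.span_singleton_le_span_singleton]
    refine ⟨1 - e₂.1, ?_⟩
    have h := e₂.2.1.eq
    linear_combination (-e₁.1) * h

theorem isIndZariski_quotient_idem :
    EtPBC.IsIndZariski A (A ⧸ ⨆ e : IdemIdx A Z, idemIdeal A Z e) := by
  refine isIndZariski_quotient_iSup (idemIdeal A Z) (idemIdeal_mono A Z) fun e => ?_
  have : IsLocalization.Away e.1 (A ⧸ idemIdeal A Z e) :=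
    IsLocalization.Away.quotient_of_isIdempotentElem e.2.1
  have : Algebra.IsStandardOpenImmersion A (A ⧸ idemIdeal A Z e) := ⟨e.1, this⟩
  infer_instance

theorem zeroLocus_iSup_idemIdeal
    (T : Set (_root_.ConnectedComponents (PrimeSpectrum A))) (hT : IsClosed T)
    (hZ : Z = ConnectedComponents.mk ⁻¹' T) :
    PrimeSpectrum.zeroLocus ((⨆ e : IdemIdx A Z, idemIdeal A Z e : Ideal A) : Set A) = Z := by
  have := t2Space_connectedComponents (X := PrimeSpectrum A)
  rw [PrimeSpectrum.zeroLocus_iSup]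
  apply subset_antisymm
  · intro x hx
    by_contra hxZ
    have hxT : ConnectedComponents.mk x ∈ Tᶜ := by
      intro h
      exact hxZ (hZ ▸ h)
    obtain ⟨V, hV, hxV, hVT⟩ := compact_exists_isClopen_in_isOpen hT.isOpen_compl hxT
    have hV' : IsClopen (ConnectedComponents.mk ⁻¹' Vᶜ : Set (PrimeSpectrum A)) :=
      hV.compl.preimage ConnectedComponents.continuous_coe
    obtain ⟨e, he, hVe⟩ := PrimeSpectrum.isClopen_iff.1 hV'
    have hZe : Z ⊆ PrimeSpectrum.basicOpen e := by
      rw [← hVe, hZ]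
      intro y hy hyV
      exact hVT hyV hy
    have h1 := Set.mem_iInter.1 hx ⟨e, he, hZe⟩
    have h2 : x ∈ (PrimeSpectrum.basicOpen e : Set (PrimeSpectrum A)) := by
      rw [PrimeSpectrum.basicOpen_eq_zeroLocus_of_isIdempotentElem e he, ← zeroLocus_span]
      exact h1
    rw [← hVe] at h2
    exact h2 hxV
  · intro x hx
    rw [Set.mem_iInter]
    intro e
    show x ∈ zeroLocus ((Ideal.span {1 - e.1} : Ideal A) : Set A)
    rw [zeroLocus_span, ← PrimeSpectrum.basicOpen_eq_zeroLocus_of_isIdempotentElem e.1 e.2.1]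
    exact e.2.2 hx

end Idem

theorem exists_indZariski_surjective_onto_preimage (A : Type u) [CommRing A]
    (T : Set (_root_.ConnectedComponents (PrimeSpectrum A))) (hT : IsClosed T) :
    ∃ (B : Type u) (_ : CommRing B) (_ : Algebra A B),
      EtPBC.IsIndZariski A B ∧ Function.Surjective (algebraMap A B) ∧
      Topology.IsEmbedding (PrimeSpectrum.comap (algebraMap A B)) ∧
      Set.range (PrimeSpectrum.comap (algebraMap A B)) = ConnectedComponents.mk ⁻¹' T := by
  let Z : Set (PrimeSpectrum A) := ConnectedComponents.mk ⁻¹' T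
  refine ⟨A ⧸ ⨆ e : IdemIdx A Z, idemIdeal A Z e, inferInstance, inferInstance,
    isIndZariski_quotient_idem A Z, Ideal.Quotient.mk_surjective, ?_, ?_⟩
  · exact (PrimeSpectrum.isClosedEmbedding_comap_of_surjective _ _
      Ideal.Quotient.mk_surjective).isEmbedding
  · rw [range_comap_of_surjective _ (algebraMap A (A ⧸ ⨆ e : IdemIdx A Z, idemIdeal A Z e))
      Ideal.Quotient.mk_surjective]
    have : RingHom.ker (algebraMap A (A ⧸ ⨆ e : IdemIdx A Z, idemIdeal A Z e)) =
        ⨆ e : IdemIdx A Z, idemIdeal A Z e := Ideal.mk_ker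
    rw [this]
    exact zeroLocus_iSup_idemIdeal A Z T hT rfl

end Groth.Agent.Lib.Helper82.IndZar
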