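import Mathlib
import Groth.Prelude.Def_PBC

set_option autoImplicit false
universe u

namespace Groth.Agent.Lib.Helper82.IndZar

open CategoryTheory Limits

section Quotient

variable {A : Type u} [CommRing A] {J : Type u} [Preorder J] [IsDirected J (· ≤ ·)] [Nonempty J]
  (I : J → Ideal A) (hI : Monotone I)

/-- the diagram of quotients. -/
noncomputable def quotDiag : J ⥤ Under (CommRingCat.of A) where
  obj j := CommRingCat.mkUnder (CommRingCat.of A) (A ⧸ I j)
  map {j k} g := (Ideal.Quotient.factorₐ A (hI (leOfHom g))).toUnder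
  map_id j := by
    apply CommRingCat.mkUnder_ext
    intro a
    obtain ⟨a, rfl⟩ := Ideal.Quotient.mk_surjective a
    rfl
  map_comp {j k l} g h := by
    apply CommRingCat.mkUnder_ext
    intro a
    obtain ⟨a, rfl⟩ := Ideal.Quotient.mk_surjective a
    rfl

/-- the cocone of quotients. -/
noncomputable def quotCocone : Cocone (quotDiag I hI) where
  pt := CommRingCat.mkUnder (CommRingCat.of A) (A ⧸ ⨆ j, I j)
  ι :=
    { app := fun j => (Ideal.Quotient.factorₐ A (le_iSup I j)).toUnder
      naturality := fun j k g => by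
        apply CommRingCat.mkUnder_ext
        intro a
        obtain ⟨a, rfl⟩ := Ideal.Quotient.mk_surjective a
        rfl }

noncomputable def isColimitQuotCocone : IsColimit (quotCocone I hI) := by
  haveI : IsFiltered J := isFiltered_of_directed_le_nonempty J
  haveI : IsConnected J := IsFiltered.isConnected _
  apply isColimitOfReflects (Under.forget (CommRingCat.of A))
  haveI : ReflectsColimitsOfShape J (forget CommRingCat.{u}) :=
    reflectsColimitsOfShape_of_reflectsIsomorphisms
  apply isColimitOfReflects (forget CommRingCat.{u})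
  apply Types.FilteredColimit.isColimitOf'
  · intro b
    obtain ⟨a, rfl⟩ : ∃ a : A, Ideal.Quotient.mk (⨆ j, I j) a = b :=
      Ideal.Quotient.mk_surjective b
    obtain ⟨j⟩ := ‹Nonempty J›
    exact ⟨j, Ideal.Quotient.mk (I j) a, rfl⟩
  · intro j x' y' hxy
    obtain ⟨x, rfl⟩ : ∃ x : A, Ideal.Quotient.mk (I j) x = x' := Ideal.Quotient.mk_surjective x'
    obtain ⟨y, rfl⟩ : ∃ y : A, Ideal.Quotient.mk (I j) y = y' := Ideal.Quotient.mk_surjective y'
    have hxy' : Ideal.Quotient.mk (⨆ j, I j) x = Ideal.Quotient.mk (⨆ j, I j) y := hxy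
    rw [Ideal.Quotient.eq, Submodule.mem_iSup_of_directed _ hI.directed_le] at hxy'
    obtain ⟨k, hk⟩ := hxy'
    obtain ⟨l, hjl, hkl⟩ := exists_ge_ge j k
    refine ⟨l, homOfLE hjl, ?_⟩
    show Ideal.Quotient.mk (I l) x = Ideal.Quotient.mk (I l) y
    rw [Ideal.Quotient.eq]
    exact hI hkl hk

include hI in
theorem isIndZariski_quotient_iSup (h : ∀ j, Algebra.IsLocalIso A (A ⧸ I j)) :
    EtPBC.IsIndZariski A (A ⧸ ⨆ j, I j) := by
  refine ⟨J, inferInstance, isFiltered_of_directed_le_nonempty J, quotDiag I hI, quotCocone I hI,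
    isColimitQuotCocone I hI, ?_, ⟨Iso.refl _⟩⟩
  intro j
  have : (algebraMap A (A ⧸ I j)).toAlgebra = (inferInstance : Algebra A (A ⧸ I j)) :=
    Algebra.algebra_ext _ _ (fun r => rfl)
  show @Algebra.IsLocalIso A (A ⧸ I j) _ _ (algebraMap A (A ⧸ I j)).toAlgebra
  rw [this]
  exact h j

end Quotient

end Groth.Agent.Lib.Helper82.IndZar
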