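import Groth.Prelude.Def_ProEtS

set_option autoImplicit false
open CategoryTheory CategoryTheory.Limits AlgebraicGeometry Opposite
universe u
open ProEtS

namespace Groth.Agent.Lib.Helper82

set_option backward.isDefEq.respectTransparency.types false in
theorem proEt_topology_eq_restrictedTopology (X : Scheme.{u}) :
    Scheme.ProEt.topology X =
      (Scheme.ProEt.forget X).restrictedTopology (Scheme.proetaleTopology.over X) :=
  MorphismProperty.toGrothendieck_comap_forget_eq_restrictedTopology (P := @WeaklyEtale.{u}) (S := X)
    Scheme.proetalePrecoverage.{u}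
    Scheme.proetalePrecoverage_le_precoverage_weaklyEtale

set_option backward.isDefEq.respectTransparency.types false in
theorem mem_proEt_topology_iff {X : Scheme.{u}} {U : X.ProEt} (R : Sieve U) :
    R ∈ Scheme.ProEt.topology X U ↔
      R.functorPushforward (Scheme.ProEt.forget X) ∈
        Scheme.proetaleTopology.over X ((Scheme.ProEt.forget X).obj U) := by
  rw [proEt_topology_eq_restrictedTopology]
  exact Functor.mem_restrictedTopology_iff

set_option backward.isDefEq.respectTransparency.types false in
theorem mem_smallEtaleTopology_iff {X : Scheme.{u}} {U : X.Etale} (R : Sieve U) :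
    R ∈ X.smallEtaleTopology U ↔
      R.functorPushforward (MorphismProperty.Over.forget @Etale.{u} ⊤ X) ∈
        (X.overGrothendieckTopology @Etale.{u}) ((MorphismProperty.Over.forget @Etale.{u} ⊤ X).obj U) :=
  Functor.mem_restrictedTopology_iff (G := MorphismProperty.Over.forget @Etale.{u} ⊤ X)
    (K := X.overGrothendieckTopology @Etale.{u})

set_option backward.isDefEq.respectTransparency.types false in
theorem coverPreserving_eps (X : Scheme.{u}) :
    CoverPreserving X.smallEtaleTopology (Scheme.ProEt.topology X) (eps X) := by
  constructor
  intro U R hR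
  rw [mem_proEt_topology_iff]
  rw [mem_smallEtaleTopology_iff] at hR
  rw [← Sieve.functorPushforward_comp]
  rw [GrothendieckTopology.mem_over_iff] at hR ⊢
  exact Scheme.etaleTopology_le_proetaleTopology _ hR

set_option backward.isDefEq.respectTransparency.types false in
noncomputable instance preservesFiniteLimits_eps (X : Scheme.{u}) :
    PreservesFiniteLimits (eps X) := by
  have h : PreservesFiniteLimits (eps X ⋙ Scheme.ProEt.forget X) :=
    inferInstanceAs (PreservesFiniteLimits (Scheme.Etale.forget X))
  exact preservesFiniteLimits_of_reflects_of_preserves (eps X) (Scheme.ProEt.forget X)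

theorem epsCont (X : Scheme.{u}) : ProEtS.EpsCont X :=
  have : RepresentablyFlat (eps X) := flat_of_preservesFiniteLimits _
  Functor.isContinuous_of_coverPreserving (compatiblePreservingOfFlat _ _) (coverPreserving_eps X)

set_option backward.isDefEq.respectTransparency.types false in
noncomputable instance preservesFiniteLimits_bcP {X Y : Scheme.{u}} (f : X ⟶ Y) :
    PreservesFiniteLimits (bcP f) := by
  have h : PreservesFiniteLimits (bcP f ⋙ Scheme.ProEt.forget X) := by
    let e : bcP f ⋙ Scheme.ProEt.forget X ≅ Scheme.ProEt.forget Y ⋙ Over.pullback f :=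
      MorphismProperty.Over.pullbackCompForgetIso (P := @WeaklyEtale.{u}) (Q := ⊤) f
    exact preservesFiniteLimits_of_natIso e.symm
  exact preservesFiniteLimits_of_reflects_of_preserves (bcP f) (Scheme.ProEt.forget X)

set_option backward.isDefEq.respectTransparency.types false in
theorem coverPreserving_bcP {X Y : Scheme.{u}} (f : X ⟶ Y) :
    CoverPreserving (Scheme.ProEt.topology Y) (Scheme.ProEt.topology X) (bcP f) := by
  constructor
  intro U R hR
  rw [mem_proEt_topology_iff] at hR ⊢
  have h := (GrothendieckTopology.coverPreserving_overPullback
    (J := Scheme.proetaleTopology.{u}) f).cover_preserve hR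
  rw [← Sieve.functorPushforward_comp] at h ⊢
  exact h

theorem pCont {X Y : Scheme.{u}} (f : X ⟶ Y) : ProEtS.PCont f :=
  have : RepresentablyFlat (bcP f) := flat_of_preservesFiniteLimits _
  Functor.isContinuous_of_coverPreserving (compatiblePreservingOfFlat _ _) (coverPreserving_bcP f)

end Groth.Agent.Lib.Helper82
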