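import Groth.Agent.Lib.Helper82.ProEtWC5
import Groth.Agent.Lib.Helper82.ProEtSite
import Mathlib.CategoryTheory.Functor.KanExtension.Adjunction
import Mathlib.CategoryTheory.Functor.Flat

set_option autoImplicit false
open CategoryTheory CategoryTheory.Limits AlgebraicGeometry Opposite
universe u
open ProEtS

namespace Groth.Agent.Lib.Helper82.LanWC

variable {X Y : Scheme.{u}} (f : X ⟶ Y) (F : Y.ProEtᵒᵖ ⥤ Type (u + 1))

instance : RepresentablyFlat (bcP f) := flat_of_preservesFiniteLimits _

example : (bcP f).op.HasPointwiseLeftKanExtension F := inferInstance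

/-- the left Kan extension presheaf -/
noncomputable abbrev G : X.ProEtᵒᵖ ⥤ Type (u + 1) := (bcP f).op.lan.obj F

/-- canonical elements of the Kan extension -/
noncomputable def mkElt {W : X.ProEt} (V : Y.ProEt) (a : W ⟶ (bcP f).obj V) (x : F.obj (op V)) :
    (G f F).obj (op W) :=
  (G f F).map a.op ((((bcP f).op.lanUnit.app F).app (op V)) x)

theorem map_mkElt {W W' : X.ProEt} (g : W' ⟶ W) (V : Y.ProEt) (a : W ⟶ (bcP f).obj V)
    (x : F.obj (op V)) : (G f F).map g.op (mkElt f F V a x) = mkElt f F V (g ≫ a) x := by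
  unfold mkElt
  rw [op_comp, Functor.map_comp]
  rfl

theorem mkElt_comp {W : X.ProEt} {V V' : Y.ProEt} (a : W ⟶ (bcP f).obj V') (p : V' ⟶ V)
    (x : F.obj (op V)) :
    mkElt f F V (a ≫ (bcP f).map p) x = mkElt f F V' a (F.map p.op x) := by
  unfold mkElt
  rw [op_comp, Functor.map_comp]
  have h := ((bcP f).op.lanUnit.app F).naturality p.op
  have h2 := ConcreteCategory.congr_hom h x
  simp only [ConcreteCategory.comp_apply] at h2 ⊢
  exact congrArg _ h2.symm

theorem mkElt_eq_inv {W : X.ProEt} (c : CostructuredArrow (bcP f).op (op W))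
    (x : F.obj c.left) :
    ((bcP f).op.leftKanExtensionObjIsoColimit F (op W)).inv
      (colimit.ι (CostructuredArrow.proj (bcP f).op (op W) ⋙ F) c x) =
      mkElt f F c.left.unop c.hom.unop x :=
  ConcreteCategory.congr_hom ((bcP f).op.ι_leftKanExtensionObjIsoColimit_inv F (op W) c) x

theorem mkElt_surjective {W : X.ProEt} (s : (G f F).obj (op W)) :
    ∃ (V : Y.ProEt) (a : W ⟶ (bcP f).obj V) (x : F.obj (op V)), mkElt f F V a x = s := by
  obtain ⟨c, x, hx⟩ := Types.jointly_surjective'
    (((bcP f).op.leftKanExtensionObjIsoColimit F (op W)).hom s)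
  refine ⟨c.left.unop, c.hom.unop, x, ?_⟩
  refine (mkElt_eq_inv f F c x).symm.trans ?_
  refine (congrArg _ hx).trans ?_
  exact ConcreteCategory.congr_hom ((bcP f).op.leftKanExtensionObjIsoColimit F (op W)).hom_inv_id s

theorem exists_of_mkElt_eq {W : X.ProEt} {V V' : Y.ProEt} (a : W ⟶ (bcP f).obj V)
    (a' : W ⟶ (bcP f).obj V') (x : F.obj (op V)) (x' : F.obj (op V'))
    (h : mkElt f F V a x = mkElt f F V' a' x') :
    ∃ (V'' : Y.ProEt) (a'' : W ⟶ (bcP f).obj V'') (p : V'' ⟶ V) (p' : V'' ⟶ V'),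
      a'' ≫ (bcP f).map p = a ∧ a'' ≫ (bcP f).map p' = a' ∧ F.map p.op x = F.map p'.op x' := by
  let c : CostructuredArrow (bcP f).op (op W) := CostructuredArrow.mk (Y := op V) a.op
  let c' : CostructuredArrow (bcP f).op (op W) := CostructuredArrow.mk (Y := op V') a'.op
  have h1 : mkElt f F V a x = ((bcP f).op.leftKanExtensionObjIsoColimit F (op W)).inv
      (colimit.ι (CostructuredArrow.proj (bcP f).op (op W) ⋙ F) c x) := (mkElt_eq_inv f F c x).symm
  have h2 : mkElt f F V' a' x' = ((bcP f).op.leftKanExtensionObjIsoColimit F (op W)).inv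
      (colimit.ι (CostructuredArrow.proj (bcP f).op (op W) ⋙ F) c' x') :=
    (mkElt_eq_inv f F c' x').symm
  rw [h1, h2] at h
  have hinj : Function.Injective ((bcP f).op.leftKanExtensionObjIsoColimit F (op W)).inv := by
    intro y y' hy
    have := congrArg ((bcP f).op.leftKanExtensionObjIsoColimit F (op W)).hom hy
    simpa using this
  have h3 := hinj h
  obtain ⟨c'', u, u', huu⟩ := (Types.FilteredColimit.colimit_eq_iff
    (F := CostructuredArrow.proj (bcP f).op (op W) ⋙ F) (i := c) (j := c') (xi := x) (xj := x')).mp h3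
  refine ⟨c''.left.unop, c''.hom.unop, u.left.unop, u'.left.unop, ?_, ?_, huu⟩
  · have := CostructuredArrow.w u
    exact congrArg Quiver.Hom.unop this
  · have := CostructuredArrow.w u'
    exact congrArg Quiver.Hom.unop this

section Coprod

variable {Y : Scheme.{u}} {n : ℕ} (V : Fin n → Y.ProEt)

instance : WeaklyEtale (Sigma.desc (fun k => (V k).hom)) :=
  IsZariskiLocalAtSource.sigmaDesc (fun k => (V k).prop)

/-- finite coproduct in the pro-etale site -/
noncomputable def coprodObj : Y.ProEt := Scheme.ProEt.mk (Sigma.desc (fun k => (V k).hom))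

set_option backward.isDefEq.respectTransparency.types false in
noncomputable def inj (k : Fin n) : V k ⟶ coprodObj V :=
  MorphismProperty.Over.homMk (Sigma.ι (fun k => (V k).left) k) (by
    show Sigma.ι (fun k => (V k).left) k ≫ Sigma.desc (fun k => (V k).hom) = (V k).hom
    exact Sigma.ι_desc _ _)

set_option backward.isDefEq.respectTransparency.types false in
noncomputable def desc {T : Y.ProEt} (p : ∀ k, V k ⟶ T) : coprodObj V ⟶ T :=
  MorphismProperty.Over.homMk (Sigma.desc (fun k => (p k).left)) (by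
    show Sigma.desc (fun k => (p k).left) ≫ T.hom = Sigma.desc (fun k => (V k).hom)
    apply Sigma.hom_ext
    intro k
    rw [Sigma.ι_desc_assoc, Sigma.ι_desc]
    exact MorphismProperty.Over.w (p k))

set_option backward.isDefEq.respectTransparency.types false in
theorem inj_desc {T : Y.ProEt} (p : ∀ k, V k ⟶ T) (k : Fin n) : inj V k ≫ desc V p = p k := by
  apply MorphismProperty.Over.Hom.ext
  exact Sigma.ι_desc _ _

set_option backward.isDefEq.respectTransparency.types false in
instance (k : Fin n) : IsOpenImmersion (inj V k).left := by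
  show IsOpenImmersion (Sigma.ι (fun k => (V k).left) k)
  infer_instance

set_option backward.isDefEq.respectTransparency.types false in
theorem inj_disjoint : Pairwise (fun k l =>
    Disjoint (Set.range (inj V k).left) (Set.range (inj V l).left)) := by
  intro k l hkl
  show Disjoint (Set.range (Sigma.ι (fun k => (V k).left) k))
    (Set.range (Sigma.ι (fun k => (V k).left) l))
  have hd := disjoint_opensRange_sigmaι (fun k => (V k).left) k l hkl
  rw [Set.disjoint_left]
  intro y hk hl
  have hy : y ∈ ((Sigma.ι (fun k => (V k).left) k).opensRange ⊓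
      (Sigma.ι (fun k => (V k).left) l).opensRange : (∐ fun k => (V k).left).Opens) := ⟨hk, hl⟩
  rw [disjoint_iff.mp hd] at hy
  exact hy

set_option backward.isDefEq.respectTransparency.types false in
theorem inj_cover (y : (coprodObj V).left) : ∃ k, y ∈ Set.range (inj V k).left := by
  obtain ⟨k, x, hx⟩ := (sigmaOpenCover (fun k => (V k).left)).exists_eq y
  exact ⟨k, x, hx⟩

/-- sections of a sheaf over a finite coproduct: existence -/
theorem exists_section_coprod (F : Sheaf (Scheme.ProEt.topology Y) (Type (u + 1)))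
    (x : ∀ k, F.obj.obj (op (V k))) :
    ∃ s : F.obj.obj (op (coprodObj V)), ∀ k, F.obj.map (inj V k).op s = x k :=
  ProEtWC.exists_glue_sections' (coprodObj V) F V (inj V) (inj_disjoint V) (inj_cover V) x

/-- sections of a sheaf over a finite coproduct: uniqueness -/
theorem section_coprod_ext (F : Sheaf (Scheme.ProEt.topology Y) (Type (u + 1)))
    (s s' : F.obj.obj (op (coprodObj V)))
    (h : ∀ k, F.obj.map (inj V k).op s = F.obj.map (inj V k).op s') : s = s' := by
  have hF := (isSheaf_iff_isSheaf_of_type _ _).mp F.property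
  have hsep := (hF.isSheafFor _ (ProEtWC.ofArrows_mem_topology_of_isOpenImmersion (coprodObj V) V
    (inj V) (inj_cover V))).isSeparatedFor
  apply hsep.ext
  rintro Z g ⟨k⟩
  exact h k

end Coprod

set_option backward.isDefEq.respectTransparency.types false in
theorem existsUnique_lan {X Y : Scheme.{u}} (f : X ⟶ Y)
    (F : Sheaf (Scheme.ProEt.topology Y) (Type (u + 1))) (W : X.ProEt) {n : ℕ}
    (P : Fin n → W.left.Opens)
    (hdisj : Pairwise (fun k l => Disjoint (P k : Set ↥W.left) (P l)))
    (hcov : (⋃ k, (P k : Set ↥W.left)) = Set.univ)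
    (t : ∀ k, (G f F.obj).obj (op (Scheme.ProEt.mk ((P k).ι ≫ W.hom)))) :
    ∃! s : (G f F.obj).obj (op W), ∀ k, (G f F.obj).map (MorphismProperty.Over.homMk (P k).ι :
        Scheme.ProEt.mk ((P k).ι ≫ W.hom) ⟶ W).op s = t k := by
  obtain ⟨hc⟩ := ProEtWC.nonempty_isColimit_cofan W P hdisj hcov
  choose V a x hx using fun k => mkElt_surjective f F.obj (t k)
  obtain ⟨xx, hxx⟩ := exists_section_coprod V F x
  let aa : W ⟶ (bcP f).obj (coprodObj V) :=
    Cofan.IsColimit.desc hc (fun k => a k ≫ (bcP f).map (inj V k))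
  have haa : ∀ k, (MorphismProperty.Over.homMk (P k).ι :
      Scheme.ProEt.mk ((P k).ι ≫ W.hom) ⟶ W) ≫ aa = a k ≫ (bcP f).map (inj V k) :=
    fun k => Cofan.IsColimit.fac hc _ k
  have hex : ∀ k, (G f F.obj).map (MorphismProperty.Over.homMk (P k).ι :
      Scheme.ProEt.mk ((P k).ι ≫ W.hom) ⟶ W).op (mkElt f F.obj (coprodObj V) aa xx) = t k := by
    intro k
    refine (map_mkElt f F.obj _ _ aa xx).trans ?_
    refine (congrArg (fun z => mkElt f F.obj (coprodObj V) z xx) (haa k)).trans ?_
    refine (mkElt_comp f F.obj (a k) (inj V k) xx).trans ?_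
    exact (congrArg (mkElt f F.obj (V k) (a k)) (hxx k)).trans (hx k)
  refine ⟨mkElt f F.obj (coprodObj V) aa xx, hex, ?_⟩
  intro s' hs'
  obtain ⟨V', a', x', rfl⟩ := mkElt_surjective f F.obj s'
  have hk : ∀ k, mkElt f F.obj V' ((MorphismProperty.Over.homMk (P k).ι :
      Scheme.ProEt.mk ((P k).ι ≫ W.hom) ⟶ W) ≫ a') x' =
      mkElt f F.obj (coprodObj V) ((MorphismProperty.Over.homMk (P k).ι :
      Scheme.ProEt.mk ((P k).ι ≫ W.hom) ⟶ W) ≫ aa) xx := by
    intro k
    exact (map_mkElt f F.obj _ V' a' x').symm.trans ((hs' k).trans ((hex k).symm.trans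
      (map_mkElt f F.obj _ _ aa xx)))
  choose V'' a'' p p' h1 h2 h3 using fun k => exists_of_mkElt_eq f F.obj _ _ _ _ (hk k)
  let a3 : W ⟶ (bcP f).obj (coprodObj V'') :=
    Cofan.IsColimit.desc hc (fun k => a'' k ≫ (bcP f).map (inj V'' k))
  have ha3 : ∀ k, (MorphismProperty.Over.homMk (P k).ι :
      Scheme.ProEt.mk ((P k).ι ≫ W.hom) ⟶ W) ≫ a3 = a'' k ≫ (bcP f).map (inj V'' k) :=
    fun k => Cofan.IsColimit.fac hc _ k
  have e1 : a3 ≫ (bcP f).map (desc V'' p) = a' := by
    refine Cofan.IsColimit.hom_ext hc _ _ (fun k => ?_)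
    show (MorphismProperty.Over.homMk (P k).ι :
      Scheme.ProEt.mk ((P k).ι ≫ W.hom) ⟶ W) ≫ a3 ≫ (bcP f).map (desc V'' p) = _ ≫ a'
    refine (Category.assoc _ _ _).symm.trans ?_
    refine (congrArg (· ≫ (bcP f).map (desc V'' p)) (ha3 k)).trans ?_
    refine (Category.assoc _ _ _).trans ?_
    refine (congrArg (a'' k ≫ ·) ((bcP f).map_comp _ _).symm).trans ?_
    refine (congrArg (fun z => a'' k ≫ (bcP f).map z) (inj_desc V'' p k)).trans ?_
    exact h1 k
  have e2 : a3 ≫ (bcP f).map (desc V'' p') = aa := by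
    refine Cofan.IsColimit.hom_ext hc _ _ (fun k => ?_)
    show (MorphismProperty.Over.homMk (P k).ι :
      Scheme.ProEt.mk ((P k).ι ≫ W.hom) ⟶ W) ≫ a3 ≫ (bcP f).map (desc V'' p') = _ ≫ aa
    refine (Category.assoc _ _ _).symm.trans ?_
    refine (congrArg (· ≫ (bcP f).map (desc V'' p')) (ha3 k)).trans ?_
    refine (Category.assoc _ _ _).trans ?_
    refine (congrArg (a'' k ≫ ·) ((bcP f).map_comp _ _).symm).trans ?_
    refine (congrArg (fun z => a'' k ≫ (bcP f).map z) (inj_desc V'' p' k)).trans ?_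
    exact h2 k
  have e3 : F.obj.map (desc V'' p).op x' = F.obj.map (desc V'' p').op xx := by
    apply section_coprod_ext V'' F
    intro k
    rw [← FunctorToTypes.map_comp_apply, ← FunctorToTypes.map_comp_apply, ← op_comp, ← op_comp,
      inj_desc, inj_desc]
    exact h3 k
  calc mkElt f F.obj V' a' x' = mkElt f F.obj V' (a3 ≫ (bcP f).map (desc V'' p)) x' := by rw [e1]
    _ = mkElt f F.obj (coprodObj V'') a3 (F.obj.map (desc V'' p).op x') := mkElt_comp f F.obj _ _ _
    _ = mkElt f F.obj (coprodObj V'') a3 (F.obj.map (desc V'' p').op xx) := by rw [e3]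
    _ = mkElt f F.obj (coprodObj V) (a3 ≫ (bcP f).map (desc V'' p')) xx :=
      (mkElt_comp f F.obj _ _ _).symm
    _ = mkElt f F.obj (coprodObj V) aa xx := by rw [e2]

set_option backward.isDefEq.respectTransparency.types false in
theorem sheafify_bijective' {X : Scheme.{u}} (F : X.ProEtᵒᵖ ⥤ Type (u + 1))
    (W : X.ProEt) [IsAffine W.left] (hW : ProEtS.IsWC W)
    (H : ∀ {n : ℕ} (P : Fin n → W.left.Opens),
      Pairwise (fun k l => Disjoint (P k : Set ↥W.left) (P l)) →
      (⋃ k, (P k : Set ↥W.left)) = Set.univ →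
      ∀ (t : ∀ k, F.obj (op (Scheme.ProEt.mk ((P k).ι ≫ W.hom)))),
      ∃! a : F.obj (op W), ∀ k, F.map (MorphismProperty.Over.homMk (P k).ι :
        Scheme.ProEt.mk ((P k).ι ≫ W.hom) ⟶ W).op a = t k) :
    Function.Bijective ((toSheafify (Scheme.ProEt.topology X) F).app (op W)) := by
  have hA := ProEtWC.wContractible_of_isWC W hW
  constructor
  · intro a b hab
    have hmem : Presheaf.equalizerSieve (F := F) (X := op W) a b ∈ Scheme.ProEt.topology X W :=
      Presheaf.equalizerSieve_mem (Scheme.ProEt.topology X)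
        (toSheafify (Scheme.ProEt.topology X) F) (X := op W) a b hab
    obtain ⟨n, P, -, hdisj, hcov, hP⟩ := ProEtWC.exists_clopen_of_wContractible W hA _ hmem
    have hP' : ∀ k, F.map (MorphismProperty.Over.homMk (P k).ι :
        Scheme.ProEt.mk ((P k).ι ≫ W.hom) ⟶ W).op a = F.map (MorphismProperty.Over.homMk (P k).ι :
        Scheme.ProEt.mk ((P k).ι ≫ W.hom) ⟶ W).op b := hP
    obtain ⟨c, hc, hu⟩ := H P hdisj hcov
      (fun k => F.map (MorphismProperty.Over.homMk (P k).ι :
        Scheme.ProEt.mk ((P k).ι ≫ W.hom) ⟶ W).op a)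
    exact (hu a (fun _ => rfl)).trans (hu b (fun k => (hP' k).symm)).symm
  · intro s
    have hmem : Presheaf.imageSieve (toSheafify (Scheme.ProEt.topology X) F) s ∈
        Scheme.ProEt.topology X W :=
      Presheaf.imageSieve_mem _ (toSheafify (Scheme.ProEt.topology X) F) s
    obtain ⟨n, P, -, hdisj, hcov, hP⟩ := ProEtWC.exists_clopen_of_wContractible W hA _ hmem
    have hP' : ∀ k, ∃ t : F.obj (op (Scheme.ProEt.mk ((P k).ι ≫ W.hom))),
        (toSheafify (Scheme.ProEt.topology X) F).app _ t =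
          (sheafify (Scheme.ProEt.topology X) F).map (MorphismProperty.Over.homMk (P k).ι :
            Scheme.ProEt.mk ((P k).ι ≫ W.hom) ⟶ W).op s := hP
    choose t ht using hP'
    obtain ⟨a, ha, -⟩ := H P hdisj hcov t
    refine ⟨a, ?_⟩
    have hG := (isSheaf_iff_isSheaf_of_type _ _).mp
      ((presheafToSheaf (Scheme.ProEt.topology X) (Type (u+1))).obj F).property
    have h := (hG.isSheafFor _ (ProEtWC.ofArrows_opens_mem_topology W P hcov)).isSeparatedFor
    apply h.ext
    rintro Y f ⟨k⟩
    refine Eq.trans ?_ (ht k)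
    refine Eq.trans ?_ (congrArg _ (ha k))
    exact (NatTrans.naturality_apply (toSheafify (Scheme.ProEt.topology X) F) _ a).symm

theorem lan_sheafify_bijective {X Y : Scheme.{u}} (f : X ⟶ Y)
    (F : Sheaf (Scheme.ProEt.topology Y) (Type (u + 1))) (W : X.ProEt) [IsAffine W.left]
    (hW : ProEtS.IsWC W) :
    Function.Bijective
      ((toSheafify (Scheme.ProEt.topology X) ((ProEtS.bcP f).op.lan.obj F.obj)).app (op W)) :=
  sheafify_bijective' (G f F.obj) W hW
    (fun P hdisj hcov t => existsUnique_lan f F W P hdisj hcov t)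

end Groth.Agent.Lib.Helper82.LanWC
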