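import Groth.Agent.Lib.Helper82.ProEtWC1
import Mathlib.CategoryTheory.Adjunction.Triple

set_option autoImplicit false
open CategoryTheory CategoryTheory.Limits AlgebraicGeometry Opposite
universe u
open ProEtS

namespace Groth.Agent.Lib.Helper82.OpenImm

set_option backward.isDefEq.respectTransparency.types false in
noncomputable def adj0 {U X : Scheme.{u}} (j : U ⟶ X) [hj : WeaklyEtale j] : compP j ⊣ bcP j :=
  MorphismProperty.Over.mapPullbackAdj (P := @WeaklyEtale.{u}) (Q := ⊤) j hj trivial

set_option backward.isDefEq.respectTransparency.types false in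
theorem isIso_unit_adj0 {U X : Scheme.{u}} (j : U ⟶ X) [hj : WeaklyEtale j] [Mono j] (A : U.ProEt) :
    IsIso ((adj0 j).unit.app A) := by
  have h : IsIso ((Scheme.ProEt.forget U ⋙ Over.forget U).map ((adj0 j).unit.app A)) := by
    show IsIso (pullback.lift (𝟙 _) A.hom _)
    refine ⟨pullback.fst _ _, ?_, ?_⟩
    · exact pullback.lift_fst _ _ _
    · apply pullback.hom_ext
      · rw [Category.assoc, pullback.lift_fst, Category.id_comp, Category.comp_id]
      · rw [Category.assoc, pullback.lift_snd, Category.id_comp, ← cancel_mono j, Category.assoc]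
        exact pullback.condition
  exact isIso_of_reflects_iso _ (Scheme.ProEt.forget U ⋙ Over.forget U)


set_option backward.isDefEq.respectTransparency.types false in
noncomputable def adj2 {U X : Scheme.{u}} (j : U ⟶ X) [WeaklyEtale j] [JPCont j] [PCont j] :
    restrP j ⊣ pushP j :=
  (adj0 j).sheafPushforwardContinuous (E := AddCommGrpCat.{u+1}) (Scheme.ProEt.topology U)
    (Scheme.ProEt.topology X)

set_option backward.isDefEq.respectTransparency.types false in
theorem isIso_counit_adj2 {U X : Scheme.{u}} (j : U ⟶ X) [WeaklyEtale j] [Mono j] [JPCont j]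
    [PCont j] : IsIso (adj2 j).counit := by
  have : ∀ P, IsIso ((adj2 j).counit.app P) := by
    intro P
    rw [← isIso_iff_of_reflects_iso _ (sheafToPresheaf _ _)]
    have : ∀ V, IsIso (((sheafToPresheaf _ _).map ((adj2 j).counit.app P)).app V) := by
      intro V
      haveI := isIso_unit_adj0 j V.unop
      show IsIso (((adj2 j).counit.app P).hom.app V)
      rw [adj2, Adjunction.sheafPushforwardContinuous_counit_app_hom_app]
      haveI : IsIso ((adj0 j).unit.app (unop V)).op := isIso_op _
      exact Functor.map_isIso _ _
    exact NatIso.isIso_of_isIso_app _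
  exact NatIso.isIso_of_isIso_app _

set_option backward.isDefEq.respectTransparency.types false in
theorem isIso_unit_extZeroPAdj {U X : Scheme.{u}} (j : U ⟶ X) [WeaklyEtale j] [Mono j] [JPCont j]
    [PCont j] : IsIso (extZeroPAdj j).unit := by
  let t : Adjunction.Triple (extZeroP j) (restrP j) (pushP j) := ⟨extZeroPAdj j, adj2 j⟩
  have h := t.isIso_unit_iff_isIso_counit
  exact h.mpr (isIso_counit_adj2 j)

set_option backward.isDefEq.respectTransparency.types false in
theorem isIso_counit_pullPushAdjP {U X : Scheme.{u}} (j : U ⟶ X) [WeaklyEtale j] [Mono j]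
    [JPCont j] [PCont j] (G : AbP U) : IsIso ((pullPushAdjP j).counit.app G) := by
  haveI := isIso_counit_adj2 j
  rw [← Adjunction.leftAdjointUniq_hom_app_counit (pullPushAdjP j) (adj2 j) G]
  infer_instance

end Groth.Agent.Lib.Helper82.OpenImm
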