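import Groth.Agent.Lib.Helper82.IndEtaleTrans
import Groth.Agent.Lib.Helper82.IndEtaleBaseChange
import Groth.Agent.Lib.Helper82.TConstr

set_option autoImplicit false
set_option linter.style.haveILetI false
open CategoryTheory CategoryTheory.Limits TensorProduct
universe u

namespace Groth.Agent.Lib.Helper82.PERing

/-- ind-etale morphisms of commutative rings -/
def IndEt {R S : CommRingCat.{u}} (φ : R ⟶ S) : Prop :=
  letI := φ.hom.toAlgebra; EtPBC.IsIndEtale R S

theorem IndEt.of_isIso {R S : CommRingCat.{u}} (φ : R ⟶ S) [IsIso φ] : IndEt φ := by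
  letI := φ.hom.toAlgebra
  have hb : Function.Bijective (algebraMap R S) :=
    (ConcreteCategory.isIso_iff_bijective φ).mp inferInstance
  let e : R ≃ₐ[R] S := AlgEquiv.ofBijective (Algebra.ofId R S) hb
  have : Algebra.Etale R S := Algebra.Etale.of_equiv e
  exact isIndEtale_of_etale R S

theorem IndEt.comp {R S T : CommRingCat.{u}} {φ : R ⟶ S} {ψ : S ⟶ T} (hφ : IndEt φ)
    (hψ : IndEt ψ) : IndEt (φ ≫ ψ) := by
  letI := φ.hom.toAlgebra
  letI := ψ.hom.toAlgebra
  letI := (φ ≫ ψ).hom.toAlgebra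
  haveI : IsScalarTower R S T := IsScalarTower.of_algebraMap_eq (fun x => rfl)
  exact isIndEtale_trans R S T hφ hψ

theorem IndEt.pushout {R S R' S' : CommRingCat.{u}} {φ : R ⟶ S} {γ : R ⟶ R'} {γ' : S ⟶ S'}
    {φ' : R' ⟶ S'} (h : IsPushout φ γ γ' φ') (hφ : IndEt φ) : IndEt φ' := by
  letI := φ.hom.toAlgebra
  letI := γ.hom.toAlgebra
  letI := φ'.hom.toAlgebra
  have h0 := CommRingCat.isPushout_tensorProduct R R' S
  have h1 : IsPushout (CommRingCat.ofHom (algebraMap R R')) (CommRingCat.ofHom (algebraMap R S))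
      φ' γ' := h.flip
  let e := h0.isoIsPushout _ _ h1
  have he : ∀ x : R', e.hom (algebraMap R' (R' ⊗[R] S) x) = algebraMap R' S' x := by
    intro x
    have := h0.inl_isoIsPushout_hom _ _ h1
    exact congrArg (fun g => g.hom x) this
  let e' : (R' ⊗[R] S) ≃ₐ[R'] S' := AlgEquiv.ofRingEquiv (f := e.commRingCatIsoToRingEquiv) he
  exact isIndEtale_of_equiv e' (isIndEtale_baseChange R S R' hφ)

end Groth.Agent.Lib.Helper82.PERing
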