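import Groth.Agent.Lib.Helper82.PENerve
import Groth.Agent.Lib.Helper82.PERing
import Groth.Agent.Lib.Helper82.EpsGeo2

set_option autoImplicit false
set_option linter.style.haveILetI false
open CategoryTheory CategoryTheory.Limits AlgebraicGeometry Opposite
universe u
open ProEtS

namespace Groth.Agent.Lib.Helper82.PEB

open PERing PEPres PENerve

variable {X : Scheme.{u}}

/-- the basis class: affine objects, ind-etale over an affine etale object -/
def InB (T : X.ProEt) : Prop :=
  IsAffine T.left ∧ ∃ (U₀ : X.Etale) (_ : IsAffine U₀.left) (b : T ⟶ (eps X).obj U₀),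
    IndEt b.left.appTop

theorem isIso_appTop {A B : Scheme.{u}} (g : A ⟶ B) [IsIso g] : IsIso g.appTop :=
  inferInstanceAs (IsIso (Scheme.Γ.map g.op))

theorem inB_eps (U : X.Etale) [IsAffine U.left] : InB ((eps X).obj U) := by
  refine ⟨‹_›, U, ‹_›, 𝟙 _, ?_⟩
  haveI : IsIso (𝟙 U.left : U.left ⟶ U.left).appTop := isIso_appTop _
  exact IndEt.of_isIso (𝟙 U.left : U.left ⟶ U.left).appTop

section Closure

variable {W T : X.ProEt} (f : W ⟶ T)

theorem isIso_pr_zero : IsIso (pr f 0 0) := by
  have h1 : IsIso (Pi.π (cst f 0) 0) := by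
    haveI : Unique (Fin (0 + 1)) := inferInstanceAs (Unique (Fin 1))
    have h : IsIso (productUniqueIso (cst f 0)).hom := inferInstance
    rw [productUniqueIso_hom] at h
    have e0 : (0 : Fin (0 + 1)) = @default _ Unique.instInhabited := Subsingleton.elim _ _
    rw [e0]
    exact h
  exact inferInstanceAs (IsIso ((Over.forget T).map (Pi.π (cst f 0) 0)))

set_option backward.isDefEq.respectTransparency.types false in
theorem indEt_bs (hW : IsAffine W.left) (hT : IsAffine T.left) (hf : IndEt f.left.appTop) (n : ℕ) :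
    IndEt (bs f n).left.appTop := by
  induction n with
  | zero =>
    have h1 : bs f 0 = pr f 0 0 ≫ f := (pr_g f 0 0).symm
    have h2 : (bs f 0).left.appTop = f.left.appTop ≫ (pr f 0 0).left.appTop := by
      rw [h1]
      exact Scheme.Hom.comp_appTop _ _
    rw [h2]
    haveI := isIso_pr_zero f
    haveI : IsIso (pr f 0 0).left := inferInstanceAs (IsIso ((fS X).map (pr f 0 0)))
    haveI : IsIso (pr f 0 0).left.appTop := isIso_appTop _
    exact hf.comp (IndEt.of_isIso _)
  | succ n ih =>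
    have hpb := Groth.Agent.Lib.Helper28.OverProd.isPullback_succ n (cst f (n + 1))
    let q : Nv f (n + 1) ⟶ Nv f n :=
      (Pi.lift (fun k : Fin (n + 1) => Pi.π (cst f (n + 1)) k.succ) :
        (∏ᶜ (cst f (n + 1))) ⟶ ∏ᶜ (cst f n)).left
    have hpb' : IsPullback (pr f (n + 1) 0) q f (bs f n) := hpb
    have hpb'' := hpb'.map (fS X)
    haveI : IsAffine ((fS X).obj W) := hW
    haveI : IsAffine ((fS X).obj T) := hT
    haveI : IsAffine ((fS X).obj (Nv f n)) := isAffine_nv (fS X) f hW hT n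
    have hpo := isPushout_appTop_of_isPullback hpb''
    have hq : IndEt q.left.appTop := IndEt.pushout hpo hf
    have h1 : bs f (n + 1) = q ≫ bs f n := (Over.w _).symm
    have h2 : (bs f (n + 1)).left.appTop = (bs f n).left.appTop ≫ q.left.appTop := by
      rw [h1]
      exact Scheme.Hom.comp_appTop _ _
    rw [h2]
    exact ih.comp hq

set_option backward.isDefEq.respectTransparency.types false in
theorem inB_nv (hT : InB T) (hW : IsAffine W.left) (hf : IndEt f.left.appTop) (n : ℕ) :
    InB (Nv f n) := by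
  obtain ⟨hTa, U₀, hU₀, b, hb⟩ := hT
  refine ⟨isAffine_nv (fS X) f hW hTa n, U₀, hU₀, bs f n ≫ b, ?_⟩
  have h2 : (bs f n ≫ b).left.appTop = b.left.appTop ≫ (bs f n).left.appTop :=
    Scheme.Hom.comp_appTop _ _
  rw [h2]
  exact hb.comp (indEt_bs f hW hTa hf n)

end Closure

section Pres

open EpsGeo

variable (U₀ : X.Etale) [IsAffine U₀.left] {J : Type u} [SmallCategory J] [IsFiltered J]
  (D : J ⥤ Under Γ(U₀.left, ⊤)) [∀ j, Etale (p D j)]

/-- the functor of etale models -/
noncomputable def WF : Jᵒᵖ ⥤ X.Etale where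
  obj j := Wj U₀ D j
  map f := τ U₀ D f
  map_id j := by
    apply MorphismProperty.Over.Hom.ext
    exact (DS D).map_id j
  map_comp f g := by
    apply MorphismProperty.Over.Hom.ext
    exact (DS D).map_comp f g

variable {T : X.ProEt} [IsAffine T.left] (b : T ⟶ (eps X).obj U₀)
  (ι : D ⟶ (Functor.const J).obj (Under.mk b.left.appTop))
  (hc : IsColimit (Cocone.mk _ ι))

/-- the comparison with the spectrum -/
noncomputable abbrev ζ : T.left ⟶ (cS D (Cocone.mk _ ι)).pt := T.left.isoSpec.hom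

set_option backward.isDefEq.respectTransparency.types false in
omit [IsFiltered J] [∀ j, Etale (p D j)] in
theorem ζ_pInf : ζ U₀ D b ι ≫ pInf D (Cocone.mk _ ι) ≫ ψ U₀ = b.left := by
  show T.left.isoSpec.hom ≫ Spec.map b.left.appTop ≫ U₀.left.isoSpec.inv = b.left
  haveI : IsAffine ((eps X).obj U₀).left := ‹IsAffine U₀.left›
  have h : T.left.isoSpec.hom ≫ Spec.map b.left.appTop = b.left ≫ U₀.left.isoSpec.hom :=
    Scheme.isoSpec_hom_naturality b.left
  refine (Category.assoc _ _ _).symm.trans ?_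
  refine (congrArg (· ≫ U₀.left.isoSpec.inv) h).trans ?_
  refine (Category.assoc _ _ _).trans ?_
  exact (congrArg (b.left ≫ ·) (Iso.hom_inv_id _)).trans (Category.comp_id _)

set_option backward.isDefEq.respectTransparency.types false in
/-- cone maps -/
noncomputable def πZ (j : Jᵒᵖ) : T ⟶ (eps X).obj (Wj U₀ D j) :=
  MorphismProperty.Over.homMk (ζ U₀ D b ι ≫ (cS D (Cocone.mk _ ι)).π.app j) (by
    show (ζ U₀ D b ι ≫ (cS D (Cocone.mk _ ι)).π.app j) ≫ (p D j ≫ ψ U₀) ≫ U₀.hom = T.hom
    have h1 := π_p D (Cocone.mk _ ι) j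
    have h2 := ζ_pInf U₀ D b ι
    have h3 : b.left ≫ U₀.hom = T.hom := MorphismProperty.Over.w b
    have e1 : (ζ U₀ D b ι ≫ (cS D (Cocone.mk _ ι)).π.app j) ≫ (p D j ≫ ψ U₀) ≫ U₀.hom =
        (ζ U₀ D b ι ≫ ((cS D (Cocone.mk _ ι)).π.app j ≫ p D j) ≫ ψ U₀) ≫ U₀.hom := by
      simp only [Category.assoc]
    refine e1.trans ?_
    refine (congrArg (fun z => (ζ U₀ D b ι ≫ z ≫ ψ U₀) ≫ U₀.hom) h1).trans ?_
    exact (congrArg (· ≫ U₀.hom) h2).trans h3)

/-- cones over the diagram of spectra from cones over the diagram of etale models -/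
noncomputable def toDS (s : Cone ((WF U₀ D ⋙ eps X) ⋙ fS X)) : Cone (DS D) where
  pt := s.pt
  π := { app := fun j => s.π.app j
         naturality := fun _ _ f => s.π.naturality f }

set_option backward.isDefEq.respectTransparency.types false in
/-- the presentation attached to ring level data -/
noncomputable def ppOf : PP T where
  Λ := Jᵒᵖ
  D := WF U₀ D
  aff j := inferInstanceAs (IsAffine ((DS D).obj j))
  π :=
    { app := fun j => πZ U₀ D b ι j
      naturality := fun j j' f => by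
        apply MorphismProperty.Over.Hom.ext
        show 𝟙 _ ≫ ζ U₀ D b ι ≫ (cS D (Cocone.mk _ ι)).π.app j' =
          (ζ U₀ D b ι ≫ (cS D (Cocone.mk _ ι)).π.app j) ≫ (DS D).map f
        refine (Category.id_comp _).trans ?_
        refine Eq.trans ?_ (Category.assoc _ _ _).symm
        exact congrArg (ζ U₀ D b ι ≫ ·) ((cS D (Cocone.mk _ ι)).w f).symm }
  lim :=
    { lift := fun s => (hcS D (Cocone.mk _ ι) hc).lift (toDS U₀ D s) ≫ T.left.isoSpec.inv
      fac := fun s j => by
        show ((hcS D (Cocone.mk _ ι) hc).lift (toDS U₀ D s) ≫ T.left.isoSpec.inv) ≫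
          (T.left.isoSpec.hom ≫ (cS D (Cocone.mk _ ι)).π.app j) = s.π.app j
        refine (Category.assoc _ _ _).trans ?_
        refine (congrArg ((hcS D (Cocone.mk _ ι) hc).lift (toDS U₀ D s) ≫ ·)
          ((Category.assoc _ _ _).symm.trans ((congrArg (· ≫ (cS D (Cocone.mk _ ι)).π.app j)
            (Iso.inv_hom_id _)).trans (Category.id_comp _)))).trans ?_
        exact (hcS D (Cocone.mk _ ι) hc).fac (toDS U₀ D s) j
      uniq := fun s m hm => by
        have h1 : m ≫ T.left.isoSpec.hom = (hcS D (Cocone.mk _ ι) hc).lift (toDS U₀ D s) := by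
          apply (hcS D (Cocone.mk _ ι) hc).uniq (toDS U₀ D s)
          intro j
          have := hm j
          exact (Category.assoc _ _ _).trans this
        refine Eq.trans ?_ (congrArg (· ≫ T.left.isoSpec.inv) h1)
        refine Eq.trans ?_ (Category.assoc _ _ _).symm
        exact ((congrArg (m ≫ ·) (Iso.hom_inv_id _)).trans (Category.comp_id _)).symm }

end Pres

section Main

theorem nonempty_pp {T : X.ProEt} (hT : InB T) : Nonempty (PP T) := by
  obtain ⟨hTa, U₀, hU₀, b, hb⟩ := hT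
  haveI := hTa
  haveI := hU₀
  obtain ⟨J, _, _, D, c, hc, hD, ⟨e⟩⟩ := hb
  let D' : J ⥤ Under Γ(U₀.left, ⊤) := D
  haveI : ∀ j, Etale (EpsGeo.p D' j) := EpsGeo.etale_p_of U₀ D' hD
  let ι : D' ⟶ (Functor.const J).obj (Under.mk b.left.appTop) :=
    c.ι ≫ (Functor.const J).map e.hom
  have hc' : IsColimit (Cocone.mk _ ι) :=
    IsColimit.ofIsoColimit hc (Cocone.ext e (fun j => rfl))
  exact ⟨ppOf U₀ D' b ι hc'⟩

theorem indEt_SpecMap_appTop {R S : CommRingCat.{u}} (φ : R ⟶ S) (h : IndEt φ) :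
    IndEt (Spec.map φ).appTop := by
  have h1 : (Spec.map φ).appTop = (Scheme.ΓSpecIso R).hom ≫ φ ≫ (Scheme.ΓSpecIso S).inv := by
    rw [← Category.assoc, ← Scheme.ΓSpecIso_naturality, Category.assoc, Iso.hom_inv_id,
      Category.comp_id]
  rw [h1]
  exact (IndEt.of_isIso _).comp (h.comp (IndEt.of_isIso _))

set_option backward.isDefEq.respectTransparency.types false in
theorem exists_cover {T : X.ProEt} (hT : InB T) :
    ∃ (W : X.ProEt) (f : W ⟶ T), InB W ∧ ProEtS.IsWC W ∧ IndEt f.left.appTop ∧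
      (∀ z : T.left, ∃ w : W.left, f.left w = z) ∧
      Sieve.generate (Presieve.singleton f) ∈ Scheme.ProEt.topology X T := by
  obtain ⟨hTa, U₀, hU₀, b, hb⟩ := hT
  haveI := hTa
  obtain ⟨D₀, _, _, hff, het, hwc⟩ := Groth.Agent.S0177.result (Γ(T.left, ⊤))
  haveI : Algebra.WeaklyEtale (Γ(T.left, ⊤)) D₀ := weaklyEtale_of_isIndEtale het
  let φ : Γ(T.left, ⊤) ⟶ CommRingCat.of D₀ := CommRingCat.ofHom (algebraMap (Γ(T.left, ⊤)) D₀)
  haveI h1 : WeaklyEtale (Spec.map φ) := ProEtCov.weaklyEtale_SpecMap_of_weaklyEtale _ D₀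
  have h2 : Flat (Spec.map φ) ∧ Surjective (Spec.map φ) := by
    rw [flat_and_surjective_SpecMap_iff]
    exact (RingHom.faithfullyFlat_algebraMap_iff).mpr hff
  haveI := h2.2
  let t : Spec (CommRingCat.of D₀) ⟶ T.left := Spec.map φ ≫ T.left.isoSpec.inv
  haveI : WeaklyEtale t := inferInstance
  haveI : Surjective t := inferInstance
  haveI : QuasiCompact t := inferInstance
  haveI : WeaklyEtale (t ≫ T.hom) := inferInstance
  let W : X.ProEt := Scheme.ProEt.mk (t ≫ T.hom)
  let f : W ⟶ T := MorphismProperty.Over.homMk t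
  have hWa : IsAffine W.left := inferInstanceAs (IsAffine (Spec (CommRingCat.of D₀)))
  have hφ : IndEt φ := by
    have e : φ.hom.toAlgebra = (inferInstance : Algebra (Γ(T.left, ⊤)) D₀) :=
      Algebra.algebra_ext _ _ (fun r => rfl)
    unfold IndEt
    rw [e]
    exact het
  have hf : IndEt f.left.appTop := by
    have h3 : f.left.appTop = T.left.isoSpec.inv.appTop ≫ (Spec.map φ).appTop :=
      Scheme.Hom.comp_appTop _ _
    rw [h3]
    haveI : IsIso T.left.isoSpec.inv.appTop := isIso_appTop _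
    exact (IndEt.of_isIso _).comp (indEt_SpecMap_appTop φ hφ)
  refine ⟨W, f, ⟨hWa, U₀, hU₀, f ≫ b, ?_⟩, ?_, hf, ?_, ?_⟩
  · have h4 : (f ≫ b).left.appTop = b.left.appTop ≫ f.left.appTop := Scheme.Hom.comp_appTop _ _
    rw [h4]
    exact hb.comp hf
  · haveI := hWa
    apply ProEtWC.isWC_of_wContractible
    exact ProEtCov.isWContractible_of_ringEquiv
      (Scheme.ΓSpecIso (CommRingCat.of D₀)).commRingCatIsoToRingEquiv.symm hwc
  · intro z
    obtain ⟨w, hw⟩ := (inferInstance : Surjective t).surj z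
    exact ⟨w, hw⟩
  · exact ProEtWC.singleton_mem_topology T t

end Main

end Groth.Agent.Lib.Helper82.PEB
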