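import Groth.Agent.Lib.Helper82.PETheta
import Groth.Agent.Lib.Helper82.FinPush
import Groth.Agent.Lib.Helper68.AcycTransfer

set_option autoImplicit false
open CategoryTheory CategoryTheory.Limits AlgebraicGeometry Opposite Simplicial
universe u
open ProEtS

namespace Groth.Agent.Lib.Helper82.PECartan

open PEPres PENerve PECechT PEB PERing
open Groth.Agent.Lib.Helper28

variable {X : Scheme.{u}}

/-- Čech acyclicity with respect to the standard covers -/
def Pr (G : AbP X) : Prop :=
  ∀ (T W : X.ProEt) (f : W ⟶ T), InB T → InB W → IndEt f.left.appTop →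
    ∀ p : ℕ, IsZero ((PECechT.KK.{u + 1, u, u + 1} f G.obj).homology (p + 1))

theorem surj_of_Pr (S : ShortComplex (AbP X)) (hS : S.ShortExact) (h₁ : Pr S.X₁) (T : X.ProEt)
    (hT : InB T) : Function.Surjective (S.g.hom.app (op T)) := by
  intro s
  obtain ⟨W, f, hWB, hWC, hf, hsurj, hcov⟩ := exists_cover hT
  have := hS.epi_g
  have hcov' : Sieve.ofArrows (fun i => ((Y1.{u + 1, u, u + 1} f) i).left) (fun i => ((Y1.{u + 1, u, u + 1} f) i).hom) ∈
      Scheme.ProEt.topology X T := by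
    refine (Scheme.ProEt.topology X).superset_covering ?_ hcov
    rw [Sieve.generate_le_iff]
    rintro Z g ⟨⟩
    exact Sieve.ofArrows_mk _ _ PUnit.unit
  refine CechLG.exists_section.{u + 1} (J := Scheme.ProEt.topology X) (CechO.sectionwiseCechLike (Y1.{u + 1, u, u + 1} f))
    ((Scheme.ProEt.topology X).superset_covering (CechOLG.ofArrows_le_imageSieve (Y1.{u + 1, u, u + 1} f)) hcov')
    hS s ?_ (h₁ T W f hT hWB hf 0)
  intro a
  rw [CechOLG.baseHom_eq]
  obtain ⟨yW, hyW⟩ := FinPush.surjective_of_isWC W hWC S.g (S.X₃.obj.map f.op s)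
  refine ⟨S.X₂.obj.map (pr f 0 0).op yW, ?_⟩
  have h1 := NatTrans.naturality_apply S.g.hom (pr f 0 0).op yW
  refine h1.trans ?_
  rw [hyW, ← ConcreteCategory.comp_apply, ← CategoryTheory.Functor.map_comp, ← op_comp, pr_g]
  rfl

theorem Pr_X₃ (S : ShortComplex (AbP X)) (hS : S.ShortExact) [Injective S.X₂] (h₁ : Pr S.X₁) :
    Pr S.X₃ := by
  intro T W f hT hWB hf p
  have := CartanG.injective_obj S.X₂
  exact CechLG.isZero_homology_X₃ (Φ := Over.forget T) (E := CechO.cechE (Y1.{u + 1, u, u + 1} f)) hS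
    (fun n i => surj_of_Pr S hS h₁ _ (inB_nv f hT hWB.1 hf n)) (h₁ T W f hT hWB hf)
    (fun p => CechO.isZero_cech_homology_succ_of_injective (Y1.{u + 1, u, u + 1} f) S.X₂.obj p) p


section General

universe v₁ v₂ u₁ u₂

open Groth.Agent.Lib.Helper68.RightDerivedLES Groth.Agent.Lib.Helper68.AcycTransfer

variable {𝒜 : Type u₁} [Category.{v₁} 𝒜] [Abelian 𝒜] [EnoughInjectives 𝒜]
  {𝒞 : Type u₂} [Category.{v₂} 𝒞] [Abelian 𝒞]
  (Φ : 𝒜 ⥤ 𝒞) [Φ.Additive] [PreservesFiniteLimits Φ]

/-- acyclicity from a class of objects stable under cokernels of embeddings into injectives -/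
theorem isZero_rightDerived_of_step (Q : 𝒜 → Prop)
    (hstep : ∀ S : ShortComplex 𝒜, S.ShortExact → Injective S.X₂ → Q S.X₁ →
      Q S.X₃ ∧ Epi (Φ.map S.g)) (q : ℕ) :
    ∀ G : 𝒜, Q G → IsZero ((Φ.rightDerived (q + 1)).obj G) := by
  induction q with
  | zero =>
    intro G hG
    have hS := injSeq_shortExact G
    have hepi : Epi (Φ.map (cokernel.π (Injective.ι G))) :=
      (hstep (injSeq G) hS inferInstance hG).2
    have hepi0 : Epi ((Φ.rightDerived 0).map (cokernel.π (Injective.ι G))) := by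
      have e0 : (Φ.rightDerived 0).map (cokernel.π (Injective.ι G)) =
          Φ.rightDerivedZeroIsoSelf.hom.app _ ≫ Φ.map (cokernel.π (Injective.ι G)) ≫
            Φ.rightDerivedZeroIsoSelf.inv.app _ := by
        have := Φ.rightDerivedZeroIsoSelf.hom.naturality (cokernel.π (Injective.ι G))
        rw [← reassoc_of% this]
        simp
      rw [e0]
      infer_instance
    have hδ : δ Φ hS 0 = 0 := (exact₃ Φ hS 0).epi_f_iff.1 hepi0
    have hepiδ : Epi (δ Φ hS 0) :=
      epi_δ Φ hS 0 (Functor.isZero_rightDerived_obj_injective_succ Φ 0 _)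
    rw [IsZero.iff_id_eq_zero, ← cancel_epi (δ Φ hS 0), Category.comp_id, comp_zero]
    exact hδ
  | succ q ih =>
    intro G hG
    have hS := injSeq_shortExact G
    exact isZero_left Φ hS (q + 1) (ih _ (hstep (injSeq G) hS inferInstance hG).1)
      (Functor.isZero_rightDerived_obj_injective_succ Φ (q + 1) _)

end General

variable [EpsCont X]

set_option backward.isDefEq.respectTransparency.types false in
theorem epi_epsPush_map (S : ShortComplex (AbP X)) (hS : S.ShortExact) (h₁ : Pr S.X₁) :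
    Epi ((epsPush X).map S.g) := by
  rw [← Sheaf.isLocallySurjective_iff_epi']
  constructor
  intro U s
  rw [Groth.Agent.Lib.Helper28.EtQc.mem_topology_iff]
  intro w
  obtain ⟨V, g, y', hV, hy'⟩ := EpsUnit.exists_affine_nbhd X U w
  refine ⟨V, g, y', ?_, hy'⟩
  have := hV
  obtain ⟨t, ht⟩ := surj_of_Pr S hS h₁ ((eps X).obj V) (inB_eps V)
    (S.X₃.obj.map ((eps X).map g).op s)
  exact ⟨t, ht⟩

/-- `R^q ε_*` vanishes on Čech-acyclic sheaves -/
theorem isZero_RepsPush_of_Pr (q : ℕ) (G : AbP X) (hG : Pr G) :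
    IsZero ((RepsPush X (q + 1)).obj G) :=
  isZero_rightDerived_of_step (epsPush X) Pr
    (fun S hS _ h₁ => ⟨Pr_X₃ S hS h₁, epi_epsPush_map S hS h₁⟩) q G hG

omit [EpsCont X] in
theorem Pr_of_iso {G G' : AbP X} (e : G ≅ G') (h : Pr G) : Pr G' := by
  intro T W f hT hWB hf p
  refine IsZero.of_iso (h T W f hT hWB hf p) ?_
  exact (HomologicalComplex.homologyFunctor _ _ (p + 1)).mapIso
    ((FormalCoproduct.cochainComplexFunctor (CechO.cechE (Y1.{u + 1, u, u + 1} f))).mapIso
      (Functor.isoWhiskerLeft (Over.forget T).op ((sheafToPresheaf _ _).mapIso e.symm)))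

theorem Pr_pull_injective (I : EtCoh.Ab X) [Injective I] : Pr ((epsPull X).obj I) := by
  refine Pr_of_iso (((epsAdj X).leftAdjointUniq (EpsUnit.adj₂ X)).symm.app I) ?_
  intro T W f hT hWB hf p
  exact PETheta.isZero_cech I hT f hWB hf p

end Groth.Agent.Lib.Helper82.PECartan
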