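import Groth.Agent.Lib.Helper82.PECechT
import Groth.Agent.Lib.Helper82.PEB
import Groth.Agent.Lib.Helper82.EpsMain

set_option autoImplicit false
open CategoryTheory CategoryTheory.Limits AlgebraicGeometry Opposite
universe u
open ProEtS

namespace Groth.Agent.Lib.Helper82.PECech

open EpsLan PEPres PENerve PECechT

variable {X : Scheme.{u}} (F : X.Etaleᵒᵖ ⥤ AddCommGrpCat.{u + 1})

/-- `mkElt` as a homomorphism -/
noncomputable def mkEltHom {W : X.ProEt} (V : X.Etale) (a : W ⟶ (eps X).obj V) :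
    F.obj (op V) ⟶ (P F).obj (op W) :=
  ((eps X).op.lanUnit.app F).app (op V) ≫ (P F).map a.op

theorem mkEltHom_apply {W : X.ProEt} (V : X.Etale) (a : W ⟶ (eps X).obj V) (x : F.obj (op V)) :
    mkEltHom F V a x = mkElt F V a x := rfl

theorem mkElt_sub {W : X.ProEt} (V : X.Etale) (a : W ⟶ (eps X).obj V) (x y : F.obj (op V)) :
    mkElt F V a (x - y) = mkElt F V a x - mkElt F V a y :=
  map_sub (mkEltHom F V a).hom x y

theorem mkElt_sum {W : X.ProEt} (V : X.Etale) (a : W ⟶ (eps X).obj V) {ι : Type*} (s : Finset ι)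
    (x : ι → F.obj (op V)) : mkElt F V a (∑ i ∈ s, x i) = ∑ i ∈ s, mkElt F V a (x i) :=
  map_sum (mkEltHom F V a).hom x s

theorem mkElt_zsmul {W : X.ProEt} (V : X.Etale) (a : W ⟶ (eps X).obj V) (n : ℤ)
    (x : F.obj (op V)) : mkElt F V a (n • x) = n • mkElt F V a x :=
  map_zsmul (mkEltHom F V a).hom n x

section PPLemmas

variable {T : X.ProEt} (p : PP T)

theorem π_map {l' l : p.Λ} (φ : l' ⟶ l) : p.π.app l' ≫ (eps X).map (p.D.map φ) = p.π.app l := by
  have := p.π.naturality φ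
  simp only [Functor.const_obj_obj, Functor.const_obj_map, Category.id_comp] at this
  exact this.symm

theorem rep (x : (P F).obj (op T)) :
    ∃ (l : p.Λ) (σ : F.obj (op (p.D.obj l))), mkElt F (p.D.obj l) (p.π.app l) σ = x := by
  obtain ⟨V, a, x₀, rfl⟩ := mkElt_surjective F x
  obtain ⟨l, g, hg⟩ := p.factor V a
  exact ⟨l, F.map g.op x₀, by rw [← mkElt_comp, hg]⟩

theorem vanish (l : p.Λ) (σ : F.obj (op (p.D.obj l)))
    (h : mkElt F (p.D.obj l) (p.π.app l) σ = 0) :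
    ∃ (l' : p.Λ) (φ : l' ⟶ l), F.map (p.D.map φ).op σ = 0 := by
  have h' : mkElt F _ (p.π.app l) σ = mkElt F _ (p.π.app l) 0 := by rw [h, mkElt_zero]
  obtain ⟨V'', a'', q, q', e1, e2, e3⟩ := exists_of_mkElt_eq F _ _ _ _ h'
  obtain ⟨l₁, g, hg⟩ := p.factor V'' a''
  let l₂ := IsCofiltered.min l₁ l
  let φ₁ : l₂ ⟶ l₁ := IsCofiltered.minToLeft l₁ l
  let φ₂ : l₂ ⟶ l := IsCofiltered.minToRight l₁ l
  have hcomp : p.π.app l₂ ≫ (eps X).map (p.D.map φ₁ ≫ g ≫ q) =
      p.π.app l₂ ≫ (eps X).map (p.D.map φ₂) := by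
    rw [CategoryTheory.Functor.map_comp, CategoryTheory.Functor.map_comp, ← Category.assoc,
      π_map, ← Category.assoc, hg, e1, π_map]
  obtain ⟨l₃, φ₃, h3⟩ := p.unique (p.D.obj l) (p.D.map φ₁ ≫ g ≫ q) (p.D.map φ₂) hcomp
  refine ⟨l₃, φ₃ ≫ φ₂, ?_⟩
  have e4 : p.D.map (φ₃ ≫ φ₂) = (p.D.map φ₃ ≫ p.D.map φ₁ ≫ g) ≫ q := by
    rw [CategoryTheory.Functor.map_comp, ← h3]
    simp only [Category.assoc]
  rw [e4, op_comp, CategoryTheory.Functor.map_comp, ConcreteCategory.comp_apply, e3, map_zero,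
    map_zero]

end PPLemmas

section Higher

variable {W T : X.ProEt} {f : W ⟶ T} (s : NSys f)

theorem dd_mkElt (n : ℕ) (k : s.K) (σ : F.obj (op (Nk s n k))) :
    dd f (P F) n (mkElt F (Nk s n k) (cN s n k) σ) =
      mkElt F (Nk s (n + 1) k) (cN s (n + 1) k) (dd (s.h.app k) F n σ) := by
  rw [dd_apply, dd_apply, mkElt_sum]
  refine Finset.sum_congr rfl fun i _ => ?_
  rw [mkElt_zsmul]
  congr 1
  rw [map_mkElt, ← cN_fc, mkElt_comp]

theorem dd_τ (n : ℕ) {k' k : s.K} (φ : k' ⟶ k) (σ : F.obj (op (Nk s n k))) :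
    F.map (τ s (n + 1) φ).op (dd (s.h.app k) F n σ) =
      dd (s.h.app k') F n (F.map (τ s n φ).op σ) := by
  rw [dd_apply, dd_apply, map_sum]
  refine Finset.sum_congr rfl fun i _ => ?_
  rw [map_zsmul]
  congr 1
  rw [← ConcreteCategory.comp_apply, ← CategoryTheory.Functor.map_comp, ← op_comp, τ_fc, op_comp,
    CategoryTheory.Functor.map_comp, ConcreteCategory.comp_apply]

theorem exact_P
    (het : ∀ (k : s.K) (p : ℕ) (σ : F.obj (op (Nk s (p + 1) k))),
      dd (s.h.app k) F (p + 1) σ = 0 → ∃ ρ, dd (s.h.app k) F p ρ = σ)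
    (p : ℕ) (x₀ : (P F).obj (op (Nv f (p + 1)))) (hx₀ : dd f (P F) (p + 1) x₀ = 0) :
    ∃ y₀, dd f (P F) p y₀ = x₀ := by
  obtain ⟨k, σ, rfl⟩ : ∃ (k : s.K) (σ : F.obj (op (Nk s (p + 1) k))),
      mkElt F (Nk s (p + 1) k) (cN s (p + 1) k) σ = x₀ := rep F (ppN s (p + 1)) x₀
  have h1 : mkElt F (Nk s (p + 2) k) (cN s (p + 2) k) (dd (s.h.app k) F (p + 1) σ) = 0 :=
    (dd_mkElt F s (p + 1) k σ).symm.trans hx₀
  obtain ⟨k', φ, hφ⟩ : ∃ (k' : s.K) (φ : k' ⟶ k),
      F.map (τ s (p + 2) φ).op (dd (s.h.app k) F (p + 1) σ) = 0 :=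
    vanish F (ppN s (p + 2)) k _ h1
  have hφ' : dd (s.h.app k') F (p + 1) (F.map (τ s (p + 1) φ).op σ) = 0 :=
    (dd_τ F s (p + 1) φ σ).symm.trans hφ
  obtain ⟨ρ, hρ⟩ := het k' p _ hφ'
  refine ⟨mkElt F (Nk s p k') (cN s p k') ρ, ?_⟩
  rw [dd_mkElt, hρ, ← mkElt_comp, cN_τ]

end Higher

section Zero

open EpsH

variable (I : EtCoh.Ab X) {W T : X.ProEt} {f : W ⟶ T} (s : NSys f)

/-- the presentation of the source given by the system -/
noncomputable def ppW : PP W where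
  Λ := s.K
  D := s.DW
  aff := s.affW
  π := s.πW
  lim := s.limW

set_option backward.isDefEq.respectTransparency.types false in
set_option maxHeartbeats 800000 in
include s in
theorem exact_P0 (hsurj : ∀ z : T.left, ∃ w : W.left, f.left w = z)
    (x : (P I.obj).obj (op W))
    (hx : (P I.obj).map (pr f 1 0).op x = (P I.obj).map (pr f 1 1).op x) :
    ∃ z : (P I.obj).obj (op T), (P I.obj).map f.op z = x := by
  obtain ⟨k, σ, rfl⟩ : ∃ (k : s.K) (σ : I.obj.obj (op (s.DW.obj k))),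
      mkElt I.obj (s.DW.obj k) (s.πW.app k) σ = x := rep I.obj (ppW s) x
  have h2 : ∀ i : Fin 2, (P I.obj).map (pr f 1 i).op (mkElt I.obj (s.DW.obj k) (s.πW.app k) σ) =
      mkElt I.obj (Nk s 1 k) (cN s 1 k) (I.obj.map (pr (s.h.app k) 1 i).op σ) := by
    intro i
    rw [map_mkElt, ← cN_pr, mkElt_comp]
  have h3 : mkElt I.obj (Nk s 1 k) (cN s 1 k) (I.obj.map (pr (s.h.app k) 1 0).op σ -
      I.obj.map (pr (s.h.app k) 1 1).op σ) = 0 := by
    rw [mkElt_sub, ← h2, ← h2, hx, sub_self]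
  obtain ⟨k', φ, hφ⟩ : ∃ (k' : s.K) (φ : k' ⟶ k),
      I.obj.map (τ s 1 φ).op (I.obj.map (pr (s.h.app k) 1 0).op σ -
        I.obj.map (pr (s.h.app k) 1 1).op σ) = 0 := vanish I.obj (ppN s 1) k _ h3
  let σ' : I.obj.obj (op (s.DW.obj k')) := I.obj.map (s.DW.map φ).op σ
  have e : ∀ i : Fin 2, I.obj.map (pr (s.h.app k') 1 i).op σ' =
      I.obj.map (τ s 1 φ).op (I.obj.map (pr (s.h.app k) 1 i).op σ) := by
    intro i
    show I.obj.map (pr (s.h.app k') 1 i).op (I.obj.map (s.DW.map φ).op σ) = _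
    rw [← ConcreteCategory.comp_apply, ← CategoryTheory.Functor.map_comp, ← op_comp, ← τ_pr, op_comp,
      CategoryTheory.Functor.map_comp, ConcreteCategory.comp_apply]
  have h4 : I.obj.map (pr (s.h.app k') 1 0).op σ' = I.obj.map (pr (s.h.app k') 1 1).op σ' := by
    rw [e, e, ← sub_eq_zero, ← map_sub]
    exact hφ
  -- the image of the model cover
  let h' : s.DW.obj k' ⟶ s.DT.obj k' := s.h.app k'
  let O : (s.DT.obj k').left.Opens := ⟨Set.range h'.left, h'.left.isOpenMap.isOpen_range⟩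
  have hOι : IsOpenImmersion O.ι := inferInstance
  let TO : X.Etale := Scheme.Etale.mk (O.ι ≫ (s.DT.obj k').hom)
  let ιO : TO ⟶ s.DT.obj k' := MorphismProperty.Over.homMk O.ι
  have hr1 : Set.range h'.left ⊆ Set.range O.ι := by
    rw [Scheme.Opens.range_ι]
    exact fun _ hy => hy
  let l : (s.DW.obj k').left ⟶ (O : Scheme) := IsOpenImmersion.lift O.ι h'.left hr1
  have hl : l ≫ O.ι = h'.left := IsOpenImmersion.lift_fac _ _ _
  let h'' : s.DW.obj k' ⟶ TO := MorphismProperty.Over.homMk l (by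
    show l ≫ O.ι ≫ (s.DT.obj k').hom = (s.DW.obj k').hom
    rw [reassoc_of% hl]
    exact MorphismProperty.Over.w h')
  have hh : h'' ≫ ιO = h' := by
    apply MorphismProperty.Over.Hom.ext
    exact hl
  have hcov : Sieve.generate (Presieve.ofArrows (fun _ : Unit => s.DW.obj k') (fun _ => h'')) ∈
      X.smallEtaleTopology TO := by
    apply ofArrows_mem_topology
    intro w
    have hw : O.ι w ∈ O := w.2
    obtain ⟨y, hy⟩ := hw
    refine ⟨(), y, ?_⟩
    apply O.ι.isOpenEmbedding.injective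
    have := congrArg (fun m => m y) hl
    exact this.trans hy
  have hF := (isSheaf_iff_isSheaf_of_type _ _).mp (Fs I).property
  have hsh := hF.isSheafFor _ hcov
  rw [Presieve.isSheafFor_arrows_iff] at hsh
  obtain ⟨ρ, hρ, -⟩ := hsh (fun _ => σ') (by
    intro _ _ Z g₁ g₂ hg
    have hg' : g₁ ≫ h' = g₂ ≫ h' := by
      rw [← hh, ← Category.assoc, ← Category.assoc, hg]
    obtain ⟨l₁, hl₁⟩ := PEProd.exists_lift (𝟭 X.Etale) (cst h' 1)
      (fun j => Fin.cases g₁ (fun _ => g₂) j) (g₁ ≫ h') (by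
        intro j
        refine Fin.cases rfl (fun _ => ?_) j
        exact hg'.symm)
    have e0 : l₁ ≫ pr h' 1 0 = g₁ := hl₁ 0
    have e1 : l₁ ≫ pr h' 1 1 = g₂ := hl₁ 1
    show I.obj.map g₁.op σ' = I.obj.map g₂.op σ'
    rw [← e0, ← e1, op_comp, op_comp, CategoryTheory.Functor.map_comp,
      CategoryTheory.Functor.map_comp, ConcreteCategory.comp_apply, ConcreteCategory.comp_apply, h4])
  have hρ' : I.obj.map h''.op ρ = σ' := hρ ()
  -- the map from `T`
  have hr2 : Set.range (s.πT.app k').left ⊆ Set.range O.ι := by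
    have hO : Set.range O.ι = (O : Set (s.DT.obj k').left) := Scheme.Opens.range_ι O
    rintro _ ⟨z, rfl⟩
    apply hO.ge
    show (s.πT.app k').left z ∈ Set.range h'.left
    obtain ⟨w, rfl⟩ := hsurj z
    have h5 : f.left ≫ (s.πT.app k').left = (s.πW.app k').left ≫ h'.left :=
      (congrArg (fun m => m.left) (s.compat k')).symm
    have h6 : (s.πT.app k').left (f.left w) = h'.left ((s.πW.app k').left w) :=
      (Scheme.Hom.comp_apply _ _ _).symm.trans ((congrArg (fun m => m w) h5).trans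
        (Scheme.Hom.comp_apply _ _ _))
    rw [h6]
    exact ⟨_, rfl⟩
  let lT : T.left ⟶ (O : Scheme) := IsOpenImmersion.lift O.ι (s.πT.app k').left hr2
  have hlT : lT ≫ O.ι = (s.πT.app k').left := IsOpenImmersion.lift_fac _ _ _
  let t' : T ⟶ (eps X).obj TO := MorphismProperty.Over.homMk lT (by
    show lT ≫ O.ι ≫ (s.DT.obj k').hom = T.hom
    rw [reassoc_of% hlT]
    exact MorphismProperty.Over.w (s.πT.app k'))
  have hft : f ≫ t' = s.πW.app k' ≫ (eps X).map h'' := by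
    apply MorphismProperty.Over.Hom.ext
    show f.left ≫ lT = (s.πW.app k').left ≫ l
    apply (cancel_mono O.ι).mp
    refine (Category.assoc _ _ _).trans ?_
    refine (congrArg (f.left ≫ ·) hlT).trans ?_
    refine Eq.trans ?_ (Category.assoc _ _ _).symm
    refine Eq.trans ?_ (congrArg ((s.πW.app k').left ≫ ·) hl).symm
    exact (congrArg (fun m => m.left) (s.compat k')).symm
  refine ⟨mkElt I.obj TO t' ρ, ?_⟩
  rw [map_mkElt, hft, mkElt_comp, hρ']
  show mkElt I.obj (s.DW.obj k') (s.πW.app k') (I.obj.map (s.DW.map φ).op σ) = _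
  rw [← mkElt_comp]
  congr 1
  exact π_map (ppW s) φ

end Zero

end Groth.Agent.Lib.Helper82.PECech
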