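import Mathlib

/-!
# Finite products in over categories and functors preserving them
-/

set_option autoImplicit false
open CategoryTheory CategoryTheory.Limits

namespace Groth.Agent.Lib.Helper82.PEProd

universe v₀ u₀ v u

variable {C₀ : Type u₀} [Category.{v₀} C₀] {C : Type u} [Category.{v} C] (G : C₀ ⥤ C) {U : C₀}
  {J : Type} (Z : J → Over U) [HasProduct Z]
  [PreservesLimit (Discrete.functor Z) (Over.post (X := U) G)]

/-- The image under `Over.post G` of the product fan is a limit fan. -/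
noncomputable def isLimitFan :
    IsLimit (Fan.mk ((Over.post (X := U) G).obj (∏ᶜ Z))
      fun j => (Over.post (X := U) G).map (Pi.π Z j)) :=
  isLimitFanMkObjOfIsLimit (Over.post (X := U) G) Z _ (productIsProduct Z)

theorem ext [Nonempty J] {W : C} (φ φ' : W ⟶ G.obj (∏ᶜ Z).left)
    (h : ∀ j, φ ≫ G.map (Pi.π Z j).left = φ' ≫ G.map (Pi.π Z j).left) : φ = φ' := by
  have hw : ∀ j, G.map (Pi.π Z j).left ≫ G.map (Z j).hom = G.map (∏ᶜ Z).hom := by
    intro j
    rw [← G.map_comp]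
    exact congrArg G.map (Over.w (Pi.π Z j))
  obtain ⟨j₀⟩ := ‹Nonempty J›
  have hg : φ' ≫ G.map (∏ᶜ Z).hom = φ ≫ G.map (∏ᶜ Z).hom := by
    rw [← hw j₀, ← Category.assoc, ← Category.assoc, h]
  have key : (Over.homMk φ rfl : Over.mk (φ ≫ G.map (∏ᶜ Z).hom) ⟶
      (Over.post (X := U) G).obj (∏ᶜ Z)) = Over.homMk φ' hg := by
    refine Fan.IsLimit.hom_ext (isLimitFan G Z) _ _ fun j => ?_
    ext
    exact h j
  exact congrArg (fun t => t.left) key

theorem exists_lift {W : C} (t : ∀ j, W ⟶ G.obj (Z j).left) (g : W ⟶ G.obj U)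
    (ht : ∀ j, t j ≫ G.map (Z j).hom = g) :
    ∃ φ : W ⟶ G.obj (∏ᶜ Z).left, ∀ j, φ ≫ G.map (Pi.π Z j).left = t j := by
  let f : ∀ j, Over.mk g ⟶ (Over.post (X := U) G).obj (Z j) := fun j =>
    Over.homMk (t j) (ht j)
  refine ⟨(Fan.IsLimit.lift (isLimitFan G Z) f).left, ?_⟩
  intro j
  have h := Fan.IsLimit.fac (isLimitFan G Z) f j
  exact (Over.comp_left _ _ _ _ _).symm.trans (congrArg (fun z => z.left) h)

end Groth.Agent.Lib.Helper82.PEProd
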