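import Groth.Agent.Lib.Helper82.PEStrict
import Groth.Agent.Lib.Helper82.PEProd
import Groth.Agent.Lib.Helper82.EpsLan
import Groth.Agent.Lib.Helper28.OverProd

set_option autoImplicit false
open CategoryTheory CategoryTheory.Limits AlgebraicGeometry Opposite
universe u
open ProEtS

namespace Groth.Agent.Lib.Helper82.PENerve

open PEPres

section Gen

variable {𝒞 : Type*} [Category 𝒞] {V U : 𝒞} (g : V ⟶ U) [HasFiniteProducts (Over U)] (n : ℕ)

/-- the constant family -/
abbrev cst : Fin (n + 1) → Over U := fun _ => Over.mk g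

/-- the nerve object -/
noncomputable abbrev Nv : 𝒞 := (∏ᶜ (cst g n)).left

/-- projections -/
noncomputable abbrev pr (j : Fin (n + 1)) : Nv g n ⟶ V := (Pi.π (cst g n) j).left

/-- the base map -/
noncomputable abbrev bs : Nv g n ⟶ U := (∏ᶜ (cst g n)).hom

theorem pr_g (j : Fin (n + 1)) : pr g n j ≫ g = bs g n := Over.w (Pi.π (cst g n) j)

/-- face maps -/
noncomputable abbrev fc (i : Fin (n + 2)) : Nv g (n + 1) ⟶ Nv g n :=
  (Pi.lift (fun k : Fin (n + 1) => Pi.π (cst g (n + 1)) (i.succAbove k)) :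
    ∏ᶜ (cst g (n + 1)) ⟶ ∏ᶜ (cst g n)).left

theorem fc_pr (i : Fin (n + 2)) (j : Fin (n + 1)) :
    fc g n i ≫ pr g n j = pr g (n + 1) (i.succAbove j) := by
  have h := Pi.lift_π (fun k : Fin (n + 1) => Pi.π (cst g (n + 1)) (i.succAbove k)) j
  exact (Over.comp_left _ _ _ _ _).symm.trans (congrArg (fun z => z.left) h)

theorem fc_bs (i : Fin (n + 2)) : fc g n i ≫ bs g n = bs g (n + 1) := Over.w _

end Gen

variable {X : Scheme.{u}}

/-- the functor from etale objects to schemes -/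
noncomputable abbrev fE (X : Scheme.{u}) : X.Etale ⥤ Scheme.{u} := eps X ⋙ fS X

section Sys

variable {W T : X.ProEt} {f : W ⟶ T} (s : NSys f) (n : ℕ)

/-- the etale models of the nerve -/
noncomputable abbrev Nk (k : s.K) : X.Etale := Nv (s.h.app k) n

theorem exists_τ {k' k : s.K} (φ : k' ⟶ k) :
    ∃ t : Nk s n k' ⟶ Nk s n k, ∀ j, t ≫ pr (s.h.app k) n j = pr (s.h.app k') n j ≫ s.DW.map φ :=
  PEProd.exists_lift (𝟭 X.Etale) (cst (s.h.app k) n)
    (fun j => pr (s.h.app k') n j ≫ s.DW.map φ) (bs (s.h.app k') n ≫ s.DT.map φ) (fun j => by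
      show (pr (s.h.app k') n j ≫ s.DW.map φ) ≫ s.h.app k = _
      rw [Category.assoc, s.h.naturality φ, ← Category.assoc, pr_g])

/-- transition maps -/
noncomputable def τ {k' k : s.K} (φ : k' ⟶ k) : Nk s n k' ⟶ Nk s n k := (exists_τ s n φ).choose

theorem τ_pr {k' k : s.K} (φ : k' ⟶ k) (j : Fin (n + 1)) :
    τ s n φ ≫ pr (s.h.app k) n j = pr (s.h.app k') n j ≫ s.DW.map φ :=
  (exists_τ s n φ).choose_spec j

theorem ext_E {k : s.K} {Z : X.Etale} (a b : Z ⟶ Nk s n k)
    (h : ∀ j, a ≫ pr (s.h.app k) n j = b ≫ pr (s.h.app k) n j) : a = b :=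
  PEProd.ext (𝟭 X.Etale) (cst (s.h.app k) n) a b h

/-- the functor of etale models -/
noncomputable def NF : s.K ⥤ X.Etale where
  obj k := Nk s n k
  map φ := τ s n φ
  map_id k := by
    apply ext_E
    intro j
    rw [τ_pr, CategoryTheory.Functor.map_id, Category.comp_id, Category.id_comp]
  map_comp φ ψ := by
    apply ext_E
    intro j
    rw [τ_pr, Category.assoc, τ_pr, ← Category.assoc, τ_pr, Category.assoc,
      CategoryTheory.Functor.map_comp]

theorem exists_cN (k : s.K) :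
    ∃ t : Nv f n ⟶ (eps X).obj (Nk s n k), ∀ j,
      t ≫ (eps X).map (pr (s.h.app k) n j) = pr f n j ≫ s.πW.app k :=
  PEProd.exists_lift (eps X) (cst (s.h.app k) n)
    (fun j => pr f n j ≫ s.πW.app k) (bs f n ≫ s.πT.app k) (fun j => by
      show (pr f n j ≫ s.πW.app k) ≫ (eps X).map (s.h.app k) = _
      rw [Category.assoc, s.compat, ← Category.assoc, pr_g])

/-- cone maps -/
noncomputable def cN (k : s.K) : Nv f n ⟶ (eps X).obj (Nk s n k) := (exists_cN s n k).choose

theorem cN_pr (k : s.K) (j : Fin (n + 1)) :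
    cN s n k ≫ (eps X).map (pr (s.h.app k) n j) = pr f n j ≫ s.πW.app k :=
  (exists_cN s n k).choose_spec j

theorem ext_P {k : s.K} {Z : X.ProEt} (a b : Z ⟶ (eps X).obj (Nk s n k))
    (h : ∀ j, a ≫ (eps X).map (pr (s.h.app k) n j) = b ≫ (eps X).map (pr (s.h.app k) n j)) :
    a = b :=
  PEProd.ext (eps X) (cst (s.h.app k) n) a b h

theorem cN_τ {k' k : s.K} (φ : k' ⟶ k) : cN s n k' ≫ (eps X).map (τ s n φ) = cN s n k := by
  apply ext_P
  intro j
  rw [Category.assoc, ← CategoryTheory.Functor.map_comp, τ_pr, CategoryTheory.Functor.map_comp,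
    ← Category.assoc, cN_pr, cN_pr, Category.assoc]
  congr 1
  have := s.πW.naturality φ
  simp only [Functor.const_obj_obj, Functor.const_obj_map, Category.id_comp] at this
  exact this.symm

theorem cN_bs (k : s.K) :
    cN s n k ≫ (eps X).map (bs (s.h.app k) n) = bs f n ≫ s.πT.app k := by
  rw [← pr_g (s.h.app k) n 0, CategoryTheory.Functor.map_comp, ← Category.assoc, cN_pr,
    Category.assoc, s.compat, ← Category.assoc, pr_g]

/-- the cone -/
noncomputable def πN : (Functor.const s.K).obj (Nv f n) ⟶ NF s n ⋙ eps X where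
  app k := cN s n k
  naturality k' k φ := by
    show 𝟙 _ ≫ cN s n k = cN s n k' ≫ (eps X).map (τ s n φ)
    rw [Category.id_comp, cN_τ]

theorem cN_fc (k : s.K) (i : Fin (n + 2)) :
    cN s (n + 1) k ≫ (eps X).map (fc (s.h.app k) n i) = fc f n i ≫ cN s n k := by
  apply ext_P
  intro j
  rw [Category.assoc, ← CategoryTheory.Functor.map_comp, fc_pr, cN_pr, Category.assoc, cN_pr,
    ← Category.assoc, fc_pr]

theorem τ_fc {k' k : s.K} (φ : k' ⟶ k) (i : Fin (n + 2)) :
    τ s (n + 1) φ ≫ fc (s.h.app k) n i = fc (s.h.app k') n i ≫ τ s n φ := by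
  apply ext_E
  intro j
  rw [Category.assoc, fc_pr, τ_pr, Category.assoc, τ_pr, ← Category.assoc, fc_pr]

end Sys

section Lim

variable {W T : X.ProEt} {f : W ⟶ T} (s : NSys f) (n : ℕ)

theorem ext_SP {Z : Scheme.{u}} (a b : Z ⟶ (fS X).obj (Nv f n))
    (h : ∀ j, a ≫ (fS X).map (pr f n j) = b ≫ (fS X).map (pr f n j)) : a = b :=
  PEProd.ext (fS X) (cst f n) a b h

theorem ext_SE {k : s.K} {Z : Scheme.{u}} (a b : Z ⟶ (fE X).obj (Nk s n k))
    (h : ∀ j, a ≫ (fE X).map (pr (s.h.app k) n j) = b ≫ (fE X).map (pr (s.h.app k) n j)) :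
    a = b :=
  PEProd.ext (fE X) (cst (s.h.app k) n) a b h

theorem fE_τ_pr {k' k : s.K} (φ : k' ⟶ k) (j : Fin (n + 1)) :
    (fE X).map (τ s n φ) ≫ (fE X).map (pr (s.h.app k) n j) =
      (fE X).map (pr (s.h.app k') n j) ≫ (fE X).map (s.DW.map φ) := by
  rw [← CategoryTheory.Functor.map_comp, ← CategoryTheory.Functor.map_comp, τ_pr]

theorem fE_τ_bs {k' k : s.K} (φ : k' ⟶ k) :
    (fE X).map (τ s n φ) ≫ (fE X).map (bs (s.h.app k) n) =
      (fE X).map (bs (s.h.app k') n) ≫ (fE X).map (s.DT.map φ) := by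
  rw [← CategoryTheory.Functor.map_comp, ← CategoryTheory.Functor.map_comp,
    ← pr_g (s.h.app k) n 0, ← pr_g (s.h.app k') n 0, ← Category.assoc, τ_pr, Category.assoc,
    Category.assoc, s.h.naturality φ]

/-- component cones -/
noncomputable def cW (c : Cone ((NF s n ⋙ eps X) ⋙ fS X)) (j : Fin (n + 1)) :
    Cone ((s.DW ⋙ eps X) ⋙ fS X) where
  pt := c.pt
  π :=
    { app := fun k => c.π.app k ≫ (fE X).map (pr (s.h.app k) n j)
      naturality := fun k' k φ => by
        have h1 : c.π.app k' ≫ (fE X).map (τ s n φ) = c.π.app k := c.w φ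
        calc 𝟙 c.pt ≫ c.π.app k ≫ (fE X).map (pr (s.h.app k) n j)
            = c.π.app k ≫ (fE X).map (pr (s.h.app k) n j) := Category.id_comp _
          _ = (c.π.app k' ≫ (fE X).map (τ s n φ)) ≫ (fE X).map (pr (s.h.app k) n j) :=
            congrArg (· ≫ (fE X).map (pr (s.h.app k) n j)) h1.symm
          _ = c.π.app k' ≫ (fE X).map (τ s n φ) ≫ (fE X).map (pr (s.h.app k) n j) :=
            Category.assoc _ _ _
          _ = c.π.app k' ≫ (fE X).map (pr (s.h.app k') n j) ≫ (fE X).map (s.DW.map φ) :=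
            congrArg (c.π.app k' ≫ ·) (fE_τ_pr s n φ j)
          _ = (c.π.app k' ≫ (fE X).map (pr (s.h.app k') n j)) ≫ (fE X).map (s.DW.map φ) :=
            (Category.assoc _ _ _).symm }

/-- base cone -/
noncomputable def cT (c : Cone ((NF s n ⋙ eps X) ⋙ fS X)) :
    Cone ((s.DT ⋙ eps X) ⋙ fS X) where
  pt := c.pt
  π :=
    { app := fun k => c.π.app k ≫ (fE X).map (bs (s.h.app k) n)
      naturality := fun k' k φ => by
        have h1 : c.π.app k' ≫ (fE X).map (τ s n φ) = c.π.app k := c.w φ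
        calc 𝟙 c.pt ≫ c.π.app k ≫ (fE X).map (bs (s.h.app k) n)
            = c.π.app k ≫ (fE X).map (bs (s.h.app k) n) := Category.id_comp _
          _ = (c.π.app k' ≫ (fE X).map (τ s n φ)) ≫ (fE X).map (bs (s.h.app k) n) :=
            congrArg (· ≫ (fE X).map (bs (s.h.app k) n)) h1.symm
          _ = c.π.app k' ≫ (fE X).map (τ s n φ) ≫ (fE X).map (bs (s.h.app k) n) :=
            Category.assoc _ _ _
          _ = c.π.app k' ≫ (fE X).map (bs (s.h.app k') n) ≫ (fE X).map (s.DT.map φ) :=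
            congrArg (c.π.app k' ≫ ·) (fE_τ_bs s n φ)
          _ = (c.π.app k' ≫ (fE X).map (bs (s.h.app k') n)) ≫ (fE X).map (s.DT.map φ) :=
            (Category.assoc _ _ _).symm }

theorem limW_fac (c : Cone ((NF s n ⋙ eps X) ⋙ fS X)) (j : Fin (n + 1)) (k : s.K) :
    s.limW.lift (cW s n c j) ≫ (fS X).map (s.πW.app k) =
      c.π.app k ≫ (fE X).map (pr (s.h.app k) n j) :=
  s.limW.fac (cW s n c j) k

theorem limT_fac (c : Cone ((NF s n ⋙ eps X) ⋙ fS X)) (k : s.K) :
    s.limT.lift (cT s n c) ≫ (fS X).map (s.πT.app k) =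
      c.π.app k ≫ (fE X).map (bs (s.h.app k) n) :=
  s.limT.fac (cT s n c) k

theorem fS_compat (k : s.K) :
    (fS X).map (s.πW.app k) ≫ (fE X).map (s.h.app k) = (fS X).map f ≫ (fS X).map (s.πT.app k) := by
  show (fS X).map (s.πW.app k) ≫ (fS X).map ((eps X).map (s.h.app k)) = _
  rw [← CategoryTheory.Functor.map_comp, ← CategoryTheory.Functor.map_comp, s.compat]

theorem fE_pr_h (k : s.K) (j : Fin (n + 1)) :
    (fE X).map (pr (s.h.app k) n j) ≫ (fE X).map (s.h.app k) = (fE X).map (bs (s.h.app k) n) := by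
  rw [← CategoryTheory.Functor.map_comp, pr_g]

theorem lift_f (c : Cone ((NF s n ⋙ eps X) ⋙ fS X)) (j : Fin (n + 1)) :
    s.limW.lift (cW s n c j) ≫ (fS X).map f = s.limT.lift (cT s n c) := by
  apply s.limT.hom_ext
  intro k
  refine Eq.trans ?_ (limT_fac s n c k).symm
  refine (Category.assoc _ _ _).trans ?_
  refine (congrArg (s.limW.lift (cW s n c j) ≫ ·) (fS_compat s k).symm).trans ?_
  refine (Category.assoc _ _ _).symm.trans ?_
  refine (congrArg (· ≫ (fE X).map (s.h.app k)) (limW_fac s n c j k)).trans ?_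
  refine (Category.assoc _ _ _).trans ?_
  exact congrArg (c.π.app k ≫ ·) (fE_pr_h s n k j)

theorem exists_lift (c : Cone ((NF s n ⋙ eps X) ⋙ fS X)) :
    ∃ z : c.pt ⟶ (fS X).obj (Nv f n), ∀ j,
      z ≫ (fS X).map (pr f n j) = s.limW.lift (cW s n c j) :=
  PEProd.exists_lift (fS X) (cst f n) (fun j => s.limW.lift (cW s n c j))
    (s.limT.lift (cT s n c)) (fun j => lift_f s n c j)

theorem fS_cN_pr (k : s.K) (j : Fin (n + 1)) :
    (fS X).map (cN s n k) ≫ (fE X).map (pr (s.h.app k) n j) =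
      (fS X).map (pr f n j) ≫ (fS X).map (s.πW.app k) := by
  show (fS X).map (cN s n k) ≫ (fS X).map ((eps X).map (pr (s.h.app k) n j)) = _
  rw [← CategoryTheory.Functor.map_comp, ← CategoryTheory.Functor.map_comp, cN_pr]

/-- the nerve is the limit of its etale models -/
noncomputable def limN : IsLimit ((fS X).mapCone (Cone.mk (Nv f n) (πN s n))) where
  lift c := (exists_lift s n c).choose
  fac c k := by
    apply ext_SE s n
    intro j
    refine (Category.assoc _ _ _).trans ?_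
    refine (congrArg ((exists_lift s n c).choose ≫ ·) (fS_cN_pr s n k j)).trans ?_
    refine (Category.assoc _ _ _).symm.trans ?_
    refine (congrArg (· ≫ (fS X).map (s.πW.app k)) ((exists_lift s n c).choose_spec j)).trans ?_
    exact limW_fac s n c j k
  uniq c m hm := by
    apply ext_SP
    intro j
    refine Eq.trans ?_ ((exists_lift s n c).choose_spec j).symm
    apply s.limW.hom_ext
    intro k
    refine Eq.trans ?_ (limW_fac s n c j k).symm
    have hmk : m ≫ (fS X).map (cN s n k) = c.π.app k := hm k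
    refine (Category.assoc _ _ _).trans ?_
    refine (congrArg (m ≫ ·) (fS_cN_pr s n k j).symm).trans ?_
    refine (Category.assoc _ _ _).symm.trans ?_
    exact congrArg (· ≫ (fE X).map (pr (s.h.app k) n j)) hmk

end Lim

section Aff

theorem isAffine_nv {𝒞 : Type*} [Category 𝒞] (Φ : 𝒞 ⥤ Scheme.{u})
    [PreservesLimitsOfShape WalkingCospan Φ] {V U : 𝒞} (g : V ⟶ U) [HasFiniteProducts (Over U)]
    (hV : IsAffine (Φ.obj V)) (hU : IsAffine (Φ.obj U)) (n : ℕ) : IsAffine (Φ.obj (Nv g n)) := by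
  refine Groth.Agent.Lib.Helper28.OverProd.prod_left_mem {Z : 𝒞 | IsAffine (Φ.obj Z)} ?_ hU n
    (cst g n) (fun _ => hV)
  intro P Z₁ Z₂ W₀ fst snd f₁ g₁ hpb h1 h2 h3
  have h1' : IsAffine (Φ.obj Z₁) := h1
  have h2' : IsAffine (Φ.obj Z₂) := h2
  have h3' : IsAffine (Φ.obj W₀) := h3
  have hpb' := hpb.map Φ
  exact IsAffine.of_isPullback hpb'

variable {W T : X.ProEt} {f : W ⟶ T} (s : NSys f) (n : ℕ)

/-- the presentation of the nerve -/
noncomputable def ppN : PP (Nv f n) where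
  Λ := s.K
  D := NF s n
  aff k := isAffine_nv (fE X) (s.h.app k) (s.affW k) (s.affT k) n
  π := πN s n
  lim := limN s n

end Aff

end Groth.Agent.Lib.Helper82.PENerve
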