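import Groth.Agent.Lib.Helper28.CechO
import Groth.Agent.Lib.Helper28.CechP
import Groth.Agent.Lib.Helper82.PENerve

/-!
# The Čech complex of a single morphism, elementwise
-/

set_option autoImplicit false
open CategoryTheory CategoryTheory.Limits Opposite Simplicial
open Groth.Agent.Lib.Helper28 Groth.Agent.Lib.Helper82.PENerve

namespace Groth.Agent.Lib.Helper82.PECechT

universe w v u

variable {C : Type u} [Category.{v} C] [LocallySmall.{w} C] {V U : C} (g : V ⟶ U)
  [HasFiniteProducts (Over U)] (Q : Cᵒᵖ ⥤ AddCommGrpCat.{w})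

/-- the one member family -/
abbrev Y1 : PUnit.{w + 1} → Over U := fun _ => Over.mk g

/-- the Čech complex -/
noncomputable abbrev KK : CochainComplex AddCommGrpCat.{w} ℕ :=
  CechA.K (Over.forget U) (CechO.cechE (Y1 g)) Q

/-- the alternating sum of the face maps -/
noncomputable def ddHom (n : ℕ) : Q.obj (op (Nv g n)) ⟶ Q.obj (op (Nv g (n + 1))) :=
  ∑ i : Fin (n + 2), (-1 : ℤ) ^ (i : ℕ) • Q.map (fc g n i).op

/-- the alternating sum of the face maps -/
noncomputable def dd (n : ℕ) (x : Q.obj (op (Nv g n))) : Q.obj (op (Nv g (n + 1))) :=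
  ddHom g Q n x

omit [LocallySmall.{w} C] in
theorem dd_apply (n : ℕ) (x : Q.obj (op (Nv g n))) :
    dd g Q n x = ∑ i : Fin (n + 2), (-1 : ℤ) ^ (i : ℕ) • Q.map (fc g n i).op x := by
  unfold dd ddHom
  rw [CechA.sum_apply]
  rfl

/-- the constant family of groups -/
noncomputable abbrev GG (n : ℕ) : (Fin (n + 1) → PUnit.{w + 1}) → AddCommGrpCat.{w} :=
  fun _ => Q.obj (op (Nv g n))

/-- evaluation at the unique index -/
noncomputable def ev (n : ℕ) (x : (KK g Q).X n) : Q.obj (op (Nv g n)) :=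
  Pi.π (GG g Q n) (fun _ => PUnit.unit) x

omit [LocallySmall.{w} C] in
theorem ev_injective (n : ℕ) : Function.Injective (ev g Q n) :=
  fun x y h => CechY.prod_ext (GG g Q n) x y (fun _ => h)

omit [LocallySmall.{w} C] in
theorem ev_surjective (n : ℕ) (y₀ : Q.obj (op (Nv g n))) : ∃ x, ev g Q n x = y₀ :=
  ⟨(Concrete.productEquiv (GG g Q n)).symm (fun _ => y₀),
    Concrete.productEquiv_symm_apply_π _ _ _⟩

omit [LocallySmall.{w} C] in
theorem ev_zero (n : ℕ) : ev g Q n 0 = 0 := map_zero _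

omit [LocallySmall.{w} C] in
theorem d_π (n : ℕ) :
    (KK g Q).d n (n + 1) ≫ Pi.π (GG g Q (n + 1)) (fun _ => PUnit.unit) =
      Pi.π (GG g Q n) (fun _ => PUnit.unit) ≫ ddHom g Q n := by
  have h := CechA.K_d (Over.forget U) (CechO.cechE (Y1 g)) Q n
  refine (congrArg (· ≫ Pi.π (GG g Q (n + 1)) (fun _ => PUnit.unit)) h).trans ?_
  unfold ddHom
  refine (Preadditive.sum_comp _ _ _).trans ?_
  refine Eq.trans ?_ (Preadditive.comp_sum _ _ _).symm
  refine Finset.sum_congr rfl fun i _ => ?_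
  refine (Preadditive.zsmul_comp _ _ _).trans ?_
  refine Eq.trans ?_ (Preadditive.comp_zsmul _ _ _).symm
  exact congrArg (fun z => (-1 : ℤ) ^ (i : ℕ) • z) (Pi.lift_π _ _)

theorem ev_d (n : ℕ) (x : (KK g Q).X n) :
    ev g Q (n + 1) ((KK g Q).d n (n + 1) x) = dd g Q n (ev g Q n x) :=
  ConcreteCategory.congr_hom (d_π g Q n) x

theorem isZero_iff (p : ℕ) : IsZero ((KK g Q).homology (p + 1)) ↔
    ∀ x₀ : Q.obj (op (Nv g (p + 1))), dd g Q (p + 1) x₀ = 0 → ∃ y₀, dd g Q p y₀ = x₀ := by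
  rw [← HomologicalComplex.exactAt_iff_isZero_homology,
    HomologicalComplex.exactAt_iff' _ p (p + 1) (p + 2) (by simp) (by simp),
    ShortComplex.ab_exact_iff]
  constructor
  · intro h x₀ hx₀
    obtain ⟨x, rfl⟩ := ev_surjective g Q (p + 1) x₀
    have hx : (KK g Q).d (p + 1) (p + 2) x = 0 := by
      apply ev_injective g Q (p + 2)
      exact (ev_d g Q (p + 1) x).trans (hx₀.trans (ev_zero g Q (p + 2)).symm)
    obtain ⟨y, hy⟩ := h x hx
    have hy' : (KK g Q).d p (p + 1) y = x := hy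
    exact ⟨ev g Q p y, (ev_d g Q p y).symm.trans (congrArg _ hy')⟩
  · intro h x hx
    have hx' : (KK g Q).d (p + 1) (p + 2) x = 0 := hx
    have h0 : dd g Q (p + 1) (ev g Q (p + 1) x) = 0 :=
      (ev_d g Q (p + 1) x).symm.trans ((congrArg _ hx').trans (ev_zero g Q (p + 2)))
    obtain ⟨y₀, hy₀⟩ := h _ h0
    obtain ⟨y, rfl⟩ := ev_surjective g Q p y₀
    refine ⟨y, ?_⟩
    show (KK g Q).d p (p + 1) y = x
    apply ev_injective g Q (p + 1)
    exact (ev_d g Q p y).trans hy₀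

end Groth.Agent.Lib.Helper82.PECechT
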