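import Groth.Agent.Lib.Helper82.PECartan
import Groth.Agent.Lib.Helper82.HComp
import Groth.Agent.Lib.Helper82.EpsGeo2
import Groth.Agent.Lib.Helper45.PseudoFiltered3

set_option autoImplicit false
set_option linter.style.haveILetI false
open CategoryTheory CategoryTheory.Limits AlgebraicGeometry Opposite
universe u
open ProEtS

namespace Groth.Agent.Lib.Helper82.PEFinal

open PECartan

variable (X : Scheme.{u}) [EpsCont X]

instance preservesFiniteLimits_epsPull : PreservesFiniteLimits (epsPull X) := by
  have := Groth.Agent.Lib.Helper45.PseudoFiltered.lan_preservesFiniteLimits_large (eps X)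
  exact Functor.sheafPullbackConstruction.preservesFiniteLimits (eps X) AddCommGrpCat.{u + 1}
    X.smallEtaleTopology (Scheme.ProEt.topology X)

instance epsPull_additive : (epsPull X).Additive := (epsAdj X).left_adjoint_additive

instance epsPull_preservesFiniteColimits : PreservesFiniteColimits (epsPull X) :=
  have : PreservesColimitsOfSize.{0, 0} (epsPull X) := (epsAdj X).leftAdjoint_preservesColimits
  PreservesColimitsOfSize.preservesFiniteColimits _

theorem isIso_unit (F : EtCoh.Ab X) : IsIso ((epsAdj X).unit.app F) := by
  apply EpsUnit.isIso_unit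
  intro U hU
  have := hU
  obtain ⟨d⟩ := EpsGeo.nonempty_pres U
  exact EpsMain.bijective_α F d

instance : IsIso (epsAdj X).unit := by
  have := isIso_unit X
  exact NatIso.isIso_of_isIso_app _

theorem isZero_RepsPush_epsPull (F : EtCoh.Ab X) (q : ℕ) :
    IsZero ((RepsPush X (q + 1)).obj ((epsPull X).obj F)) := by
  have : PreservesLimitsOfSize.{0, 0} (epsPush X) := (epsAdj X).rightAdjoint_preservesLimits
  have : PreservesFiniteLimits (epsPush X) := PreservesLimitsOfSize.preservesFiniteLimits _
  have : PreservesFiniteLimits (epsPull X ⋙ epsPush X) := comp_preservesFiniteLimits _ _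
  have : PreservesFiniteColimits (epsPull X ⋙ epsPush X) :=
    preservesFiniteColimits_of_natIso (asIso (epsAdj X).unit)
  refine Groth.Agent.Lib.Helper68.AcycTransfer.isZero_rightDerived_comp (T := epsPull X)
    (Γ := epsPush X) (Γ' := epsPull X ⋙ epsPush X) (Iso.refl _) ?_ q F ⟨?_, ?_⟩
  · intro I hI q
    exact isZero_RepsPush_of_Pr q _ (Pr_pull_injective I)
  · intro q
    exact HComp.isZero_rightDerived_of_exact (epsPull X) q F
  · intro q
    exact HComp.isZero_rightDerived_of_exact (epsPull X ⋙ epsPush X) q F

end Groth.Agent.Lib.Helper82.PEFinal
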