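import Groth.Agent.Lib.Helper82.PEFinal
import Groth.Prelude.Def_EtCore

set_option autoImplicit false
set_option linter.style.haveILetI false
open CategoryTheory CategoryTheory.Limits AlgebraicGeometry Opposite
universe u
open ProEtS

namespace Groth.Agent.Lib.Helper82.PEFinal

variable (X : Scheme.{u}) [EpsCont X]

theorem injective_epsPush (I : AbP X) [Injective I] : Injective ((epsPush X).obj I) :=
  Injective.injective_of_adjoint (epsAdj X) I

theorem nonempty_H_equiv (F : EtCoh.Ab X) (i : ℕ) :
    Nonempty (EtCoh.H X F i ≃+ HP X ((epsPull X).obj F) i) := by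
  have hT : IsTerminal (EtCoh.top X) := EtCore.topIsTerminal X
  have hT' : IsTerminal ((eps X).obj (EtCoh.top X)) :=
    IsTerminal.isTerminalObj (eps X) _ hT
  have : PreservesLimitsOfSize.{0, 0} (epsPush X) := (epsAdj X).rightAdjoint_preservesLimits
  have : PreservesFiniteLimits (epsPush X) := PreservesLimitsOfSize.preservesFiniteLimits _
  obtain ⟨e⟩ := HComp.nonempty_H_equiv (Scheme.ProEt.topology X) X.smallEtaleTopology (eps X)
    hT hT' (fun I hI => injective_epsPush X I) ((epsPull X).obj F)
    (fun n => isZero_RepsPush_epsPull X F n) i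
  have := isIso_unit X F
  let u : F ≅ (epsPush X).obj ((epsPull X).obj F) := asIso ((epsAdj X).unit.app F)
  exact ⟨(((EtCoh.HF X i).mapIso u).addCommGroupIsoToAddEquiv).trans e.symm⟩

theorem subsingleton_HP_epsPull_injective (I : EtCoh.Ab X) [Injective I] (p : ℕ) :
    Subsingleton (HP X ((epsPull X).obj I) (p + 1)) := by
  obtain ⟨e⟩ := nonempty_H_equiv X I (p + 1)
  have : Subsingleton (EtCoh.H X I (p + 1)) :=
    ⟨fun a b => (Abelian.Ext.eq_zero_of_injective a).trans (Abelian.Ext.eq_zero_of_injective b).symm⟩
  exact e.symm.injective.subsingleton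

end Groth.Agent.Lib.Helper82.PEFinal
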