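import Groth.Prelude.Def_ProEtS
import Mathlib

set_option autoImplicit false
open CategoryTheory CategoryTheory.Limits AlgebraicGeometry Opposite
universe u
open ProEtS

namespace Groth.Agent.Lib.Helper82.PEPres

/-- the functor to structured arrows attached to a cone -/
def GS {A B : Type*} [Category A] [Category B] (ε : A ⥤ B) {M : Type*} [Category M] (D : M ⥤ A)
    {T : B} (π : (Functor.const M).obj T ⟶ D ⋙ ε) : M ⥤ StructuredArrow T ε where
  obj m := StructuredArrow.mk (π.app m)
  map {m m'} g := StructuredArrow.homMk (D.map g) (by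
    have := π.naturality g
    simp only [Functor.const_obj_obj, Functor.const_obj_map, Category.id_comp,
      Functor.comp_map] at this
    exact this.symm)
  map_id m := by
    apply StructuredArrow.hom_ext
    simp
  map_comp f g := by
    apply StructuredArrow.hom_ext
    simp

variable {X : Scheme.{u}}

/-- the forgetful functor to schemes -/
noncomputable abbrev fS (X : Scheme.{u}) : X.ProEt ⥤ Scheme.{u} :=
  Scheme.ProEt.forget X ⋙ Over.forget X

/-- a presentation of a pro-etale object as a cofiltered limit of affine etale objects -/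
structure PP (T : X.ProEt) where
  Λ : Type u
  [cat : SmallCategory Λ]
  [cof : IsCofiltered Λ]
  D : Λ ⥤ X.Etale
  aff : ∀ l, IsAffine (D.obj l).left
  π : (Functor.const Λ).obj T ⟶ D ⋙ eps X
  lim : IsLimit ((fS X).mapCone (Cone.mk T π))

attribute [instance] PP.cat PP.cof

namespace PP

variable {T : X.ProEt} (p : PP T)

/-- the diagram of schemes -/
noncomputable abbrev DSch : p.Λ ⥤ Scheme.{u} := (p.D ⋙ eps X) ⋙ fS X

/-- structure maps -/
noncomputable def str : p.DSch ⟶ (Functor.const p.Λ).obj X where
  app l := (p.D.obj l).hom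
  naturality l l' g := by
    show (p.D.map g).left ≫ (p.D.obj l').hom = (p.D.obj l).hom ≫ 𝟙 _
    rw [Category.comp_id]
    exact MorphismProperty.Over.w (p.D.map g)

instance (l : p.Λ) : IsAffine (p.DSch.obj l) := p.aff l

set_option backward.isDefEq.respectTransparency.types false in
theorem factor (V : X.Etale) (a : T ⟶ (eps X).obj V) :
    ∃ (l : p.Λ) (g : p.D.obj l ⟶ V), p.π.app l ≫ (eps X).map g = a := by
  have : LocallyOfFinitePresentation V.hom := inferInstance
  have ha : ((fS X).mapCone (Cone.mk T p.π)).π ≫ p.str = (Functor.const _).map (a.left ≫ V.hom) := by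
    ext l
    show (p.π.app l).left ≫ (p.D.obj l).hom = a.left ≫ V.hom
    have h1 := MorphismProperty.Over.w (p.π.app l)
    have h2 := MorphismProperty.Over.w a
    exact h1.trans h2.symm
  obtain ⟨l, g, hg1, hg2⟩ := Scheme.exists_π_app_comp_eq_of_locallyOfFinitePresentation
    p.DSch p.str V.hom _ p.lim a.left ha
  refine ⟨l, MorphismProperty.Over.homMk g hg2, ?_⟩
  apply MorphismProperty.Over.Hom.ext
  exact hg1

set_option backward.isDefEq.respectTransparency.types false in
theorem unique {l : p.Λ} (V : X.Etale) (g g' : p.D.obj l ⟶ V)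
    (h : p.π.app l ≫ (eps X).map g = p.π.app l ≫ (eps X).map g') :
    ∃ (l' : p.Λ) (φ : l' ⟶ l), p.D.map φ ≫ g = p.D.map φ ≫ g' := by
  have : LocallyOfFiniteType V.hom := inferInstance
  obtain ⟨l', φ, hφ⟩ := Scheme.exists_hom_comp_eq_comp_of_locallyOfFiniteType
    p.DSch p.str V.hom _ p.lim g.left g'.left (MorphismProperty.Over.w g).symm
    (MorphismProperty.Over.w g').symm (congrArg (fun m => m.left) h)
  refine ⟨l', φ, ?_⟩
  apply MorphismProperty.Over.Hom.ext
  exact hφ

theorem initial : (GS (eps X) p.D p.π).Initial := by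
  apply Functor.initial_of_exists_of_isCofiltered
  · intro d
    obtain ⟨l, g, hg⟩ := p.factor d.right d.hom
    exact ⟨l, ⟨StructuredArrow.homMk g hg⟩⟩
  · intro d l s s'
    obtain ⟨l', φ, hφ⟩ := p.unique d.right s.right s'.right
      ((StructuredArrow.w s).trans (StructuredArrow.w s').symm)
    refine ⟨l', φ, ?_⟩
    apply StructuredArrow.hom_ext
    exact hφ

end PP

end Groth.Agent.Lib.Helper82.PEPres
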