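import Groth.Agent.Lib.Helper82.PEPres

set_option autoImplicit false
open CategoryTheory CategoryTheory.Limits AlgebraicGeometry Opposite
universe u
open ProEtS

namespace Groth.Agent.Lib.Helper82.PEPres

variable {X : Scheme.{u}}

/-- a strict system of etale models of a morphism of pro-etale objects -/
structure NSys {W T : X.ProEt} (f : W ⟶ T) where
  K : Type u
  [cat : SmallCategory K]
  [cof : IsCofiltered K]
  DW : K ⥤ X.Etale
  DT : K ⥤ X.Etale
  h : DW ⟶ DT
  πW : (Functor.const K).obj W ⟶ DW ⋙ eps X
  πT : (Functor.const K).obj T ⟶ DT ⋙ eps X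
  compat : ∀ k, πW.app k ≫ (eps X).map (h.app k) = f ≫ πT.app k
  affW : ∀ k, IsAffine (DW.obj k).left
  affT : ∀ k, IsAffine (DT.obj k).left
  limW : IsLimit ((fS X).mapCone (Cone.mk W πW))
  limT : IsLimit ((fS X).mapCone (Cone.mk T πT))

attribute [instance] NSys.cat NSys.cof

section Strict

variable {W T : X.ProEt} (f : W ⟶ T) (pW : PP W) (pT : PP T)

/-- the first functor -/
noncomputable abbrev GW : pW.Λ ⥤ StructuredArrow W (eps X) := GS (eps X) pW.D pW.π

/-- the cone over the presentation of `T` with vertex `W` -/
noncomputable def πf : (Functor.const pT.Λ).obj W ⟶ pT.D ⋙ eps X where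
  app l := f ≫ pT.π.app l
  naturality l l' g := by
    have := pT.π.naturality g
    simp only [Functor.const_obj_obj, Functor.const_obj_map, Category.id_comp] at this ⊢
    rw [this, Category.assoc]

/-- the second functor -/
noncomputable abbrev GT : pT.Λ ⥤ StructuredArrow W (eps X) := GS (eps X) pT.D (πf f pT)

/-- the index category -/
abbrev KK : Type u := Comma (GW pW) (GT f pT)

noncomputable instance : IsCofiltered (KK f pW pT) :=
  haveI := pW.initial
  Comma.isCofiltered_of_initial _ _

instance : (Comma.fst (GW pW) (GT f pT)).Initial :=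
  haveI := pW.initial
  inferInstance

instance : (Comma.snd (GW pW) (GT f pT)).Initial :=
  haveI := pW.initial
  inferInstance

set_option backward.isDefEq.respectTransparency.types false in
/-- the strictification -/
noncomputable def nsys : NSys f where
  K := KK f pW pT
  DW := Comma.fst _ _ ⋙ pW.D
  DT := Comma.snd _ _ ⋙ pT.D
  h :=
    { app := fun k => k.hom.right
      naturality := fun k k' φ => by
        have := congrArg CommaMorphism.right φ.w
        exact this }
  πW :=
    { app := fun k => pW.π.app k.left
      naturality := fun k k' φ => pW.π.naturality φ.left }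
  πT :=
    { app := fun k => pT.π.app k.right
      naturality := fun k k' φ => pT.π.naturality φ.right }
  compat := fun k => StructuredArrow.w k.hom
  affW := fun k => pW.aff k.left
  affT := fun k => pT.aff k.right
  limW := (Functor.Initial.isLimitWhiskerEquiv (Comma.fst (GW pW) (GT f pT)) _).symm pW.lim
  limT := (Functor.Initial.isLimitWhiskerEquiv (Comma.snd (GW pW) (GT f pT)) _).symm pT.lim

end Strict

end Groth.Agent.Lib.Helper82.PEPres
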