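import Groth.Agent.Lib.Helper82.PECech
import Groth.Agent.Lib.Helper28.CartanG

set_option autoImplicit false
open CategoryTheory CategoryTheory.Limits AlgebraicGeometry Opposite
universe u
open ProEtS

namespace Groth.Agent.Lib.Helper82.PETheta

open EpsLan EpsH EpsUnit EpsMain PEPres PENerve PECechT PECech PEB PERing

theorem dd_natural {C : Type*} [Category C] {V U : C} (g : V ⟶ U) [HasFiniteProducts (Over U)]
    {Q Q' : Cᵒᵖ ⥤ AddCommGrpCat.{u + 1}} (η : Q ⟶ Q') (n : ℕ) (x : Q.obj (op (Nv g n))) :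
    dd g Q' n (η.app _ x) = η.app _ (dd g Q n x) := by
  rw [dd_apply, dd_apply, map_sum]
  refine Finset.sum_congr rfl fun i _ => ?_
  rw [map_zsmul]
  congr 1
  exact (NatTrans.naturality_apply η (fc g n i).op x).symm

variable {X : Scheme.{u}} [EpsCont X] (I : EtCoh.Ab X)

set_option backward.isDefEq.respectTransparency.types false in
theorem injective_θ (T : X.ProEt) : Function.Injective ((θ I).app (op T)) := by
  rw [injective_iff_map_eq_zero]
  intro x hx
  obtain ⟨V, a, t, rfl⟩ := mkElt_surjective I.obj x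
  rw [θ_mkElt] at hx
  obtain ⟨O, hO, hxO⟩ := exists_vanishing_open I V t T a hx
  haveI hOι : IsOpenImmersion O.ι := inferInstance
  let TO : X.Etale := Scheme.Etale.mk (O.ι ≫ V.hom)
  let ιO : TO ⟶ V := MorphismProperty.Over.homMk O.ι
  have hr : Set.range a.left ⊆ Set.range O.ι := by
    have hO' : Set.range O.ι = (O : Set V.left) := Scheme.Opens.range_ι O
    rintro _ ⟨z, rfl⟩
    apply hO'.ge
    exact hO z
  let l : T.left ⟶ (O : Scheme) := IsOpenImmersion.lift O.ι a.left hr
  have hl : l ≫ O.ι = a.left := IsOpenImmersion.lift_fac _ _ _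
  let a' : T ⟶ (eps X).obj TO := MorphismProperty.Over.homMk l (by
    show l ≫ O.ι ≫ V.hom = T.hom
    rw [reassoc_of% hl]
    exact MorphismProperty.Over.w a)
  have ha' : a' ≫ (eps X).map ιO = a := by
    apply MorphismProperty.Over.Hom.ext
    exact hl
  rw [← ha', mkElt_comp]
  have : I.obj.map ιO.op t = 0 := hxO
  rw [this, mkElt_zero]

set_option backward.isDefEq.respectTransparency.types false in
theorem bijective_θ {T : X.ProEt} (hT : InB T) : Function.Bijective ((θ I).app (op T)) := by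
  refine ⟨injective_θ I T, ?_⟩
  intro y
  obtain ⟨W, f, hWB, hWC, hf, hsurj, hcov⟩ := exists_cover hT
  obtain ⟨pT⟩ := nonempty_pp hT
  obtain ⟨pW⟩ := nonempty_pp hWB
  let s : NSys f := nsys f pW pT
  haveI : IsAffine W.left := hWB.1
  obtain ⟨x, hx⟩ := (theta_bijective I W hWC).2 ((Psh I).map f.op y)
  have hxx : (P I.obj).map (pr f 1 0).op x = (P I.obj).map (pr f 1 1).op x := by
    apply injective_θ I (Nv f 1)
    have e : ∀ i : Fin 2, (θ I).app (op (Nv f 1)) ((P I.obj).map (pr f 1 i).op x) =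
        (Psh I).map (bs f 1).op y := by
      intro i
      rw [NatTrans.naturality_apply, hx, ← ConcreteCategory.comp_apply,
        ← CategoryTheory.Functor.map_comp, ← op_comp, pr_g]
    rw [e, e]
  obtain ⟨z, hz⟩ := exact_P0 I s hsurj x hxx
  refine ⟨z, ?_⟩
  have hG := (isSheaf_iff_isSheaf_of_type _ _).mp
    ((sheafCompose (Scheme.ProEt.topology X) (forget AddCommGrpCat.{u + 1})).obj
      ((presheafToSheaf (Scheme.ProEt.topology X) AddCommGrpCat.{u + 1}).obj
        (EpsLan.P I.obj))).property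
  have hsep := (hG.isSheafFor _ hcov).isSeparatedFor
  apply hsep.ext
  rintro Y f' ⟨⟩
  show (Psh I).map f.op ((θ I).app (op T) z) = (Psh I).map f.op y
  rw [← hx, ← hz]
  exact (NatTrans.naturality_apply (θ I) f.op z).symm

theorem isZero_cech [Injective I] {T W : X.ProEt} (hT : InB T) (f : W ⟶ T) (hWB : InB W)
    (hf : IndEt f.left.appTop) (p : ℕ) :
    IsZero ((KK f (Psh I)).homology (p + 1)) := by
  rw [isZero_iff]
  intro x₀ hx₀
  obtain ⟨pT⟩ := nonempty_pp hT
  obtain ⟨pW⟩ := nonempty_pp hWB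
  let s : NSys f := nsys f pW pT
  have hB : ∀ n, InB (Nv f n) := fun n => inB_nv f hT hWB.1 hf n
  obtain ⟨x₀', rfl⟩ := (bijective_θ I (hB (p + 1))).2 x₀
  have h0 : dd f (P I.obj) (p + 1) x₀' = 0 := by
    apply (bijective_θ I (hB (p + 2))).1
    rw [← dd_natural, hx₀, map_zero]
  haveI := Groth.Agent.Lib.Helper28.CartanG.injective_obj I
  have het : ∀ (k : s.K) (p : ℕ) (σ : I.obj.obj (op (Nk s (p + 1) k))),
      dd (s.h.app k) I.obj (p + 1) σ = 0 → ∃ ρ, dd (s.h.app k) I.obj p ρ = σ := fun k p =>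
    (isZero_iff (s.h.app k) I.obj p).mp
      (Groth.Agent.Lib.Helper28.CechO.isZero_cech_homology_succ_of_injective
        (Y1 (s.h.app k)) I.obj p)
  obtain ⟨y₀', hy₀'⟩ := exact_P I.obj s het p x₀' h0
  exact ⟨(θ I).app _ y₀', by rw [dd_natural, hy₀']⟩

end Groth.Agent.Lib.Helper82.PETheta
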