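import Mathlib
import Groth.Prelude.Def_ProEtS
import Groth.Prelude.Def_PBC
import Groth.Agent.S0177
import Groth.Agent.S1412
import Groth.Agent.Lib.Helper82.ProEtSite

set_option autoImplicit false
open CategoryTheory CategoryTheory.Limits AlgebraicGeometry Opposite
universe u
open ProEtS

namespace Groth.Agent.Lib.Helper82.ProEtCov

theorem isWContractible_of_ringEquiv {D D' : Type u} [CommRing D] [CommRing D'] (e : D ≃+* D')
    (h : EtPBC.IsWContractible D) : EtPBC.IsWContractible D' := by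
  intro B _ _ hff hwe
  letI : Algebra D D' := e.toRingHom.toAlgebra
  letI : Algebra D B := ((algebraMap D' B).comp e.toRingHom).toAlgebra
  haveI : IsScalarTower D D' B := .of_algebraMap_eq (fun _ => rfl)
  let eA : D ≃ₐ[D] D' := { e with commutes' := fun _ => rfl }
  haveI : Algebra.Etale D D' := Algebra.Etale.of_equiv eA
  haveI : Algebra.WeaklyEtale D D' := inferInstance
  haveI : Module.FaithfullyFlat D D' := Module.FaithfullyFlat.of_linearEquiv D D eA.toLinearEquiv.symm
  haveI : Algebra.WeaklyEtale D B := Algebra.WeaklyEtale.trans D D' B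
  haveI : Module.FaithfullyFlat D B := Module.FaithfullyFlat.trans D D' B
  obtain ⟨r⟩ := h B inferInstance inferInstance
  refine ⟨{ (e.toRingHom.comp r.toRingHom) with commutes' := fun d' => ?_ }⟩
  show e (r (algebraMap D' B d')) = d'
  have h1 : algebraMap D' B d' = algebraMap D B (e.symm d') := by
    show _ = algebraMap D' B (e (e.symm d'))
    rw [e.apply_symm_apply]
  rw [h1, r.commutes]
  exact e.apply_symm_apply d'


theorem weaklyEtale_SpecMap_of_weaklyEtale (A D : Type u) [CommRing A] [CommRing D] [Algebra A D]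
    [Algebra.WeaklyEtale A D] :
    WeaklyEtale (Spec.map (CommRingCat.ofHom (algebraMap A D))) := by
  rw [Groth.Agent.S1412.weaklyEtale_SpecMap_iff]
  refine ⟨?_, ?_⟩
  · exact (RingHom.flat_algebraMap_iff).mpr inferInstance
  · have h := Algebra.WeaklyEtale.flat_lmul' A D
    have e : (CommRingCat.Hom.hom (CommRingCat.ofHom (algebraMap A D))).toAlgebra =
        (inferInstance : Algebra A D) := Algebra.algebra_ext _ _ (fun r => rfl)
    rw [e]
    exact h

theorem exists_wContractible_cover_affine (Y : Scheme.{u}) [IsAffine Y] :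
    ∃ (V : Scheme.{u}) (h : V ⟶ Y), IsAffine V ∧ WeaklyEtale h ∧ Surjective h ∧ QuasiCompact h ∧
      EtPBC.IsWContractible ↥(Γ(V, ⊤)) := by
  obtain ⟨D, _, _, hff, het, hwc⟩ := Groth.Agent.S0177.result (Γ(Y, ⊤))
  haveI : Algebra.WeaklyEtale (Γ(Y, ⊤)) D := Groth.Agent.Lib.Helper82.weaklyEtale_of_isIndEtale het
  let φ : Γ(Y, ⊤) ⟶ CommRingCat.of D := CommRingCat.ofHom (algebraMap (Γ(Y, ⊤)) D)
  haveI h1 : WeaklyEtale (Spec.map φ) := weaklyEtale_SpecMap_of_weaklyEtale _ D
  have h2 : Flat (Spec.map φ) ∧ Surjective (Spec.map φ) := by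
    rw [flat_and_surjective_SpecMap_iff]
    exact (RingHom.faithfullyFlat_algebraMap_iff).mpr hff
  haveI := h2.2
  refine ⟨Spec (CommRingCat.of D), Spec.map φ ≫ Y.isoSpec.inv, inferInstance, inferInstance,
    inferInstance, inferInstance, ?_⟩
  exact isWContractible_of_ringEquiv (Scheme.ΓSpecIso (CommRingCat.of D)).commRingCatIsoToRingEquiv.symm
    hwc


set_option backward.isDefEq.respectTransparency.types false in
theorem exists_cover_by_affine_wContractible {X : Scheme.{u}} (U : X.ProEt) :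
    ∃ (ι : Type u) (V : ι → X.ProEt) (g : ∀ i, V i ⟶ U),
      Sieve.generate (Presieve.ofArrows V g) ∈ Scheme.ProEt.topology X U ∧
        ∀ i, IsAffine (V i).left ∧ EtPBC.IsWContractible ↥(Γ((V i).left, ⊤)) := by
  let 𝒰 := U.left.affineCover
  choose W h hWaff hwe hsurj hqc hwc using fun i : 𝒰.I₀ => exists_wContractible_cover_affine (𝒰.X i)
  let V : (Σ _ : 𝒰.I₀, PUnit.{u+1}) → X.ProEt := fun p =>
    Scheme.ProEt.mk ((h p.1 ≫ 𝒰.f p.1) ≫ U.hom)
  let g : ∀ p, V p ⟶ U := fun p => MorphismProperty.Over.homMk (h p.1 ≫ 𝒰.f p.1)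
  refine ⟨Σ _ : 𝒰.I₀, PUnit.{u+1}, V, g, ?_, fun p => ⟨hWaff p.1, hwc p.1⟩⟩
  apply Precoverage.generate_mem_toGrothendieck
  show (Presieve.ofArrows V g).map (Scheme.ProEt.forget X ⋙ Over.forget X) ∈
    Scheme.proetalePrecoverage U.left
  rw [Presieve.map_ofArrows]
  have hf : Presieve.ofArrows 𝒰.X 𝒰.f ∈ Scheme.proetalePrecoverage U.left :=
    Scheme.zariskiPrecoverage_le_propQCPrecoverage _ 𝒰.mem₀
  have hg : ∀ i : 𝒰.I₀, Presieve.ofArrows (fun _ : PUnit.{u+1} => W i) (fun _ => h i) ∈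
      Scheme.proetalePrecoverage (𝒰.X i) := by
    intro i
    rw [Presieve.ofArrows_pUnit]
    refine ⟨?_, ?_⟩
    · haveI := hsurj i
      haveI := hqc i
      exact Scheme.Hom.singleton_mem_qcPrecoverage (h i)
    · rw [Scheme.singleton_mem_precoverage_iff]
      exact ⟨(hsurj i).surj, hwe i⟩
  exact Precoverage.comp_mem_coverings 𝒰.f hf (fun i _ => h i) hg

end Groth.Agent.Lib.Helper82.ProEtCov
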