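import Groth.Agent.Lib.Helper82.ProEtWC5
import Mathlib.CategoryTheory.Sites.Point.Conservative
import Mathlib.CategoryTheory.Functor.TypeValuedFlat
import Mathlib.CategoryTheory.Limits.FilteredColimitCommutesFiniteLimit

set_option autoImplicit false
open CategoryTheory CategoryTheory.Limits AlgebraicGeometry Opposite
universe u

namespace Groth.Agent.Lib.Helper82.ProEtPt

variable {X : Scheme.{u}} (W : X.ProEt) (w : W.left)

/-- clopen neighbourhoods of `w` -/
def ClopenNhd : Type u := {N : W.left.Opens // IsClopen (N : Set W.left) ∧ w ∈ N}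

instance : PartialOrder (ClopenNhd W w) := Subtype.partialOrder _

instance : Nonempty (ClopenNhd W w) := ⟨⟨⊤, isClopen_univ, trivial⟩⟩

instance : IsDirected (ClopenNhd W w) (· ≥ ·) :=
  ⟨fun a b => ⟨⟨a.1 ⊓ b.1, a.2.1.inter b.2.1, ⟨a.2.2, b.2.2⟩⟩,
    (inf_le_left : a.1 ⊓ b.1 ≤ a.1), (inf_le_right : a.1 ⊓ b.1 ≤ b.1)⟩⟩

instance : IsCofiltered (ClopenNhd W w) := inferInstance

/-- the open subscheme as an object of the pro-etale site -/
noncomputable abbrev nhdObj (N : W.left.Opens) : X.ProEt := Scheme.ProEt.mk (N.ι ≫ W.hom)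

set_option backward.isDefEq.respectTransparency.types false in
/-- restriction maps -/
noncomputable def nhdRes {N N' : W.left.Opens} (h : N ≤ N') : nhdObj W N ⟶ nhdObj W N' :=
  MorphismProperty.Over.homMk (W.left.homOfLE h) (by
    show W.left.homOfLE h ≫ N'.ι ≫ W.hom = N.ι ≫ W.hom
    rw [← Category.assoc, Scheme.homOfLE_ι])

set_option backward.isDefEq.respectTransparency.types false in
/-- inclusion into W -/
noncomputable def nhdι (N : W.left.Opens) : nhdObj W N ⟶ W :=
  MorphismProperty.Over.homMk N.ι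

set_option backward.isDefEq.respectTransparency.types false in
@[simp]
theorem nhdRes_ι {N N' : W.left.Opens} (h : N ≤ N') : nhdRes W h ≫ nhdι W N' = nhdι W N := by
  apply MorphismProperty.Over.Hom.ext
  exact Scheme.homOfLE_ι _ h

set_option backward.isDefEq.respectTransparency.types false in
@[simp]
theorem nhdRes_refl (N : W.left.Opens) : nhdRes W (le_refl N) = 𝟙 _ := by
  apply MorphismProperty.Over.Hom.ext
  exact Scheme.homOfLE_rfl _ _

set_option backward.isDefEq.respectTransparency.types false in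
@[simp]
theorem nhdRes_comp {N N' N'' : W.left.Opens} (h : N ≤ N') (h' : N' ≤ N'') :
    nhdRes W h ≫ nhdRes W h' = nhdRes W (h.trans h') := by
  apply MorphismProperty.Over.Hom.ext
  exact Scheme.homOfLE_homOfLE _ h h'

noncomputable def nhdFunctor : ClopenNhd W w ⥤ X.ProEt where
  obj N := nhdObj W N.1
  map f := nhdRes W (leOfHom f)
  map_id N := nhdRes_refl W N.1
  map_comp f g := (nhdRes_comp W (leOfHom f) (leOfHom g)).symm

/-- the fibre functor: germs at `w` of morphisms to `U` -/
noncomputable def fiber : X.ProEt ⥤ Type (u + 1) :=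
  ((nhdFunctor W w).op ⋙ coyoneda).flip ⋙ colim ⋙ uliftFunctor.{u + 1}

instance : PreservesFiniteLimits (fiber W w) := by
  unfold fiber
  have : PreservesFiniteLimits ((nhdFunctor W w).op ⋙ coyoneda).flip := by
    constructor
    intro J _ _
    constructor
    intro K
    apply preservesLimit_of_evaluation
    intro k
    show PreservesLimit K (coyoneda.obj (op ((nhdFunctor W w).obj k.unop)))
    infer_instance
  infer_instance

instance : IsCofiltered (fiber W w).Elements := Functor.isCofiltered_elements _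

/-- the germ of a morphism defined on a clopen neighbourhood -/
noncomputable def germ {U : X.ProEt} (N : ClopenNhd W w) (a : nhdObj W N.1 ⟶ U) :
    (fiber W w).obj U :=
  ⟨colimit.ι (((nhdFunctor W w).op ⋙ coyoneda).flip.obj U) (op N) a⟩

theorem germ_surjective {U : X.ProEt} (x : (fiber W w).obj U) :
    ∃ (N : ClopenNhd W w) (a : nhdObj W N.1 ⟶ U), germ W w N a = x := by
  obtain ⟨x⟩ := x
  obtain ⟨⟨N⟩, a, rfl⟩ := Types.jointly_surjective' x
  exact ⟨N, a, rfl⟩

theorem germ_eq_iff {U : X.ProEt} (N N' : ClopenNhd W w) (a : nhdObj W N.1 ⟶ U)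
    (a' : nhdObj W N'.1 ⟶ U) :
    germ W w N a = germ W w N' a' ↔
      ∃ (M : ClopenNhd W w) (h : M.1 ≤ N.1) (h' : M.1 ≤ N'.1),
        nhdRes W h ≫ a = nhdRes W h' ≫ a' := by
  have key : germ W w N a = germ W w N' a' ↔
      colimit.ι (((nhdFunctor W w).op ⋙ coyoneda).flip.obj U) (op N) a =
        colimit.ι (((nhdFunctor W w).op ⋙ coyoneda).flip.obj U) (op N') a' :=
    ⟨fun h => congrArg ULift.down h, fun h => congrArg ULift.up h⟩
  refine key.trans ((Types.FilteredColimit.colimit_eq_iff
    (F := ((nhdFunctor W w).op ⋙ coyoneda).flip.obj U) (i := op N) (j := op N')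
    (xi := a) (xj := a')).trans ?_)
  constructor
  · rintro ⟨⟨M⟩, f, g, hfg⟩
    exact ⟨M, leOfHom f.unop, leOfHom g.unop, hfg⟩
  · rintro ⟨M, h, h', hfg⟩
    exact ⟨op M, (homOfLE h).op, (homOfLE h').op, hfg⟩

theorem fiber_map_germ {U V : X.ProEt} (f : U ⟶ V) (N : ClopenNhd W w) (a : nhdObj W N.1 ⟶ U) :
    (fiber W w).map f (germ W w N a) = germ W w N (a ≫ f) := by
  unfold germ fiber
  simp only [Functor.comp_map, uliftFunctor_map]
  apply congrArg ULift.up
  exact ConcreteCategory.congr_hom
    (colimit.ι_map (((nhdFunctor W w).op ⋙ coyoneda).flip.map f) (op N)) a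

instance : InitiallySmall.{u + 1} (fiber W w).Elements := by
  have : EssentiallySmall.{u + 1} (fiber W w).Elements := inferInstance
  exact initiallySmall_of_essentiallySmall _

set_option backward.isDefEq.respectTransparency.types false in
theorem mem_of_factor {N N' : W.left.Opens} (g : nhdObj W N ⟶ nhdObj W N')
    (hg : g ≫ nhdι W N' = nhdι W N) : N ≤ N' := by
  intro z hz
  have h1 : g.left ≫ N'.ι = N.ι := congrArg (fun m => m.left) hg
  have h2 : (g.left ≫ N'.ι) ⟨z, hz⟩ = N.ι ⟨z, hz⟩ := congrArg (fun m => m ⟨z, hz⟩) h1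
  have h3 : N'.ι (g.left ⟨z, hz⟩) = z := h2
  rw [← h3]
  exact (g.left ⟨z, hz⟩).2

set_option backward.isDefEq.respectTransparency.types false in
theorem eq_nhdRes_of_factor {N N' : W.left.Opens} (g : nhdObj W N ⟶ nhdObj W N')
    (hg : g ≫ nhdι W N' = nhdι W N) : g = nhdRes W (mem_of_factor W g hg) := by
  apply MorphismProperty.Over.Hom.ext
  apply (cancel_mono N'.ι).mp
  have h1 : g.left ≫ N'.ι = N.ι := congrArg (fun m => m.left) hg
  exact h1.trans (Scheme.homOfLE_ι W.left (mem_of_factor W g hg)).symm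

set_option backward.isDefEq.respectTransparency.types false in
theorem jointly_surjective [IsAffine W.left] (hA : EtPBC.IsWContractible ↥(Γ(W.left, ⊤)))
    {U : X.ProEt} (R : Sieve U) (hR : R ∈ Scheme.ProEt.topology X U) (x : (fiber W w).obj U) :
    ∃ (V : X.ProEt) (f : V ⟶ U) (_ : R f) (y : (fiber W w).obj V), (fiber W w).map f y = x := by
  obtain ⟨N, a, rfl⟩ := germ_surjective W w x
  let Q : W.left.Opens := ⟨(N.1 : Set W.left)ᶜ, N.2.1.compl.isOpen⟩
  let T : Sieve W :=
    { arrows := fun Z f => (∃ g : Z ⟶ nhdObj W N.1, g ≫ nhdι W N.1 = f ∧ R (g ≫ a)) ∨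
        (∃ g : Z ⟶ nhdObj W Q, g ≫ nhdι W Q = f)
      downward_closed := by
        rintro Y Z f (⟨g, rfl, hg⟩ | ⟨g, rfl⟩) c
        · exact Or.inl ⟨c ≫ g, Category.assoc _ _ _, by
            rw [Category.assoc]; exact R.downward_closed hg c⟩
        · exact Or.inr ⟨c ≫ g, Category.assoc _ _ _⟩ }
  have hT : T ∈ Scheme.ProEt.topology X W := by
    have hcov := ProEtWC.ofArrows_opens_mem_topology W (fun b : Bool => cond b N.1 Q) (by
      ext z
      simp only [Set.mem_iUnion, Set.mem_univ, iff_true]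
      by_cases hz : z ∈ N.1
      · exact ⟨true, hz⟩
      · exact ⟨false, hz⟩)
    refine (Scheme.ProEt.topology X).transitive hcov T ?_
    rintro Y f ⟨Z, c, d, ⟨b⟩, rfl⟩
    rw [Sieve.pullback_comp]
    apply (Scheme.ProEt.topology X).pullback_stable
    cases b
    · have : T (nhdι W Q) := Or.inr ⟨𝟙 _, Category.id_comp _⟩
      show T.pullback (nhdι W Q) ∈ _
      rw [Sieve.pullback_eq_top_of_mem _ this]
      exact (Scheme.ProEt.topology X).top_mem _
    · show T.pullback (nhdι W N.1) ∈ _
      refine (Scheme.ProEt.topology X).superset_covering ?_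
        ((Scheme.ProEt.topology X).pullback_stable a hR)
      intro Z g hg
      exact Or.inl ⟨g, rfl, hg⟩
  obtain ⟨n, P, hPclopen, hdisj, hcovP, hP⟩ :=
    ProEtWC.exists_clopen_of_wContractible W hA T hT
  have hw : w ∈ ⋃ k, (P k : Set W.left) := hcovP ▸ Set.mem_univ w
  obtain ⟨k, hk⟩ := Set.mem_iUnion.mp hw
  rcases hP k with ⟨g, hg, hRg⟩ | ⟨g, hg⟩
  · have hle : P k ≤ N.1 := mem_of_factor W g hg
    have hg' : g = nhdRes W hle := eq_nhdRes_of_factor W g hg
    let M : ClopenNhd W w := ⟨P k, hPclopen k, hk⟩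
    refine ⟨nhdObj W (P k), g ≫ a, hRg, germ W w M (𝟙 _), ?_⟩
    rw [fiber_map_germ, Category.id_comp, germ_eq_iff]
    exact ⟨M, le_refl _, hle, by rw [nhdRes_refl, Category.id_comp, hg']⟩
  · exfalso
    have hle : P k ≤ Q := mem_of_factor W g hg
    exact hle hk N.2.2

/-- the point of the pro-etale site given by germs at `w` on an affine w-contractible object -/
noncomputable def point [IsAffine W.left] (hA : EtPBC.IsWContractible ↥(Γ(W.left, ⊤))) :
    GrothendieckTopology.Point.{u + 1} (Scheme.ProEt.topology X) where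
  fiber := fiber W w
  jointly_surjective R hR x := jointly_surjective W w hA R hR x

/-- index type of the family of points -/
structure Idx (X : Scheme.{u}) where
  W : X.ProEt
  aff : IsAffine W.left
  wc : EtPBC.IsWContractible ↥(Γ(W.left, ⊤))
  w : W.left

/-- the family of points -/
noncomputable def pt (i : Idx X) : GrothendieckTopology.Point.{u + 1} (Scheme.ProEt.topology X) :=
  @point _ i.W i.w i.aff i.wc

set_option backward.isDefEq.respectTransparency.types false in
theorem conservative (X : Scheme.{u}) :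
    (ObjectProperty.ofObj (pt (X := X))).IsConservativeFamilyOfPoints := by
  apply ObjectProperty.IsConservativeFamilyOfPoints.mk'
  intro U S hS
  obtain ⟨ι, V, g, hcov, hV⟩ := ProEtCov.exists_cover_by_affine_wContractible U
  refine (Scheme.ProEt.topology X).transitive hcov S ?_
  rintro Y f ⟨Z, c, d, ⟨i⟩, rfl⟩
  rw [Sieve.pullback_comp]
  apply (Scheme.ProEt.topology X).pullback_stable
  have key : ∀ w : (V i).left, ∃ N : ClopenNhd (V i) w, S (nhdι (V i) N.1 ≫ g i) := by
    intro w
    let Φ : (ObjectProperty.ofObj (pt (X := X))).FullSubcategory :=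
      ⟨pt ⟨V i, (hV i).1, (hV i).2, w⟩, ⟨_⟩⟩
    let top : ClopenNhd (V i) w := ⟨⊤, isClopen_univ, trivial⟩
    obtain ⟨Y, q, hq, y, hy⟩ := hS Φ (germ (V i) w top (nhdι (V i) ⊤ ≫ g i))
    obtain ⟨N, b, rfl⟩ := germ_surjective (V i) w y
    have hy' : (fiber (V i) w).map q (germ (V i) w N b) =
      germ (V i) w top (nhdι (V i) ⊤ ≫ g i) := hy
    rw [fiber_map_germ, germ_eq_iff] at hy'
    obtain ⟨M, h, h', e⟩ := hy'
    refine ⟨M, ?_⟩
    have : nhdι (V i) M.1 ≫ g i = (nhdRes (V i) h ≫ b) ≫ q := by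
      rw [Category.assoc, e, ← Category.assoc, nhdRes_ι]
    rw [this]
    exact S.downward_closed hq _
  choose N hN using key
  haveI : ∀ w : (V i).left, IsOpenImmersion (nhdι (V i) (N w).1).left := fun w => by
    show IsOpenImmersion (N w).1.ι
    infer_instance
  have hcov' := ProEtWC.ofArrows_mem_topology_of_isOpenImmersion (V i)
    (fun w : (V i).left => nhdObj (V i) (N w).1) (fun w => nhdι (V i) (N w).1) (by
      intro z
      refine ⟨z, ⟨z, (N z).2.2⟩, rfl⟩)
  refine (Scheme.ProEt.topology X).superset_covering ?_ hcov'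
  rintro Z f ⟨Y, c, d, ⟨w⟩, rfl⟩
  exact (S.pullback (g i)).downward_closed (hN w) c

theorem hasEnoughPoints (X : Scheme.{u}) :
    GrothendieckTopology.HasEnoughPoints.{u + 1} (Scheme.ProEt.topology X) :=
  ⟨⟨ObjectProperty.ofObj (pt (X := X)), inferInstance, conservative X⟩⟩

end Groth.Agent.Lib.Helper82.ProEtPt
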