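import Mathlib
import Groth.Prelude.Def_ProEtS
import Groth.Prelude.Def_PBC
import Groth.Agent.Lib.Helper82.ProEtCov

set_option autoImplicit false
open CategoryTheory CategoryTheory.Limits AlgebraicGeometry Opposite
universe u
open ProEtS

namespace Groth.Agent.Lib.Helper82.ProEtWC

theorem exists_section_of_retraction {T Y : Scheme.{u}} [IsAffine T] [IsAffine Y] (t : T ⟶ Y)
    (r : Γ(T, ⊤) ⟶ Γ(Y, ⊤)) (hr : t.appTop ≫ r = 𝟙 _) : ∃ s : Y ⟶ T, s ≫ t = 𝟙 Y := by
  refine ⟨Y.isoSpec.hom ≫ Spec.map r ≫ T.isoSpec.inv, ?_⟩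
  rw [Category.assoc, Category.assoc, ← Scheme.isoSpec_inv_naturality, ← Spec.map_comp_assoc, hr,
    Spec.map_id, Category.id_comp, Iso.hom_inv_id]

/-- ring-level consequences of a weakly etale surjective morphism of affine schemes. -/
theorem exists_section_of_wContractible {T Y : Scheme.{u}} [IsAffine T] [IsAffine Y] (t : T ⟶ Y)
    [WeaklyEtale t] [Surjective t] (hY : EtPBC.IsWContractible ↥(Γ(Y, ⊤))) :
    ∃ s : Y ⟶ T, s ≫ t = 𝟙 Y := by
  letI : Algebra Γ(Y, ⊤) Γ(T, ⊤) := t.appTop.hom.toAlgebra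
  have e : Spec.map t.appTop = T.isoSpec.inv ≫ t ≫ Y.isoSpec.hom := by
    rw [← Scheme.isoSpec_hom_naturality, Iso.inv_hom_id_assoc]
  have h1 : WeaklyEtale (Spec.map t.appTop) := by
    rw [e]; infer_instance
  have h2 : Surjective (Spec.map t.appTop) := by
    rw [e]; infer_instance
  have h3 := (Groth.Agent.S1412.weaklyEtale_SpecMap_iff t.appTop).mp h1
  haveI hwe : Algebra.WeaklyEtale Γ(Y, ⊤) Γ(T, ⊤) :=
    ⟨(RingHom.flat_algebraMap_iff).mp h3.1, h3.2⟩
  have hff : Module.FaithfullyFlat Γ(Y, ⊤) Γ(T, ⊤) := by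
    have := (flat_and_surjective_SpecMap_iff t.appTop).mp ⟨inferInstance, h2⟩
    exact (RingHom.faithfullyFlat_algebraMap_iff).mp this
  obtain ⟨r⟩ := hY Γ(T, ⊤) hff hwe
  refine exists_section_of_retraction t (CommRingCat.ofHom r.toRingHom) ?_
  ext x
  exact r.commutes x


theorem presieve_map_inv {C D : Type*} [Category C] [Category D] (F : C ⥤ D) {X : C}
    (P : Presieve X) {Y : D} (f : Y ⟶ F.obj X) (hf : (P.map F) f) :
    ∃ (V' : C) (p : V' ⟶ X) (e : F.obj V' = Y), P p ∧ F.map p = eqToHom e ≫ f := by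
  obtain ⟨h⟩ := hf
  exact ⟨_, _, rfl, h, by simp⟩

set_option backward.isDefEq.respectTransparency.types false in
/-- a sieve containing (the preimage of) a weakly etale map through which `W.ι` factors contains
`W.ι`. -/
theorem arrows_of_factor {X : Scheme.{u}} (U : X.ProEt) (R : Sieve U) (P : Presieve U)
    (hPR : P ≤ R.arrows) {Y : Scheme.{u}} (f : Y ⟶ U.left)
    (hf : (P.map (Scheme.ProEt.forget X ⋙ Over.forget X)) f) (W : U.left.Opens)
    (σ : W.toScheme ⟶ Y) (hσ : σ ≫ f = W.ι) :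
    R.arrows (MorphismProperty.Over.homMk W.ι : Scheme.ProEt.mk (W.ι ≫ U.hom) ⟶ U) := by
  obtain ⟨V', p, e, hp, hpf⟩ := presieve_map_inv (Scheme.ProEt.forget X ⋙ Over.forget X) P f hf
  subst e
  simp only [eqToHom_refl, Category.id_comp] at hpf
  have hpR := hPR _ _ hp
  have hpf' : p.left = f := hpf
  let a : Scheme.ProEt.mk (W.ι ≫ U.hom) ⟶ V' :=
    MorphismProperty.Over.homMk σ (by
      have hw := MorphismProperty.Over.w p
      simp only [Scheme.ProEt.mk_hom]
      calc σ ≫ V'.hom = σ ≫ (p.left ≫ U.hom) := congrArg (σ ≫ ·) hw.symm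
        _ = (σ ≫ p.left) ≫ U.hom := (Category.assoc _ _ _).symm
        _ = (σ ≫ f) ≫ U.hom := congrArg (fun z => (σ ≫ z) ≫ U.hom) hpf'
        _ = W.ι ≫ U.hom := congrArg (· ≫ U.hom) hσ)
  have : (MorphismProperty.Over.homMk W.ι : Scheme.ProEt.mk (W.ι ≫ U.hom) ⟶ U) = a ≫ p := by
    apply MorphismProperty.Over.Hom.ext
    show W.ι = σ ≫ p.left
    exact hσ.symm.trans (congrArg (σ ≫ ·) hpf'.symm)
  rw [this]
  exact R.downward_closed hpR a


set_option backward.isDefEq.respectTransparency.types false in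
theorem exists_clopen_of_wContractible {X : Scheme.{u}} (U : X.ProEt) [IsAffine U.left]
    (hA : EtPBC.IsWContractible ↥(Γ(U.left, ⊤))) (R : Sieve U)
    (hR : R ∈ Scheme.ProEt.topology X U) :
    ∃ (n : ℕ) (W : Fin n → U.left.Opens), (∀ k, IsClopen ((W k : Set ↥U.left))) ∧
      Pairwise (fun k l => Disjoint (W k : Set ↥U.left) (W l)) ∧
      (⋃ k, (W k : Set ↥U.left)) = Set.univ ∧
      ∀ k, R.arrows (MorphismProperty.Over.homMk (W k).ι :
        Scheme.ProEt.mk ((W k).ι ≫ U.hom) ⟶ U) := by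
  haveI : (Scheme.ProEt.precoverage X).IsStableUnderComposition := by
    unfold Scheme.ProEt.precoverage; infer_instance
  haveI : (Scheme.ProEt.precoverage X).IsStableUnderBaseChange := by
    unfold Scheme.ProEt.precoverage; infer_instance
  haveI : (Scheme.ProEt.precoverage X).HasIsos := by
    unfold Scheme.ProEt.precoverage; infer_instance
  obtain ⟨P, hP, hPR⟩ := (Precoverage.mem_toGrothendieck_iff_of_isStableUnderComposition
    (J := Scheme.ProEt.precoverage X)).mp hR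
  have hP' : P.map (Scheme.ProEt.forget X ⋙ Over.forget X) ∈
      Scheme.proetalePrecoverage U.left := hP
  obtain ⟨E, hEqc, hE⟩ := Scheme.mem_propQCPrecoverage_iff_exists_quasiCompactCover.mp hP'
  obtain ⟨n, a, V, hV, hcov⟩ := QuasiCompactCover.exists_isAffineOpen_of_isCompact
    E.toPreZeroHypercover (U := (⊤ : U.left.Opens)) (by simpa using isCompact_univ)
  let g : Fin n → Scheme.{u} := fun i => (V i).toScheme
  haveI : ∀ i, IsAffine (g i) := fun i => hV i
  let t : (∐ g) ⟶ U.left := Sigma.desc (fun i => (V i).ι ≫ E.f (a i))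
  haveI : ∀ i, WeaklyEtale (E.f i) := fun i => E.map_prop i
  haveI : WeaklyEtale t := IsZariskiLocalAtSource.sigmaDesc (fun i => inferInstance)
  haveI : Surjective t := by
    refine ⟨fun x => ?_⟩
    have hx : x ∈ ((⊤ : U.left.Opens) : Set U.left) := trivial
    rw [← hcov, Set.mem_iUnion] at hx
    obtain ⟨i, y, hy, rfl⟩ := hx
    refine ⟨(Sigma.ι g i) ⟨y, hy⟩, ?_⟩
    rw [← Scheme.Hom.comp_apply, Sigma.ι_desc]
    rfl
  obtain ⟨s, hs⟩ := exists_section_of_wContractible t hA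
  have hex : ∀ y : ↥(∐ g), ∃ k, y ∈ Set.range (Sigma.ι g k) := by
    intro y
    obtain ⟨k, x, hx⟩ := (sigmaOpenCover g).exists_eq y
    exact ⟨k, x, hx⟩
  have hdisj : ∀ k l, k ≠ l → ∀ y, y ∈ Set.range (Sigma.ι g k) → y ∉ Set.range (Sigma.ι g l) := by
    intro k l hkl y hk hl
    have hd := disjoint_opensRange_sigmaι g k l hkl
    have hy : y ∈ ((Sigma.ι g k).opensRange ⊓ (Sigma.ι g l).opensRange : (∐ g).Opens) := ⟨hk, hl⟩
    rw [disjoint_iff.mp hd] at hy
    exact hy
  have hclopen : ∀ k, IsClopen (Set.range (Sigma.ι g k)) := by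
    intro k
    refine ⟨?_, (Sigma.ι g k).opensRange.2⟩
    have : (Set.range (Sigma.ι g k))ᶜ = ⋃ l ∈ {l | l ≠ k}, Set.range (Sigma.ι g l) := by
      ext y
      simp only [Set.mem_compl_iff, Set.mem_iUnion, Set.mem_setOf_eq, exists_prop]
      constructor
      · intro hy
        obtain ⟨l, hl⟩ := hex y
        exact ⟨l, fun h => hy (h ▸ hl), hl⟩
      · rintro ⟨l, hlk, hl⟩ hk
        exact hdisj l k hlk y hl hk
    rw [← isOpen_compl_iff, this]
    exact isOpen_biUnion fun l _ => (Sigma.ι g l).opensRange.2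
  refine ⟨n, fun k => s ⁻¹ᵁ (Sigma.ι g k).opensRange, fun k => ?_, ?_, ?_, fun k => ?_⟩
  · exact (hclopen k).preimage s.continuous
  · intro k l hkl
    have hd' : Disjoint ((Sigma.ι g k).opensRange : Set ↥(∐ g)) (Sigma.ι g l).opensRange := by
      rw [Set.disjoint_iff]
      intro x hx
      exact hdisj k l hkl x hx.1 hx.2
    exact hd'.preimage s
  · rw [Set.eq_univ_iff_forall]
    intro x
    obtain ⟨k, hk⟩ := hex (s x)
    exact Set.mem_iUnion.mpr ⟨k, hk⟩
  · let W : U.left.Opens := s ⁻¹ᵁ (Sigma.ι g k).opensRange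
    have hsub : Set.range (W.ι ≫ s) ⊆ Set.range (Sigma.ι g k) := by
      rintro _ ⟨x, rfl⟩
      exact x.2
    let σ : W.toScheme ⟶ E.X (a k) :=
      IsOpenImmersion.lift (Sigma.ι g k) (W.ι ≫ s) hsub ≫ (V k).ι
    have hσ : σ ≫ E.f (a k) = W.ι := by
      have h1 : (V k).ι ≫ E.f (a k) = Sigma.ι g k ≫ t :=
        (Sigma.ι_desc (fun i => (V i).ι ≫ E.f (a i)) k).symm
      simp only [σ, Category.assoc]
      rw [h1, IsOpenImmersion.lift_fac_assoc, Category.assoc, hs, Category.comp_id]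
    have hf : (P.map (Scheme.ProEt.forget X ⋙ Over.forget X)) (E.f (a k)) := by
      rw [hE]
      exact Presieve.ofArrows.mk (a k)
    exact arrows_of_factor U R P hPR (E.f (a k)) hf W σ hσ

end Groth.Agent.Lib.Helper82.ProEtWC
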