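import Mathlib
import Groth.Agent.Lib.Helper82.ProEtWC1

set_option autoImplicit false
open CategoryTheory CategoryTheory.Limits AlgebraicGeometry Opposite
universe u
open ProEtS

namespace Groth.Agent.Lib.Helper82.ProEtWC

/-- glue morphisms defined on a disjoint open cover. -/
theorem exists_glue_of_disjoint {Y T : Scheme.{u}} {n : ℕ} (W : Fin n → Y.Opens)
    (hdisj : Pairwise (fun k l => Disjoint (W k : Set ↥Y) (W l)))
    (hcov : (⋃ k, (W k : Set ↥Y)) = Set.univ) (σ : ∀ k, (W k).toScheme ⟶ T) :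
    ∃ s : Y ⟶ T, ∀ k, (W k).ι ≫ s = σ k := by
  have hU : TopologicalSpace.IsOpenCover W := by
    rw [TopologicalSpace.IsOpenCover, eq_top_iff]
    intro x _
    have hx : x ∈ ⋃ k, (W k : Set ↥Y) := hcov ▸ Set.mem_univ x
    obtain ⟨k, hk⟩ := Set.mem_iUnion.mp hx
    exact TopologicalSpace.Opens.mem_iSup.mpr ⟨k, hk⟩
  let 𝒲 := Y.openCoverOfIsOpenCover W hU
  have hcompat : ∀ k l, pullback.fst (𝒲.f k) (𝒲.f l) ≫ σ k = pullback.snd _ _ ≫ σ l := by
    intro k l
    by_cases hkl : k = l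
    · subst hkl
      have : pullback.fst (𝒲.f k) (𝒲.f k) = pullback.snd _ _ := by
        rw [← cancel_mono (𝒲.f k)]
        exact pullback.condition
      exact congrArg (· ≫ σ k) this
    · haveI : IsEmpty ↥(pullback (𝒲.f k) (𝒲.f l)) := by
        refine ⟨fun z => ?_⟩
        have h1 : (pullback.fst (𝒲.f k) (𝒲.f l) ≫ 𝒲.f k) z ∈ (W k : Set ↥Y) := by
          rw [Scheme.Hom.comp_apply]
          exact ((pullback.fst (𝒲.f k) (𝒲.f l)) z).2
        have h2 : (pullback.fst (𝒲.f k) (𝒲.f l) ≫ 𝒲.f k) z ∈ (W l : Set ↥Y) := by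
          rw [pullback.condition, Scheme.Hom.comp_apply]
          exact ((pullback.snd (𝒲.f k) (𝒲.f l)) z).2
        exact Set.disjoint_iff.mp (hdisj hkl) ⟨h1, h2⟩
      exact (isInitialOfIsEmpty (X := pullback (𝒲.f k) (𝒲.f l))).hom_ext _ _
  exact ⟨𝒲.glueMorphisms σ hcompat, fun k => 𝒲.ι_glueMorphisms σ hcompat k⟩


set_option backward.isDefEq.respectTransparency.types false in
theorem singleton_mem_topology {X : Scheme.{u}} (U : X.ProEt) {T : Scheme.{u}} (t : T ⟶ U.left)
    [WeaklyEtale t] [Surjective t] [QuasiCompact t] :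
    Sieve.generate (Presieve.singleton
      (MorphismProperty.Over.homMk t : Scheme.ProEt.mk (t ≫ U.hom) ⟶ U)) ∈
      Scheme.ProEt.topology X U := by
  apply Precoverage.generate_mem_toGrothendieck
  show (Presieve.singleton _).map (Scheme.ProEt.forget X ⋙ Over.forget X) ∈
    Scheme.proetalePrecoverage U.left
  rw [Presieve.map_singleton]
  exact Scheme.Hom.singleton_mem_propQCPrecoverage (f := t) inferInstance

set_option backward.isDefEq.respectTransparency.types false in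
theorem wContractible_of_forall_exists_clopen {X : Scheme.{u}} (U : X.ProEt) [IsAffine U.left]
    (H : ∀ R ∈ Scheme.ProEt.topology X U, ∃ (n : ℕ) (W : Fin n → U.left.Opens),
        (∀ k, IsClopen ((W k : Set ↥U.left))) ∧
        Pairwise (fun k l => Disjoint (W k : Set ↥U.left) (W l)) ∧
        (⋃ k, (W k : Set ↥U.left)) = Set.univ ∧
        ∀ k, R.arrows (MorphismProperty.Over.homMk (W k).ι :
          Scheme.ProEt.mk ((W k).ι ≫ U.hom) ⟶ U)) :
    EtPBC.IsWContractible ↥(Γ(U.left, ⊤)) := by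
  intro B _ _ hff hwe
  let φ : Γ(U.left, ⊤) ⟶ CommRingCat.of B := CommRingCat.ofHom (algebraMap (Γ(U.left, ⊤)) B)
  haveI h1 : WeaklyEtale (Spec.map φ) := ProEtCov.weaklyEtale_SpecMap_of_weaklyEtale _ B
  have h2 : Flat (Spec.map φ) ∧ Surjective (Spec.map φ) := by
    rw [flat_and_surjective_SpecMap_iff]
    exact (RingHom.faithfullyFlat_algebraMap_iff).mpr hff
  haveI := h2.2
  let t : Spec (CommRingCat.of B) ⟶ U.left := Spec.map φ ≫ U.left.isoSpec.inv
  obtain ⟨n, W, -, hdisj, hcov, hW⟩ := H _ (singleton_mem_topology U t)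
  have hσ : ∀ k, ∃ σ : (W k).toScheme ⟶ Spec (CommRingCat.of B), σ ≫ t = (W k).ι := by
    intro k
    obtain ⟨Z, a, b, hb, hab⟩ := hW k
    obtain ⟨⟩ := hb
    refine ⟨a.left, ?_⟩
    have := congrArg (fun m => m.left) hab
    exact this
  choose σ hσ' using hσ
  obtain ⟨s, hs⟩ := exists_glue_of_disjoint W hdisj hcov σ
  have hst : s ≫ t = 𝟙 _ := by
    have hU : TopologicalSpace.IsOpenCover W := by
      rw [TopologicalSpace.IsOpenCover, eq_top_iff]
      intro x _
      have hx : x ∈ ⋃ k, (W k : Set ↥U.left) := hcov ▸ Set.mem_univ x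
      obtain ⟨k, hk⟩ := Set.mem_iUnion.mp hx
      exact TopologicalSpace.Opens.mem_iSup.mpr ⟨k, hk⟩
    apply (U.left.openCoverOfIsOpenCover W hU).hom_ext
    intro k
    show (W k).ι ≫ s ≫ t = (W k).ι ≫ 𝟙 _
    rw [← Category.assoc, hs, hσ', Category.comp_id]
  -- now produce the retraction
  let s' : Spec Γ(U.left, ⊤) ⟶ Spec (CommRingCat.of B) := U.left.isoSpec.inv ≫ s
  have hs' : s' ≫ Spec.map φ = 𝟙 _ := by
    have : s' ≫ Spec.map φ = U.left.isoSpec.inv ≫ (s ≫ t) ≫ U.left.isoSpec.hom := by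
      simp only [s', t, Category.assoc, Iso.inv_hom_id, Category.comp_id]
    rw [this, hst, Category.id_comp, Iso.inv_hom_id]
  let ρ : CommRingCat.of B ⟶ Γ(U.left, ⊤) := Spec.preimage s'
  have hρ : φ ≫ ρ = 𝟙 _ := by
    apply Spec.map_injective
    rw [Spec.map_comp, Spec.map_preimage, hs', Spec.map_id]
  refine ⟨{ ρ.hom with commutes' := fun a => ?_ }⟩
  have := congrArg (fun m => m.hom a) hρ
  exact this

end Groth.Agent.Lib.Helper82.ProEtWC
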