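import Groth.Agent.Lib.Helper82.ProEtWC2
import Mathlib.CategoryTheory.Sites.LocallySurjective
import Mathlib.CategoryTheory.Sites.Canonical

set_option autoImplicit false
open CategoryTheory CategoryTheory.Limits AlgebraicGeometry Opposite
universe u w

namespace Groth.Agent.Lib.Helper82.ProEtWC

set_option backward.isDefEq.respectTransparency.types false in
theorem ofArrows_opens_mem_topology {X : Scheme.{u}} (U : X.ProEt) {ι : Type} (W : ι → U.left.Opens)
    (hcov : (⋃ k, (W k : Set ↥U.left)) = Set.univ) :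
    Sieve.generate (Presieve.ofArrows (fun k => Scheme.ProEt.mk ((W k).ι ≫ U.hom))
      (fun k => (MorphismProperty.Over.homMk (W k).ι :
        Scheme.ProEt.mk ((W k).ι ≫ U.hom) ⟶ U))) ∈ Scheme.ProEt.topology X U := by
  apply Precoverage.generate_mem_toGrothendieck
  show (Presieve.ofArrows _ _).map (Scheme.ProEt.forget X ⋙ Over.forget X) ∈
    Scheme.proetalePrecoverage U.left
  rw [Presieve.map_ofArrows]
  apply Scheme.zariskiPrecoverage_le_propQCPrecoverage
  show Presieve.ofArrows (fun k => (W k).toScheme) (fun k => (W k).ι) ∈ _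
  rw [Scheme.zariskiPrecoverage, Scheme.ofArrows_mem_precoverage_iff]
  refine ⟨fun x => ?_, fun i => inferInstance⟩
  have hx : x ∈ ⋃ k, (W k : Set ↥U.left) := hcov ▸ Set.mem_univ x
  obtain ⟨k, hk⟩ := Set.mem_iUnion.mp hx
  exact ⟨k, ⟨x, hk⟩, rfl⟩

/-- sections of a sheaf over an object with empty underlying scheme are unique -/
theorem subsingleton_of_isEmpty {X : Scheme.{u}} (F : Sheaf (Scheme.ProEt.topology X) (Type w))
    (Z : X.ProEt) [IsEmpty Z.left] : Subsingleton (F.obj.obj (op Z)) := by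
  have hF := (isSheaf_iff_isSheaf_of_type _ _).mp F.property
  have h := (hF _ (Scheme.ProEt.bot_mem_topology Z)).isSeparatedFor
  refine ⟨fun a b => ?_⟩
  exact h (fun _ _ h => h.elim) a b (fun _ _ h => h.elim) (fun _ _ h => h.elim)

set_option backward.isDefEq.respectTransparency.types false in
theorem exists_glue_sections {X : Scheme.{u}} (U : X.ProEt)
    (F : Sheaf (Scheme.ProEt.topology X) (Type w)) {ι : Type} (W : ι → U.left.Opens)
    (hdisj : Pairwise (fun k l => Disjoint (W k : Set ↥U.left) (W l)))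
    (hcov : (⋃ k, (W k : Set ↥U.left)) = Set.univ)
    (t : ∀ k, F.obj.obj (op (Scheme.ProEt.mk ((W k).ι ≫ U.hom)))) :
    ∃ s : F.obj.obj (op U), ∀ k, F.obj.map (MorphismProperty.Over.homMk (W k).ι :
        Scheme.ProEt.mk ((W k).ι ≫ U.hom) ⟶ U).op s = t k := by
  have hF := (isSheaf_iff_isSheaf_of_type _ _).mp F.property
  have h := hF.isSheafFor _ (ofArrows_opens_mem_topology U W hcov)
  rw [Presieve.isSheafFor_arrows_iff] at h
  suffices hcomp : Presieve.Arrows.Compatible F.obj (fun k => (MorphismProperty.Over.homMk (W k).ι :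
        Scheme.ProEt.mk ((W k).ι ≫ U.hom) ⟶ U)) t by
    obtain ⟨s, hs, -⟩ := h t hcomp
    exact ⟨s, hs⟩
  intro i j Z gi gj hij
  by_cases hij' : i = j
  · subst hij'
    have h1 : gi.left ≫ (W i).ι = gj.left ≫ (W i).ι := congrArg (fun m => m.left) hij
    have h2 : gi.left = gj.left := (cancel_mono (W i).ι).mp h1
    have h3 : gi = gj := MorphismProperty.Over.Hom.ext h2
    rw [h3]
  · haveI : IsEmpty Z.left := by
      refine ⟨fun z => ?_⟩
      have h1 : gi.left ≫ (W i).ι = gj.left ≫ (W j).ι := congrArg (fun m => m.left) hij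
      have h2' : (gi.left ≫ (W i).ι) z = (gj.left ≫ (W j).ι) z := by rw [h1]
      have h2 : (W i).ι (gi.left z) = (W j).ι (gj.left z) := h2'
      have h3 : (W i).ι (gi.left z) ∈ (W i : Set ↥U.left) := (gi.left z).2
      have h4 : (W i).ι (gi.left z) ∈ (W j : Set ↥U.left) := h2 ▸ (gj.left z).2
      exact Set.disjoint_left.mp (hdisj hij') h3 h4
    have := subsingleton_of_isEmpty F Z
    exact Subsingleton.elim _ _

set_option backward.isDefEq.respectTransparency.types false in
theorem isWC_of_wContractible {X : Scheme.{u}} (U : X.ProEt) [IsAffine U.left]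
    (hA : EtPBC.IsWContractible ↥(Γ(U.left, ⊤))) : ProEtS.IsWC U := by
  intro F G φ hφ s
  haveI : Sheaf.IsLocallySurjective φ := (Sheaf.isLocallySurjective_iff_epi φ).mpr hφ
  have hmem : Presheaf.imageSieve φ.hom s ∈ Scheme.ProEt.topology X U :=
    Presheaf.imageSieve_mem _ φ.hom s
  obtain ⟨n, W, -, hdisj, hcov, hW⟩ := exists_clopen_of_wContractible U hA _ hmem
  have hW' : ∀ k, ∃ t : F.obj.obj (op (Scheme.ProEt.mk ((W k).ι ≫ U.hom))),
      φ.hom.app _ t = G.obj.map (MorphismProperty.Over.homMk (W k).ι :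
        Scheme.ProEt.mk ((W k).ι ≫ U.hom) ⟶ U).op s := hW
  choose t ht using hW'
  obtain ⟨s', hs'⟩ := exists_glue_sections U F W hdisj hcov t
  refine ⟨s', ?_⟩
  have hG := (isSheaf_iff_isSheaf_of_type _ _).mp G.property
  have h := (hG.isSheafFor _ (ofArrows_opens_mem_topology U W hcov)).isSeparatedFor
  apply h.ext
  rintro Y f ⟨k⟩
  refine Eq.trans ?_ (ht k)
  refine Eq.trans ?_ (congrArg _ (hs' k))
  exact (NatTrans.naturality_apply φ.hom _ s').symm

theorem wContractible_of_forall_exists_section {X : Scheme.{u}} (U : X.ProEt) [IsAffine U.left]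
    (H : ∀ (T : Scheme.{u}) (t : T ⟶ U.left) [IsAffine T] [WeaklyEtale t] [Surjective t]
      [QuasiCompact t], ∃ s : U.left ⟶ T, s ≫ t = 𝟙 _) :
    EtPBC.IsWContractible ↥(Γ(U.left, ⊤)) := by
  intro B _ _ hff hwe
  let φ : Γ(U.left, ⊤) ⟶ CommRingCat.of B := CommRingCat.ofHom (algebraMap (Γ(U.left, ⊤)) B)
  haveI h1 : WeaklyEtale (Spec.map φ) := ProEtCov.weaklyEtale_SpecMap_of_weaklyEtale _ B
  have h2 : Flat (Spec.map φ) ∧ Surjective (Spec.map φ) := by
    rw [flat_and_surjective_SpecMap_iff]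
    exact (RingHom.faithfullyFlat_algebraMap_iff).mpr hff
  haveI := h2.2
  let t : Spec (CommRingCat.of B) ⟶ U.left := Spec.map φ ≫ U.left.isoSpec.inv
  obtain ⟨s, hst⟩ := H _ t
  let s' : Spec Γ(U.left, ⊤) ⟶ Spec (CommRingCat.of B) := U.left.isoSpec.inv ≫ s
  have hs' : s' ≫ Spec.map φ = 𝟙 _ := by
    have : s' ≫ Spec.map φ = U.left.isoSpec.inv ≫ (s ≫ t) ≫ U.left.isoSpec.hom := by
      simp only [s', t, Category.assoc, Iso.inv_hom_id, Category.comp_id]
    rw [this, hst, Category.id_comp, Iso.inv_hom_id]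
  let ρ : CommRingCat.of B ⟶ Γ(U.left, ⊤) := Spec.preimage s'
  have hρ : φ ≫ ρ = 𝟙 _ := by
    apply Spec.map_injective
    rw [Spec.map_comp, Spec.map_preimage, hs', Spec.map_id]
  refine ⟨{ ρ.hom with commutes' := fun a => ?_ }⟩
  have := congrArg (fun m => m.hom a) hρ
  exact this

set_option backward.isDefEq.respectTransparency.types false in
theorem wContractible_of_isWC {X : Scheme.{u}} (U : X.ProEt) [IsAffine U.left]
    (h : ProEtS.IsWC U) : EtPBC.IsWContractible ↥(Γ(U.left, ⊤)) := by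
  apply wContractible_of_forall_exists_section
  intro T t _ _ _ _
  let V : X.ProEt := Scheme.ProEt.mk (t ≫ U.hom)
  let p : V ⟶ U := MorphismProperty.Over.homMk t
  let φ := (GrothendieckTopology.uliftYoneda.{u+1} (Scheme.ProEt.topology X)).map p
  haveI : Sheaf.IsLocallySurjective φ := ⟨fun {Z} s => ?_⟩
  · have hepi : Epi φ := inferInstance
    obtain ⟨σ, hσ⟩ := h _ _ φ hepi ⟨𝟙 U⟩
    refine ⟨σ.down.left, ?_⟩
    have := congrArg (fun m => m.down.left) hσ
    exact this
  · have hmem := (Scheme.ProEt.topology X).pullback_stable s.down (singleton_mem_topology U t)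
    refine (Scheme.ProEt.topology X).superset_covering ?_ hmem
    rintro Z' f ⟨Y, a, b, hb, hab⟩
    obtain ⟨⟩ := hb
    exact ⟨⟨a⟩, ULift.ext _ _ hab⟩

end Groth.Agent.Lib.Helper82.ProEtWC
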