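import Groth.Agent.Lib.Helper82.ProEtWC3
import Groth.Agent.Lib.Helper82.ProEtCov

set_option autoImplicit false
open CategoryTheory CategoryTheory.Limits AlgebraicGeometry Opposite
universe u w

namespace Groth.Agent.Lib.Helper82.ProEtWC

theorem isWC_of_iso {X : Scheme.{u}} {U U' : X.ProEt} (e : U ≅ U') (h : ProEtS.IsWC U) :
    ProEtS.IsWC U' := by
  intro F G φ hφ s
  obtain ⟨t, ht⟩ := h F G φ hφ (G.obj.map e.hom.op s)
  refine ⟨F.obj.map e.inv.op t, ?_⟩
  have h1 := NatTrans.naturality_apply φ.hom e.inv.op t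
  refine h1.trans ?_
  rw [ht]
  have h2 : G.obj.map e.hom.op ≫ G.obj.map e.inv.op = 𝟙 _ := by
    rw [← G.obj.map_comp, ← op_comp, e.inv_hom_id, op_id, G.obj.map_id]
  exact congrArg (fun m => (ConcreteCategory.hom m) s) h2

set_option backward.isDefEq.respectTransparency.types false in
theorem ofArrows_mem_topology_of_isOpenImmersion {X : Scheme.{u}} (U : X.ProEt) {ι : Type*}
    (V : ι → X.ProEt) (g : ∀ i, V i ⟶ U) [∀ i, IsOpenImmersion (g i).left]
    (hcov : ∀ x : U.left, ∃ i, x ∈ Set.range (g i).left) :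
    Sieve.generate (Presieve.ofArrows V g) ∈ Scheme.ProEt.topology X U := by
  apply Precoverage.generate_mem_toGrothendieck
  show (Presieve.ofArrows _ _).map (Scheme.ProEt.forget X ⋙ Over.forget X) ∈
    Scheme.proetalePrecoverage U.left
  rw [Presieve.map_ofArrows]
  apply Scheme.zariskiPrecoverage_le_propQCPrecoverage
  show Presieve.ofArrows (fun k => (V k).left) (fun k => (g k).left) ∈ _
  rw [Scheme.zariskiPrecoverage, Scheme.ofArrows_mem_precoverage_iff]
  exact ⟨hcov, fun i => inferInstance⟩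

set_option backward.isDefEq.respectTransparency.types false in
theorem exists_glue_sections' {X : Scheme.{u}} (U : X.ProEt)
    (F : Sheaf (Scheme.ProEt.topology X) (Type w)) {ι : Type*}
    (V : ι → X.ProEt) (g : ∀ i, V i ⟶ U) [∀ i, IsOpenImmersion (g i).left]
    (hdisj : Pairwise (fun k l => Disjoint (Set.range (g k).left) (Set.range (g l).left)))
    (hcov : ∀ x : U.left, ∃ i, x ∈ Set.range (g i).left)
    (t : ∀ k, F.obj.obj (op (V k))) :
    ∃ s : F.obj.obj (op U), ∀ k, F.obj.map (g k).op s = t k := by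
  have hF := (isSheaf_iff_isSheaf_of_type _ _).mp F.property
  have h := hF.isSheafFor _ (ofArrows_mem_topology_of_isOpenImmersion U V g hcov)
  rw [Presieve.isSheafFor_arrows_iff] at h
  suffices hcomp : Presieve.Arrows.Compatible F.obj g t by
    obtain ⟨s, hs, -⟩ := h t hcomp
    exact ⟨s, hs⟩
  intro i j Z gi gj hij
  by_cases hij' : i = j
  · subst hij'
    have h1 : gi.left ≫ (g i).left = gj.left ≫ (g i).left := congrArg (fun m => m.left) hij
    have h2 : gi.left = gj.left := (cancel_mono (g i).left).mp h1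
    have h3 : gi = gj := MorphismProperty.Over.Hom.ext h2
    rw [h3]
  · haveI : IsEmpty Z.left := by
      refine ⟨fun z => ?_⟩
      have h1 : gi.left ≫ (g i).left = gj.left ≫ (g j).left := congrArg (fun m => m.left) hij
      have h2' : (gi.left ≫ (g i).left) z = (gj.left ≫ (g j).left) z := by rw [h1]
      have h2 : (g i).left (gi.left z) = (g j).left (gj.left z) := h2'
      have h3 : (g i).left (gi.left z) ∈ Set.range (g i).left := ⟨_, rfl⟩
      have h4 : (g i).left (gi.left z) ∈ Set.range (g j).left := h2 ▸ ⟨_, rfl⟩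
      exact Set.disjoint_left.mp (hdisj hij') h3 h4
    have := subsingleton_of_isEmpty F Z
    exact Subsingleton.elim _ _

set_option backward.isDefEq.respectTransparency.types false in
theorem isWC_of_disjoint_cover {X : Scheme.{u}} (U : X.ProEt) {ι : Type*}
    (V : ι → X.ProEt) (g : ∀ i, V i ⟶ U) [∀ i, IsOpenImmersion (g i).left]
    (hdisj : Pairwise (fun k l => Disjoint (Set.range (g k).left) (Set.range (g l).left)))
    (hcov : ∀ x : U.left, ∃ i, x ∈ Set.range (g i).left)
    (hV : ∀ i, ProEtS.IsWC (V i)) : ProEtS.IsWC U := by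
  intro F G φ hφ s
  have hW' : ∀ k, ∃ t : F.obj.obj (op (V k)), φ.hom.app _ t = G.obj.map (g k).op s :=
    fun k => hV k F G φ hφ _
  choose t ht using hW'
  obtain ⟨s', hs'⟩ := exists_glue_sections' U F V g hdisj hcov t
  refine ⟨s', ?_⟩
  have hG := (isSheaf_iff_isSheaf_of_type _ _).mp G.property
  have h := (hG.isSheafFor _ (ofArrows_mem_topology_of_isOpenImmersion U V g hcov)).isSeparatedFor
  apply h.ext
  rintro Y f ⟨k⟩
  refine Eq.trans ?_ (ht k)
  refine Eq.trans ?_ (congrArg _ (hs' k))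
  exact (NatTrans.naturality_apply φ.hom _ s').symm

set_option backward.isDefEq.respectTransparency.types false in
theorem exists_wc_cover {X : Scheme.{u}} (U : X.ProEt) (𝒰 : Scheme.OpenCover.{u} U.left)
    [∀ i, IsAffine (𝒰.X i)] :
    ∃ (V : X.ProEt) (g : V ⟶ U),
      Sieve.generate (Presieve.singleton g) ∈ Scheme.ProEt.topology X U ∧ ProEtS.IsWC V ∧
        (Finite 𝒰.I₀ → IsAffine V.left) := by
  choose W h hWaff hwe hsurj hqc hwc using
    fun i : 𝒰.I₀ => ProEtCov.exists_wContractible_cover_affine (𝒰.X i)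
  let t : (∐ W) ⟶ U.left := Sigma.desc (fun i => h i ≫ 𝒰.f i)
  haveI : WeaklyEtale t := IsZariskiLocalAtSource.sigmaDesc (fun i => inferInstance)
  let V : X.ProEt := Scheme.ProEt.mk (t ≫ U.hom)
  let g : V ⟶ U := MorphismProperty.Over.homMk t
  let V' : 𝒰.I₀ → X.ProEt := fun i => Scheme.ProEt.mk ((h i ≫ 𝒰.f i) ≫ U.hom)
  have hι : ∀ i, Sigma.ι W i ≫ t = h i ≫ 𝒰.f i := fun i => Sigma.ι_desc _ _
  let g' : ∀ i, V' i ⟶ V := fun i => MorphismProperty.Over.homMk (Sigma.ι W i) (by
    show Sigma.ι W i ≫ t ≫ U.hom = (h i ≫ 𝒰.f i) ≫ U.hom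
    rw [← Category.assoc, hι])
  refine ⟨V, g, ?_, ?_, ?_⟩
  · let V'' : (Σ _ : 𝒰.I₀, PUnit.{u+1}) → X.ProEt := fun p => V' p.1
    let g'' : ∀ p, V'' p ⟶ U := fun p => MorphismProperty.Over.homMk (h p.1 ≫ 𝒰.f p.1)
    have hg'' : ∀ p, g'' p = g' p.1 ≫ g := by
      intro p
      apply MorphismProperty.Over.Hom.ext
      exact (hι p.1).symm
    have hcov : Sieve.generate (Presieve.ofArrows V'' g'') ∈ Scheme.ProEt.topology X U := by
      apply Precoverage.generate_mem_toGrothendieck
      show (Presieve.ofArrows V'' g'').map (Scheme.ProEt.forget X ⋙ Over.forget X) ∈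
        Scheme.proetalePrecoverage U.left
      rw [Presieve.map_ofArrows]
      have hf : Presieve.ofArrows 𝒰.X 𝒰.f ∈ Scheme.proetalePrecoverage U.left :=
        Scheme.zariskiPrecoverage_le_propQCPrecoverage _ 𝒰.mem₀
      have hg : ∀ i : 𝒰.I₀, Presieve.ofArrows (fun _ : PUnit.{u+1} => W i) (fun _ => h i) ∈
          Scheme.proetalePrecoverage (𝒰.X i) := by
        intro i
        rw [Presieve.ofArrows_pUnit]
        refine ⟨?_, ?_⟩
        · haveI := hsurj i
          haveI := hqc i
          exact Scheme.Hom.singleton_mem_qcPrecoverage (h i)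
        · rw [Scheme.singleton_mem_precoverage_iff]
          exact ⟨(hsurj i).surj, hwe i⟩
      exact Precoverage.comp_mem_coverings 𝒰.f hf (fun i _ => h i) hg
    refine (Scheme.ProEt.topology X).superset_covering ?_ hcov
    rintro Z f ⟨Y, a, b, ⟨p⟩, rfl⟩
    exact ⟨V, a ≫ g' p.1, g, ⟨⟩, by rw [Category.assoc, hg'']⟩
  · haveI : ∀ i, IsOpenImmersion (g' i).left := fun i => by
      show IsOpenImmersion (Sigma.ι W i)
      infer_instance
    refine isWC_of_disjoint_cover V V' g' ?_ ?_ ?_
    · intro k l hkl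
      show Disjoint (Set.range (Sigma.ι W k)) (Set.range (Sigma.ι W l))
      have hd := disjoint_opensRange_sigmaι W k l hkl
      rw [Set.disjoint_left]
      intro y hk hl
      have hy : y ∈ ((Sigma.ι W k).opensRange ⊓ (Sigma.ι W l).opensRange : (∐ W).Opens) := ⟨hk, hl⟩
      rw [disjoint_iff.mp hd] at hy
      exact hy
    · intro y
      obtain ⟨k, x, hx⟩ := (sigmaOpenCover W).exists_eq y
      exact ⟨k, x, hx⟩
    · intro i
      haveI : IsAffine (V' i).left := hWaff i
      exact isWC_of_wContractible (V' i) (hwc i)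
  · intro hfin
    show IsAffine (∐ W)
    infer_instance

end Groth.Agent.Lib.Helper82.ProEtWC
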