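import Groth.Agent.Lib.Helper82.ProEtWC4
import Mathlib.CategoryTheory.Sites.LocallyBijective

set_option autoImplicit false
open CategoryTheory CategoryTheory.Limits AlgebraicGeometry Opposite
universe u w

namespace Groth.Agent.Lib.Helper82.ProEtWC

set_option backward.isDefEq.respectTransparency.types false in
theorem nonempty_isColimit_cofan {X : Scheme.{u}} (W : X.ProEt) {n : ℕ} (P : Fin n → W.left.Opens)
    (hdisj : Pairwise (fun k l => Disjoint (P k : Set ↥W.left) (P l)))
    (hcov : (⋃ k, (P k : Set ↥W.left)) = Set.univ) :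
    Nonempty (IsColimit (Cofan.mk W (fun k => (MorphismProperty.Over.homMk (P k).ι :
        Scheme.ProEt.mk ((P k).ι ≫ W.hom) ⟶ W)))) := by
  have hU : TopologicalSpace.IsOpenCover P := by
    rw [TopologicalSpace.IsOpenCover, eq_top_iff]
    intro x _
    have hx : x ∈ ⋃ k, (P k : Set ↥W.left) := hcov ▸ Set.mem_univ x
    obtain ⟨k, hk⟩ := Set.mem_iUnion.mp hx
    exact TopologicalSpace.Opens.mem_iSup.mpr ⟨k, hk⟩
  have key : ∀ t : Cofan (fun k => Scheme.ProEt.mk ((P k).ι ≫ W.hom)),
      ∃ d : W ⟶ t.pt, ∀ k, (MorphismProperty.Over.homMk (P k).ι :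
        Scheme.ProEt.mk ((P k).ι ≫ W.hom) ⟶ W) ≫ d = t.inj k := by
    intro t
    obtain ⟨d, hd⟩ := exists_glue_of_disjoint P hdisj hcov (fun k => (t.inj k).left)
    have hd' : d ≫ t.pt.hom = W.hom := by
      apply (W.left.openCoverOfIsOpenCover P hU).hom_ext
      intro k
      show (P k).ι ≫ d ≫ t.pt.hom = (P k).ι ≫ W.hom
      rw [← Category.assoc, hd]
      exact MorphismProperty.Over.w (t.inj k)
    refine ⟨MorphismProperty.Over.homMk d hd', fun k => ?_⟩
    apply MorphismProperty.Over.Hom.ext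
    exact hd k
  choose desc hdesc using key
  refine ⟨Cofan.IsColimit.mk _ desc (fun t j => hdesc t j) (fun t m hm => ?_)⟩
  apply MorphismProperty.Over.Hom.ext
  apply (W.left.openCoverOfIsOpenCover P hU).hom_ext
  intro k
  show (P k).ι ≫ m.left = (P k).ι ≫ (desc t).left
  have h1 := congrArg (fun q => q.left) (hm k)
  have h2 := congrArg (fun q => q.left) (hdesc t k)
  exact h1.trans h2.symm

set_option backward.isDefEq.respectTransparency.types false in
theorem existsUnique_of_preservesFiniteProducts {X : Scheme.{u}} (F : X.ProEtᵒᵖ ⥤ Type w)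
    [PreservesFiniteProducts F] (W : X.ProEt) {n : ℕ} (P : Fin n → W.left.Opens)
    (hdisj : Pairwise (fun k l => Disjoint (P k : Set ↥W.left) (P l)))
    (hcov : (⋃ k, (P k : Set ↥W.left)) = Set.univ)
    (t : ∀ k, F.obj (op (Scheme.ProEt.mk ((P k).ι ≫ W.hom)))) :
    ∃! a : F.obj (op W), ∀ k, F.map (MorphismProperty.Over.homMk (P k).ι :
        Scheme.ProEt.mk ((P k).ι ≫ W.hom) ⟶ W).op a = t k := by
  obtain ⟨hc⟩ := nonempty_isColimit_cofan W P hdisj hcov
  have hl := Cofan.IsColimit.op hc
  have hl' := isLimitOfPreserves F hl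
  have h := (Types.isLimit_iff _).mp ⟨hl'⟩ (fun j => t j.as) ?_
  · obtain ⟨a, ha, hu⟩ := h
    exact ⟨a, fun k => ha ⟨k⟩, fun b hb => hu b (fun j => hb j.as)⟩
  · rintro ⟨j⟩ ⟨j'⟩ ⟨⟨hjj⟩⟩
    cases hjj
    simp

set_option backward.isDefEq.respectTransparency.types false in
theorem sheafify_bijective {X : Scheme.{u}} (F : X.ProEtᵒᵖ ⥤ Type (u + 1))
    [PreservesFiniteProducts F] (W : X.ProEt) [IsAffine W.left] (hW : ProEtS.IsWC W) :
    Function.Bijective ((toSheafify (Scheme.ProEt.topology X) F).app (op W)) := by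
  have hA := wContractible_of_isWC W hW
  constructor
  · intro a b hab
    have hmem : Presheaf.equalizerSieve (F := F) (X := op W) a b ∈ Scheme.ProEt.topology X W :=
      Presheaf.equalizerSieve_mem (Scheme.ProEt.topology X)
        (toSheafify (Scheme.ProEt.topology X) F) (X := op W) a b hab
    obtain ⟨n, P, -, hdisj, hcov, hP⟩ := exists_clopen_of_wContractible W hA _ hmem
    have hP' : ∀ k, F.map (MorphismProperty.Over.homMk (P k).ι :
        Scheme.ProEt.mk ((P k).ι ≫ W.hom) ⟶ W).op a = F.map (MorphismProperty.Over.homMk (P k).ι :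
        Scheme.ProEt.mk ((P k).ι ≫ W.hom) ⟶ W).op b := hP
    obtain ⟨c, hc, hu⟩ := existsUnique_of_preservesFiniteProducts F W P hdisj hcov
      (fun k => F.map (MorphismProperty.Over.homMk (P k).ι :
        Scheme.ProEt.mk ((P k).ι ≫ W.hom) ⟶ W).op a)
    exact (hu a (fun _ => rfl)).trans (hu b (fun k => (hP' k).symm)).symm
  · intro s
    have hmem : Presheaf.imageSieve (toSheafify (Scheme.ProEt.topology X) F) s ∈
        Scheme.ProEt.topology X W :=
      Presheaf.imageSieve_mem _ (toSheafify (Scheme.ProEt.topology X) F) s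
    obtain ⟨n, P, -, hdisj, hcov, hP⟩ := exists_clopen_of_wContractible W hA _ hmem
    have hP' : ∀ k, ∃ t : F.obj (op (Scheme.ProEt.mk ((P k).ι ≫ W.hom))),
        (toSheafify (Scheme.ProEt.topology X) F).app _ t =
          (sheafify (Scheme.ProEt.topology X) F).map (MorphismProperty.Over.homMk (P k).ι :
            Scheme.ProEt.mk ((P k).ι ≫ W.hom) ⟶ W).op s := hP
    choose t ht using hP'
    obtain ⟨a, ha, -⟩ := existsUnique_of_preservesFiniteProducts F W P hdisj hcov t
    refine ⟨a, ?_⟩
    have hG := (isSheaf_iff_isSheaf_of_type _ _).mp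
      ((presheafToSheaf (Scheme.ProEt.topology X) (Type (u+1))).obj F).property
    have h := (hG.isSheafFor _ (ofArrows_opens_mem_topology W P hcov)).isSeparatedFor
    apply h.ext
    rintro Y f ⟨k⟩
    refine Eq.trans ?_ (ht k)
    refine Eq.trans ?_ (congrArg _ (ha k))
    exact (NatTrans.naturality_apply (toSheafify (Scheme.ProEt.topology X) F) _ a).symm

end Groth.Agent.Lib.Helper82.ProEtWC
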