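import Mathlib.RingTheory.Polynomial.GaussLemma
import Mathlib.RingTheory.Henselian
import Mathlib.FieldTheory.IsSepClosed
import Mathlib.FieldTheory.IsAlgClosed.Basic
import Mathlib.FieldTheory.Separable
import Mathlib.Algebra.Polynomial.Eval.Irreducible
import Mathlib.Algebra.Polynomial.Lifts
import Mathlib.Algebra.Polynomial.Degree.SmallDegree
import Mathlib.RingTheory.LocalRing.ResidueField.Basic
import Mathlib.Tactic

namespace Groth.Agent.Lib.Helper82

open Polynomial

section

variable {B : Type*} [CommRing B] [IsDomain B] [IsLocalRing B] [IsIntegrallyClosed B]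
  {K : Type*} [Field K] [Algebra B K] [IsFractionRing B K] [IsSepClosed K]

theorem natDegree_eq_one_of_irreducible_of_separable_map (Q : B[X]) (hQ : Q.Monic)
    (hirr : Irreducible Q) (hsep : (Q.map (algebraMap B K)).Separable) :
    Q.natDegree = 1 := by
  have hK : Irreducible (Q.map (algebraMap B K)) :=
    (Monic.irreducible_iff_irreducible_map_fraction_map (K := K) hQ).1 hirr
  have hdeg : (Q.map (algebraMap B K)).degree ≠ 0 := by
    have := degree_pos_of_irreducible hK
    exact this.ne'
  obtain ⟨x, hx⟩ := IsSepClosed.exists_root _ hdeg hsep
  have h1 := degree_eq_one_of_irreducible_of_root hK hx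
  have h2 : (Q.map (algebraMap B K)).natDegree = 1 := natDegree_eq_of_degree_eq_some h1
  rwa [hQ.natDegree_map] at h2

theorem exists_root_of_lift_separable (Q : B[X]) (hQ : Q.Monic)
    (hirr : Irreducible (Q.map (IsLocalRing.residue B)))
    (hsep : (Q.map (algebraMap B K)).Separable) :
    ∃ x, (Q.map (IsLocalRing.residue B)).eval x = 0 := by
  have hB : Irreducible Q := Monic.irreducible_of_irreducible_map (IsLocalRing.residue B) Q hQ hirr
  have h1 := natDegree_eq_one_of_irreducible_of_separable_map (K := K) Q hQ hB hsep
  have h2 : (Q.map (IsLocalRing.residue B)).natDegree = 1 := by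
    rw [hQ.natDegree_map]; exact h1
  have h3 : (Q.map (IsLocalRing.residue B)).degree = 1 := by
    rw [degree_eq_natDegree (hQ.map _).ne_zero, h2]; rfl
  exact exists_root_of_degree_eq_one h3

theorem derivative_eq_zero_of_not_separable_map (Q : B[X]) (hQ : Q.Monic)
    (hirr : Irreducible Q) (hsep : ¬ (Q.map (algebraMap B K)).Separable) :
    derivative Q = 0 := by
  have hK : Irreducible (Q.map (algebraMap B K)) :=
    (Monic.irreducible_iff_irreducible_map_fraction_map (K := K) hQ).1 hirr
  rw [separable_iff_derivative_ne_zero hK, not_not, derivative_map] at hsep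
  have hinj : Function.Injective (algebraMap B K) := IsFractionRing.injective B K
  exact Polynomial.map_injective _ hinj (by rw [hsep, Polynomial.map_zero])

include K in
theorem isSepClosed_residueField : IsSepClosed (IsLocalRing.ResidueField B) := by
  refine IsSepClosed.of_exists_root _ ?_
  intro P hP hirr hsepP
  have hsurj : Function.Surjective (IsLocalRing.residue B) := IsLocalRing.residue_surjective
  have hl : P ∈ lifts (IsLocalRing.residue B) := by
    rw [lifts_iff_coeff_lifts]
    intro n
    exact hsurj _
  obtain ⟨Q, hQP, -, hQ⟩ := lifts_and_natDegree_eq_and_monic hl hP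
  subst hQP
  by_cases hs : (Q.map (algebraMap B K)).Separable
  · exact exists_root_of_lift_separable (K := K) Q hQ hirr hs
  · exfalso
    have hB : Irreducible Q :=
      Monic.irreducible_of_irreducible_map (IsLocalRing.residue B) Q hQ hirr
    have hd := derivative_eq_zero_of_not_separable_map (K := K) Q hQ hB hs
    have hd2 : derivative (Q.map (IsLocalRing.residue B)) = 0 := by
      rw [derivative_map, hd, Polynomial.map_zero]
    have := (separable_iff_derivative_ne_zero hirr).1 hsepP
    exact this hd2

include K in
theorem isAlgClosed_residueField (t : B) (ht0 : t ≠ 0) (htm : t ∈ IsLocalRing.maximalIdeal B) :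
    IsAlgClosed (IsLocalRing.ResidueField B) := by
  refine IsAlgClosed.of_exists_root _ ?_
  intro P hP hirr
  have hsurj : Function.Surjective (IsLocalRing.residue B) := IsLocalRing.residue_surjective
  have hl : P ∈ lifts (IsLocalRing.residue B) := by
    rw [lifts_iff_coeff_lifts]
    intro n
    exact hsurj _
  obtain ⟨Q, hQP, -, hQ⟩ := lifts_and_natDegree_eq_and_monic hl hP
  subst hQP
  by_cases hs : (Q.map (algebraMap B K)).Separable
  · exact exists_root_of_lift_separable (K := K) Q hQ hirr hs
  · have hB : Irreducible Q :=
      Monic.irreducible_of_irreducible_map (IsLocalRing.residue B) Q hQ hirr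
    have hd := derivative_eq_zero_of_not_separable_map (K := K) Q hQ hB hs
    have hdeg2 : 2 ≤ Q.natDegree := by
      by_contra hlt
      push Not at hlt
      interval_cases hn : Q.natDegree
      · have : Q = 1 := by
          have := hQ.natDegree_eq_zero.1 hn
          exact this
        exact hB.not_isUnit (this ▸ isUnit_one)
      · have h1 := hQ.eq_X_add_C hn
        rw [h1] at hd
        simp at hd
    have hres : IsLocalRing.residue B t = 0 := by
      rwa [IsLocalRing.residue_eq_zero_iff]
    have hdegtX : (C t * X : B[X]).degree < Q.degree := by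
      rw [degree_eq_natDegree hQ.ne_zero]
      calc (C t * X : B[X]).degree ≤ 1 := by
            rw [degree_C_mul_X ht0]
        _ < (Q.natDegree : WithBot ℕ) := by exact_mod_cast hdeg2
    have hQ2 : (Q + C t * X).Monic := hQ.add_of_left hdegtX
    have hmap : (Q + C t * X).map (IsLocalRing.residue B) = Q.map (IsLocalRing.residue B) := by
      simp [hres]
    have hirr2 : Irreducible ((Q + C t * X).map (IsLocalRing.residue B)) := by rwa [hmap]
    have hB2 : Irreducible (Q + C t * X) :=
      Monic.irreducible_of_irreducible_map (IsLocalRing.residue B) _ hQ2 hirr2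
    have hK2 : Irreducible ((Q + C t * X).map (algebraMap B K)) :=
      (Monic.irreducible_iff_irreducible_map_fraction_map (K := K) hQ2).1 hB2
    have hsep2 : ((Q + C t * X).map (algebraMap B K)).Separable := by
      rw [separable_iff_derivative_ne_zero hK2, derivative_map]
      have : derivative (Q + C t * X) = C t := by
        rw [derivative_add, hd, zero_add, derivative_C_mul, derivative_X, mul_one]
      rw [this, Polynomial.map_C]
      intro h0
      have h1 : algebraMap B K t = 0 := by simpa using h0
      have hinj : Function.Injective (algebraMap B K) := IsFractionRing.injective B K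
      exact ht0 (hinj (by rw [h1, map_zero]))
    rw [← hmap]
    exact exists_root_of_lift_separable (K := K) _ hQ2 hirr2 hsep2

include K in
theorem henselian_aux : ∀ n : ℕ, ∀ f : B[X], f.Monic → f.natDegree = n → ∀ a₀ : B,
    f.eval a₀ ∈ IsLocalRing.maximalIdeal B → IsUnit (f.derivative.eval a₀) →
    ∃ a : B, f.IsRoot a ∧ a - a₀ ∈ IsLocalRing.maximalIdeal B := by
  intro n
  induction n using Nat.strong_induction_on with
  | _ n ih =>
    intro f hf hn a₀ h0 h1
    by_cases hirr : Irreducible f
    · by_cases hs : (f.map (algebraMap B K)).Separable
      · have hd1 := natDegree_eq_one_of_irreducible_of_separable_map (K := K) f hf hirr hs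
        have hfe := hf.eq_X_add_C hd1
        refine ⟨-(f.coeff 0), ?_, ?_⟩
        · rw [IsRoot.def, hfe]
          simp
        · have : f.eval a₀ = a₀ + f.coeff 0 := by
            conv_lhs => rw [hfe]
            simp
          rw [this] at h0
          have h2 := (IsLocalRing.maximalIdeal B).neg_mem h0
          convert h2 using 1
          ring
      · exfalso
        have hd := derivative_eq_zero_of_not_separable_map (K := K) f hf hirr hs
        rw [hd] at h1
        simp at h1
    · rw [hf.irreducible_iff_natDegree] at hirr
      push Not at hirr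
      by_cases hf1 : f = 1
      · exfalso
        rw [hf1] at h0
        simp only [eval_one] at h0
        exact (Ideal.ne_top_iff_one _).1 (IsLocalRing.maximalIdeal.isMaximal B).ne_top h0
      · obtain ⟨g, h, hg, hh, hgh, hg0, hh0⟩ := hirr hf1
        have hdeg : f.natDegree = g.natDegree + h.natDegree := by
          rw [← hgh, hg.natDegree_mul hh]
        have key : ∀ g h : B[X], g.Monic → g * h = f → g.natDegree < n →
            g.eval a₀ ∈ IsLocalRing.maximalIdeal B →
            ∃ a : B, f.IsRoot a ∧ a - a₀ ∈ IsLocalRing.maximalIdeal B := by
          intro g h hg hgh hlt hga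
          have hu : IsUnit (g.derivative.eval a₀) := by
            by_contra hnu
            have hmem : g.derivative.eval a₀ ∈ IsLocalRing.maximalIdeal B :=
              (IsLocalRing.mem_maximalIdeal _).2 hnu
            have : f.derivative.eval a₀ ∈ IsLocalRing.maximalIdeal B := by
              rw [← hgh, derivative_mul, eval_add, eval_mul, eval_mul]
              exact Ideal.add_mem _ (Ideal.mul_mem_right _ _ hmem) (Ideal.mul_mem_right _ _ hga)
            exact (IsLocalRing.mem_maximalIdeal _).1 this h1
          obtain ⟨a, ha, haa⟩ := ih g.natDegree hlt g hg rfl a₀ hga hu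
          refine ⟨a, ?_, haa⟩
          rw [IsRoot.def] at ha ⊢
          rw [← hgh, eval_mul, ha, zero_mul]
        have hprod : g.eval a₀ * h.eval a₀ ∈ IsLocalRing.maximalIdeal B := by
          rw [← eval_mul, hgh]; exact h0
        rcases (IsLocalRing.maximalIdeal.isMaximal B).isPrime.mem_or_mem hprod with hga | hha
        · exact key g h hg hgh (by omega) hga
        · exact key h g hh (by rw [mul_comm]; exact hgh) (by omega) hha

include K in
theorem henselianLocalRing_of_sepClosed : HenselianLocalRing B where
  is_henselian f hf a₀ h0 h1 := henselian_aux (K := K) _ f hf rfl a₀ h0 h1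

end

end Groth.Agent.Lib.Helper82
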