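import Groth.Agent.Lib.Helper82.TConstr
import Groth.Agent.Lib.Helper82.IndSysRetr
import Groth.Agent.Lib.Helper82.IndEtaleTrans
import Groth.Prelude.Def_ProEtW

set_option autoImplicit false
open CategoryTheory CategoryTheory.Limits TensorProduct
universe u

/-!
# Iterating the `T`-construction countably many times.
-/

namespace Groth.Agent.Lib.Helper82.TOmega

variable (A : Type u) [CommRing A]

/-- a stage of the tower: a faithfully flat ind-étale `A`-algebra. -/
structure Stg : Type (u + 1) where
  R : Type u
  [ring : CommRing R]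
  [alg : Algebra A R]
  indEt : EtPBC.IsIndEtale A R
  ff : Module.FaithfullyFlat A R

attribute [instance] Stg.ring Stg.alg

variable {A}

/-- the next stage. -/
noncomputable def Stg.next (s : Stg A) : Stg A :=
  letI : Algebra A (TConstr.T s.R) :=
    ((algebraMap s.R (TConstr.T s.R)).comp (algebraMap A s.R)).toAlgebra
  haveI : IsScalarTower A s.R (TConstr.T s.R) := IsScalarTower.of_algebraMap_eq' rfl
  { R := TConstr.T s.R
    indEt := isIndEtale_trans A s.R (TConstr.T s.R) s.indEt (TConstr.isIndEtale_T s.R)
    ff := by
      have := s.ff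
      have := TConstr.faithfullyFlat_T s.R
      exact Module.FaithfullyFlat.trans A s.R (TConstr.T s.R) }

/-- the structure map to the next stage. -/
noncomputable def Stg.step (s : Stg A) : s.R →ₐ[A] s.next.R :=
  { algebraMap s.R (TConstr.T s.R) with commutes' := fun _ => rfl }

/-- the algebra structure of the next stage over the given one. -/
noncomputable instance (s : Stg A) : Algebra s.R s.next.R :=
  inferInstanceAs (Algebra s.R (TConstr.T s.R))

lemma Stg.step_apply (s : Stg A) (x : s.R) : s.step x = algebraMap s.R s.next.R x := rfl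

variable (A)

/-- the tower. -/
noncomputable def stg : ℕ → Stg A
  | 0 => { R := A, indEt := isIndEtale_of_etale A A, ff := inferInstance }
  | n + 1 => (stg n).next

/-- the rings of the tower, indexed by the lifted natural numbers. -/
abbrev G (i : ULift.{u} ℕ) : Type u := (stg A i.down).R

/-- transition maps between natural number stages. -/
noncomputable def trans' (i j : ℕ) (h : i ≤ j) : (stg A i).R →ₐ[A] (stg A j).R :=
  Nat.leRecOn (C := fun k => (stg A i).R →ₐ[A] (stg A k).R) h
    (fun {k} g => ((stg A k).step).comp g) (AlgHom.id A _)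

lemma trans'_self (i : ℕ) : trans' A i i le_rfl = AlgHom.id A _ :=
  Nat.leRecOn_self _

lemma trans'_succ (i j : ℕ) (h : i ≤ j) :
    trans' A i (j + 1) (Nat.le_succ_of_le h) = ((stg A j).step).comp (trans' A i j h) :=
  Nat.leRecOn_succ h _

lemma trans'_trans' (i j k : ℕ) (h : i ≤ j) (h' : j ≤ k) (x : (stg A i).R) :
    trans' A j k h' (trans' A i j h x) = trans' A i k (h.trans h') x := by
  induction k, h' using Nat.le_induction with
  | base => rw [trans'_self]; rfl
  | succ k hk ih =>
    rw [trans'_succ A j k hk, trans'_succ A i k (h.trans hk)]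
    exact congrArg (stg A k).step ih

/-- transition maps. -/
noncomputable def trans (i j : ULift.{u} ℕ) (h : i ≤ j) : G A i →ₐ[A] G A j :=
  trans' A i.down j.down h

instance : DirectedSystem (G A) (fun i j h => trans A i j h) where
  map_self := fun i x => by
    show trans' A i.down i.down le_rfl x = x
    rw [trans'_self]; rfl
  map_map := fun _ _ _ h h' x => trans'_trans' A _ _ _ h h' x

instance : IsDirectedOrder (ULift.{u} ℕ) :=
  ⟨fun i j => ⟨⟨max i.down j.down⟩, le_max_left _ _, le_max_right _ _⟩⟩

/-- the colimit of the tower. -/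
abbrev C : Type u := DirectLimit (G A) (trans A)

/-- the ind-system of the tower. -/
noncomputable def sys : IndSys A (C A) := IndSys.ofDirectLimit (G A) (trans A)

theorem isIndEtale_C : EtPBC.IsIndEtale A (C A) :=
  (sys A).isIndEtale (fun i : ULift.{u} ℕ => (stg A i.down).indEt)

theorem faithfullyFlat_C : Module.FaithfullyFlat A (C A) := by
  have : Module.Flat A (C A) := (weaklyEtale_of_isIndEtale (isIndEtale_C A)).flat
  exact (sys A).faithfullyFlat (fun i : ULift.{u} ℕ => (stg A i.down).ff)

lemma trans_succ (i : ULift.{u} ℕ) (x : G A i) :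
    trans A i ⟨i.down + 1⟩ (Nat.le_succ _) x = (stg A i.down).step x := by
  show trans' A i.down (i.down + 1) (Nat.le_succ_of_le le_rfl) x = _
  rw [trans'_succ A i.down i.down le_rfl, trans'_self]
  rfl

theorem hasEtaleRetractions_C : ProEtW.HasEtaleRetractions (C A) := by
  refine (sys A).hasEtaleRetractions ?_
  intro (j : ULift.{u} ℕ) S _ (_ : Algebra (G A j) S) (_ : Algebra.Etale (G A j) S)
    (_ : Module.FaithfullyFlat (G A j) S)
  obtain ⟨g⟩ := TConstr.exists_algHom (A := G A j) S
  let j₂ : ULift.{u} ℕ := ⟨j.down + 1⟩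
  let φ₂ : G A j₂ →ₐ[A] C A := DirectLimit.Algebra.of (G A) (trans A) j₂
  refine ⟨φ₂.toRingHom.comp g.toRingHom, fun (r : G A j) => ?_⟩
  show φ₂ (g (algebraMap (G A j) S r)) = DirectLimit.Algebra.of (G A) (trans A) j r
  rw [g.commutes]
  have h1 : algebraMap (G A j) (TConstr.T (G A j)) r = trans A j j₂ (Nat.le_succ _) r :=
    (trans_succ A j r).symm
  rw [h1]
  have hle : j ≤ j₂ := Nat.le_succ j.down
  exact DirectLimit.Algebra.of_f (G := G A) (f := trans A) hle r

end Groth.Agent.Lib.Helper82.TOmega
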