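import Groth.Agent.Lib.Helper82.SqLemmas
import Groth.Agent.Lib.Helper82.TOmega
import Groth.Agent.Lib.Helper82.EtRetrHensel
import Groth.Agent.Lib.Helper82.IndZarIdentify

set_option autoImplicit false
open CategoryTheory CategoryTheory.Limits TensorProduct PrimeSpectrum
universe u

namespace Groth.Agent.Lib.Helper82

/-- the first column of the square: from a w-local ring `A'` and a faithfully flat ind-étale
`A'`-algebra with étale retractions, produce a w-local ind-étale algebra whose closed points are
exactly those over closed points, and whose local rings at closed points are strictly henselian. -/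
theorem exists_wLocal_strictlyHenselian_cover (A' C' : Type u) [CommRing A'] [CommRing C']
    [Algebra A' C'] (I : Ideal A')
    (hI0 : PrimeSpectrum.zeroLocus (R := A') I = ProEtW.closedPoints (PrimeSpectrum A'))
    (hff : Module.FaithfullyFlat A' C') (het : EtPBC.IsIndEtale A' C')
    (hretr : ProEtW.HasEtaleRetractions C') :
    ∃ (C : Type u) (_ : CommRing C) (_ : Algebra A' C),
      EtPBC.IsIndEtale A' C ∧ ProEtW.IsWLocal (PrimeSpectrum C) ∧
      ProEtW.IsWLocalMap (PrimeSpectrum.comap (algebraMap A' C)) ∧
      ProEtW.closedPoints (PrimeSpectrum C) =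
        PrimeSpectrum.comap (algebraMap A' C) ⁻¹' ProEtW.closedPoints (PrimeSpectrum A') ∧
      ProEtW.closedPoints (PrimeSpectrum A') ⊆
        PrimeSpectrum.comap (algebraMap A' C) '' ProEtW.closedPoints (PrimeSpectrum C) ∧
      ∀ (m : Ideal C) [m.IsMaximal],
        EtCoh.IsStrictlyHenselianLocalRing (Localization.AtPrime m) := by
  have hsub1 := zeroLocus_map_subset_closedPoints_of_isIndEtale A' C' het I hI0.le
  obtain ⟨C, _, _, _, hst1, hCzar, hCbij, hCw, hCmap, hCcp⟩ :=
    WLoc.exists_indZariski_wLocal_of_subset_closedPoints A' C' I hI0 hsub1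
  have hcomap : ∀ Q : PrimeSpectrum C, PrimeSpectrum.comap (algebraMap A' C) Q =
      PrimeSpectrum.comap (algebraMap A' C') (PrimeSpectrum.comap (algebraMap C' C) Q) := by
    intro Q
    rw [← PrimeSpectrum.comap_comp_apply, ← IsScalarTower.algebraMap_eq]
  refine ⟨C, inferInstance, inferInstance,
    isIndEtale_trans A' C' C het (isIndEtale_of_isIndZariski hCzar), hCw, hCmap, hCcp, ?_, ?_⟩
  · intro x hx
    obtain ⟨q', hq'⟩ := PrimeSpectrum.comap_surjective_of_faithfullyFlat (A := A') (B := C') x
    have hIq' : I.map (algebraMap A' C') ≤ q'.asIdeal := by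
      rw [Ideal.map_le_iff_le_comap]
      have : x ∈ PrimeSpectrum.zeroLocus (R := A') I := by rw [hI0]; exact hx
      rw [mem_zeroLocus, SetLike.coe_subset_coe] at this
      rw [← hq'] at this
      exact this
    obtain ⟨Q, hQ, -⟩ := WLoc.exists_prime_of_bijective_quotientMap _ hCbij q' hIq'
    refine ⟨Q, ?_, ?_⟩
    · rw [hCcp, Set.mem_preimage, hcomap, hQ, hq']
      exact hx
    · rw [hcomap, hQ, hq']
  · intro m hm
    let Qm : PrimeSpectrum C := ⟨m, hm.isPrime⟩
    have h1 : Qm ∈ ProEtW.closedPoints (PrimeSpectrum C) := by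
      show IsClosed _
      rw [PrimeSpectrum.isClosed_singleton_iff_isMaximal]
      exact hm
    rw [hCcp, Set.mem_preimage, ← hI0, hcomap, mem_zeroLocus, SetLike.coe_subset_coe] at h1
    have h2 : PrimeSpectrum.comap (algebraMap C' C) Qm ∈
        PrimeSpectrum.zeroLocus (R := C') (I.map (algebraMap A' C')) := by
      rw [mem_zeroLocus, SetLike.coe_subset_coe, Ideal.map_le_iff_le_comap]
      exact h1
    have h3 : IsClosed ({PrimeSpectrum.comap (algebraMap C' C) Qm} : Set (PrimeSpectrum C')) :=
      hsub1 h2
    rw [PrimeSpectrum.isClosed_singleton_iff_isMaximal] at h3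
    have hm' : (m.comap (algebraMap C' C)).IsMaximal := h3
    have h4 := EtRetr.isStrictlyHenselianLocalRing_localization hretr (m.comap (algebraMap C' C))
    have h5 := IndZar.identifiesLocalRings_of_isIndZariski hCzar Qm
    exact isStrictlyHenselianLocalRing_of_ringEquiv (RingEquiv.ofBijective _ h5) h4

end Groth.Agent.Lib.Helper82
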