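import Mathlib

set_option autoImplicit false
universe u
open MvPolynomial

/-!
# Finite tensor products of a family of presented algebras, given by generators and relations,
with their universal property.
-/

namespace Groth.Agent.Lib.Helper82.TProd

variable {A : Type u} [CommRing A] {ι : Type u} (n : ι → ℕ)
  (I : ∀ i, Ideal (MvPolynomial (Fin (n i)) A))

/-- the `i`-th factor. -/
abbrev Fac (i : ι) : Type u := MvPolynomial (Fin (n i)) A ⧸ I i

variable (S : Finset ι)

/-- the embedding of the variables of the `i`-th factor. -/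
def emb (i : S) : Fin (n i) → Σ i : S, Fin (n i) := fun k => ⟨i, k⟩

@[simp] lemma emb_apply (i : S) (k : Fin (n i)) : emb n S i k = ⟨i, k⟩ := rfl

/-- the ideal of relations. -/
noncomputable def rel : Ideal (MvPolynomial (Σ i : S, Fin (n i)) A) :=
  ⨆ i : S, (I i).map (rename (R := A) (emb n S i))

/-- the tensor product of the factors indexed by `S`. -/
abbrev TP : Type u := MvPolynomial (Σ i : S, Fin (n i)) A ⧸ rel n I S

variable {n I S}

/-- the inclusion of a factor. -/
noncomputable def inc (i : S) : Fac n I i →ₐ[A] TP n I S :=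
  Ideal.Quotient.liftₐ (I i)
    ((Ideal.Quotient.mkₐ A (rel n I S)).comp
      (rename (R := A) (emb n S i)))
    (fun a ha => by
      rw [AlgHom.comp_apply, Ideal.Quotient.mkₐ_eq_mk, Ideal.Quotient.eq_zero_iff_mem]
      exact (le_iSup (fun i : S => (I i).map (rename (R := A)
        (emb n S i))) i) (Ideal.mem_map_of_mem _ ha))

lemma inc_mk (i : S) (a : MvPolynomial (Fin (n i)) A) :
    inc (I := I) i (Ideal.Quotient.mk (I i) a) =
      Ideal.Quotient.mk (rel n I S) (rename (emb n S i) a) :=
  rfl

variable {R : Type*} [CommRing R] [Algebra A R]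

/-- the universal property. -/
noncomputable def lift (g : ∀ i : S, Fac n I i →ₐ[A] R) : TP n I S →ₐ[A] R :=
  Ideal.Quotient.liftₐ (rel n I S)
    (aeval fun x : Σ i : S, Fin (n i) => g x.1 (Ideal.Quotient.mk (I x.1) (X x.2)))
    (by
      have key : rel n I S ≤ RingHom.ker
          (aeval fun x : Σ i : S, Fin (n i) => g x.1 (Ideal.Quotient.mk (I x.1) (X x.2))) := by
        refine iSup_le fun i => ?_
        rw [Ideal.map_le_iff_le_comap]
        intro a ha
        rw [Ideal.mem_comap, RingHom.mem_ker]
        have h1 : (aeval fun x : Σ i : S, Fin (n i) =>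
            g x.1 (Ideal.Quotient.mk (I x.1) (X x.2))).comp
            (rename (R := A) (emb n S i)) =
            (g i).comp (Ideal.Quotient.mkₐ A (I i)) := by
          apply MvPolynomial.algHom_ext
          intro k
          simp
        have h2 := DFunLike.congr_fun h1 a
        rw [AlgHom.comp_apply, AlgHom.comp_apply, Ideal.Quotient.mkₐ_eq_mk,
          Ideal.Quotient.eq_zero_iff_mem.2 ha, map_zero] at h2
        exact h2
      exact fun a ha => key ha)

lemma lift_mk (g : ∀ i : S, Fac n I i →ₐ[A] R) (P : MvPolynomial (Σ i : S, Fin (n i)) A) :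
    lift g (Ideal.Quotient.mk (rel n I S) P) =
      aeval (fun x : Σ i : S, Fin (n i) => g x.1 (Ideal.Quotient.mk (I x.1) (X x.2))) P :=
  rfl

lemma lift_comp_inc (g : ∀ i : S, Fac n I i →ₐ[A] R) (i : S) : (lift g).comp (inc i) = g i := by
  apply Ideal.Quotient.algHom_ext
  apply MvPolynomial.algHom_ext
  intro k
  simp [inc_mk, lift_mk]

lemma lift_inc (g : ∀ i : S, Fac n I i →ₐ[A] R) (i : S) (x : Fac n I i) :
    lift g (inc i x) = g i x :=
  DFunLike.congr_fun (lift_comp_inc g i) x

lemma hom_ext {f g : TP n I S →ₐ[A] R} (h : ∀ i : S, f.comp (inc i) = g.comp (inc i)) :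
    f = g := by
  apply Ideal.Quotient.algHom_ext
  apply MvPolynomial.algHom_ext
  intro x
  have h1 := DFunLike.congr_fun (h x.1) (Ideal.Quotient.mk (I x.1) (X x.2))
  simpa [inc_mk] using h1

/-- the transition maps. -/
noncomputable def map {S T : Finset ι} (h : S ≤ T) : TP n I S →ₐ[A] TP n I T :=
  lift fun i => inc (S := T) ⟨i.1, h i.2⟩

lemma map_inc {S T : Finset ι} (h : S ≤ T) (i : S) (x : Fac n I i) :
    map h (inc i x) = inc (S := T) ⟨i.1, h i.2⟩ x :=
  lift_inc _ i x

lemma map_self (S : Finset ι) (x : TP n I S) : map (le_refl S) x = x := by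
  have : map (n := n) (I := I) (le_refl S) = AlgHom.id A _ := by
    apply hom_ext
    intro i
    ext x
    simp [map_inc]
  rw [this, AlgHom.id_apply]

lemma map_map {S T U : Finset ι} (h : S ≤ T) (h' : T ≤ U) (x : TP n I S) :
    map h' (map h x) = map (h.trans h') x := by
  have : (map (n := n) (I := I) h').comp (map h) = map (h.trans h') := by
    apply hom_ext
    intro i
    ext x
    simp [map_inc]
  exact DFunLike.congr_fun this x

section Etale

variable (n I S)

lemma fg_rel [∀ i, Algebra.FinitePresentation A (Fac n I i)] : (rel n I S).FG := by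
  refine Submodule.fg_iSup _ fun i => Ideal.FG.map ?_ _
  have := Algebra.FinitePresentation.ker_fG_of_surjective (Ideal.Quotient.mkₐ A (I i))
    (Ideal.Quotient.mkₐ_surjective A (I i))
  have h2 : RingHom.ker (Ideal.Quotient.mkₐ A (I i)).toRingHom = I i := Ideal.mk_ker
  rwa [h2] at this

instance finitePresentation [∀ i, Algebra.FinitePresentation A (Fac n I i)] :
    Algebra.FinitePresentation A (TP n I S) :=
  Algebra.FinitePresentation.quotient (fg_rel n I S)

instance formallyEtale [∀ i, Algebra.FormallyEtale A (Fac n I i)] :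
    Algebra.FormallyEtale A (TP n I S) := by
  rw [Algebra.FormallyEtale.iff_comp_bijective]
  intro B _ _ N hN
  constructor
  · intro f f' hff'
    apply hom_ext
    intro i
    apply (Algebra.FormallyEtale.comp_bijective A (Fac n I i) N hN).1
    show (Ideal.Quotient.mkₐ A N).comp (f.comp (inc i)) = (Ideal.Quotient.mkₐ A N).comp (f'.comp (inc i))
    have : (Ideal.Quotient.mkₐ A N).comp f = (Ideal.Quotient.mkₐ A N).comp f' := hff'
    rw [← AlgHom.comp_assoc, ← AlgHom.comp_assoc, this]
  · intro g
    choose h hh using fun i : S =>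
      (Algebra.FormallyEtale.comp_bijective A (Fac n I i) N hN).2 (g.comp (inc i))
    refine ⟨lift h, ?_⟩
    apply hom_ext
    intro i
    show ((Ideal.Quotient.mkₐ A N).comp (lift h)).comp (inc i) = g.comp (inc i)
    rw [AlgHom.comp_assoc, lift_comp_inc]
    exact hh i

instance etale [∀ i, Algebra.Etale A (Fac n I i)] : Algebra.Etale A (TP n I S) where

end Etale

end Groth.Agent.Lib.Helper82.TProd
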