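import Mathlib.Topology.KrullDimension
import Mathlib.Topology.Sober
import Mathlib.Tactic

namespace Groth.Agent.Lib.Helper82

open TopologicalSpace Topology Order

theorem withBotENat_add_one_le_of_forall (a b : WithBot ℕ∞)
    (h : ∀ n : ℕ, (n : WithBot ℕ∞) ≤ a → ((n + 1 : ℕ) : WithBot ℕ∞) ≤ b) :
    a + 1 ≤ b := by
  induction a using WithBot.recBotCoe with
  | bot => simp
  | coe a =>
    induction a using ENat.recTopCoe with
    | top =>
      have h' : ∀ n : ℕ, ((n + 1 : ℕ) : WithBot ℕ∞) ≤ b := fun n => h n (by exact_mod_cast le_top)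
      have hb : b = ⊤ := by
        induction b using WithBot.recBotCoe with
        | bot =>
          have := h' 0
          simp at this
        | coe b =>
          have hb' : b = ⊤ := by
            rw [ENat.eq_top_iff_forall_ge]
            intro n
            have := h' n
            have h2 : ((n + 1 : ℕ) : ℕ∞) ≤ b := by exact_mod_cast this
            exact le_trans (by exact_mod_cast Nat.le_succ n) h2
          rw [hb']
          rfl
      rw [hb]
      exact le_top
    | coe n =>
      have := h n le_rfl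
      exact_mod_cast this

theorem topologicalKrullDim_preimage_add_one_le {X Y : Type*} [TopologicalSpace X]
    [TopologicalSpace Y] [QuasiSober Y] (ι : Y → X) (hι : IsInducing ι) (U : Set X)
    (hU : IsOpen U) (H : ∀ y : Y, ι y ∈ U → ∃ x : X, x ⤳ ι y ∧ ¬ ι y ⤳ x) :
    topologicalKrullDim (ι ⁻¹' U) + 1 ≤ topologicalKrullDim U := by
  have hVopen : IsOpen (ι ⁻¹' U) := hU.preimage hι.continuous
  have : QuasiSober (ι ⁻¹' U) := hVopen.isOpenEmbedding_subtypeVal.quasiSober
  let g : (ι ⁻¹' U) → U := U.restrictPreimage ι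
  have hg : IsInducing g := hι.restrictPreimage U
  apply withBotENat_add_one_le_of_forall
  intro n hn
  unfold topologicalKrullDim at hn ⊢
  rw [le_krullDim_iff] at hn ⊢
  obtain ⟨l, hl⟩ := hn
  let l' : LTSeries (IrreducibleCloseds U) :=
    l.map (IrreducibleCloseds.map g hg.continuous)
      (IrreducibleCloseds.map_strictMono_of_isInducing hg)
  -- generic point of the last element
  let Z := l.last
  obtain ⟨ζ', hζ'⟩ := QuasiSober.sober Z.isIrreducible Z.isClosed
  have hζU : ι ζ'.1 ∈ U := ζ'.2
  obtain ⟨x, hx1, hx2⟩ := H ζ'.1 hζU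
  have hxU : x ∈ U := hx1.mem_open hU hζU
  let xU : U := ⟨x, hxU⟩
  let Yc : IrreducibleCloseds U :=
    ⟨closure {xU}, isIrreducible_singleton.closure, isClosed_closure⟩
  have hgζ : ∀ z ∈ (Z : Set (ι ⁻¹' U)), xU ⤳ g z := by
    intro z hz
    have h1 : ζ' ⤳ z := hζ'.specializes hz
    have h2 : g ζ' ⤳ g z := h1.map hg.continuous
    have h3 : xU ⤳ g ζ' := by
      rw [subtype_specializes_iff]
      exact hx1
    exact h3.trans h2
  have hlt : l'.last < Yc := by
    have hlast : l'.last = IrreducibleCloseds.map g hg.continuous Z := by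
      simp [l', Z, LTSeries.last_map]
    rw [hlast]
    refine lt_of_le_of_ne ?_ ?_
    · intro w hw
      have hw' : w ∈ closure (g '' (Z : Set (ι ⁻¹' U))) := hw
      have hsub : g '' (Z : Set (ι ⁻¹' U)) ⊆ closure {xU} := by
        rintro _ ⟨z, hz, rfl⟩
        exact (hgζ z hz).mem_closure
      exact (closure_minimal hsub isClosed_closure) hw'
    · intro heq
      have hxmem : xU ∈ (Yc : Set U) := subset_closure rfl
      rw [← heq] at hxmem
      have hxmem' : xU ∈ closure (g '' (Z : Set (ι ⁻¹' U))) := hxmem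
      have hsub : g '' (Z : Set (ι ⁻¹' U)) ⊆ closure {g ζ'} := by
        rintro _ ⟨z, hz, rfl⟩
        exact ((hζ'.specializes hz).map hg.continuous).mem_closure
      have h4 : xU ∈ closure {g ζ'} := (closure_minimal hsub isClosed_closure) hxmem'
      have h5 : g ζ' ⤳ xU := specializes_iff_mem_closure.mpr h4
      rw [subtype_specializes_iff] at h5
      exact hx2 h5
  refine ⟨l'.snoc Yc hlt, ?_⟩
  simp [l', hl]

end Groth.Agent.Lib.Helper82
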