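import Groth.Agent.Lib.Helper82.WLocFibre

set_option autoImplicit false
universe u

namespace Groth.Agent.Lib.Helper82.WLoc

open Classical

section Rep

variable {A : Type u} [CommRing A]

lemma isUnit_vv (f : A) : IsUnit (vv f) :=
  IsUnit.of_mul_eq_one _ (by rw [mul_comm]; exact u_mul_vv f)

lemma theta_alg_mul_vv (x : Ideal A) [x.IsPrime] (a : A) (s : x.primeCompl) :
    theta x (algebraMap A (Aw A) a * vv s.1) =
      IsLocalization.mk' (Localization.AtPrime x) a s := by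
  have h1 : theta x (vv s.1) * algebraMap A (Localization.AtPrime x) s.1 = 1 := by
    have h2 := congrArg (theta x) (u_mul_vv s.1)
    rw [map_mul, map_sub, map_add, map_mul, theta_e, chi_of_notMem x _ s.2, map_one, mul_one,
      add_sub_cancel_right, AlgHom.commutes] at h2
    rw [mul_comm]
    exact h2
  rw [map_mul, AlgHom.commutes, IsLocalization.eq_mk'_iff_mul_eq, mul_assoc, h1, mul_one]

lemma exists_rep (x : Ideal A) [x.IsPrime] (z : Aw A) :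
    ∃ (a : A) (s : x.primeCompl), z - algebraMap A (Aw A) a * vv s.1 ∈ K x := by
  obtain ⟨a, s, hz⟩ := IsLocalization.exists_mk'_eq x.primeCompl (theta x z)
  refine ⟨a, s, ker_le_K x ?_⟩
  rw [RingHom.mem_ker]
  show theta x (z - algebraMap A (Aw A) a * vv s.1) = 0
  rw [map_sub, theta_alg_mul_vv, hz, sub_self]

lemma K_xOf_le (𝔮 : Ideal (Aw A)) [h𝔮 : 𝔮.IsPrime] : K (xOf 𝔮) ≤ 𝔮 := by
  unfold K
  rw [Ideal.span_le]
  rintro _ ⟨f, rfl⟩
  show e f - chi (xOf 𝔮) (Aw A) f ∈ 𝔮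
  by_cases hf : f ∈ xOf 𝔮
  · rw [chi_of_mem _ _ hf, sub_zero]
    exact hf
  · rw [chi_of_notMem _ _ hf, ← neg_sub, neg_mem_iff]
    exact (one_sub_e_mem_iff 𝔮 f).2 hf

lemma mem_iff_of_rep (𝔮 : Ideal (Aw A)) [h𝔮 : 𝔮.IsPrime] {z : Aw A} {a s : A}
    (h : z - algebraMap A (Aw A) a * vv s ∈ K (xOf 𝔮)) : z ∈ 𝔮 ↔ a ∈ yOf 𝔮 := by
  have h1 : z - algebraMap A (Aw A) a * vv s ∈ 𝔮 := K_xOf_le 𝔮 h
  constructor
  · intro hz
    have h2 : algebraMap A (Aw A) a * vv s ∈ 𝔮 := by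
      have := 𝔮.sub_mem hz h1
      rwa [sub_sub_cancel] at this
    rcases h𝔮.mem_or_mem h2 with h3 | h3
    · exact h3
    · exact (h𝔮.ne_top (Ideal.eq_top_of_isUnit_mem _ h3 (isUnit_vv s))).elim
  · intro ha
    have h2 : algebraMap A (Aw A) a * vv s ∈ 𝔮 := 𝔮.mul_mem_right _ ha
    have := 𝔮.add_mem h1 h2
    rwa [sub_add_cancel] at this

theorem le_of_xOf_eq_of_yOf_le (𝔮 𝔮' : Ideal (Aw A)) [𝔮.IsPrime] [𝔮'.IsPrime]
    (hx : xOf 𝔮 = xOf 𝔮') (hy : yOf 𝔮 ≤ yOf 𝔮') : 𝔮 ≤ 𝔮' := by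
  intro z hz
  obtain ⟨a, s, h⟩ := exists_rep (xOf 𝔮) z
  have ha := (mem_iff_of_rep 𝔮 h).1 hz
  have h' : z - algebraMap A (Aw A) a * vv s.1 ∈ K (xOf 𝔮') := hx ▸ h
  exact (mem_iff_of_rep 𝔮' h').2 (hy ha)

theorem eq_of_xOf_eq_of_yOf_eq (𝔮 𝔮' : Ideal (Aw A)) [𝔮.IsPrime] [𝔮'.IsPrime]
    (hx : xOf 𝔮 = xOf 𝔮') (hy : yOf 𝔮 = yOf 𝔮') : 𝔮 = 𝔮' :=
  le_antisymm (le_of_xOf_eq_of_yOf_le 𝔮 𝔮' hx hy.le) (le_of_xOf_eq_of_yOf_le 𝔮' 𝔮 hx.symm hy.ge)

theorem xOf_eq_of_le (𝔮 𝔮' : Ideal (Aw A)) [h𝔮 : 𝔮.IsPrime] [h𝔮' : 𝔮'.IsPrime] (h : 𝔮 ≤ 𝔮') :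
    xOf 𝔮 = xOf 𝔮' := by
  apply le_antisymm
  · intro f hf
    exact h hf
  · intro f hf
    by_contra hf'
    have h1 : 1 - e f ∈ 𝔮' := h ((one_sub_e_mem_iff 𝔮 f).2 hf')
    exact (one_sub_e_mem_iff 𝔮' f).1 h1 hf

theorem yOf_le_of_le (𝔮 𝔮' : Ideal (Aw A)) (h : 𝔮 ≤ 𝔮') : yOf 𝔮 ≤ yOf 𝔮' :=
  Ideal.comap_mono h

end Rep

section Points

variable {A : Type u} [CommRing A] (x y : Ideal A) [hx : x.IsPrime] [hy : y.IsPrime] (hyx : y ≤ x)

/-- the point map into the local ring at `y`, through the fibre over `x`. -/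
noncomputable def rho : Aw A →ₐ[A] Localization.AtPrime y :=
  pt x (B := Localization.AtPrime y) (fun f hf =>
    IsLocalization.map_units (Localization.AtPrime y) (⟨f, fun h => hf (hyx h)⟩ : y.primeCompl))

@[simp]
lemma rho_e (f : A) : rho x y hyx (e f) = chi x (Localization.AtPrime y) f := pt_e x _ f

/-- the prime of `Aw A` attached to `y ≤ x`. -/
noncomputable def qOf : Ideal (Aw A) :=
  (IsLocalRing.maximalIdeal (Localization.AtPrime y)).comap (rho x y hyx)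

instance : (qOf x y hyx).IsPrime := Ideal.comap_isPrime _ _

lemma xOf_qOf : xOf (qOf x y hyx) = x := by
  ext f
  rw [mem_xOf]
  show rho x y hyx (e f) ∈ IsLocalRing.maximalIdeal _ ↔ f ∈ x
  rw [rho_e]
  by_cases hf : f ∈ x
  · rw [chi_of_mem x _ hf]
    exact ⟨fun _ => hf, fun _ => Ideal.zero_mem _⟩
  · rw [chi_of_notMem x _ hf]
    constructor
    · intro h
      exact ((Ideal.ne_top_iff_one _).1 (IsLocalRing.maximalIdeal.isMaximal _).ne_top h).elim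
    · intro h
      exact (hf h).elim

lemma yOf_qOf : yOf (qOf x y hyx) = y := by
  ext a
  rw [mem_yOf]
  show rho x y hyx (algebraMap A (Aw A) a) ∈ IsLocalRing.maximalIdeal _ ↔ a ∈ y
  rw [AlgHom.commutes]
  exact IsLocalization.AtPrime.to_map_mem_maximal_iff (Localization.AtPrime y) y a

end Points

end Groth.Agent.Lib.Helper82.WLoc
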