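import Groth.Agent.Lib.Helper82.WLocIdentify

set_option autoImplicit false
universe u

namespace Groth.Agent.Lib.Helper82.WLoc

section Comp

variable {A B C : Type u} [CommRing A] [CommRing B] [CommRing C] [Algebra A B] [Algebra B C]
  [Algebra A C] [IsScalarTower A B C]

lemma bijective_localRingHom_of_eq {R P : Type*} [CommRing R] [CommRing P]
    (K : Ideal P) [K.IsPrime] (f : R →+* P)
    (h : Function.Bijective (Localization.localRingHom (K.comap f) K f rfl))
    (I : Ideal R) [I.IsPrime] (hI : I = K.comap f) :
    Function.Bijective (Localization.localRingHom I K f hI) := by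
  subst hI
  exact h

theorem identifiesLocalRings_comp (h1 : EtPBC.IdentifiesLocalRings A B)
    (h2 : EtPBC.IdentifiesLocalRings B C) : EtPBC.IdentifiesLocalRings A C := by
  intro r
  let q : PrimeSpectrum B := PrimeSpectrum.comap (algebraMap B C) r
  have hI : r.asIdeal.comap (algebraMap A C) = q.asIdeal.comap (algebraMap A B) := by
    show _ = (r.asIdeal.comap (algebraMap B C)).comap (algebraMap A B)
    rw [Ideal.comap_comap, ← IsScalarTower.algebraMap_eq]
  have hcomp := Localization.localRingHom_comp (I := r.asIdeal.comap (algebraMap A C))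
    q.asIdeal r.asIdeal (algebraMap A B) hI (algebraMap B C) rfl
  have hbij : Function.Bijective (Localization.localRingHom (r.asIdeal.comap (algebraMap A C))
      r.asIdeal ((algebraMap B C).comp (algebraMap A B))
      (by rw [hI]; exact (Ideal.comap_comap _ _))) := by
    rw [hcomp]
    exact (h2 r).comp (bijective_localRingHom_of_eq q.asIdeal (algebraMap A B) (h1 q) _ hI)
  have key : ∀ (f : A →+* C) (hf : f = (algebraMap B C).comp (algebraMap A B))
      (hh : r.asIdeal.comap (algebraMap A C) = r.asIdeal.comap f),
      Function.Bijective (Localization.localRingHom (r.asIdeal.comap (algebraMap A C))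
        r.asIdeal f hh) := by
    intro f hf hh
    subst hf
    exact hbij
  exact key (algebraMap A C) (IsScalarTower.algebraMap_eq A B C) rfl

end Comp

end Groth.Agent.Lib.Helper82.WLoc

namespace Groth.Agent.Lib.Helper82.WLoc

theorem exists_indZariski_cover_of_identifiesLocalRings (A B : Type u) [CommRing A] [CommRing B]
    [Algebra A B] (h : EtPBC.IdentifiesLocalRings A B) :
    ∃ (B' : Type u) (_ : CommRing B') (_ : Algebra B B') (_ : Algebra A B')
      (_ : IsScalarTower A B B'),
      Module.FaithfullyFlat B B' ∧ EtPBC.IsIndZariski B B' ∧ EtPBC.IsIndZariski A B' := by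
  let _ : Algebra A (Aw B) := ((algebraMap B (Aw B)).comp (algebraMap A B)).toAlgebra
  have hst : IsScalarTower A B (Aw B) := IsScalarTower.of_algebraMap_eq (fun _ => rfl)
  refine ⟨Aw B, inferInstance, inferInstance, inferInstance, hst, faithfullyFlat_Aw,
    isIndZariski_Aw, ?_⟩
  exact IndZar.isIndZariski_of_identifiesLocalRings_wLocal A (Aw B)
    (identifiesLocalRings_comp h identifiesLocalRings_Aw) isWLocal_Aw

end Groth.Agent.Lib.Helper82.WLoc
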