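import Mathlib

set_option autoImplicit false
universe u

namespace Groth.Agent.Lib.Helper82.WLoc

open MvPolynomial Classical

section Def

variable (A : Type u) [CommRing A]

/-- index of relations. -/
inductive RelIdx : Type u
  | idem (f : A)
  | one
  | zero
  | mul (f g : A)
  | add (f g : A)
  | inv (f : A)

/-- the polynomial ring on idempotent variables and inverse variables. -/
abbrev Pol : Type u := MvPolynomial (A ⊕ A) A

/-- the relations. -/
noncomputable def rel : RelIdx A → Pol A
  | .idem f => X (.inl f) * X (.inl f) - X (.inl f)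
  | .one => X (.inl 1) - 1
  | .zero => X (.inl 0)
  | .mul f g => X (.inl (f * g)) - X (.inl f) * X (.inl g)
  | .add f g => (1 - X (.inl f)) * (1 - X (.inl g)) * X (.inl (f + g))
  | .inv f => (C f * X (.inl f) + 1 - X (.inl f)) * X (.inr f) - 1

/-- the ideal of relations. -/
noncomputable def relIdeal : Ideal (Pol A) := Ideal.span (Set.range (rel A))

/-- the w-localization ring. -/
def Aw : Type u := Pol A ⧸ relIdeal A

noncomputable instance : CommRing (Aw A) := inferInstanceAs (CommRing (Pol A ⧸ relIdeal A))

noncomputable instance : Algebra A (Aw A) := inferInstanceAs (Algebra A (Pol A ⧸ relIdeal A))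

/-- the quotient map. -/
noncomputable def mkAw : Pol A →ₐ[A] Aw A := Ideal.Quotient.mkₐ A (relIdeal A)

variable {A}

/-- the idempotent attached to `f`. -/
noncomputable def e (f : A) : Aw A := mkAw A (X (.inl f))

/-- the inverse variable attached to `f`. -/
noncomputable def vv (f : A) : Aw A := mkAw A (X (.inr f))

lemma mk_rel (i : RelIdx A) : mkAw A (rel A i) = 0 :=
  Ideal.Quotient.eq_zero_iff_mem.2 (Ideal.subset_span ⟨i, rfl⟩)

lemma e_idem (f : A) : e f * e f = e f := by
  have := mk_rel (.idem f)
  simp only [rel, map_sub, map_mul] at this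
  exact sub_eq_zero.1 this

lemma e_one : e (1 : A) = 1 := by
  have := mk_rel (A := A) .one
  simp only [rel, map_sub, map_one] at this
  exact sub_eq_zero.1 this

lemma e_zero : e (0 : A) = 0 := mk_rel (A := A) .zero

lemma e_mul (f g : A) : e (f * g) = e f * e g := by
  have := mk_rel (.mul f g)
  simp only [rel, map_sub, map_mul] at this
  exact sub_eq_zero.1 this

lemma e_add (f g : A) : (1 - e f) * (1 - e g) * e (f + g) = 0 := by
  have := mk_rel (.add f g)
  simp only [rel, map_sub, map_mul, map_one] at this
  exact this

lemma u_mul_vv (f : A) : (algebraMap A (Aw A) f * e f + 1 - e f) * vv f = 1 := by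
  have := mk_rel (.inv f)
  simp only [rel, map_sub, map_mul, map_add, map_one] at this
  exact sub_eq_zero.1 this

end Def

section Lift

variable {A : Type u} [CommRing A] {B : Type*} [CommRing B] [Algebra A B]

/-- a family of idempotents satisfying the relations of `Aw`. -/
structure IdemFamily (ε : A → B) : Prop where
  idem : ∀ f, ε f * ε f = ε f
  one : ε 1 = 1
  zero : ε 0 = 0
  mul : ∀ f g, ε (f * g) = ε f * ε g
  add : ∀ f g, (1 - ε f) * (1 - ε g) * ε (f + g) = 0
  unit : ∀ f, IsUnit (algebraMap A B f * ε f + 1 - ε f)

lemma idemFamily_e : IdemFamily (e : A → Aw A) where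
  idem := e_idem
  one := e_one
  zero := e_zero
  mul := e_mul
  add := e_add
  unit f := IsUnit.of_mul_eq_one _ (u_mul_vv f)

variable {ε : A → B} (h : IdemFamily ε)

/-- the induced map. -/
noncomputable def lift : Aw A →ₐ[A] B :=
  Ideal.Quotient.liftₐ (relIdeal A)
    (MvPolynomial.aeval (Sum.elim ε fun f => Ring.inverse (algebraMap A B f * ε f + 1 - ε f)))
    (by
      have : relIdeal A ≤ RingHom.ker (MvPolynomial.aeval (R := A)
          (Sum.elim ε fun f => Ring.inverse (algebraMap A B f * ε f + 1 - ε f))).toRingHom := by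
        unfold relIdeal
        rw [Ideal.span_le]
        rintro _ ⟨i, rfl⟩
        rw [SetLike.mem_coe, RingHom.mem_ker]
        cases i with
        | idem f => simp [rel, h.idem]
        | one => simp [rel, h.one]
        | zero => simp [rel, h.zero]
        | mul f g => simp [rel, h.mul]
        | add f g => simpa [rel] using h.add f g
        | inv f =>
          simp only [rel, AlgHom.toRingHom_eq_coe, RingHom.coe_coe, map_sub, map_mul, map_add,
            aeval_C, aeval_X, Sum.elim_inl, map_one, Sum.elim_inr]
          rw [Ring.mul_inverse_cancel _ (h.unit f), sub_self]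
      intro a ha
      exact RingHom.mem_ker.1 (this ha))

@[simp]
lemma lift_e (f : A) : lift h (e f) = ε f := by
  have : lift h (e f) = MvPolynomial.aeval (R := A)
      (Sum.elim ε fun f => Ring.inverse (algebraMap A B f * ε f + 1 - ε f)) (X (Sum.inl f)) := rfl
  rw [this, aeval_X, Sum.elim_inl]

end Lift

section Ext

variable {A : Type u} [CommRing A] {B : Type*} [CommRing B] [Algebra A B]

theorem algHom_ext' {φ ψ : Aw A →ₐ[A] B} (h : ∀ f, φ (e f) = ψ (e f)) : φ = ψ := by
  apply Ideal.Quotient.algHom_ext
  apply MvPolynomial.algHom_ext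
  rintro (f | f)
  · exact h f
  · show φ (vv f) = ψ (vv f)
    have h1 : φ (algebraMap A (Aw A) f * e f + 1 - e f) * φ (vv f) = 1 := by
      rw [← map_mul, u_mul_vv, map_one]
    have h2 : ψ (algebraMap A (Aw A) f * e f + 1 - e f) * ψ (vv f) = 1 := by
      rw [← map_mul, u_mul_vv, map_one]
    have h3 : φ (algebraMap A (Aw A) f * e f + 1 - e f) =
        ψ (algebraMap A (Aw A) f * e f + 1 - e f) := by
      simp only [map_sub, map_add, map_mul, map_one, AlgHom.commutes, h f]
    rw [h3] at h1
    exact (left_inv_eq_right_inv (by rw [mul_comm]; exact h1) h2)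

end Ext

end Groth.Agent.Lib.Helper82.WLoc
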