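import Groth.Agent.Lib.Helper82.WLocPrime

set_option autoImplicit false
universe u

namespace Groth.Agent.Lib.Helper82.WLoc

open Classical

section Fibre

variable {A : Type u} [CommRing A] (x : Ideal A) [hx : x.IsPrime]

/-- evaluation at the fibre over `x`. -/
noncomputable def theta : Aw A →ₐ[A] Localization.AtPrime x :=
  pt x (B := Localization.AtPrime x)
    (fun f hf => IsLocalization.map_units (Localization.AtPrime x) (⟨f, hf⟩ : x.primeCompl))

@[simp]
lemma theta_e (f : A) : theta x (e f) = chi x (Localization.AtPrime x) f := pt_e x _ f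

/-- the ideal cutting out the fibre over `x`. -/
noncomputable def K : Ideal (Aw A) := Ideal.span (Set.range fun f => e f - chi x (Aw A) f)

omit hx in
lemma e_sub_chi_mem_K (f : A) : e f - chi x (Aw A) f ∈ K x := Ideal.subset_span ⟨f, rfl⟩

omit hx in
lemma map_chi {B C F : Type*} [CommRing B] [CommRing C] [FunLike F B C] [RingHomClass F B C]
    (φ : F) (f : A) : φ (chi x B f) = chi x C f := by
  unfold chi
  split_ifs <;> simp

lemma K_le_ker : K x ≤ RingHom.ker (theta x).toRingHom := by
  unfold K
  rw [Ideal.span_le]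
  rintro _ ⟨f, rfl⟩
  rw [SetLike.mem_coe, RingHom.mem_ker]
  show theta x (e f - chi x (Aw A) f) = 0
  rw [map_sub, theta_e, map_chi, sub_self]

omit hx in
lemma isUnit_mk_of_notMem {f : A} (hf : f ∉ x) :
    IsUnit (algebraMap A (Aw A ⧸ K x) f) := by
  refine IsUnit.of_mul_eq_one (Ideal.Quotient.mk (K x) (vv f)) ?_
  have h1 : Ideal.Quotient.mk (K x) (e f) = 1 := by
    have := Ideal.Quotient.eq.2 (e_sub_chi_mem_K x f)
    rw [this, chi_of_notMem x (Aw A) hf, map_one]
  have h2 := congrArg (Ideal.Quotient.mk (K x)) (u_mul_vv f)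
  rw [map_mul, map_sub, map_add, map_mul, h1, map_one, mul_one, add_sub_cancel_right] at h2
  exact h2

/-- the section of the quotient by `K x`. -/
noncomputable def sigma : Localization.AtPrime x →ₐ[A] Aw A ⧸ K x :=
  IsLocalization.liftAlgHom (M := x.primeCompl) (f := Algebra.ofId A (Aw A ⧸ K x))
    (fun y => isUnit_mk_of_notMem x y.2)

lemma sigma_comp_theta : (sigma x).comp (theta x) = Ideal.Quotient.mkₐ A (K x) := by
  apply algHom_ext'
  intro f
  show sigma x (theta x (e f)) = Ideal.Quotient.mk (K x) (e f)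
  rw [theta_e, map_chi, Ideal.Quotient.eq.2 (e_sub_chi_mem_K x f), map_chi]

lemma ker_le_K : RingHom.ker (theta x).toRingHom ≤ K x := by
  intro z hz
  have h1 : (sigma x).comp (theta x) z = 0 := by
    show sigma x (theta x z) = 0
    rw [show theta x z = 0 from hz, map_zero]
  rw [sigma_comp_theta] at h1
  exact Ideal.Quotient.eq_zero_iff_mem.1 h1

lemma theta_surjective : Function.Surjective (theta x) := by
  intro z
  obtain ⟨a, s, rfl⟩ := IsLocalization.exists_mk'_eq x.primeCompl z
  refine ⟨algebraMap A (Aw A) a * vv s.1, ?_⟩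
  have h1 : theta x (vv s.1) * algebraMap A (Localization.AtPrime x) s.1 = 1 := by
    have h2 := congrArg (theta x) (u_mul_vv s.1)
    rw [map_mul, map_sub, map_add, map_mul, theta_e, chi_of_notMem x _ s.2, map_one, mul_one,
      add_sub_cancel_right, AlgHom.commutes] at h2
    rw [mul_comm]
    exact h2
  rw [map_mul, AlgHom.commutes, IsLocalization.eq_mk'_iff_mul_eq, mul_assoc, h1, mul_one]

end Fibre

end Groth.Agent.Lib.Helper82.WLoc
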