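import Groth.Agent.Lib.Helper82.WLocDef

set_option autoImplicit false
universe u

namespace Groth.Agent.Lib.Helper82.WLoc

open Classical

section Point

variable {A : Type u} [CommRing A] (x : Ideal A) [hx : x.IsPrime]
  (B : Type*) [CommRing B] [Algebra A B]

/-- the characteristic family of a prime. -/
noncomputable def chi (f : A) : B := if f ∈ x then 0 else 1

omit hx [Algebra A B] in
lemma chi_of_mem {f : A} (hf : f ∈ x) : chi x B f = 0 := if_pos hf

omit hx [Algebra A B] in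
lemma chi_of_notMem {f : A} (hf : f ∉ x) : chi x B f = 1 := if_neg hf

variable {B}

include hx in
lemma idemFamily_chi (hB : ∀ f ∉ x, IsUnit (algebraMap A B f)) : IdemFamily (chi x B) where
  idem f := by unfold chi; split_ifs <;> simp
  one := chi_of_notMem x B ((Ideal.ne_top_iff_one x).1 hx.ne_top)
  zero := chi_of_mem x B x.zero_mem
  mul f g := by
    by_cases hf : f ∈ x
    · rw [chi_of_mem x B hf, chi_of_mem x B (x.mul_mem_right g hf), zero_mul]
    · by_cases hg : g ∈ x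
      · rw [chi_of_mem x B hg, chi_of_mem x B (x.mul_mem_left f hg), mul_zero]
      · rw [chi_of_notMem x B hf, chi_of_notMem x B hg, chi_of_notMem x B, mul_one]
        exact fun h => (hx.mem_or_mem h).elim hf hg
  add f g := by
    by_cases hf : f ∈ x
    · by_cases hg : g ∈ x
      · rw [chi_of_mem x B (x.add_mem hf hg), mul_zero]
      · rw [chi_of_notMem x B hg, sub_self, mul_zero, zero_mul]
    · rw [chi_of_notMem x B hf, sub_self, zero_mul, zero_mul]
  unit f := by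
    by_cases hf : f ∈ x
    · rw [chi_of_mem x B hf, mul_zero, zero_add, sub_zero]
      exact isUnit_one
    · rw [chi_of_notMem x B hf, mul_one, add_sub_cancel_right]
      exact hB f hf

/-- the point map. -/
noncomputable def pt (hB : ∀ f ∉ x, IsUnit (algebraMap A B f)) : Aw A →ₐ[A] B :=
  lift (idemFamily_chi x hB)

@[simp]
lemma pt_e (hB : ∀ f ∉ x, IsUnit (algebraMap A B f)) (f : A) : pt x hB (e f) = chi x B f :=
  lift_e _ f

end Point

section Prime

variable {A : Type u} [CommRing A] (𝔮 : Ideal (Aw A)) [h𝔮 : 𝔮.IsPrime]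

include h𝔮 in
lemma one_sub_e_mem_iff (f : A) : 1 - e f ∈ 𝔮 ↔ e f ∉ 𝔮 := by
  constructor
  · intro h1 h2
    apply h𝔮.ne_top
    rw [Ideal.eq_top_iff_one]
    have := 𝔮.add_mem h1 h2
    rwa [sub_add_cancel] at this
  · intro h
    have h0 : e f * (1 - e f) ∈ 𝔮 := by
      rw [mul_sub, mul_one, e_idem, sub_self]
      exact 𝔮.zero_mem
    exact (h𝔮.mem_or_mem h0).resolve_left h

/-- the prime of `A` recording which idempotents lie in `𝔮`. -/
noncomputable def xOf : Ideal A where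
  carrier := {f | e f ∈ 𝔮}
  zero_mem' := by
    show e (0 : A) ∈ 𝔮
    rw [e_zero]
    exact 𝔮.zero_mem
  add_mem' := by
    intro f g hf hg
    have hf' : 1 - e f ∉ 𝔮 := fun h => (one_sub_e_mem_iff 𝔮 f).1 h hf
    have hg' : 1 - e g ∉ 𝔮 := fun h => (one_sub_e_mem_iff 𝔮 g).1 h hg
    have h0 : (1 - e f) * (1 - e g) * e (f + g) ∈ 𝔮 := by
      rw [e_add]
      exact 𝔮.zero_mem
    rcases h𝔮.mem_or_mem h0 with h | h
    · rcases h𝔮.mem_or_mem h with h | h
      · exact (hf' h).elim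
      · exact (hg' h).elim
    · exact h
  smul_mem' := by
    intro a f hf
    show e (a • f) ∈ 𝔮
    rw [smul_eq_mul, e_mul]
    exact 𝔮.mul_mem_left _ hf

lemma mem_xOf {f : A} : f ∈ xOf 𝔮 ↔ e f ∈ 𝔮 := Iff.rfl

instance : (xOf 𝔮).IsPrime := by
  refine ⟨?_, ?_⟩
  · rw [Ideal.ne_top_iff_one, mem_xOf, e_one]
    exact (Ideal.ne_top_iff_one 𝔮).1 h𝔮.ne_top
  · intro f g hfg
    rw [mem_xOf, e_mul] at hfg
    exact h𝔮.mem_or_mem hfg

/-- the contraction of `𝔮` to `A`. -/
noncomputable def yOf : Ideal A := 𝔮.comap (algebraMap A (Aw A))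

omit h𝔮 in
lemma mem_yOf {f : A} : f ∈ yOf 𝔮 ↔ algebraMap A (Aw A) f ∈ 𝔮 := Iff.rfl

instance : (yOf 𝔮).IsPrime := Ideal.comap_isPrime _ _

include h𝔮 in
lemma yOf_le_xOf : yOf 𝔮 ≤ xOf 𝔮 := by
  intro f hf
  by_contra hfx
  have h1 : 1 - e f ∈ 𝔮 := (one_sub_e_mem_iff 𝔮 f).2 hfx
  have h2 : algebraMap A (Aw A) f * e f + 1 - e f ∈ 𝔮 := by
    rw [add_sub_assoc]
    exact 𝔮.add_mem (𝔮.mul_mem_right _ hf) h1
  have h3 : (algebraMap A (Aw A) f * e f + 1 - e f) * vv f ∈ 𝔮 := 𝔮.mul_mem_right _ h2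
  rw [u_mul_vv] at h3
  exact (Ideal.ne_top_iff_one 𝔮).1 h𝔮.ne_top h3

end Prime

end Groth.Agent.Lib.Helper82.WLoc
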