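import Groth.Agent.Lib.Helper82.WLocClassify
import Groth.Prelude.Def_ProEtW

set_option autoImplicit false
universe u

namespace Groth.Agent.Lib.Helper82.WLoc

open Classical PrimeSpectrum

section Top

variable {A : Type u} [CommRing A]

/-- the closed point of the fibre over `x`. -/
noncomputable def closedPt (x : PrimeSpectrum A) : PrimeSpectrum (Aw A) :=
  ⟨qOf x.asIdeal x.asIdeal le_rfl, inferInstance⟩

lemma xOf_closedPt (x : PrimeSpectrum A) : xOf (closedPt x).asIdeal = x.asIdeal :=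
  xOf_qOf _ _ _

lemma yOf_closedPt (x : PrimeSpectrum A) : yOf (closedPt x).asIdeal = x.asIdeal :=
  yOf_qOf _ _ _

lemma isClosed_singleton_iff (𝔮 : PrimeSpectrum (Aw A)) :
    IsClosed ({𝔮} : Set (PrimeSpectrum (Aw A))) ↔ yOf 𝔮.asIdeal = xOf 𝔮.asIdeal := by
  rw [isClosed_singleton_iff_isMaximal]
  constructor
  · intro hmax
    let x : PrimeSpectrum A := ⟨xOf 𝔮.asIdeal, inferInstance⟩
    have hle : 𝔮.asIdeal ≤ (closedPt x).asIdeal :=
      le_of_xOf_eq_of_yOf_le _ _ (xOf_closedPt x).symm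
        ((yOf_le_xOf 𝔮.asIdeal).trans (yOf_closedPt x).ge)
    have heq := hmax.eq_of_le (closedPt x).2.ne_top hle
    have h𝔮 : 𝔮 = closedPt x := PrimeSpectrum.ext heq
    rw [h𝔮, yOf_closedPt, xOf_closedPt]
  · intro h
    obtain ⟨𝔪, hm, hle⟩ := Ideal.exists_le_maximal 𝔮.asIdeal 𝔮.2.ne_top
    have : 𝔪.IsPrime := hm.isPrime
    have hx : xOf 𝔮.asIdeal = xOf 𝔪 := xOf_eq_of_le _ _ hle
    have hy : yOf 𝔮.asIdeal = yOf 𝔪 := by
      apply le_antisymm (yOf_le_of_le _ _ hle)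
      rw [h, hx]
      exact yOf_le_xOf 𝔪
    rw [eq_of_xOf_eq_of_yOf_eq 𝔮.asIdeal 𝔪 hx hy]
    exact hm

lemma closedPoints_eq_zeroLocus :
    {𝔮 : PrimeSpectrum (Aw A) | IsClosed ({𝔮} : Set (PrimeSpectrum (Aw A)))} =
      zeroLocus (Set.range fun f : A => algebraMap A (Aw A) f * (1 - e f)) := by
  ext 𝔮
  rw [Set.mem_ofPred_eq, isClosed_singleton_iff, mem_zeroLocus]
  constructor
  · intro h
    rintro _ ⟨f, rfl⟩
    by_cases hf : f ∈ xOf 𝔮.asIdeal
    · rw [← h] at hf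
      exact Ideal.mul_mem_right _ _ hf
    · exact Ideal.mul_mem_left _ _ ((one_sub_e_mem_iff 𝔮.asIdeal f).2 hf)
  · intro h
    apply le_antisymm (yOf_le_xOf 𝔮.asIdeal)
    intro f hf
    have h1 : algebraMap A (Aw A) f * (1 - e f) ∈ 𝔮.asIdeal := h ⟨f, rfl⟩
    rcases 𝔮.2.mem_or_mem h1 with h2 | h2
    · exact h2
    · exact ((one_sub_e_mem_iff 𝔮.asIdeal f).1 h2 hf).elim

theorem isWLocal_Aw : ProEtW.IsWLocal (PrimeSpectrum (Aw A)) := by
  refine ⟨inferInstance, ?_, ?_⟩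
  · rw [closedPoints_eq_zeroLocus]
    exact isClosed_zeroLocus _
  · intro 𝔮
    let x : PrimeSpectrum A := ⟨xOf 𝔮.asIdeal, inferInstance⟩
    refine ⟨closedPt x, ⟨?_, ?_⟩, ?_⟩
    · rw [isClosed_singleton_iff, yOf_closedPt, xOf_closedPt]
    · rw [← le_iff_specializes]
      exact le_of_xOf_eq_of_yOf_le _ _ (xOf_closedPt x).symm
        ((yOf_le_xOf 𝔮.asIdeal).trans (yOf_closedPt x).ge)
    · rintro c ⟨hc, hqc⟩
      rw [← le_iff_specializes] at hqc
      rw [isClosed_singleton_iff] at hc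
      have hx : xOf c.asIdeal = xOf (closedPt x).asIdeal := by
        rw [xOf_closedPt]
        exact (xOf_eq_of_le _ _ hqc).symm
      have hy : yOf c.asIdeal = yOf (closedPt x).asIdeal := by
        rw [hc, hx, xOf_closedPt, yOf_closedPt]
      exact PrimeSpectrum.ext (eq_of_xOf_eq_of_yOf_eq _ _ hx hy)

theorem bijOn_comap_closedPoints :
    Set.BijOn (PrimeSpectrum.comap (algebraMap A (Aw A))) (ProEtW.closedPoints (PrimeSpectrum (Aw A)))
      Set.univ := by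
  refine ⟨fun _ _ => Set.mem_univ _, ?_, ?_⟩
  · intro 𝔮 h𝔮 𝔮' h𝔮' heq
    have h1 : yOf 𝔮.asIdeal = yOf 𝔮'.asIdeal := congrArg PrimeSpectrum.asIdeal heq
    have h2 := (isClosed_singleton_iff 𝔮).1 h𝔮
    have h3 := (isClosed_singleton_iff 𝔮').1 h𝔮'
    exact PrimeSpectrum.ext (eq_of_xOf_eq_of_yOf_eq _ _ (by rw [← h2, ← h3, h1]) h1)
  · intro x _
    refine ⟨closedPt x, ?_, ?_⟩
    · show IsClosed _
      rw [isClosed_singleton_iff, yOf_closedPt, xOf_closedPt]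
    · exact PrimeSpectrum.ext (yOf_closedPt x)

end Top

end Groth.Agent.Lib.Helper82.WLoc
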