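import Mathlib
import Groth.Prelude.Def_WeakSerre

/-!
# Essential images of weak Serre subcategories under an exact fully faithful left adjoint
-/

set_option autoImplicit false
set_option linter.style.haveILetI false
open CategoryTheory CategoryTheory.Limits

namespace Groth.Agent.Lib.Helper82.WSerreImage

universe v₁ v₂ u₁ u₂

variable {𝒜 : Type u₁} [Category.{v₁} 𝒜] [Abelian 𝒜] {ℬ : Type u₂} [Category.{v₂} ℬ] [Abelian ℬ]
  {L : 𝒜 ⥤ ℬ} {R : ℬ ⥤ 𝒜} (adj : L ⊣ R) [IsIso adj.unit]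
  [L.Additive] [PreservesFiniteLimits L] [PreservesFiniteColimits L]

/-- the image property -/
def Im (S : ObjectProperty 𝒜) : ObjectProperty ℬ :=
  fun F => ∃ G : 𝒜, S G ∧ Nonempty (L.obj G ≅ F)

include adj in
theorem isIso_counit_of_iso {A : 𝒜} {F : ℬ} (e : L.obj A ≅ F) : IsIso (adj.counit.app F) := by
  have h1 : IsIso (adj.counit.app (L.obj A)) := by
    have h := adj.left_triangle_components A
    have : IsIso (L.map (adj.unit.app A)) := inferInstance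
    have h2 : adj.counit.app (L.obj A) = inv (L.map (adj.unit.app A)) := by
      rw [← cancel_epi (L.map (adj.unit.app A)), h, IsIso.hom_inv_id]
      rfl
    rw [h2]
    infer_instance
  have h3 : L.map (R.map e.hom) ≫ adj.counit.app F = adj.counit.app (L.obj A) ≫ e.hom :=
    adj.counit.naturality e.hom
  have h4 : adj.counit.app F = (L.map (R.map e.inv)) ≫ adj.counit.app (L.obj A) ≫ e.hom := by
    rw [← h3, ← Category.assoc, ← L.map_comp, ← R.map_comp, e.inv_hom_id, R.map_id, L.map_id,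
      Category.id_comp]
  rw [h4]
  infer_instance

variable (S : ObjectProperty 𝒜) [WSerre.IsWeakSerre S]

include adj in
theorem im_kernels {X₁ X₂ : ℬ} (f : X₁ ⟶ X₂) (k : KernelFork f) (hk : IsLimit k)
    (h₁ : Im (L := L) S X₁) (h₂ : Im (L := L) S X₂) : Im (L := L) S k.pt := by
  obtain ⟨G₁, hG₁, ⟨e₁⟩⟩ := h₁
  obtain ⟨G₂, hG₂, ⟨e₂⟩⟩ := h₂
  let ff := adj.fullyFaithfulLOfIsIsoUnit
  let ψ : G₁ ⟶ G₂ := ff.preimage (e₁.hom ≫ f ≫ e₂.inv)
  have hψ : L.map ψ = e₁.hom ≫ f ≫ e₂.inv := ff.map_preimage _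
  refine ⟨kernel ψ, S.prop_kernel ψ hG₁ hG₂, ⟨?_⟩⟩
  refine PreservesKernel.iso L ψ ≪≫ kernel.mapIso (L.map ψ) f e₁ e₂ ?_ ≪≫
    IsLimit.conePointUniqueUpToIso (limit.isLimit _) hk
  rw [hψ]
  simp

include adj in
theorem im_cokernels {X₁ X₂ : ℬ} (f : X₁ ⟶ X₂) (k : CokernelCofork f) (hk : IsColimit k)
    (h₁ : Im (L := L) S X₁) (h₂ : Im (L := L) S X₂) : Im (L := L) S k.pt := by
  obtain ⟨G₁, hG₁, ⟨e₁⟩⟩ := h₁
  obtain ⟨G₂, hG₂, ⟨e₂⟩⟩ := h₂
  let ff := adj.fullyFaithfulLOfIsIsoUnit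
  let ψ : G₁ ⟶ G₂ := ff.preimage (e₁.hom ≫ f ≫ e₂.inv)
  have hψ : L.map ψ = e₁.hom ≫ f ≫ e₂.inv := ff.map_preimage _
  refine ⟨cokernel ψ, S.prop_cokernel ψ hG₁ hG₂, ⟨?_⟩⟩
  refine PreservesCokernel.iso L ψ ≪≫ cokernel.mapIso (L.map ψ) f e₁ e₂ ?_ ≪≫
    IsColimit.coconePointUniqueUpToIso (colimit.isColimit _) hk
  rw [hψ]
  simp

include adj in
theorem im_extensions
    (hE : ∀ T : ShortComplex ℬ, T.ShortExact → Im (L := L) ⊤ T.X₁ → Epi (R.map T.g))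
    {T : ShortComplex ℬ} (hT : T.ShortExact)
    (h₁ : Im (L := L) S T.X₁) (h₃ : Im (L := L) S T.X₃) : Im (L := L) S T.X₂ := by
  obtain ⟨G₁, hG₁, ⟨e₁⟩⟩ := h₁
  obtain ⟨G₃, hG₃, ⟨e₃⟩⟩ := h₃
  have : PreservesLimitsOfSize.{0, 0} R := adj.rightAdjoint_preservesLimits
  have : PreservesFiniteLimits R := PreservesLimitsOfSize.preservesFiniteLimits _
  have : R.Additive := adj.right_adjoint_additive
  have hepi : Epi (R.map T.g) := hE T hT ⟨G₁, trivial, ⟨e₁⟩⟩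
  have := hT.mono_f
  have hRT : (T.map R).ShortExact := by
    have h1 : (T.map R).Exact := hT.exact.map_of_mono_of_preservesKernel R inferInstance inferInstance
    have h2 : Mono (T.map R).f := inferInstanceAs (Mono (R.map T.f))
    have h3 : Epi (T.map R).g := hepi
    exact ShortComplex.ShortExact.mk' h1 h2 h3
  have hS₁ : S (R.obj T.X₁) :=
    S.prop_of_iso (asIso (adj.unit.app G₁) ≪≫ R.mapIso e₁) hG₁
  have hS₃ : S (R.obj T.X₃) :=
    S.prop_of_iso (asIso (adj.unit.app G₃) ≪≫ R.mapIso e₃) hG₃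
  have hS₂ : S (R.obj T.X₂) := S.prop_X₂_of_shortExact hRT hS₁ hS₃
  refine ⟨R.obj T.X₂, hS₂, ⟨?_⟩⟩
  have hLRT : ((T.map R).map L).ShortExact := hRT.map_of_exact L
  let φ : (T.map R).map L ⟶ T :=
    { τ₁ := adj.counit.app T.X₁
      τ₂ := adj.counit.app T.X₂
      τ₃ := adj.counit.app T.X₃
      comm₁₂ := (adj.counit.naturality T.f).symm
      comm₂₃ := (adj.counit.naturality T.g).symm }
  have : IsIso φ.τ₁ := isIso_counit_of_iso adj e₁
  have : IsIso φ.τ₃ := isIso_counit_of_iso adj e₃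
  have h2 : IsIso φ.τ₂ := ShortComplex.isIso₂_of_shortExact_of_isIso₁₃ φ hLRT hT
  exact @asIso _ _ _ _ φ.τ₂ h2

include adj in
theorem isWeakSerre_im
    (hE : ∀ T : ShortComplex ℬ, T.ShortExact → Im (L := L) ⊤ T.X₁ → Epi (R.map T.g)) :
    WSerre.IsWeakSerre (Im (L := L) S) where
  exists_zero := by
    obtain ⟨Z, hZ, hSZ⟩ := S.exists_prop_of_containsZero
    exact ⟨L.obj Z, L.map_isZero hZ, Z, hSZ, ⟨Iso.refl _⟩⟩
  kernels_le := by
    rintro _ ⟨f, k, hk, h₁, h₂⟩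
    exact im_kernels adj S f k hk h₁ h₂
  cokernels_le := by
    rintro _ ⟨f, k, hk, h₁, h₂⟩
    exact im_cokernels adj S f k hk h₁ h₂
  prop_X₂_of_shortExact hT h₁ h₃ := im_extensions adj S hE hT h₁ h₃

end Groth.Agent.Lib.Helper82.WSerreImage
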